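import Cfsg.Prelude.Def_Sz

/-!
# Elements of odd order of the Suzuki groups fix no vector

If `g` in `Sz(F, θ)` fixes a non-zero vector then `(g + g⁻¹)² = 0`, so `g⁴ = 1`.
-/

namespace Cfsg.Agent.Recog.SuzukiOdd

open Matrix

set_option linter.unusedSectionVars false

variable {F : Type*} [Field F] [CharP F 2]

/-- The matrix of `Lie.altForm4`. -/
def J4 (F : Type*) [Field F] : Matrix (Fin 4) (Fin 4) F :=
  !![0, 0, 0, 1; 0, 0, 1, 0; 0, 1, 0, 0; 1, 0, 0, 0]

/-- The defining conditions of the Suzuki group on a matrix. -/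
def SzRel (θ : F →+* F) (M : Matrix (Fin 4) (Fin 4) F) : Prop :=
  Mᵀ * J4 F * M = J4 F ∧ M * J4 F * Mᵀ = J4 F ∧ Lie.star4 M = M.map θ

theorem minor_mul (A B : Matrix (Fin 4) (Fin 4) F) (k l i j : Fin 4) :
    (A * B) k i * (A * B) l j - (A * B) l i * (A * B) k j =
      (A k 0 * A l 1 - A l 0 * A k 1) * (B 0 i * B 1 j - B 1 i * B 0 j) +
      (A k 0 * A l 2 - A l 0 * A k 2) * (B 0 i * B 2 j - B 2 i * B 0 j) +
      (A k 0 * A l 3 - A l 0 * A k 3) * (B 0 i * B 3 j - B 3 i * B 0 j) +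
      (A k 1 * A l 2 - A l 1 * A k 2) * (B 1 i * B 2 j - B 2 i * B 1 j) +
      (A k 1 * A l 3 - A l 1 * A k 3) * (B 1 i * B 3 j - B 3 i * B 1 j) +
      (A k 2 * A l 3 - A l 2 * A k 3) * (B 2 i * B 3 j - B 3 i * B 2 j) := by
  simp only [Matrix.mul_apply, Fin.sum_univ_four]
  ring

theorem star4_mul {A B : Matrix (Fin 4) (Fin 4) F} (hA : A * J4 F * Aᵀ = J4 F)
    (hB : Bᵀ * J4 F * B = J4 F) : Lie.star4 (A * B) = Lie.star4 A * Lie.star4 B := by
  have hrow : ∀ p : Fin 4, (A (Lie.pairOf p).1 0 * A (Lie.pairOf p).2 3 + A (Lie.pairOf p).2 0 * A (Lie.pairOf p).1 3) +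
      (A (Lie.pairOf p).1 1 * A (Lie.pairOf p).2 2 + A (Lie.pairOf p).2 1 * A (Lie.pairOf p).1 2) = 0 := by
    intro p
    have := congrFun (congrFun hA (Lie.pairOf p).1) (Lie.pairOf p).2
    simp only [Matrix.mul_apply, Fin.sum_univ_four, Matrix.transpose_apply] at this
    fin_cases p <;> simp [J4, Lie.pairOf] at this ⊢ <;> linear_combination this
  have hcol : ∀ r : Fin 4, (B 0 (Lie.pairOf r).1 * B 3 (Lie.pairOf r).2 + B 3 (Lie.pairOf r).1 * B 0 (Lie.pairOf r).2) +
      (B 1 (Lie.pairOf r).1 * B 2 (Lie.pairOf r).2 + B 2 (Lie.pairOf r).1 * B 1 (Lie.pairOf r).2) = 0 := by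
    intro r
    have := congrFun (congrFun hB (Lie.pairOf r).1) (Lie.pairOf r).2
    simp only [Matrix.mul_apply, Fin.sum_univ_four, Matrix.transpose_apply] at this
    fin_cases r <;> simp [J4, Lie.pairOf] at this ⊢ <;> linear_combination this
  ext p r
  set k := (Lie.pairOf p).1
  set l := (Lie.pairOf p).2
  set i := (Lie.pairOf r).1
  set j := (Lie.pairOf r).2
  show (A * B) k i * (A * B) l j - (A * B) l i * (A * B) k j = _
  rw [minor_mul, Matrix.mul_apply, Fin.sum_univ_four]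
  simp only [Lie.star4, Matrix.of_apply]
  simp only [show Lie.pairOf 0 = (0, 1) from rfl, show Lie.pairOf 1 = (0, 2) from rfl,
    show Lie.pairOf 2 = (1, 3) from rfl, show Lie.pairOf 3 = (2, 3) from rfl]
  have h1 := hrow p
  have h2 := hcol r
  simp only [CharTwo.sub_eq_add]
  have h1' : A k 0 * A l 3 + A l 0 * A k 3 = A k 1 * A l 2 + A l 1 * A k 2 :=
    CharTwo.add_eq_zero.1 h1
  have h2' : B 0 i * B 3 j + B 3 i * B 0 j = B 1 i * B 2 j + B 2 i * B 1 j :=
    CharTwo.add_eq_zero.1 h2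
  rw [h1', h2']
  linear_combination CharTwo.add_self_eq_zero
    ((A k 1 * A l 2 + A l 1 * A k 2) * (B 1 i * B 2 j + B 2 i * B 1 j))

theorem SzRel.one (θ : F →+* F) : SzRel θ (1 : Matrix (Fin 4) (Fin 4) F) := by
  refine ⟨by simp, by simp, ?_⟩
  ext p r
  simp only [Lie.star4, Matrix.of_apply]
  fin_cases p <;> fin_cases r <;>
    simp [show Lie.pairOf 0 = (0, 1) from rfl, show Lie.pairOf 1 = (0, 2) from rfl,
      show Lie.pairOf 2 = (1, 3) from rfl, show Lie.pairOf 3 = (2, 3) from rfl]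

theorem SzRel.mul {θ : F →+* F} {A B : Matrix (Fin 4) (Fin 4) F} (hA : SzRel θ A) (hB : SzRel θ B) :
    SzRel θ (A * B) := by
  refine ⟨?_, ?_, ?_⟩
  · rw [Matrix.transpose_mul, show Bᵀ * Aᵀ * J4 F * (A * B) = Bᵀ * (Aᵀ * J4 F * A) * B by
      simp only [Matrix.mul_assoc], hA.1, hB.1]
  · rw [Matrix.transpose_mul, show A * B * J4 F * (Bᵀ * Aᵀ) = A * (B * J4 F * Bᵀ) * Aᵀ by
      simp only [Matrix.mul_assoc], hB.2.1, hA.2.1]
  · rw [star4_mul hA.2.1 hB.1, hA.2.2, hB.2.2, Matrix.map_mul]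

theorem J4_mul_self : J4 F * J4 F = 1 := by
  ext i j
  fin_cases i <;> fin_cases j <;> simp [J4, Matrix.mul_apply, Fin.sum_univ_four]

theorem transpose_mul_J4_mul {g : GL (Fin 4) F} (hg : g ∈ Lie.Sp4 F) :
    (g : Matrix (Fin 4) (Fin 4) F)ᵀ * J4 F * (g : Matrix (Fin 4) (Fin 4) F) = J4 F := by
  ext i j
  have h := hg (Pi.single i 1) (Pi.single j 1)
  simp only [Units.coeHom_apply, Matrix.mulVec_single_one] at h
  simp only [Matrix.mul_apply, Fin.sum_univ_four, Matrix.transpose_apply]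
  fin_cases i <;> fin_cases j <;>
    simp [J4, Lie.altForm4, Matrix.col] at h ⊢ <;> linear_combination h

theorem szRel_of_gen {g : GL (Fin 4) F} (θ : F →+* F) (hg : g ∈ Lie.Sp4 F)
    (h : Lie.star4 (g : Matrix (Fin 4) (Fin 4) F) = (g : Matrix (Fin 4) (Fin 4) F).map θ) :
    SzRel θ (g : Matrix (Fin 4) (Fin 4) F) := by
  set M := (g : Matrix (Fin 4) (Fin 4) F)
  have h1 : Mᵀ * J4 F * M = J4 F := transpose_mul_J4_mul hg
  refine ⟨h1, ?_, h⟩
  have h2 : J4 F * Mᵀ * J4 F * M = 1 := by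
    rw [show J4 F * Mᵀ * J4 F * M = J4 F * (Mᵀ * J4 F * M) by simp only [Matrix.mul_assoc], h1,
      J4_mul_self]
  rw [mul_eq_one_comm] at h2
  have h3 := congrArg (· * J4 F) h2
  simpa [Matrix.mul_assoc, J4_mul_self] using h3

/-- Every element of the Suzuki group satisfies the defining conditions. -/
theorem szRel_of_mem [Finite F] {e : ℕ} (θ : F →+* F) (hθ : ∀ x, θ x = x ^ e) {g : GL (Fin 4) F}
    (hg : g ∈ Lie.Sz F e) : SzRel θ (g : Matrix (Fin 4) (Fin 4) F) := by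
  classical
  let S : Submonoid (GL (Fin 4) F) :=
    { carrier := {g | SzRel θ (g : Matrix (Fin 4) (Fin 4) F)}
      one_mem' := by
        show SzRel θ ((1 : GL (Fin 4) F) : Matrix (Fin 4) (Fin 4) F)
        rw [Units.val_one]; exact SzRel.one θ
      mul_mem' := fun {a b} ha hb => by
        show SzRel θ ((a * b : GL (Fin 4) F) : Matrix (Fin 4) (Fin 4) F)
        rw [Units.val_mul]; exact SzRel.mul ha hb }
  show g ∈ S
  induction hg using Subgroup.closure_induction with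
  | mem x hx =>
    refine szRel_of_gen θ hx.1 (hx.2.trans ?_)
    ext i j
    simp [hθ]
  | one => exact one_mem S
  | mul x y _ _ hx hy => exact mul_mem hx hy
  | inv x _ hx =>
    have hmem : x ^ (orderOf x - 1) ∈ S := pow_mem hx _
    have : x ^ (orderOf x - 1) = x⁻¹ := by
      refine eq_inv_of_mul_eq_one_left ?_
      rw [← pow_succ, Nat.sub_add_cancel (orderOf_pos x), pow_orderOf_eq_one]
    rwa [this] at hmem

theorem J4_transpose_J4 (M : Matrix (Fin 4) (Fin 4) F) :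
    J4 F * Mᵀ * J4 F = !![M 3 3, M 2 3, M 1 3, M 0 3; M 3 2, M 2 2, M 1 2, M 0 2;
      M 3 1, M 2 1, M 1 1, M 0 1; M 3 0, M 2 0, M 1 0, M 0 0] := by
  ext i j
  simp only [Matrix.mul_apply, Fin.sum_univ_four, Matrix.transpose_apply]
  fin_cases i <;> fin_cases j <;> simp [J4]

theorem quadratic (M : Matrix (Fin 4) (Fin 4) F) :
    (M + J4 F * Mᵀ * J4 F) * (M + J4 F * Mᵀ * J4 F) + M.trace • (M + J4 F * Mᵀ * J4 F) +
      ((Lie.star4 M).trace + (Mᵀ * J4 F * M) 0 3 + (M * J4 F * Mᵀ) 0 3) •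
        (1 : Matrix (Fin 4) (Fin 4) F) = 0 := by
  rw [J4_transpose_J4]
  have h4 : (4 : F) = 0 := by linear_combination 2 * CharTwo.two_eq_zero (R := F)
  have h6 : (6 : F) = 0 := by linear_combination 3 * CharTwo.two_eq_zero (R := F)
  ext i j
  simp only [Matrix.mul_apply, Fin.sum_univ_four, Matrix.add_apply, Matrix.smul_apply,
    Matrix.transpose_apply, Matrix.trace, Matrix.diag, Lie.star4, Matrix.of_apply, smul_eq_mul,
    Matrix.zero_apply, show Lie.pairOf 0 = (0, 1) from rfl, show Lie.pairOf 1 = (0, 2) from rfl,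
    show Lie.pairOf 2 = (1, 3) from rfl, show Lie.pairOf 3 = (2, 3) from rfl]
  fin_cases i <;> fin_cases j <;>
    (simp [J4, CharTwo.sub_eq_add]; ring_nf; simp [CharTwo.two_eq_zero, h4, h6])

/-- An element fixing a non-zero vector has fourth power one. -/
theorem pow_four_eq_one {θ : F →+* F} {M : Matrix (Fin 4) (Fin 4) F} (h : SzRel θ M)
    {v : Fin 4 → F} (hv : v ≠ 0) (hfix : M *ᵥ v = v) : M ^ 4 = 1 := by
  set Mi := J4 F * Mᵀ * J4 F with hMi
  have hinv : Mi * M = 1 := by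
    rw [hMi, show J4 F * Mᵀ * J4 F * M = J4 F * (Mᵀ * J4 F * M) by simp only [Matrix.mul_assoc],
      h.1, J4_mul_self]
  have hinv' : M * Mi = 1 := mul_eq_one_comm.1 hinv
  have hfix' : Mi *ᵥ v = v := by
    conv_lhs => rw [← hfix]
    rw [Matrix.mulVec_mulVec, hinv, Matrix.one_mulVec]
  have hq := quadratic M
  rw [h.1, h.2.1, ← hMi, add_assoc ((Lie.star4 M).trace), CharTwo.add_self_eq_zero, add_zero] at hq
  have hN : (M + Mi) *ᵥ v = 0 := by
    rw [Matrix.add_mulVec, hfix, hfix']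
    funext i
    simp [CharTwo.add_self_eq_zero]
  have hb : (Lie.star4 M).trace = 0 := by
    have := congrArg (· *ᵥ v) hq
    simp only [Matrix.add_mulVec, Matrix.zero_mulVec, ← Matrix.mulVec_mulVec, Matrix.smul_mulVec,
      hN, Matrix.mulVec_zero, smul_zero, zero_add, Matrix.one_mulVec] at this
    exact (smul_eq_zero.1 this).resolve_right hv
  have ha : M.trace = 0 := by
    have : θ M.trace = 0 := by
      rw [← hb, h.2.2, AddMonoidHom.map_trace]
    exact (map_eq_zero θ).1 this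
  rw [ha, hb, zero_smul, zero_smul, add_zero, add_zero] at hq
  have hc : M * (M + Mi) = (M + Mi) * M := by rw [mul_add, add_mul, hinv, hinv']
  have h2 : (M * (M + Mi)) * (M * (M + Mi)) = 0 := by
    calc (M * (M + Mi)) * (M * (M + Mi)) = M * ((M + Mi) * M) * (M + Mi) := by
          simp only [Matrix.mul_assoc]
      _ = M * M * ((M + Mi) * (M + Mi)) := by rw [← hc]; simp only [Matrix.mul_assoc]
      _ = 0 := by rw [hq, mul_zero]
  rw [mul_add, hinv', add_mul, mul_add, mul_one, one_mul] at h2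
  have h4 : M * M * (M * M) + 1 = 0 := by
    rw [← h2]
    rw [show M * M * (M * M) + M * M + (M * M + 1) = M * M * (M * M) + (M * M + M * M) + 1 by abel]
    have : M * M + M * M = 0 := by
      ext i j
      simp [CharTwo.add_self_eq_zero]
    rw [this, add_zero]
  have h5 : M * M * (M * M) = 1 := by
    ext i j
    have := congrFun (congrFun h4 i) j
    rw [Matrix.add_apply, Matrix.zero_apply] at this
    exact CharTwo.add_eq_zero.1 this
  rw [← h5, pow_succ, pow_succ, pow_succ, pow_succ, pow_zero, one_mul, mul_assoc]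

end Cfsg.Agent.Recog.SuzukiOdd
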