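import Mathlib
import Cfsg.Agent.Lib.GLOrders.Semisimple

/-!
# Element orders of `PGL(2, q)` and `PSL(2, q)`
-/

namespace Cfsg.Agent.Recog.PGLTwo

open Polynomial Matrix

variable {F : Type*} [Field F]

/-- `M` is a scalar matrix. -/
def IsScalar (M : Matrix (Fin 2) (Fin 2) F) : Prop := ∃ c : F, M = c • 1

theorem cayley (M : Matrix (Fin 2) (Fin 2) F) : M * M = M.trace • M - M.det • 1 := by
  ext i j
  fin_cases i <;> fin_cases j <;>
    simp [Matrix.mul_apply, Fin.sum_univ_two, Matrix.trace_fin_two, Matrix.det_fin_two] <;> ring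

/-- The characteristic polynomial, written out. -/
noncomputable def quad (t d : F) : F[X] := X ^ 2 - C t * X + C d

theorem quad_natDegree (t d : F) : (quad t d).natDegree = 2 := by
  unfold quad; compute_degree!

theorem aeval_quad (M : Matrix (Fin 2) (Fin 2) F) : aeval M (quad M.trace M.det) = 0 := by
  have h := cayley M
  simp only [quad, map_add, map_sub, map_mul, map_pow, aeval_X, aeval_C, Algebra.algebraMap_eq_smul_one]
  rw [pow_two, h, smul_one_mul]
  abel

theorem pow_eq_smul_of_dvd {M : Matrix (Fin 2) (Fin 2) F} {n : ℕ} {c : F}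
    (h : quad M.trace M.det ∣ X ^ n - C c) : M ^ n = c • 1 := by
  obtain ⟨r, hr⟩ := h
  have := congrArg (aeval M) hr
  rw [map_mul, aeval_quad, zero_mul] at this
  simpa [sub_eq_zero, Algebra.algebraMap_eq_smul_one] using this

theorem quad_irreducible {t d : F} (h : ∀ a : F, a ^ 2 - t * a + d ≠ 0) :
    Irreducible (quad t d) := by
  refine Polynomial.irreducible_of_degree_le_three_of_not_isRoot ?_ fun a ha => ?_
  · rw [quad_natDegree]; simp
  · refine h a ?_
    simpa [quad, IsRoot] using ha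

variable [Fintype F]

local notation "q" => Fintype.card F

/-- No eigenvalue in `F`: the `(q + 1)`-st power is scalar. -/
theorem dvd_of_no_root {t d : F} (h : ∀ a : F, a ^ 2 - t * a + d ≠ 0) :
    quad t d ∣ X ^ (q + 1) - C d ∧
      (Odd q → d = 1 → ∃ c : F, quad t d ∣ X ^ ((q + 1) / 2) - C c) := by
  have : Fact (Irreducible (quad t d)) := ⟨quad_irreducible h⟩
  set K := AdjoinRoot (quad t d)
  set r : K := AdjoinRoot.root (quad t d) with hr
  have hroot : r ^ 2 - algebraMap F K t * r + algebraMap F K d = 0 := by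
    have h0 : aeval r (quad t d) = 0 := by rw [hr, AdjoinRoot.aeval_eq, AdjoinRoot.mk_self]
    simpa [quad] using h0
  have : Module.Finite F K := (AdjoinRoot.powerBasis (quad_irreducible h).ne_zero).finite
  have : Finite K := Module.finite_of_finite F
  let φ : K →ₐ[F] K := FiniteField.frobeniusAlgHom F K
  have hφ : ∀ x : K, φ x = x ^ q := fun x => by
    simp [φ, FiniteField.coe_frobeniusAlgHom]
  have hroot' : (r ^ q) ^ 2 - algebraMap F K t * r ^ q + algebraMap F K d = 0 := by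
    have := congrArg φ hroot
    simp only [map_add, map_sub, map_mul, AlgHom.commutes, map_pow, map_zero] at this
    simpa only [hφ] using this
  have hne : r ^ q ≠ r := by
    intro he
    have : φ = AlgHom.id F K := AdjoinRoot.algHom_ext (by rw [hφ]; exact he)
    have hord := FiniteField.orderOf_frobeniusAlgHom F K
    rw [show FiniteField.frobeniusAlgHom F K = φ from rfl, this] at hord
    have h2 : Module.finrank F K = 2 := by
      rw [(AdjoinRoot.powerBasis (quad_irreducible h).ne_zero).finrank, AdjoinRoot.powerBasis_dim,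
        quad_natDegree]
    rw [h2, show AlgHom.id F K = 1 from rfl, orderOf_one] at hord
    omega
  have hsum : r ^ q = algebraMap F K t - r := by
    have : (r ^ q - r) * (r ^ q + r - algebraMap F K t) = 0 := by linear_combination hroot' - hroot
    rcases mul_eq_zero.1 this with h' | h'
    · exact absurd (sub_eq_zero.1 h') hne
    · linear_combination h'
  have hpow : r ^ (q + 1) = algebraMap F K d := by
    rw [pow_succ, hsum]; linear_combination -hroot
  have hdvd : ∀ (n : ℕ) (c : F), r ^ n = algebraMap F K c → quad t d ∣ X ^ n - C c := by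
    intro n c hn
    rw [← AdjoinRoot.mk_eq_zero, map_sub, map_pow, AdjoinRoot.mk_X, AdjoinRoot.mk_C,
      ← AdjoinRoot.algebraMap_eq, ← hr, hn, sub_self]
  refine ⟨hdvd _ _ hpow, fun hodd hd => ?_⟩
  subst hd
  rw [map_one] at hpow
  obtain ⟨k, hk⟩ := hodd
  have hk2 : (q + 1) / 2 * 2 = q + 1 := by omega
  rw [← hk2, pow_mul, sq_eq_one_iff] at hpow
  rcases hpow with h' | h'
  · exact ⟨1, hdvd _ _ (by rw [h', map_one])⟩
  · exact ⟨-1, hdvd _ _ (by rw [h', map_neg, map_one])⟩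

/-- Two eigenvalues in `F`. -/
theorem dvd_of_two_roots {a b : F} (hab : a ≠ b) (h0 : a * b ≠ 0) :
    quad (a + b) (a * b) ∣ X ^ (q - 1) - C 1 ∧
      (Odd q → a * b = 1 → ∃ c : F, quad (a + b) (a * b) ∣ X ^ ((q - 1) / 2) - C c) := by
  have hfac : quad (a + b) (a * b) = (X - C a) * (X - C b) := by
    simp only [quad, map_add, map_mul]; ring
  have hcop : IsCoprime (X - C a) (X - C b) :=
    Polynomial.isCoprime_X_sub_C_of_isUnit_sub (sub_ne_zero.2 hab).isUnit
  have key : ∀ (n : ℕ) (c : F), a ^ n = c → b ^ n = c → quad (a + b) (a * b) ∣ X ^ n - C c := by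
    intro n c ha hb
    rw [hfac]
    refine hcop.mul_dvd ?_ ?_ <;> rw [dvd_iff_isRoot] <;> simp [ha, hb]
  have ha0 : a ≠ 0 := left_ne_zero_of_mul h0
  have hb0 : b ≠ 0 := right_ne_zero_of_mul h0
  refine ⟨key _ _ (FiniteField.pow_card_sub_one_eq_one a ha0)
    (FiniteField.pow_card_sub_one_eq_one b hb0), fun hodd h1 => ?_⟩
  refine ⟨a ^ ((q - 1) / 2), key _ _ rfl ?_⟩
  have hb : b = a⁻¹ := eq_inv_of_mul_eq_one_right h1
  rw [hb, inv_pow]
  apply inv_eq_of_mul_eq_one_right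
  rw [← pow_add]
  obtain ⟨k, hk⟩ := hodd
  rw [show (q - 1) / 2 + (q - 1) / 2 = q - 1 by omega]
  exact FiniteField.pow_card_sub_one_eq_one a ha0

theorem pow_char_of_double {p : ℕ} [Fact p.Prime] [CharP F p] {M : Matrix (Fin 2) (Fin 2) F} {a : F}
    (ht : M.trace = a + a) (hd : M.det = a * a) : M ^ p = (a ^ p) • 1 := by
  apply pow_eq_smul_of_dvd
  have hfac : quad M.trace M.det = (X - C a) ^ 2 := by
    simp only [quad, ht, hd, map_add, map_mul]; ring
  rw [hfac, map_pow, ← sub_pow_char]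
  exact pow_dvd_pow _ (Fact.out : p.Prime).two_le

/-- The three cases for an invertible `2 × 2` matrix. -/
theorem cases (M : Matrix (Fin 2) (Fin 2) F) :
    (∀ a : F, a ^ 2 - M.trace * a + M.det ≠ 0) ∨
      (∃ a b : F, a ≠ b ∧ M.trace = a + b ∧ M.det = a * b) ∨
      ∃ a : F, M.trace = a + a ∧ M.det = a * a := by
  by_cases h : ∀ a : F, a ^ 2 - M.trace * a + M.det ≠ 0
  · exact Or.inl h
  · push Not at h
    obtain ⟨a, ha⟩ := h
    by_cases hb : a = M.trace - a
    · exact Or.inr (Or.inr ⟨a, by linear_combination -hb, by linear_combination ha - a * hb⟩)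
    · exact Or.inr (Or.inl ⟨a, M.trace - a, hb, by ring, by linear_combination ha⟩)

/-- `PGL(2, F)`. -/
abbrev PGL (F : Type*) [Field F] := GL (Fin 2) F ⧸ Subgroup.center (GL (Fin 2) F)

local notation "PSL" => Matrix.ProjectiveSpecialLinearGroup (Fin 2) F

theorem isScalar_iff {M : Matrix (Fin 2) (Fin 2) F} :
    IsScalar M ↔ M 0 1 = 0 ∧ M 1 0 = 0 ∧ M 0 0 = M 1 1 := by
  constructor
  · rintro ⟨c, rfl⟩; simp
  · rintro ⟨h1, h2, h3⟩
    refine ⟨M 0 0, ?_⟩
    ext i j; fin_cases i <;> fin_cases j <;> simp [h1, h2, h3]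

theorem gl_mk_eq_one_iff (g : GL (Fin 2) F) :
    (QuotientGroup.mk g : PGL F) = 1 ↔ IsScalar (g : Matrix (Fin 2) (Fin 2) F) := by
  rw [QuotientGroup.eq_one_iff, Matrix.GeneralLinearGroup.mem_center_iff_val_mem_range_scalar]
  exact ⟨fun ⟨c, hc⟩ => ⟨c, by rw [← hc]; simp [Matrix.smul_one_eq_diagonal]⟩,
    fun ⟨c, hc⟩ => ⟨c, by rw [hc]; simp [Matrix.smul_one_eq_diagonal]⟩⟩

theorem gl_mk_pow_eq_one_iff (g : GL (Fin 2) F) (n : ℕ) :
    (QuotientGroup.mk g : PGL F) ^ n = 1 ↔ IsScalar ((g : Matrix (Fin 2) (Fin 2) F) ^ n) := by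
  rw [← QuotientGroup.mk_pow, gl_mk_eq_one_iff, Units.val_pow_eq_pow_val]

theorem sl_mk_eq_one_iff (x : SpecialLinearGroup (Fin 2) F) :
    (QuotientGroup.mk x : PSL) = 1 ↔ IsScalar (x : Matrix (Fin 2) (Fin 2) F) := by
  rw [QuotientGroup.eq_one_iff, Matrix.SpecialLinearGroup.mem_center_iff]
  constructor
  · rintro ⟨c, -, hc⟩
    exact ⟨c, by rw [← hc]; simp [Matrix.smul_one_eq_diagonal]⟩
  · rintro ⟨c, hc⟩
    refine ⟨c, ?_, by rw [hc]; simp [Matrix.smul_one_eq_diagonal]⟩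
    have := x.det_coe
    rw [hc] at this
    simpa [Matrix.det_smul] using this

theorem sl_mk_pow_eq_one_iff (x : SpecialLinearGroup (Fin 2) F) (n : ℕ) :
    (QuotientGroup.mk x : PSL) ^ n = 1 ↔ IsScalar ((x : Matrix (Fin 2) (Fin 2) F) ^ n) := by
  rw [← QuotientGroup.mk_pow, sl_mk_eq_one_iff, Matrix.SpecialLinearGroup.coe_pow]

variable {p : ℕ} [Fact p.Prime] [CharP F p]

/-- Element orders of `PGL(2, q)` divide `p`, `q - 1` or `q + 1`. -/
theorem pgl_orders (x : PGL F) :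
    orderOf x = p ∨ orderOf x ∣ q - 1 ∨ orderOf x ∣ q + 1 := by
  obtain ⟨g, rfl⟩ := QuotientGroup.mk_surjective x
  set M := (g : Matrix (Fin 2) (Fin 2) F) with hM
  have hd : M.det ≠ 0 := (g.isUnit.map Matrix.detMonoidHom).ne_zero
  rcases cases M with h | ⟨a, b, hab, ht, hd'⟩ | ⟨a, ht, hd'⟩
  · exact Or.inr (Or.inr (orderOf_dvd_of_pow_eq_one ((gl_mk_pow_eq_one_iff g _).2
      ⟨_, pow_eq_smul_of_dvd (dvd_of_no_root h).1⟩)))
  · refine Or.inr (Or.inl (orderOf_dvd_of_pow_eq_one ((gl_mk_pow_eq_one_iff g _).2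
      ⟨1, pow_eq_smul_of_dvd ?_⟩)))
    rw [hd'] at hd
    rw [ht, hd']
    exact (dvd_of_two_roots hab hd).1
  · have h : orderOf (QuotientGroup.mk g : PGL F) ∣ p :=
      orderOf_dvd_of_pow_eq_one ((gl_mk_pow_eq_one_iff g _).2 ⟨_, pow_char_of_double ht hd'⟩)
    rcases (Nat.dvd_prime Fact.out).1 h with h | h
    · exact Or.inr (Or.inl (by rw [h]; exact one_dvd _))
    · exact Or.inl h

/-- Element orders of `PSL(2, q)`, `q` odd, divide `p`, `(q - 1) / 2` or `(q + 1) / 2`; those of order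
`p` are images of unipotent elements. -/
theorem psl_orders (hodd : Odd q) (x : PSL) :
    (orderOf x = p ∧ ∃ s : SpecialLinearGroup (Fin 2) F, QuotientGroup.mk s = x ∧
        (s : Matrix (Fin 2) (Fin 2) F).trace = 2) ∨
      orderOf x ∣ (q - 1) / 2 ∨ orderOf x ∣ (q + 1) / 2 := by
  obtain ⟨s, rfl⟩ := QuotientGroup.mk_surjective x
  set M := (s : Matrix (Fin 2) (Fin 2) F) with hM
  have hd : M.det = 1 := s.det_coe
  rcases cases M with h | ⟨a, b, hab, ht, hd'⟩ | ⟨a, ht, hd'⟩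
  · obtain ⟨c, hc⟩ := (dvd_of_no_root h).2 hodd hd
    exact Or.inr (Or.inr (orderOf_dvd_of_pow_eq_one ((sl_mk_pow_eq_one_iff s _).2
      ⟨c, pow_eq_smul_of_dvd hc⟩)))
  · obtain ⟨c, hc⟩ := (dvd_of_two_roots hab (by rw [← hd', hd]; exact one_ne_zero)).2 hodd
      (by rw [← hd', hd])
    rw [← ht, ← hd'] at hc
    exact Or.inr (Or.inl (orderOf_dvd_of_pow_eq_one ((sl_mk_pow_eq_one_iff s _).2
      ⟨c, pow_eq_smul_of_dvd hc⟩)))
  · have h : orderOf (QuotientGroup.mk s : PSL) ∣ p :=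
      orderOf_dvd_of_pow_eq_one ((sl_mk_pow_eq_one_iff s _).2 ⟨_, pow_char_of_double ht hd'⟩)
    rcases (Nat.dvd_prime Fact.out).1 h with h | h
    · exact Or.inr (Or.inl (by rw [h]; exact one_dvd _))
    refine Or.inl ⟨h, ?_⟩
    rw [hd] at hd'
    rcases mul_self_eq_one_iff.1 hd'.symm with ha | ha
    · exact ⟨s, rfl, by rw [ht, ha]; ring⟩
    · refine ⟨-s, ?_, ?_⟩
      · rw [← neg_one_mul s, QuotientGroup.mk_mul, (sl_mk_eq_one_iff _).2 ⟨-1, by simp⟩, one_mul]
      · rw [Matrix.SpecialLinearGroup.coe_neg, Matrix.trace_neg, ← hM, ht, ha]; ring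

theorem exists_pgl_order_char : ∃ x : PGL F, orderOf x = p := by
  have hM : (!![1, 1; 0, 1] : Matrix (Fin 2) (Fin 2) F).det ≠ 0 := by simp [Matrix.det_fin_two]
  refine ⟨QuotientGroup.mk (Matrix.GeneralLinearGroup.mkOfDetNeZero _ hM), orderOf_eq_prime ?_ ?_⟩
  · exact (gl_mk_pow_eq_one_iff _ _).2
      ⟨_, pow_char_of_double (a := 1) (by simp [Matrix.trace_fin_two])
        (by simp [Matrix.det_fin_two])⟩
  · rw [Ne, gl_mk_eq_one_iff, isScalar_iff]
    simp

theorem exists_psl_order_char : ∃ x : PSL, orderOf x = p := by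
  refine ⟨QuotientGroup.mk ⟨!![1, 1; 0, 1], by simp [Matrix.det_fin_two]⟩, orderOf_eq_prime ?_ ?_⟩
  · exact (sl_mk_pow_eq_one_iff _ _).2
      ⟨_, pow_char_of_double (a := 1) (by simp [Matrix.trace_fin_two])
        (by simp [Matrix.det_fin_two])⟩
  · intro h
    have := isScalar_iff.1 ((sl_mk_eq_one_iff _).1 h)
    simp at this

omit [Fact p.Prime] [CharP F p]

theorem exists_pgl_order_sub_one : ∃ x : PGL F, orderOf x = q - 1 := by
  classical
  obtain ⟨ω, hω⟩ := IsCyclic.exists_generator (α := Fˣ)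
  have hord : orderOf ω = q - 1 := by
    rw [orderOf_eq_card_of_forall_mem_zpowers hω, Nat.card_units, Nat.card_eq_fintype_card]
  have hM : (!![(ω : F), 0; 0, 1] : Matrix (Fin 2) (Fin 2) F).det ≠ 0 := by
    simp [Matrix.det_fin_two]
  refine ⟨QuotientGroup.mk (Matrix.GeneralLinearGroup.mkOfDetNeZero _ hM), ?_⟩
  rw [← hord, orderOf_eq_orderOf_iff]
  intro n
  rw [gl_mk_pow_eq_one_iff, isScalar_iff]
  have hpow : ∀ n : ℕ, (!![(ω : F), 0; 0, 1] : Matrix (Fin 2) (Fin 2) F) ^ n =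
      !![(ω : F) ^ n, 0; 0, 1] := fun n => by
    induction n with
    | zero => simp [Matrix.one_fin_two]
    | succ n ih => rw [pow_succ, ih]; simp [Matrix.mul_fin_two, pow_succ]
  show ((!![(ω : F), 0; 0, 1] : Matrix (Fin 2) (Fin 2) F) ^ n) 0 1 = 0 ∧ _ ↔ _
  show ((!![(ω : F), 0; 0, 1] : Matrix (Fin 2) (Fin 2) F) ^ n) 0 1 = 0 ∧
    ((!![(ω : F), 0; 0, 1] : Matrix (Fin 2) (Fin 2) F) ^ n) 1 0 = 0 ∧
    ((!![(ω : F), 0; 0, 1] : Matrix (Fin 2) (Fin 2) F) ^ n) 0 0 =
      ((!![(ω : F), 0; 0, 1] : Matrix (Fin 2) (Fin 2) F) ^ n) 1 1 ↔ ω ^ n = 1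
  rw [hpow]
  simp [← Units.val_pow_eq_pow_val]

theorem exists_pgl_order_add_one : ∃ x : PGL F, orderOf x = q + 1 := by
  classical
  obtain ⟨g, hg⟩ := GLOrders.exists_orderOf_eq_pow_sub_one (F := F) (d := 2) (n := 2) one_le_two le_rfl
  refine ⟨QuotientGroup.mk g, Nat.dvd_antisymm (orderOf_dvd_of_pow_eq_one ?_) ?_⟩
  · rcases cases (g : Matrix (Fin 2) (Fin 2) F) with h | ⟨a, b, hab, ht, hd'⟩ | ⟨a, ht, hd'⟩
    · exact (gl_mk_pow_eq_one_iff g _).2 ⟨_, pow_eq_smul_of_dvd (dvd_of_no_root h).1⟩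
    all_goals exfalso
    · have h1 : g ^ (q - 1) = 1 := by
        apply Units.ext
        rw [Units.val_pow_eq_pow_val, Units.val_one, pow_eq_smul_of_dvd (c := (1 : F)), one_smul]
        rw [ht, hd']
        refine (dvd_of_two_roots hab ?_).1
        rw [← hd']
        exact (g.isUnit.map Matrix.detMonoidHom).ne_zero
      have := orderOf_dvd_of_pow_eq_one h1
      rw [hg] at this
      have h2 := Nat.le_of_dvd (by have := Fintype.one_lt_card (α := F); omega) this
      have hq : 2 ≤ q := Fintype.one_lt_card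
      have : q ^ 2 = q * q := pow_two q
      have : 2 * q ≤ q * q := Nat.mul_le_mul_right q hq
      omega
    · obtain ⟨p, hp⟩ := CharP.exists F
      have : Fact p.Prime := ⟨CharP.char_is_prime F p⟩
      have ha : a ≠ 0 := by
        rintro rfl
        exact (g.isUnit.map Matrix.detMonoidHom).ne_zero (by simpa using hd')
      have h1 : g ^ (p * (q - 1)) = 1 := by
        apply Units.ext
        rw [Units.val_pow_eq_pow_val, Units.val_one, pow_mul, pow_char_of_double ht hd', _root_.smul_pow,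
          one_pow, FiniteField.pow_card_sub_one_eq_one _ (pow_ne_zero p ha), one_smul]
      have h2 := orderOf_dvd_of_pow_eq_one h1
      rw [hg] at h2
      have hq : 2 ≤ q := Fintype.one_lt_card
      have hpq : p ∣ q :=
        (FiniteField.card F p).elim fun n hn => hn.2 ▸ dvd_pow_self _ n.pos.ne'
      have hpos : 0 < p * (q - 1) := Nat.mul_pos (Fact.out : p.Prime).pos (by omega)
      have h3 := Nat.le_of_dvd hpos h2
      have h4 : p * (q - 1) ≤ q * (q - 1) := Nat.mul_le_mul_right _ (Nat.le_of_dvd (by omega) hpq)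
      have h5 : q * (q - 1) = q * q - q := by rw [Nat.mul_sub_one]
      have h6 : q ^ 2 = q * q := pow_two q
      have : 2 * q ≤ q * q := Nat.mul_le_mul_right q hq
      omega
  · set n := orderOf (QuotientGroup.mk g : PGL F) with hn
    obtain ⟨c, hc⟩ := (gl_mk_pow_eq_one_iff g n).1 (pow_orderOf_eq_one _)
    have hc0 : c ≠ 0 := by
      intro h0
      rw [h0, zero_smul, ← Units.val_pow_eq_pow_val] at hc
      exact Units.ne_zero (g ^ n) hc
    have h1 : g ^ (n * (q - 1)) = 1 := by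
      apply Units.ext
      rw [Units.val_pow_eq_pow_val, Units.val_one, pow_mul, hc, _root_.smul_pow, one_pow,
        FiniteField.pow_card_sub_one_eq_one c hc0, one_smul]
    have h2 := orderOf_dvd_of_pow_eq_one h1
    rw [hg, show q ^ 2 - 1 = (q + 1) * (q - 1) by rw [← one_pow 2, Nat.sq_sub_sq, one_pow]] at h2
    exact Nat.dvd_of_mul_dvd_mul_right (by have := Fintype.one_lt_card (α := F); omega) h2

/-- A split semisimple element of maximal order of `PSL(2, q)`, in non-diagonal form. -/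
theorem exists_psl_split (hodd : Odd q) (hq : 4 < q) : ∃ s : SpecialLinearGroup (Fin 2) F,
    orderOf (QuotientGroup.mk s : PSL) = (q - 1) / 2 ∧
      (s : Matrix (Fin 2) (Fin 2) F) 1 0 ≠ 0 ∧ (s : Matrix (Fin 2) (Fin 2) F).trace ^ 2 ≠ 4 := by
  classical
  obtain ⟨p, hp⟩ := CharP.exists F
  have : Fact p.Prime := ⟨CharP.char_is_prime F p⟩
  obtain ⟨ω, hω⟩ := IsCyclic.exists_generator (α := Fˣ)
  have hord : orderOf ω = q - 1 := by
    rw [orderOf_eq_card_of_forall_mem_zpowers hω, Nat.card_units, Nat.card_eq_fintype_card]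
  have hne : (ω : F) ≠ (ω : F)⁻¹ := by
    intro h
    have h2 : ω ^ 2 = 1 := Units.ext (by
      rw [Units.val_pow_eq_pow_val, pow_two, Units.val_one]
      nth_rewrite 2 [h]; exact mul_inv_cancel₀ ω.ne_zero)
    have := Nat.le_of_dvd two_pos (orderOf_dvd_of_pow_eq_one h2)
    omega
  let s : SpecialLinearGroup (Fin 2) F :=
    ⟨!![(ω : F), 0; 1, (ω : F)⁻¹], by simp [Matrix.det_fin_two]⟩
  have htr : (s : Matrix (Fin 2) (Fin 2) F).trace = (ω : F) + (ω : F)⁻¹ := by
    simp [s, Matrix.trace_fin_two]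
  refine ⟨s, Nat.dvd_antisymm ?_ ?_, by simp [s], ?_⟩
  · obtain ⟨c, hc⟩ := (dvd_of_two_roots hne (by simp)).2 hodd (by simp)
    refine orderOf_dvd_of_pow_eq_one ((sl_mk_pow_eq_one_iff s _).2 ⟨c, pow_eq_smul_of_dvd ?_⟩)
    rw [htr, s.det_coe]
    rwa [mul_inv_cancel₀ ω.ne_zero] at hc
  · set n := orderOf (QuotientGroup.mk s : PSL) with hn
    obtain ⟨hs1, hs2, hs3⟩ := isScalar_iff.1 ((sl_mk_pow_eq_one_iff s n).1 (pow_orderOf_eq_one _))
    have key : ∀ m : ℕ, ((s : Matrix (Fin 2) (Fin 2) F) ^ m) 0 1 = 0 ∧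
        ((s : Matrix (Fin 2) (Fin 2) F) ^ m) 0 0 = (ω : F) ^ m ∧
        ((s : Matrix (Fin 2) (Fin 2) F) ^ m) 1 1 = (ω : F)⁻¹ ^ m := by
      intro m
      induction m with
      | zero => simp
      | succ m ih =>
        obtain ⟨i1, i2, i3⟩ := ih
        simp [pow_succ, Matrix.mul_apply, Fin.sum_univ_two, s] at i1 i2 i3 ⊢
        simp [i1, i2, i3]
    obtain ⟨-, k2, k3⟩ := key n
    rw [k2, k3, inv_pow] at hs3
    have h2 : ω ^ (n * 2) = 1 := Units.ext (by
      rw [Units.val_pow_eq_pow_val, pow_mul, pow_two, Units.val_one]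
      nth_rewrite 2 [hs3]; exact mul_inv_cancel₀ (pow_ne_zero _ ω.ne_zero))
    have h3 := orderOf_dvd_of_pow_eq_one h2
    obtain ⟨k, hk⟩ := hodd
    rw [hord, show q - 1 = (q - 1) / 2 * 2 by omega] at h3
    exact Nat.dvd_of_mul_dvd_mul_right two_pos h3
  · intro h4
    apply hne
    rw [htr] at h4
    have : ((ω : F) - (ω : F)⁻¹) ^ 2 = 0 := by
      linear_combination h4 - 4 * mul_inv_cancel₀ ω.ne_zero
    exact sub_eq_zero.1 (pow_eq_zero_iff two_ne_zero |>.1 this)

/-- An irreducible semisimple element of maximal order of `PSL(2, q)`. -/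
theorem exists_psl_elliptic (hodd : Odd q) (hq : 4 < q) : ∃ s : SpecialLinearGroup (Fin 2) F,
    orderOf (QuotientGroup.mk s : PSL) = (q + 1) / 2 ∧
      (s : Matrix (Fin 2) (Fin 2) F) 1 0 ≠ 0 ∧
      (s : Matrix (Fin 2) (Fin 2) F).trace ≠ 0 ∧
      ¬ IsSquare ((s : Matrix (Fin 2) (Fin 2) F).trace ^ 2 - 4) := by
  classical
  obtain ⟨p, hp⟩ := CharP.exists F
  have : Fact p.Prime := ⟨CharP.char_is_prime F p⟩
  obtain ⟨g, hg⟩ := GLOrders.exists_orderOf_eq_pow_sub_one (F := F) (d := 2) (n := 2) one_le_two le_rfl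
  rw [show q ^ 2 - 1 = (q + 1) * (q - 1) by rw [← one_pow 2, Nat.sq_sub_sq, one_pow]] at hg
  have hdet : ((g : Matrix (Fin 2) (Fin 2) F) ^ (q - 1)).det = 1 := by
    rw [Matrix.det_pow]
    exact FiniteField.pow_card_sub_one_eq_one _ (g.isUnit.map Matrix.detMonoidHom).ne_zero
  let s : SpecialLinearGroup (Fin 2) F := ⟨(g : Matrix (Fin 2) (Fin 2) F) ^ (q - 1), hdet⟩
  obtain ⟨k, hk⟩ := id hodd
  have hlow : ∀ n, IsScalar ((s : Matrix (Fin 2) (Fin 2) F) ^ n) → (q + 1) / 2 ∣ n := by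
    rintro n ⟨c, hc⟩
    have hcd := congrArg Matrix.det hc
    rw [Matrix.det_pow, s.det_coe, one_pow, Matrix.det_smul, Matrix.det_one, mul_one,
      Fintype.card_fin] at hcd
    have h1 : g ^ ((q - 1) * n * 2) = 1 := by
      apply Units.ext
      rw [Units.val_pow_eq_pow_val, Units.val_one, pow_mul, pow_mul,
        show (g : Matrix (Fin 2) (Fin 2) F) ^ (q - 1) = (s : Matrix (Fin 2) (Fin 2) F) from rfl,
        hc, _root_.smul_pow, one_pow, ← hcd, one_smul]
    have h2 := orderOf_dvd_of_pow_eq_one h1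
    rw [hg, mul_assoc, mul_comm (q - 1) (n * 2)] at h2
    have h3 := Nat.dvd_of_mul_dvd_mul_right (by omega) h2
    rw [show q + 1 = (q + 1) / 2 * 2 by omega] at h3
    exact Nat.dvd_of_mul_dvd_mul_right two_pos h3
  have hno : ∀ a : F, a ^ 2 - (s : Matrix (Fin 2) (Fin 2) F).trace * a +
      (s : Matrix (Fin 2) (Fin 2) F).det ≠ 0 := by
    rcases cases (s : Matrix (Fin 2) (Fin 2) F) with h | ⟨a, b, hab, ht, hd'⟩ | ⟨a, ht, hd'⟩
    · exact h
    all_goals exfalso
    · obtain ⟨c, hc⟩ := (dvd_of_two_roots hab (by rw [← hd', s.det_coe]; exact one_ne_zero)).2 hodd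
        (by rw [← hd', s.det_coe])
      rw [← ht, ← hd'] at hc
      have := Nat.le_of_dvd (by omega) (hlow _ ⟨c, pow_eq_smul_of_dvd hc⟩)
      omega
    · have h1 := hlow _ ⟨_, pow_char_of_double ht hd'⟩
      have hpq : p ∣ q :=
        (FiniteField.card F p).elim fun n hn => hn.2 ▸ dvd_pow_self _ n.pos.ne'
      rcases (Nat.dvd_prime Fact.out).1 h1 with h2 | h2
      · omega
      · have hp2 : p ∣ q + 1 := h2 ▸ Nat.div_dvd_of_dvd ⟨k + 1, by omega⟩
        exact (Fact.out : p.Prime).one_lt.ne' (Nat.eq_one_of_dvd_one ((Nat.dvd_add_right hpq).1 hp2))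
  refine ⟨s, Nat.dvd_antisymm ?_ (hlow _ ((sl_mk_pow_eq_one_iff s _).1 (pow_orderOf_eq_one _))),
    ?_, ?_, ?_⟩
  · obtain ⟨c, hc⟩ := (dvd_of_no_root hno).2 hodd s.det_coe
    exact orderOf_dvd_of_pow_eq_one ((sl_mk_pow_eq_one_iff s _).2 ⟨c, pow_eq_smul_of_dvd hc⟩)
  · intro h10
    refine hno ((s : Matrix (Fin 2) (Fin 2) F) 0 0) ?_
    rw [Matrix.trace_fin_two, Matrix.det_fin_two, h10]; ring
  · intro h0
    have h2 : IsScalar ((s : Matrix (Fin 2) (Fin 2) F) ^ 2) := by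
      refine ⟨-1, ?_⟩
      rw [pow_two, cayley, h0, s.det_coe, zero_smul, one_smul, zero_sub, neg_smul, one_smul]
    have := Nat.le_of_dvd two_pos (hlow 2 h2)
    omega
  · rintro ⟨r, hr⟩
    have h2 : (2 : F) ≠ 0 := by
      intro h2
      have hp2 : p = 2 := by
        have : ((2 : ℕ) : F) = 0 := by exact_mod_cast h2
        exact (Nat.prime_dvd_prime_iff_eq Fact.out Nat.prime_two).1 ((CharP.cast_eq_zero_iff F p 2).1 this)
      subst hp2
      have hpq : 2 ∣ q :=
        (FiniteField.card F 2).elim fun n hn => hn.2 ▸ dvd_pow_self _ n.pos.ne'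
      omega
    refine hno (((s : Matrix (Fin 2) (Fin 2) F).trace + r) / 2) ?_
    rw [s.det_coe]
    field_simp
    linear_combination -hr

/-- The element orders of `PGL(2, q)`. -/
theorem range_pgl (p : ℕ) [Fact p.Prime] [CharP F p] :
    Set.range (orderOf : PGL F → ℕ) = {n | n = p ∨ n ∣ q - 1 ∨ n ∣ q + 1} := by
  have hdiv : ∀ (y : PGL F) (d : ℕ), d ∣ orderOf y → d ∈ Set.range (orderOf : PGL F → ℕ) := by
    intro y d hd
    refine ⟨y ^ (orderOf y / d), ?_⟩
    rw [orderOf_pow_of_dvd (Nat.div_pos (Nat.le_of_dvd (orderOf_pos y) hd)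
      (Nat.pos_of_dvd_of_pos hd (orderOf_pos y))).ne' (Nat.div_dvd_of_dvd hd),
      Nat.div_div_self hd (orderOf_pos y).ne']
  apply Set.Subset.antisymm
  · rintro _ ⟨x, rfl⟩
    exact pgl_orders (p := p) x
  · rintro n (rfl | h | h)
    · exact exists_pgl_order_char
    · obtain ⟨y, hy⟩ := exists_pgl_order_sub_one (F := F)
      exact hdiv y n (hy.symm ▸ h)
    · obtain ⟨y, hy⟩ := exists_pgl_order_add_one (F := F)
      exact hdiv y n (hy.symm ▸ h)

end Cfsg.Agent.Recog.PGLTwo
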