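import Mathlib.RingTheory.Polynomial.Cyclotomic.Eval
import Mathlib.RingTheory.Polynomial.Cyclotomic.Expand
import Mathlib.NumberTheory.Multiplicity
import Mathlib.FieldTheory.Finite.Basic

/-!
# Primitive prime divisors

Elementary argument by the values of cyclotomic polynomials.
-/

set_option autoImplicit false

namespace Cfsg.Agent.Recog.Zsig

open Polynomial

/-- The absolute value of the cyclotomic value. -/
noncomputable def cval (n a : ℕ) : ℕ := ((cyclotomic n ℤ).eval (a : ℤ)).natAbs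

lemma dvd_pow_sub_one {n a : ℕ} (ha : 1 ≤ a) : cval n a ∣ a ^ n - 1 := by
  have h := eval_dvd (x := (a : ℤ)) (cyclotomic.dvd_X_pow_sub_one n ℤ)
  simp only [eval_sub, eval_pow, eval_X, eval_one] at h
  rw [cval, ← Int.natCast_dvd_natCast, Int.dvd_natAbs.symm]
  rw [Nat.cast_sub (Nat.one_le_pow _ _ ha), Nat.cast_pow, Nat.cast_one]
  exact Int.dvd_natAbs.2 (Int.natAbs_dvd.2 h)

lemma isPrimitiveRoot_of_dvd {n a p k m : ℕ} [Fact p.Prime] (hn : n = p ^ k * m) (hm : ¬ p ∣ m)
    (hp : p ∣ cval n a) : IsPrimitiveRoot (a : ZMod p) m := by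
  have : NeZero (m : ZMod p) := ⟨fun h => hm ((ZMod.natCast_eq_zero_iff m p).1 h)⟩
  rw [← isRoot_cyclotomic_prime_pow_mul_iff_of_charP (k := k) (p := p), ← hn, IsRoot.def]
  have h := cyclotomic.eval_apply (a : ℤ) n (Int.castRingHom (ZMod p))
  simp only [eq_intCast, Int.cast_natCast] at h
  rw [h, ZMod.intCast_zmod_eq_zero_iff_dvd]
  exact Int.natCast_dvd.2 hp

lemma three_mul_lt : ∀ {p : ℕ}, 5 ≤ p → 3 * p + 1 ≤ 2 ^ p := by
  intro p hp
  induction p, hp using Nat.le_induction with
  | base => norm_num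
  | succ n hn ih => rw [pow_succ]; omega

lemma cval_le {n a : ℕ} (ha : 1 < a) : cval n a ≤ (a + 1) ^ n.totient := by
  have h1 : (0 : ℝ) ≤ (cyclotomic n ℝ).eval (a : ℝ) := cyclotomic_nonneg n (by exact_mod_cast ha.le)
  have h2 := cyclotomic_eval_le_add_one_pow_totient (q := (a : ℝ)) (by exact_mod_cast ha) n
  have h3 := cyclotomic.eval_apply (a : ℤ) n (Int.castRingHom ℝ)
  simp only [eq_intCast, Int.cast_natCast] at h3
  rw [← @Nat.cast_le ℝ, cval, Nat.cast_natAbs, Int.cast_abs, ← h3, abs_of_nonneg h1, Nat.cast_pow,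
    Nat.cast_add, Nat.cast_one]
  exact h2

/-- Primitive prime divisors exist. -/
theorem exists_primitive_prime (a n : ℕ) (ha : 1 < a) (hn : 1 < n) (h6 : ¬ (a = 2 ∧ n = 6))
    (h2 : ¬ (n = 2 ∧ ∃ m : ℕ, a + 1 = 2 ^ m)) :
    ∃ r : ℕ, r.Prime ∧ r ∣ a ^ n - 1 ∧ ∀ k : ℕ, 0 < k → k < n → ¬ r ∣ a ^ k - 1 := by
  by_cases hn2 : n = 2
  · subst hn2
    obtain ⟨r, hr, hr2, hra⟩ : ∃ r, r.Prime ∧ r ≠ 2 ∧ r ∣ a + 1 := by
      by_contra hc
      refine h2 ⟨rfl, (a + 1).primeFactorsList.length, ?_⟩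
      exact Nat.eq_prime_pow_of_unique_prime_dvd (by omega) fun {d} hd hdd =>
        Classical.not_not.1 fun h => hc ⟨d, hd, h, hdd⟩
    refine ⟨r, hr, ?_, fun k hk0 hk2 hd => ?_⟩
    · have : a ^ 2 - 1 = (a + 1) * (a - 1) := by simpa using Nat.sq_sub_sq a 1
      rw [this]; exact dvd_mul_of_dvd_left hra _
    · obtain rfl : k = 1 := by omega
      rw [pow_one] at hd
      have h := Nat.dvd_sub hra hd
      rw [show a + 1 - (a - 1) = 2 by omega] at h
      exact hr2 ((Nat.prime_dvd_prime_iff_eq hr Nat.prime_two).1 h)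
  by_contra hc
  push Not at hc
  have hn3 : 2 < n := by omega
  have hN1 : 1 < cval n a :=
    lt_of_le_of_lt (by omega) (sub_one_lt_natAbs_cyclotomic_eval hn (by omega))
  -- every prime divisor is the largest prime of `n`
  have key : ∀ p, p.Prime → p ∣ cval n a → ∃ k m, 0 < k ∧ n = p ^ k * m ∧ ¬ p ∣ m ∧
      m ∣ p - 1 ∧ IsPrimitiveRoot (a : ZMod p) m := by
    intro p hp hpd
    have := Fact.mk hp
    obtain ⟨k, m, hm, hnk⟩ := Nat.exists_eq_pow_mul_and_not_dvd (by omega : n ≠ 0) p hp.ne_one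
    have hroot := isPrimitiveRoot_of_dvd hnk hm hpd
    have ha0 : (a : ZMod p) ≠ 0 := by
      intro h0
      have h1 := hroot.pow_eq_one
      rw [h0, zero_pow (fun h => hm (by rw [h]; exact dvd_zero p))] at h1
      exact zero_ne_one h1
    refine ⟨k, m, ?_, hnk, hm, hroot.dvd_of_pow_eq_one _ (ZMod.pow_card_sub_one_eq_one ha0), hroot⟩
    rcases Nat.eq_zero_or_pos k with rfl | h
    · obtain ⟨j, hj0, hjn, hjd⟩ := hc p hp (hpd.trans (dvd_pow_sub_one ha.le))
      have h1 : (a : ZMod p) ^ j = 1 := by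
        rw [← ZMod.natCast_eq_zero_iff, Nat.cast_sub (Nat.one_le_pow _ _ (by omega)), sub_eq_zero,
          Nat.cast_pow, Nat.cast_one] at hjd
        exact hjd
      have h2 := Nat.le_of_dvd hj0 (hroot.dvd_of_pow_eq_one _ h1)
      rw [pow_zero, one_mul] at hnk
      omega
    · exact h
  obtain ⟨p, hp, hpd⟩ := Nat.exists_prime_and_dvd hN1.ne'
  obtain ⟨k, m, hk, hnk, hm, hmp, hroot⟩ := key p hp hpd
  have := Fact.mk hp
  have huniq : ∀ q, q.Prime → q ∣ cval n a → q = p := by
    intro q hq hqd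
    obtain ⟨k', m', hk', hnk', hm', hmp', -⟩ := key q hq hqd
    by_contra hne
    have h1 : p ∣ m' := by
      have : p ∣ n := hnk ▸ dvd_mul_of_dvd_left (dvd_pow_self p hk.ne') m
      rw [hnk'] at this
      exact (hp.dvd_mul.1 this).resolve_left fun h =>
        hne ((Nat.prime_dvd_prime_iff_eq hp hq).1 (hp.dvd_of_dvd_pow h)).symm
    have h2 : q ∣ m := by
      have : q ∣ n := hnk' ▸ dvd_mul_of_dvd_left (dvd_pow_self q hk'.ne') m'
      rw [hnk] at this
      exact (hq.dvd_mul.1 this).resolve_left fun h =>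
        hne ((Nat.prime_dvd_prime_iff_eq hq hp).1 (hq.dvd_of_dvd_pow h))
    have h3 := Nat.le_of_dvd (by have := hq.two_le; omega) (h1.trans hmp')
    have h4 := Nat.le_of_dvd (by have := hp.two_le; omega) (h2.trans hmp)
    omega
  -- `p ^ 2` does not divide
  obtain ⟨n', hn'⟩ : p ∣ n := hnk ▸ dvd_mul_of_dvd_left (dvd_pow_self p hk.ne') m
  have hn'pos : 0 < n' := by
    rcases Nat.eq_zero_or_pos n' with rfl | h
    · rw [mul_zero] at hn'; omega
    · exact h
  have hn'lt : n' < n := by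
    rw [hn']; exact lt_mul_of_one_lt_left hn'pos hp.one_lt
  have hb1 : (1 : ℤ) < (a : ℤ) ^ n' := one_lt_pow₀ (by exact_mod_cast ha) hn'pos.ne'
  have hgeom : (cyclotomic n ℤ).eval (a : ℤ) ∣ ∑ i ∈ Finset.range p, ((a : ℤ) ^ n') ^ i := by
    have h := eval_dvd (x := (a : ℤ))
      (X_pow_sub_one_mul_cyclotomic_dvd_X_pow_sub_one_of_dvd ℤ (d := n') (n := n)
        (Nat.mem_properDivisors.2 ⟨⟨p, by rw [hn', mul_comm]⟩, hn'lt⟩))
    simp only [eval_mul, eval_sub, eval_pow, eval_X, eval_one] at h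
    rw [show (a : ℤ) ^ n = ((a : ℤ) ^ n') ^ p by rw [← pow_mul, hn', mul_comm], ← mul_geom_sum ((a : ℤ) ^ n') p] at h
    exact (mul_dvd_mul_iff_left (show (a : ℤ) ^ n' - 1 ≠ 0 by omega)).1 h
  have hb : (p : ℤ) ∣ (a : ℤ) ^ n' - 1 := by
    rw [← ZMod.intCast_zmod_eq_zero_iff_dvd]
    push_cast
    rw [sub_eq_zero]
    have hd : m ∣ n' := by
      have h1 : m ∣ n := hnk ▸ dvd_mul_left m _
      rw [hn'] at h1
      exact Nat.Coprime.dvd_of_dvd_mul_left ((hp.coprime_iff_not_dvd.2 hm).symm) h1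
    exact hroot.pow_eq_one_iff_dvd n' |>.2 hd
  have hsq : ¬ p ^ 2 ∣ cval n a := by
    intro hsq
    have h1 : (p : ℤ) ^ 2 ∣ (cyclotomic n ℤ).eval (a : ℤ) := by
      rw [← Int.dvd_natAbs]; exact_mod_cast hsq
    have h2 := h1.trans hgeom
    obtain ⟨c, hc⟩ := hb
    have hb' : (a : ℤ) ^ n' = 1 + (p : ℤ) * c := by linarith
    rcases hp.eq_two_or_odd' with rfl | hodd
    · have hev : Even n' := by
        have h3 : m = 1 := Nat.dvd_one.1 hmp
        subst h3
        rw [mul_one] at hnk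
        rcases Nat.lt_or_ge k 2 with hk2 | hk2
        · obtain rfl : k = 1 := by omega
          rw [pow_one] at hnk
          omega
        · rw [show k = (k - 2) + 2 by omega, pow_add] at hnk
          exact ⟨2 ^ (k - 2), by omega⟩
      obtain ⟨t, ht⟩ := hev
      rw [ht, ← two_mul, mul_comm 2 t, pow_mul] at hb' h2
      simp only [Finset.sum_range_succ, Finset.sum_range_zero, pow_zero, pow_one, zero_add] at h2
      obtain ⟨u, hu⟩ := h2
      rcases Int.even_or_odd' ((a : ℤ) ^ t) with ⟨v, hv | hv⟩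
      · rw [hv] at hb'; push_cast at hb'; ring_nf at hb'; omega
      · rw [hv] at hu; push_cast at hu; ring_nf at hu; omega
    · have h3 := odd_sq_dvd_geom_sum₂_sub (1 : ℤ) c hodd
      simp only [one_pow, mul_one] at h3
      rw [← hb'] at h3
      have h4 : (p : ℤ) ^ 2 ∣ (p : ℤ) := by
        have := dvd_sub h2 h3
        simpa using this
      have h5 := Int.le_of_dvd (by exact_mod_cast hp.pos) h4
      have : (2 : ℤ) ≤ p := by exact_mod_cast hp.two_le
      nlinarith
  have hNp : cval n a = p := by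
    obtain ⟨t, ht⟩ := hpd
    by_cases h1 : t = 1
    · rw [ht, h1, mul_one]
    · obtain ⟨q, hq, hqt⟩ := Nat.exists_prime_and_dvd h1
      obtain rfl := huniq q hq (ht ▸ dvd_mul_of_dvd_right hqt p)
      exact absurd (by rw [ht, pow_two]; exact mul_dvd_mul_left _ hqt) hsq
  have hphi : p - 1 ≤ n.totient := by
    rw [← Nat.totient_prime hp]
    exact Nat.le_of_dvd (Nat.totient_pos.2 (by omega)) (Nat.totient_dvd_of_dvd ⟨n', hn'⟩)
  rcases Nat.lt_or_ge a 3 with ha3 | ha3
  · obtain rfl : a = 2 := by omega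
    by_cases hpn' : p ∣ n'
    · have he := congrArg (eval ((2 : ℕ) : ℤ)) (cyclotomic_expand_eq_cyclotomic hp hpn' ℤ)
      rw [expand_eval, mul_comm n', ← hn', ← Nat.cast_pow] at he
      have hn'2 : 1 < n' := lt_of_lt_of_le hp.one_lt (Nat.le_of_dvd hn'pos hpn')
      have h1 := sub_one_lt_natAbs_cyclotomic_eval (q := 2 ^ p) hn'2 (Nat.one_lt_two_pow hp.ne_zero).ne'
      rw [he] at h1
      change 2 ^ p - 1 < cval n 2 at h1
      have h2 := Nat.lt_two_pow_self (n := p)
      omega
    · have hm' : n' = m := by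
        rcases Nat.lt_or_ge k 2 with hk2 | hk2
        · interval_cases k
          rw [pow_one, hn'] at hnk
          exact Nat.eq_of_mul_eq_mul_left hp.pos hnk
        · refine absurd ?_ hpn'
          have h1 : p * n' = p * (p ^ (k - 1) * m) := by
            rw [← hn', hnk, ← mul_assoc, ← pow_succ', show k - 1 + 1 = k by omega]
          rw [Nat.eq_of_mul_eq_mul_left hp.pos h1]
          exact dvd_mul_of_dvd_left (dvd_pow_self p (by omega)) m
      subst hm'
      have hm2 : 2 ≤ n' := by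
        rcases Nat.lt_or_ge n' 2 with h | h
        · obtain rfl : n' = 1 := by omega
          rw [IsPrimitiveRoot.one_right_iff] at hroot
          have h1 : ((1 : ℕ) : ZMod p) = 0 := by
            have : ((2 : ℕ) : ZMod p) = 1 := hroot
            push_cast at this ⊢
            linear_combination this
          rw [ZMod.natCast_eq_zero_iff] at h1
          exact absurd (Nat.dvd_one.1 h1) hp.ne_one
        · exact h
      have hp5 : 5 ≤ p := by
        have h1 := Nat.le_of_dvd (by have := hp.two_le; omega) hmp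
        by_contra h
        have hp3 : p = 3 := by
          have := hp.two_le
          interval_cases p
          · have h2 : n' ≤ 1 := by omega
            omega
          · rfl
          · exact absurd hp (by decide)
        subst hp3
        obtain rfl : n' = 2 := by omega
        exact h6 ⟨rfl, hn'⟩
      have he := congrArg (eval ((2 : ℕ) : ℤ)) (cyclotomic_expand_eq_cyclotomic_mul hp hpn' ℤ)
      rw [expand_eval, eval_mul, mul_comm n', ← hn', ← Nat.cast_pow] at he
      have h1 := sub_one_pow_totient_lt_natAbs_cyclotomic_eval (q := 2 ^ p) hm2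
        (Nat.one_lt_two_pow hp.ne_zero).ne'
      rw [he, Int.natAbs_mul] at h1
      change (2 ^ p - 1) ^ n'.totient < cval n 2 * cval n' 2 at h1
      rw [hNp] at h1
      have h2 : (3 * p) ^ n'.totient ≤ (2 ^ p - 1) ^ n'.totient :=
        Nat.pow_le_pow_left (by have := three_mul_lt hp5; omega) _
      have h3 : p * 3 ^ n'.totient ≤ (3 * p) ^ n'.totient := by
        rw [mul_pow, mul_comm]
        exact Nat.mul_le_mul_left _ (Nat.le_self_pow (Nat.totient_pos.2 hn'pos).ne' p)
      have h4 : p * cval n' 2 ≤ p * 3 ^ n'.totient :=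
        Nat.mul_le_mul_left _ (cval_le (n := n') (by norm_num))
      omega
  · have h1 := sub_one_pow_totient_lt_natAbs_cyclotomic_eval (q := a) hn (by omega)
    change (a - 1) ^ n.totient < cval n a at h1
    have h2 : 2 ^ (p - 1) ≤ (a - 1) ^ n.totient :=
      (Nat.pow_le_pow_right (by norm_num) hphi).trans (Nat.pow_le_pow_left (by omega) _)
    have h3 := Nat.lt_two_pow_self (n := p - 1)
    omega

end Cfsg.Agent.Recog.Zsig
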