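import Cfsg.Agent.Lib.Recog.JankoOneSpectrum

/-!
# Elements of the maximal orders 6, 7, 10, 11, 15, 19 of the first Janko group
-/

set_option autoImplicit false

namespace Cfsg.Agent.Recog.JankoOne

open PackedEleven

theorem jankoX_mem : Spor.jankoX ∈ Spor.J1 := Subgroup.subset_closure (Set.mem_insert _ _)

theorem jankoY_mem : Spor.jankoY ∈ Spor.J1 :=
  Subgroup.subset_closure (Set.mem_insert_of_mem _ rfl)

/-- A word in the generators: `true` stands for the first one. -/
def word : List Bool → Spor.J1
  | [] => 1
  | b :: l => (bif b then ⟨_, jankoX_mem⟩ else ⟨_, jankoY_mem⟩) * word l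

/-- The packed value of a word. -/
def wordVal : List Bool → ℕ
  | [] => one
  | b :: l => mul (bif b then genX else genY) (wordVal l)

theorem wordVal_spec : ∀ l, Small (wordVal l) ∧
    toMat (wordVal l) = ((word l : Spor.J1) : GL (Fin 7) (ZMod 11)).val
  | [] => ⟨small_spread _, by
      show toMat one = ((1 : Spor.J1) : GL (Fin 7) (ZMod 11)).val
      rw [one_val, Subgroup.coe_one, Units.val_one]⟩
  | b :: l => by
    obtain ⟨h1, h2⟩ := wordVal_spec l
    cases b
    · refine ⟨small_mul (small_spread _) h1, ?_⟩
      show toMat (mul genY (wordVal l)) = _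
      rw [toMat_mul (A := genY) (small_spread _) h1, h2, genY_val]
      rfl
    · refine ⟨small_mul (small_spread _) h1, ?_⟩
      show toMat (mul genX (wordVal l)) = _
      rw [toMat_mul (A := genX) (small_spread _) h1, h2, genX_val]
      rfl

/-- A power of a packed matrix. -/
def powVal (g : ℕ) : ℕ → ℕ
  | 0 => one
  | n + 1 => mul (powVal g n) g

theorem powVal_spec {g : ℕ} (hg : Small g) : ∀ n, Small (powVal g n) ∧
    toMat (powVal g n) = toMat g ^ n
  | 0 => ⟨small_spread _, by rw [powVal, one_val, pow_zero]⟩
  | n + 1 => by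
    obtain ⟨h1, h2⟩ := powVal_spec hg n
    exact ⟨small_mul h1 hg, by rw [powVal, toMat_mul h1 hg, h2, pow_succ]⟩

theorem orderOf_word (l : List Bool) (n : ℕ) (hn : 0 < n)
    (h : (Nat.beq (powVal (wordVal l) n) one) = true)
    (hlow : ∀ j < n, 0 < j → toMat (powVal (wordVal l) j) ≠ 1) : orderOf (word l) = n := by
  obtain ⟨hs, hv⟩ := wordVal_spec l
  have key : ∀ j, toMat (powVal (wordVal l) j) =
      (((word l) ^ j : Spor.J1) : GL (Fin 7) (ZMod 11)).val := fun j => by
    rw [(powVal_spec hs j).2, hv, SubgroupClass.coe_pow, Units.val_pow_eq_pow_val]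
  refine (orderOf_eq_iff hn).2 ⟨?_, fun j hj hj0 he => hlow j hj hj0 ?_⟩
  · apply Subtype.ext; apply Units.ext
    rw [← key, Nat.eq_of_beq_eq_true h, one_val, Subgroup.coe_one, Units.val_one]
  · rw [key, he, Subgroup.coe_one, Units.val_one]

theorem exists_orders : ∀ n ∈ ({6, 7, 10, 11, 15, 19} : Finset ℕ),
    ∃ x : Spor.J1, orderOf x = n := by
  intro n hn
  simp only [Finset.mem_insert, Finset.mem_singleton] at hn
  rcases hn with rfl | rfl | rfl | rfl | rfl | rfl
  · exact ⟨_, orderOf_word [false, false, false, true] 6 (by norm_num) (by decide +kernel)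
      (by decide +kernel)⟩
  · exact ⟨_, orderOf_word [true] 7 (by norm_num) (by decide +kernel) (by decide +kernel)⟩
  · exact ⟨_, orderOf_word [false, true] 10 (by norm_num) (by decide +kernel) (by decide +kernel)⟩
  · exact ⟨_, orderOf_word [false, false, true] 11 (by norm_num) (by decide +kernel)
      (by decide +kernel)⟩
  · exact ⟨_, orderOf_word [false, false, true, false, true, false, false, true, true] 15
      (by norm_num) (by decide +kernel) (by decide +kernel)⟩
  · exact ⟨_, orderOf_word [false, true, true, true] 19 (by norm_num) (by decide +kernel)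
      (by decide +kernel)⟩

end Cfsg.Agent.Recog.JankoOne
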