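import Mathlib

/-!
# Simple groups in which centralisers behave like maximal stabilisers
-/

namespace Cfsg.Agent.Recog

open Subgroup

variable {T : Type*} [Group T]

theorem center_eq_bot_of_simple (hs : IsSimpleGroup T) (hnc : ¬ IsMulCommutative T) :
    center T = ⊥ := by
  rcases IsSimpleGroup.eq_bot_or_eq_top_of_normal (center T) inferInstance with h | h
  · exact h
  · refine absurd ⟨⟨fun a b => ?_⟩⟩ hnc
    have ha : a ∈ center T := h ▸ mem_top a
    exact (mem_center_iff.1 ha b).symm

theorem sum_inv_sq_le (N : ℕ) (hN : 2 ≤ N) :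
    ∑ n ∈ Finset.Icc 2 N, (1 : ℚ) / (n : ℚ) ^ 2 ≤ 3 / 4 - 1 / N := by
  induction N, hN using Nat.le_induction with
  | base => norm_num [Finset.Icc_self]
  | succ N hN ih =>
    rw [Finset.sum_Icc_succ_top (by omega)]
    have h0 : (2 : ℚ) ≤ N := by exact_mod_cast hN
    have : (1 : ℚ) / ((N : ℚ) + 1) ^ 2 ≤ 1 / N - 1 / ((N : ℚ) + 1) := by
      rw [div_sub_div _ _ (by positivity) (by positivity), div_le_div_iff₀ (by positivity) (by positivity)]
      nlinarith
    push_cast
    linarith

theorem four_le_index_center {P : Type*} [Group P] [Finite P] {p : ℕ} [Fact p.Prime]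
    (hP : IsPGroup p P) (hnc : ¬ IsMulCommutative P) : p ^ 2 ≤ (center P).index := by
  obtain ⟨j, hj⟩ := hP.index (center P)
  rw [hj]
  refine Nat.pow_le_pow_right (Nat.Prime.pos Fact.out) ?_
  by_contra hlt
  apply hnc
  have : IsCyclic (P ⧸ center P) := by
    interval_cases j
    · rw [pow_zero, Subgroup.index_eq_one] at hj
      have : Subsingleton (P ⧸ center P) := by
        rw [hj]; exact QuotientGroup.subsingleton_quotient_top
      infer_instance
    · rw [pow_one] at hj
      exact isCyclic_of_prime_card (p := p) hj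
  exact MonoidHom.isMulCommutative_of_isCyclic_of_ker_le_center (QuotientGroup.mk' (center P))
    (by rw [QuotientGroup.ker_mk'])

/-- A non-abelian finite simple group has no Sylow subgroup centralised by its normaliser. -/
theorem false_of_normalizer_le_centralizer [Finite T] (hs : IsSimpleGroup T)
    (hnc : ¬ IsMulCommutative T) {p : ℕ} [Fact p.Prime] (P : Sylow p T) (hP1 : P.1 ≠ ⊥)
    (hNP : normalizer (P.1 : Set T) ≤ centralizer (P.1 : Set T)) : False := by
  have hcompl := MonoidHom.ker_transferSylow_isComplement' P hNP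
  rcases IsSimpleGroup.eq_bot_or_eq_top_of_normal (MonoidHom.transferSylow P hNP).ker
    inferInstance with h | h
  · rw [h, isComplement'_bot_left] at hcompl
    refine hnc ⟨⟨fun a b => ?_⟩⟩
    have ha : a ∈ P.1 := hcompl ▸ mem_top a
    have hb : b ∈ P.1 := hcompl ▸ mem_top b
    exact (mem_centralizer_iff.1 (hNP (le_normalizer ha)) b hb).symm
  · rw [h, isComplement'_top_left] at hcompl
    exact hP1 hcompl

/-- There is no non-abelian finite simple group in which every centraliser of a non-trivial element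
is self-normalising and equals the centraliser of each non-trivial power of that element. -/
theorem false_of_centralizer_powers [Finite T] (hs : IsSimpleGroup T)
    (hnc : ¬ IsMulCommutative T)
    (hpow : ∀ x : T, ∀ j : ℕ, x ^ j ≠ 1 → centralizer {x ^ j} = centralizer {x})
    (hN : ∀ x : T, x ≠ 1 →
      normalizer ((centralizer {x} : Subgroup T) : Set T) ≤ centralizer {x}) : False := by
  classical
  have hmem : ∀ x y : T, y ∈ centralizer ({x} : Set T) ↔ y * x = x * y := fun x y =>
    mem_centralizer_singleton_iff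
  have hprime : ∀ x : T, x ≠ 1 → ∀ q : ℕ, q.Prime → q ∣ orderOf x →
      orderOf (x ^ (orderOf x / q)) = q := fun x _ q _ hq =>
    orderOf_pow_orderOf_div (orderOf_pos x).ne' hq
  -- commuting elements of coprime orders have the same centraliser
  have hcop : ∀ x y : T, ∀ p q : ℕ, p.Prime → q.Prime → p ≠ q → orderOf x = p → orderOf y = q →
      Commute x y → (centralizer {x} : Subgroup T) = centralizer {y} := by
    intro x y p q hp hq hpq hx hy hxy
    have h1 : (x * y) ^ p = y ^ p := by
      rw [hxy.mul_pow, ← hx, pow_orderOf_eq_one, one_mul]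
    have h2 : (x * y) ^ q = x ^ q := by
      rw [hxy.mul_pow, ← hy, pow_orderOf_eq_one, mul_one]
    have h3 : y ^ p ≠ 1 := fun h => by
      have := orderOf_dvd_of_pow_eq_one h
      rw [hy, Nat.prime_dvd_prime_iff_eq hq hp] at this
      exact hpq this.symm
    have h4 : x ^ q ≠ 1 := fun h => by
      have := orderOf_dvd_of_pow_eq_one h
      rw [hx, Nat.prime_dvd_prime_iff_eq hp hq] at this
      exact hpq this
    calc (centralizer {x} : Subgroup T) = centralizer {x ^ q} := (hpow x q h4).symm
      _ = centralizer {x * y} := by rw [← h2]; exact hpow _ q (h2 ▸ h4)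
      _ = centralizer {y ^ p} := by rw [← h1]; exact (hpow _ p (h1 ▸ h3)).symm
      _ = centralizer {y} := hpow y p h3
  -- every centraliser is a non-abelian Sylow subgroup
  have key : ∀ x : T, x ≠ 1 → ∃ p : ℕ, ∃ _ : Fact p.Prime, p ∣ Nat.card T ∧
      ∃ P : Sylow p T, (P : Subgroup T) = centralizer {x} ∧ ¬ IsMulCommutative P := by
    intro x hx1
    obtain ⟨p, hp, hpd⟩ := Nat.exists_prime_and_dvd
      (fun h : orderOf x = 1 => hx1 (orderOf_eq_one_iff.1 h))
    have : Fact p.Prime := ⟨hp⟩
    set x₀ := x ^ (orderOf x / p) with hx₀def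
    have hx₀o : orderOf x₀ = p := hprime x hx1 p hp hpd
    have hx₀1 : x₀ ≠ 1 := fun h => hp.one_lt.ne (by rw [← hx₀o, h, orderOf_one])
    have hxC : (centralizer {x} : Subgroup T) = centralizer {x₀} := (hpow x _ hx₀1).symm
    rw [hxC]
    set D : Subgroup T := centralizer {x₀} with hD
    have hpT : p ∣ Nat.card T := hx₀o ▸ orderOf_dvd_natCard x₀
    have hDne : ¬ (IsMulCommutative D ∧ ∀ z : T, z ∈ D → z ≠ 1 → centralizer {z} = D) := by
      rintro ⟨hDc, hall⟩
      -- `D` contains, and centralises, a Sylow subgroup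
      obtain ⟨P, hP⟩ := IsPGroup.exists_le_sylow (p := p) (P := zpowers x₀)
        (IsPGroup.of_card (n := 1) (by rw [Nat.card_zpowers, hx₀o, pow_one]))
      have hx₀P : x₀ ∈ P.1 := hP (mem_zpowers x₀)
      have : Nontrivial P.1 := (Subgroup.nontrivial_iff_ne_bot _).2 fun h => by
        rw [h, mem_bot] at hx₀P; exact hx₀1 hx₀P
      have := P.2.center_nontrivial
      obtain ⟨⟨z, hzc⟩, hz1⟩ := exists_ne (1 : center P.1)
      have hz1' : (z : T) ≠ 1 := fun h => hz1 (by ext; exact h)
      have hzD : (z : T) ∈ D := (hmem _ _).2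
        (congrArg Subtype.val (mem_center_iff.1 hzc ⟨x₀, hx₀P⟩)).symm
      have hPD : P.1 ≤ D := by
        rw [← hall _ hzD hz1']
        exact fun a ha => (hmem _ _).2 (congrArg Subtype.val (mem_center_iff.1 hzc ⟨a, ha⟩))
      have hcomm : ∀ a ∈ D, ∀ b ∈ D, a * b = b * a := fun a ha b hb =>
        congrArg Subtype.val (hDc.is_comm.comm ⟨a, ha⟩ ⟨b, hb⟩)
      have hCP : centralizer (P.1 : Set T) ≤ D := fun a ha => by
        rw [← hall _ hzD hz1']
        exact (hmem _ _).2 (mem_centralizer_iff.1 ha _ z.2).symm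
      have hNP : normalizer (P.1 : Set T) ≤ centralizer (P.1 : Set T) := by
        intro n hn
        have hnD : n ∈ normalizer (D : Set T) := by
          have hd : ∀ m ∈ normalizer (P.1 : Set T), ∀ d ∈ D, m * d * m⁻¹ ∈ D := by
            intro m hm d hd
            refine hCP (mem_centralizer_iff.2 fun a ha => ?_)
            have ha' : m⁻¹ * a * m ∈ P.1 := by
              simpa using (mem_normalizer_iff.1 (inv_mem hm) a).1 ha
            have := hcomm _ hd _ (hPD ha')
            calc a * (m * d * m⁻¹) = m * (m⁻¹ * a * m * d) * m⁻¹ := by group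
              _ = m * (d * (m⁻¹ * a * m)) * m⁻¹ := by rw [this]
              _ = m * d * m⁻¹ * a := by group
          refine mem_normalizer_iff.2 fun d => ⟨hd n hn d, fun h => ?_⟩
          simpa [mul_assoc] using hd _ (inv_mem hn) _ h
        have hnD' : n ∈ D := hN x₀ hx₀1 hnD
        exact mem_centralizer_iff.2 fun a ha => hcomm a (hPD ha) n hnD'
      exact false_of_normalizer_le_centralizer hs hnc P
        (fun h => hx₀1 (by rwa [h, mem_bot] at hx₀P)) hNP
    have habel : (∀ z : T, z ∈ D → z ≠ 1 → centralizer {z} = D) → IsMulCommutative D := by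
      intro h
      refine ⟨⟨fun a b => Subtype.ext ?_⟩⟩
      show (a : T) * b = b * a
      by_cases ha : (a : T) = 1
      · simp [ha]
      · have : (b : T) ∈ centralizer ({(a : T)} : Set T) := (h _ a.2 ha).symm ▸ b.2
        exact ((hmem _ _).1 this).symm
    have hpg : ∀ z : T, z ∈ D → ∀ q : ℕ, q.Prime → orderOf z = q → q = p := by
      intro y hy q hq hyo
      by_contra hqp
      have hy1 : y ≠ 1 := fun h => hq.one_lt.ne (by rw [← hyo, h, orderOf_one])
      have hCy : centralizer {y} = D :=
        hcop y x₀ q p hq hp hqp hyo hx₀o ((hmem _ _).1 hy)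
      have hall : ∀ z : T, z ∈ D → z ≠ 1 → centralizer {z} = D := by
        intro z hz hz1
        obtain ⟨r, hr, hrd⟩ := Nat.exists_prime_and_dvd
          (fun h : orderOf z = 1 => hz1 (orderOf_eq_one_iff.1 h))
        have hzo := hprime z hz1 r hr hrd
        set z' := z ^ (orderOf z / r)
        have hz'1 : z' ≠ 1 := fun h => hr.one_lt.ne (by rw [← hzo, h, orderOf_one])
        have hz'D : z' ∈ D := pow_mem hz _
        rw [← hpow z _ hz'1]
        by_cases hrp : r = p
        · rw [← hCy]
          exact hcop z' y r q hr hq (hrp ▸ Ne.symm hqp) hzo hyo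
            ((hmem _ _).1 (hCy.symm ▸ hz'D))
        · exact hcop z' x₀ r p hr hp hrp hzo hx₀o ((hmem _ _).1 hz'D)
      exact hDne ⟨habel hall, hall⟩
    obtain ⟨n, hn⟩ : ∃ n, Nat.card D = p ^ n :=
      ⟨_, Nat.eq_prime_pow_of_unique_prime_dvd Nat.card_pos.ne' fun {q} hq hqd => by
        have : Fact q.Prime := ⟨hq⟩
        obtain ⟨y, hy⟩ := exists_prime_orderOf_dvd_card' (G := D) q hqd
        exact hpg y y.2 q hq (by rw [Subgroup.orderOf_coe, hy])⟩
    have hnmax : n = (Nat.card T).factorization p := by
      have hle : p ^ n ∣ Nat.card T := hn ▸ card_subgroup_dvd_card D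
      have hle' := (hp.pow_dvd_iff_le_factorization Nat.card_pos.ne').1 hle
      rcases hle'.lt_or_eq with hlt | heq
      · exfalso
        have hdvd : p ^ (n + 1) ∣ Nat.card T :=
          (hp.pow_dvd_iff_le_factorization Nat.card_pos.ne').2 hlt
        have := Sylow.prime_pow_dvd_card_normalizer hdvd hn
        have hND : normalizer (D : Set T) = D := le_antisymm (hN x₀ hx₀1) le_normalizer
        rw [hND, hn, Nat.pow_dvd_pow_iff_le_right hp.one_lt] at this
        omega
      · exact heq
    refine ⟨p, inferInstance, hpT, Sylow.ofCard D (hnmax ▸ hn), rfl, fun hc => ?_⟩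
    refine false_of_normalizer_le_centralizer hs hnc (Sylow.ofCard D (hnmax ▸ hn)) ?_ ?_
    · intro h
      exact hx₀1 (mem_bot.1 (h ▸ ((hmem _ _).2 rfl : x₀ ∈ D)))
    · intro m hm
      have hmD : m ∈ D := hN x₀ hx₀1 hm
      exact mem_centralizer_iff.2 fun a ha =>
        congrArg Subtype.val (hc.is_comm.comm ⟨a, ha⟩ ⟨m, hmD⟩)
  -- the class equation
  have : Fintype T := Fintype.ofFinite T
  let C : T → Subgroup T := fun x => centralizer {x}
  let A : ℕ → Finset T := fun p => Finset.univ.filter fun x =>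
    x ≠ 1 ∧ Nat.card (C x) = p ^ (Nat.card T).factorization p ∧ ¬ IsMulCommutative (C x)
  have hAbound : ∀ p : ℕ, p.Prime → (A p).card * p ^ 2 ≤ Nat.card T := by
    intro p hp
    have : Fact p.Prime := ⟨hp⟩
    have : Fintype (Sylow p T) := Fintype.ofFinite _
    set k := (Nat.card T).factorization p with hk
    have hfib : ∀ D ∈ (A p).image C, ((A p).filter fun x => C x = D).card ≤ p ^ k / p ^ 2 := by
      intro D hD
      obtain ⟨x, hx, rfl⟩ := Finset.mem_image.1 hD
      obtain ⟨-, hcard, hnc'⟩ := (Finset.mem_filter.1 hx).2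
      rw [Nat.le_div_iff_mul_le (pow_pos hp.pos 2)]
      have hidx := four_le_index_center (IsPGroup.of_card hcard) hnc'
      have hle : ((A p).filter fun y => C y = C x).card ≤ Nat.card (center (C x)) := by
        rw [Nat.card_eq_fintype_card, ← Finset.card_univ]
        refine Finset.card_le_card_of_surjOn (fun z => ((z : C x) : T)) ?_
        intro y hy
        obtain ⟨-, hyx⟩ := Finset.mem_filter.1 (Finset.mem_coe.1 hy)
        have hyC : y ∈ C x := hyx ▸ (hmem _ _).2 rfl
        refine ⟨⟨⟨y, hyC⟩, mem_center_iff.2 fun d => Subtype.ext ?_⟩, by simp, rfl⟩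
        exact (hmem _ _).1 (hyx.symm ▸ d.2 : (d : T) ∈ C y)
      calc _ ≤ Nat.card (center (C x)) * (center (C x)).index := Nat.mul_le_mul hle hidx
        _ = p ^ k := by rw [card_mul_index, hcard]
    have himg : ((A p).image C).card * p ^ k ≤ Nat.card T := by
      have hsub : (A p).image C ⊆ Finset.univ.image fun P : Sylow p T => (P : Subgroup T) := by
        intro D hD
        obtain ⟨x, hx, rfl⟩ := Finset.mem_image.1 hD
        exact Finset.mem_image.2 ⟨Sylow.ofCard _ (Finset.mem_filter.1 hx).2.2.1,
          Finset.mem_univ _, rfl⟩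
      have h1 := (Finset.card_le_card hsub).trans Finset.card_image_le
      rw [Finset.card_univ, ← Nat.card_eq_fintype_card] at h1
      let P : Sylow p T := default
      have h2 : Nat.card (Sylow p T) ≤ P.1.index := by
        rw [Sylow.card_eq_index_normalizer P]
        exact Nat.le_of_dvd (Nat.pos_of_ne_zero index_ne_zero_of_finite)
          (index_dvd_of_le le_normalizer)
      calc _ ≤ P.1.index * Nat.card P.1 := Nat.mul_le_mul (h1.trans h2) P.card_eq_multiplicity.ge
        _ = Nat.card T := index_mul_card _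
    calc (A p).card * p ^ 2 ≤ p ^ k / p ^ 2 * ((A p).image C).card * p ^ 2 :=
          Nat.mul_le_mul (Finset.card_le_mul_card_image _ _ hfib) le_rfl
      _ = ((A p).image C).card * (p ^ k / p ^ 2 * p ^ 2) := by ring
      _ ≤ ((A p).image C).card * p ^ k := Nat.mul_le_mul le_rfl (Nat.div_mul_le_self _ _)
      _ ≤ Nat.card T := himg
  have hcover : Finset.univ.erase (1 : T) ⊆ (Nat.card T).primeFactors.biUnion A := by
    intro x hx
    have hx1 := (Finset.mem_erase.1 hx).1
    obtain ⟨p, hp, hpd, P, hP, hPnc⟩ := key x hx1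
    refine Finset.mem_biUnion.2 ⟨p, Nat.mem_primeFactors.2 ⟨hp.out, hpd, Nat.card_pos.ne'⟩,
      Finset.mem_filter.2 ⟨Finset.mem_univ _, hx1, ?_, ?_⟩⟩
    · show Nat.card (centralizer ({x} : Set T) : Subgroup T) = _
      rw [← hP]
      exact P.card_eq_multiplicity
    · show ¬ IsMulCommutative (centralizer ({x} : Set T) : Subgroup T)
      rwa [← hP]
  set N := Nat.card T with hNdef
  have hnat : N - 1 ≤ ∑ p ∈ N.primeFactors, (A p).card := by
    have := (Finset.card_le_card hcover).trans Finset.card_biUnion_le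
    rwa [Finset.card_erase_of_mem (Finset.mem_univ _), Finset.card_univ,
      ← Nat.card_eq_fintype_card] at this
  have hN2 : 2 ≤ N := by
    have := hs.toNontrivial
    exact Finite.one_lt_card
  have hsub : N.primeFactors ⊆ Finset.Icc 2 N := fun p hp =>
    Finset.mem_Icc.2 ⟨(Nat.prime_of_mem_primeFactors hp).two_le, Nat.le_of_mem_primeFactors hp⟩
  have hq : ((N - 1 : ℕ) : ℚ) ≤ (N : ℚ) * (3 / 4 - 1 / N) := by
    calc ((N - 1 : ℕ) : ℚ) ≤ ∑ p ∈ N.primeFactors, ((A p).card : ℚ) := by exact_mod_cast hnat
      _ ≤ ∑ p ∈ N.primeFactors, (N : ℚ) * (1 / (p : ℚ) ^ 2) := by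
          refine Finset.sum_le_sum fun p hp => ?_
          have hp' := Nat.prime_of_mem_primeFactors hp
          rw [mul_one_div, le_div_iff₀ (by have := hp'.pos; positivity)]
          exact_mod_cast hAbound p hp'
      _ ≤ ∑ p ∈ Finset.Icc 2 N, (N : ℚ) * (1 / (p : ℚ) ^ 2) :=
          Finset.sum_le_sum_of_subset_of_nonneg hsub fun _ _ _ => by positivity
      _ ≤ _ := by
          rw [← Finset.mul_sum]
          exact mul_le_mul_of_nonneg_left (sum_inv_sq_le N hN2) (by positivity)
  have hNne : (N : ℚ) ≠ 0 := by exact_mod_cast (by omega : N ≠ 0)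
  rw [mul_sub, mul_one_div, div_self hNne, Nat.cast_sub (by omega)] at hq
  push_cast at hq
  have hN0 : (0 : ℚ) < N := by exact_mod_cast (by omega : 0 < N)
  linarith

end Cfsg.Agent.Recog
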