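import Mathlib

/-!
# Element orders of semidirect products with elementary abelian kernel

If `V` has prime exponent `p`, the element orders of `V ^ k ⋊ G` do not depend on `k ≥ 1`.
-/

namespace Cfsg.Agent.Recog

open scoped Pointwise

/-- The order of an element in an extension with kernel of prime exponent. -/
theorem orderOf_of_hom {H G : Type*} [Group H] [Group G] (π : H →* G) {p : ℕ} [Fact p.Prime]
    (hker : ∀ x ∈ π.ker, x ^ p = 1) (x : H) (hfin : IsOfFinOrder (π x)) :
    (x ^ orderOf (π x) = 1 → orderOf x = orderOf (π x)) ∧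
      (x ^ orderOf (π x) ≠ 1 → orderOf x = p * orderOf (π x)) := by
  refine ⟨fun h => Nat.dvd_antisymm (orderOf_dvd_of_pow_eq_one h) (orderOf_map_dvd π x), fun h => ?_⟩
  set n := orderOf (π x) with hn
  have hmem : x ^ n ∈ π.ker := by rw [MonoidHom.mem_ker, map_pow, hn, pow_orderOf_eq_one]
  have h1 : orderOf (x ^ n) = p := orderOf_eq_prime (hker _ hmem) h
  have hdvd : n ∣ orderOf x := orderOf_map_dvd π x
  have hn0 : n ≠ 0 := hfin.orderOf_pos.ne'
  have h2 : orderOf (x ^ n) = orderOf x / n := orderOf_pow_of_dvd hn0 hdvd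
  rw [h1] at h2
  rw [h2, Nat.div_mul_cancel hdvd]

/-- A finite group has a copy in `Type`. -/
theorem exists_type_zero {G : Type*} [Group G] [Finite G] :
    ∃ (H : Type) (_ : Group H) (_ : Fintype H), Nonempty (H ≃* G) := by
  obtain ⟨n, ⟨e⟩⟩ := Finite.exists_equiv_fin G
  let _ : Group (Fin n) := Equiv.group e.symm
  exact ⟨Fin n, inferInstance, inferInstance, ⟨Equiv.mulEquiv e.symm⟩⟩

theorem range_orderOf_congr {H G : Type*} [Group H] [Group G] (e : H ≃* G) :
    Set.range (orderOf : H → ℕ) = Set.range (orderOf : G → ℕ) := by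
  ext m
  exact ⟨fun ⟨x, hx⟩ => ⟨e x, by rw [e.orderOf_eq, hx]⟩,
    fun ⟨x, hx⟩ => ⟨e.symm x, by rw [e.symm.orderOf_eq, hx]⟩⟩

variable {V G : Type*} [Group V] [Group G] (φ : G →* MulAut V)

/-- The componentwise action on `ι → V`. -/
def piAut (ι : Type*) : G →* MulAut (ι → V) where
  toFun g := MulEquiv.piCongrRight fun _ => φ g
  map_one' := by ext f i; simp [MulEquiv.piCongrRight]
  map_mul' g h := by ext f i; show φ (g * h) (f i) = φ g (φ h (f i)); rw [map_mul]; rfl

theorem piAut_apply (ι : Type*) (g : G) (f : ι → V) (i : ι) : piAut φ ι g f i = φ g (f i) := rfl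

/-- Projection of `(ι → V) ⋊ G` to one component. -/
def piProj (ι : Type*) (i : ι) : (ι → V) ⋊[piAut φ ι] G →* V ⋊[φ] G where
  toFun x := ⟨x.left i, x.right⟩
  map_one' := rfl
  map_mul' x y := rfl

/-- Inclusion of `V ⋊ G` into `(ι → V) ⋊ G` as constant functions. -/
def piConst (ι : Type*) : V ⋊[φ] G →* (ι → V) ⋊[piAut φ ι] G where
  toFun x := ⟨fun _ => x.left, x.right⟩
  map_one' := rfl
  map_mul' x y := rfl

/-- For `V` of prime exponent, `(ι → V) ⋊ G` and `V ⋊ G` have the same element orders. -/
theorem range_orderOf_pi [Finite G] {ι : Type*} [Nonempty ι] {p : ℕ} [Fact p.Prime]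
    (hexp : ∀ v : V, v ^ p = 1) :
    Set.range (orderOf : (ι → V) ⋊[piAut φ ι] G → ℕ) = Set.range (orderOf : V ⋊[φ] G → ℕ) := by
  apply Set.Subset.antisymm
  · rintro _ ⟨x, rfl⟩
    set π : (ι → V) ⋊[piAut φ ι] G →* G := SemidirectProduct.rightHom with hπdef
    have hkπ : ∀ y ∈ π.ker, y ^ p = 1 := by
      intro y hy
      rw [MonoidHom.mem_ker, hπdef, SemidirectProduct.rightHom_eq_right] at hy
      have : y = SemidirectProduct.inl y.left := by
        ext <;> simp [hy]
      rw [this, ← map_pow]
      have : y.left ^ p = 1 := funext fun i => hexp _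
      rw [this, map_one]
    have hkσ : ∀ y ∈ (SemidirectProduct.rightHom : V ⋊[φ] G →* G).ker, y ^ p = 1 := by
      intro y hy
      rw [MonoidHom.mem_ker, SemidirectProduct.rightHom_eq_right] at hy
      have : y = SemidirectProduct.inl y.left := by
        ext <;> simp [hy]
      rw [this, ← map_pow, hexp, map_one]
    obtain ⟨h1, h2⟩ := orderOf_of_hom π hkπ x (isOfFinOrder_of_finite _)
    by_cases hx : x ^ orderOf (π x) = 1
    · rw [h1 hx]
      exact ⟨SemidirectProduct.inr (π x),
        orderOf_injective _ SemidirectProduct.inr_injective _⟩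
    · rw [h2 hx]
      have hright : (x ^ orderOf (π x)).right = 1 := by
        show π (x ^ orderOf (π x)) = 1
        rw [map_pow, pow_orderOf_eq_one]
      obtain ⟨i, hi⟩ : ∃ i, (x ^ orderOf (π x)).left i ≠ 1 := by
        by_contra hall
        push Not at hall
        exact hx (SemidirectProduct.ext (funext hall) hright)
      obtain ⟨-, h4⟩ := orderOf_of_hom SemidirectProduct.rightHom hkσ (piProj φ ι i x)
        (isOfFinOrder_of_finite _)
      refine ⟨piProj φ ι i x, h4 ?_⟩
      intro h
      apply hi
      have h' : piProj φ ι i (x ^ orderOf (π x)) = 1 := by rw [map_pow]; exact h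
      exact congrArg SemidirectProduct.left h'
  · rintro _ ⟨x, rfl⟩
    refine ⟨piConst φ ι x, orderOf_injective _ (fun a b hab => ?_) _⟩
    obtain ⟨i⟩ := ‹Nonempty ι›
    exact congrArg (piProj φ ι i) hab

/-- The workhorse: `V ⋊ G` with `V` non-trivial of prime exponent shares its element orders with
arbitrarily large finite groups. -/
theorem exists_large [Finite V] [Nontrivial V] [Finite G] {p : ℕ} [Fact p.Prime]
    (hexp : ∀ v : V, v ^ p = 1) (N : ℕ) :
    ∃ (H : Type) (_ : Group H) (_ : Fintype H), N < Fintype.card H ∧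
      Set.range (orderOf : H → ℕ) = Set.range (orderOf : V ⋊[φ] G → ℕ) := by
  have : Finite ((Fin (N + 1) → V) ⋊[piAut φ (Fin (N + 1))] G) :=
    Finite.of_equiv _ SemidirectProduct.equivProd.symm
  obtain ⟨H, i1, i2, ⟨e⟩⟩ := exists_type_zero (G := (Fin (N + 1) → V) ⋊[piAut φ (Fin (N + 1))] G)
  refine ⟨H, i1, i2, ?_, (range_orderOf_congr e).trans (range_orderOf_pi φ hexp)⟩
  rw [← Nat.card_eq_fintype_card, Nat.card_congr e.toEquiv, SemidirectProduct.card, Nat.card_fun,
    Nat.card_fin]
  calc N < 2 ^ (N + 1) := lt_trans (Nat.lt_succ_self N) (Nat.lt_two_pow_self)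
    _ ≤ Nat.card V ^ (N + 1) := Nat.pow_le_pow_left Finite.one_lt_card _
    _ ≤ Nat.card V ^ (N + 1) * Nat.card G := Nat.le_mul_of_pos_right _ Nat.card_pos

/-- For a normal elementary abelian `V ≤ G`, the group `V ⋊ G` has the element orders of `G`. -/
theorem range_orderOf_conj_semidirect [Finite G] (V : Subgroup G) [V.Normal] {p : ℕ} [Fact p.Prime]
    (hexp : ∀ x : V, x ^ p = 1) (hcomm : ∀ x y : V, x * y = y * x) :
    Set.range (orderOf : V ⋊[MulAut.conjNormal] G → ℕ) = Set.range (orderOf : G → ℕ) := by
  have key : ∀ g : G, (∀ v : V, g * (v : G) * g⁻¹ = ((MulAut.conjNormal g v : V) : G)) :=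
    fun g v => (MulAut.conjNormal_apply g v).symm
  let μ : V ⋊[MulAut.conjNormal] G →* G :=
    { toFun := fun x => (x.left : G) * x.right
      map_one' := by simp
      map_mul' := fun x y => by
        simp only [SemidirectProduct.mul_left, SemidirectProduct.mul_right, Subgroup.coe_mul,
          MulAut.conjNormal_apply]
        group }
  apply Set.Subset.antisymm
  · rintro _ ⟨x, rfl⟩
    set σ : V ⋊[MulAut.conjNormal] G →* G := SemidirectProduct.rightHom with hσ
    have hkσ : ∀ y ∈ σ.ker, y ^ p = 1 := by
      intro y hy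
      rw [MonoidHom.mem_ker, hσ, SemidirectProduct.rightHom_eq_right] at hy
      have : y = SemidirectProduct.inl y.left := by
        ext <;> simp [hy]
      rw [this, ← map_pow, hexp, map_one]
    obtain ⟨h1, h2⟩ := orderOf_of_hom σ hkσ x (isOfFinOrder_of_finite _)
    set n := orderOf (σ x) with hn
    by_cases hx : x ^ n = 1
    · exact ⟨σ x, (h1 hx).symm⟩
    rw [h2 hx]
    -- modulo `V` the element has order exactly `n`
    set g := σ x with hg
    set m := orderOf (QuotientGroup.mk' V g) with hm
    have hmn : m = n := by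
      by_contra hne
      apply hx
      have hgm : g ^ m ∈ V := by
        rw [← QuotientGroup.eq_one_iff, ← QuotientGroup.mk'_apply, map_pow, hm, pow_orderOf_eq_one]
      obtain ⟨-, h3⟩ := orderOf_of_hom (QuotientGroup.mk' V) (p := p)
        (fun y hy => by
          rw [QuotientGroup.ker_mk'] at hy
          exact congrArg Subtype.val (hexp ⟨y, hy⟩)) g (isOfFinOrder_of_finite _)
      have hgm1 : g ^ m ≠ 1 := by
        intro h
        exact hne (Nat.dvd_antisymm (orderOf_map_dvd _ g) (orderOf_dvd_of_pow_eq_one h))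
      have hnm : n = p * m := h3 hgm1
      rw [hnm, mul_comm, pow_mul]
      set y := x ^ m with hy
      have hyr : y.right = g ^ m := by
        show σ y = g ^ m
        rw [hy, map_pow]
      have hr : (⟨y.left, y.right⟩ : V ⋊[MulAut.conjNormal] G) =
          SemidirectProduct.inl y.left * SemidirectProduct.inr y.right :=
        (SemidirectProduct.inl_left_mul_inr_right _).symm
      have hcomm' : Commute (SemidirectProduct.inl y.left : V ⋊[MulAut.conjNormal] G)
          (SemidirectProduct.inr y.right) := by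
        refine SemidirectProduct.ext ?_ (by simp)
        simp only [SemidirectProduct.mul_left, SemidirectProduct.left_inl,
          SemidirectProduct.right_inl, SemidirectProduct.left_inr, SemidirectProduct.right_inr,
          map_one, mul_one, one_mul]
        apply Subtype.ext
        rw [MulAut.conjNormal_apply, hyr,
          show g ^ m * (y.left : G) = y.left * g ^ m from
            congrArg Subtype.val (hcomm ⟨g ^ m, hgm⟩ y.left), mul_inv_cancel_right]
      show (⟨y.left, y.right⟩ : V ⋊[MulAut.conjNormal] G) ^ p = 1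
      rw [hr, hcomm'.mul_pow, ← map_pow, ← map_pow, hexp, map_one, one_mul, hyr,
        show (g ^ m) ^ p = 1 from congrArg Subtype.val (hexp ⟨g ^ m, hgm⟩)]
      exact map_one _
    refine ⟨μ x, ?_⟩
    have hμ : QuotientGroup.mk' V (μ x) = QuotientGroup.mk' V g := by
      show QuotientGroup.mk' V ((x.left : G) * x.right) = _
      rw [map_mul, show QuotientGroup.mk' V (x.left : G) = 1 from (QuotientGroup.eq_one_iff _).2 x.left.2,
        one_mul]
      rfl
    obtain ⟨-, h5⟩ := orderOf_of_hom (QuotientGroup.mk' V) (p := p)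
      (fun y hy => by
        rw [QuotientGroup.ker_mk'] at hy
        exact congrArg Subtype.val (hexp ⟨y, hy⟩)) (μ x) (isOfFinOrder_of_finite _)
    rw [hμ, ← hm, hmn] at h5
    refine h5 ?_
    intro h
    apply hx
    have h' : μ (x ^ n) = 1 := by rw [map_pow, h]
    have hr : (x ^ n).right = 1 := by
      show σ (x ^ n) = 1
      rw [map_pow, hn, pow_orderOf_eq_one]
    refine SemidirectProduct.ext ?_ hr
    apply Subtype.ext
    show ((x ^ n).left : G) = _
    have : ((x ^ n).left : G) * (x ^ n).right = 1 := h'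
    rw [hr, mul_one] at this
    simpa using this
  · rintro _ ⟨g, rfl⟩
    exact ⟨SemidirectProduct.inr g, orderOf_injective _ SemidirectProduct.inr_injective _⟩

/-- A fixed-point-free action adds only the exponent to the element orders. -/
theorem range_orderOf_fpf [Finite G] [Finite V] [Nontrivial V] {p : ℕ} [Fact p.Prime]
    (hexp : ∀ v : V, v ^ p = 1) (hcomm : ∀ u v : V, u * v = v * u)
    (hfpf : ∀ g : G, g ≠ 1 → ∀ v : V, φ g v = v → v = 1) :
    Set.range (orderOf : V ⋊[φ] G → ℕ) = insert p (Set.range (orderOf : G → ℕ)) := by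
  have : Finite (V ⋊[φ] G) := Finite.of_equiv _ SemidirectProduct.equivProd.symm
  have hker : ∀ y ∈ (SemidirectProduct.rightHom : V ⋊[φ] G →* G).ker, y ^ p = 1 := by
    intro y hy
    rw [MonoidHom.mem_ker, SemidirectProduct.rightHom_eq_right] at hy
    have : y = SemidirectProduct.inl y.left := by
      ext <;> simp [hy]
    rw [this, ← map_pow, hexp, map_one]
  apply Set.Subset.antisymm
  · rintro _ ⟨z, rfl⟩
    obtain ⟨h1, h2⟩ := orderOf_of_hom SemidirectProduct.rightHom hker z (isOfFinOrder_of_finite _)
    set g := SemidirectProduct.rightHom z with hg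
    by_cases hz : z ^ orderOf g = 1
    · exact Or.inr ⟨g, (h1 hz).symm⟩
    · rw [h2 hz]
      by_cases hg1 : g = 1
      · rw [hg1, orderOf_one, mul_one]; exact Or.inl rfl
      · exfalso
        apply hz
        have hr : (z ^ orderOf g).right = 1 := by
          show SemidirectProduct.rightHom (z ^ orderOf g) = 1
          rw [map_pow, hg, pow_orderOf_eq_one]
        refine SemidirectProduct.ext (hfpf g hg1 _ ?_) hr
        have := congrArg SemidirectProduct.left (Commute.self_pow z (orderOf g)).eq
        rw [SemidirectProduct.mul_left, SemidirectProduct.mul_left, hr, map_one, MulAut.one_apply,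
          hcomm (z ^ orderOf g).left] at this
        exact mul_left_cancel this
  · rintro n (rfl | ⟨g, rfl⟩)
    · obtain ⟨v, hv⟩ := exists_ne (1 : V)
      exact ⟨SemidirectProduct.inl v,
        (orderOf_injective _ SemidirectProduct.inl_injective v).trans (orderOf_eq_prime (hexp v) hv)⟩
    · exact ⟨SemidirectProduct.inr g, orderOf_injective _ SemidirectProduct.inr_injective g⟩

end Cfsg.Agent.Recog
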