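import Mathlib

/-!
# Minimal normal subgroups and their simple factors
-/

namespace Cfsg.Agent.Recog

open Subgroup

/-- `N` is a minimal normal subgroup. -/
structure IsMinNormal {G : Type*} [Group G] (N : Subgroup G) : Prop where
  normal : N.Normal
  ne_bot : N ≠ ⊥
  minimal : ∀ M : Subgroup G, M.Normal → M ≤ N → M = ⊥ ∨ M = N

variable {G : Type*} [Group G]

theorem exists_isMinNormal_le [Finite G] {M : Subgroup G} (hM : M.Normal) (hM1 : M ≠ ⊥) :
    ∃ N : Subgroup G, IsMinNormal N ∧ N ≤ M := by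
  have hfin : ({N : Subgroup G | N.Normal ∧ N ≠ ⊥ ∧ N ≤ M}).Finite := Set.toFinite _
  obtain ⟨N, hN⟩ := hfin.exists_minimal ⟨M, hM, hM1, le_rfl⟩
  refine ⟨N, ⟨hN.1.1, hN.1.2.1, fun K hK hKN => ?_⟩, hN.1.2.2⟩
  by_cases h : K = ⊥
  · exact Or.inl h
  · exact Or.inr (le_antisymm hKN (hN.2 ⟨hK, h, hKN.trans hN.1.2.2⟩ hKN))

theorem exists_isMinNormal [Finite G] [Nontrivial G] : ∃ N : Subgroup G, IsMinNormal N := by
  obtain ⟨N, h, -⟩ := exists_isMinNormal_le (M := (⊤ : Subgroup G)) inferInstance top_ne_bot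
  exact ⟨N, h⟩

/-- A minimal normal abelian subgroup is elementary abelian. -/
theorem IsMinNormal.exists_prime_pow_eq_one [Finite G] {N : Subgroup G} (h : IsMinNormal N)
    (hc : IsMulCommutative N) : ∃ r : ℕ, r.Prime ∧ ∀ x ∈ N, x ^ r = 1 := by
  have hcomm : ∀ a ∈ N, ∀ b ∈ N, a * b = b * a := fun a ha b hb =>
    congrArg Subtype.val (hc.is_comm.comm ⟨a, ha⟩ ⟨b, hb⟩)
  have := h.normal
  obtain ⟨r, hr, hdvd⟩ := Nat.exists_prime_and_dvd
    (fun he : Nat.card N = 1 => h.ne_bot (Subgroup.card_eq_one.1 he))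
  have : Fact r.Prime := ⟨hr⟩
  let K : Subgroup G :=
    { carrier := {x | x ∈ N ∧ x ^ r = 1}
      one_mem' := ⟨one_mem N, one_pow r⟩
      mul_mem' := fun {a b} ha hb => ⟨mul_mem ha.1 hb.1, by
        rw [Commute.mul_pow (hcomm a ha.1 b hb.1), ha.2, hb.2, one_mul]⟩
      inv_mem' := fun {a} ha => ⟨inv_mem ha.1, by rw [inv_pow, ha.2, inv_one]⟩ }
  have hKn : K.Normal := ⟨fun x hx g => ⟨h.normal.conj_mem x hx.1 g, by rw [conj_pow, hx.2]; group⟩⟩
  obtain ⟨x, hx⟩ := exists_prime_orderOf_dvd_card' (G := N) r hdvd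
  have hxK : (x : G) ∈ K := ⟨x.2, by rw [← hx, ← Subgroup.coe_pow, pow_orderOf_eq_one]; rfl⟩
  have hKne : K ≠ ⊥ := by
    intro hb
    rw [hb, Subgroup.mem_bot] at hxK
    have : x = 1 := Subtype.ext hxK
    rw [this, orderOf_one] at hx
    exact hr.one_lt.ne hx
  rcases h.minimal K hKn (fun x hx => hx.1) with hb | hN
  · exact absurd hb hKne
  · exact ⟨r, hr, fun x hx => by rw [← hN] at hx; exact hx.2⟩

/-- A minimal normal subgroup of a group that is not commutative has trivial intersection with its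
centraliser. -/
theorem IsMinNormal.inf_centralizer {N : Subgroup G} (h : IsMinNormal N)
    (hc : ¬ IsMulCommutative N) : N ⊓ centralizer (N : Set G) = ⊥ := by
  have := h.normal
  rcases h.minimal (N ⊓ centralizer (N : Set G)) inferInstance inf_le_left with hb | hN
  · exact hb
  · exfalso
    apply hc
    refine ⟨⟨fun a b => ?_⟩⟩
    have hb : (b : G) ∈ centralizer (N : Set G) := (inf_eq_left.1 hN) b.2
    exact Subtype.ext (Subgroup.mem_centralizer_iff.1 hb a a.2)

/-- `T` is a factor of `N`: a minimal non-trivial subgroup of `N` normalised by `N`. -/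
structure IsFactor (N T : Subgroup G) : Prop where
  le : T ≤ N
  ne_bot : T ≠ ⊥
  conj_mem : ∀ n ∈ N, ∀ t ∈ T, n * t * n⁻¹ ∈ T
  minimal : ∀ K : Subgroup G, K ≤ T → K ≠ ⊥ → (∀ n ∈ N, ∀ k ∈ K, n * k * n⁻¹ ∈ K) → K = T

theorem exists_isFactor [Finite G] {N : Subgroup G} (hN : N ≠ ⊥) :
    ∃ T : Subgroup G, IsFactor N T := by
  have hfin : ({T : Subgroup G | T ≤ N ∧ T ≠ ⊥ ∧ ∀ n ∈ N, ∀ t ∈ T, n * t * n⁻¹ ∈ T}).Finite :=
    Set.toFinite _
  obtain ⟨T, hT⟩ := hfin.exists_minimal
    ⟨N, le_rfl, hN, fun n hn t ht => mul_mem (mul_mem hn ht) (inv_mem hn)⟩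
  exact ⟨T, hT.1.1, hT.1.2.1, hT.1.2.2, fun K hK hK1 hKn =>
    le_antisymm hK (hT.2 ⟨hK.trans hT.1.1, hK1, hKn⟩ hK)⟩

theorem IsFactor.le_normalizer {N T : Subgroup G} (h : IsFactor N T) :
    N ≤ normalizer (T : Set G) :=
  Subgroup.le_normalizer_iff.2 h.conj_mem

theorem IsFactor.inf_eq_bot {N T U : Subgroup G} (hT : IsFactor N T) (hU : IsFactor N U)
    (hne : T ≠ U) : T ⊓ U = ⊥ := by
  by_contra hb
  have hn : ∀ n ∈ N, ∀ k ∈ T ⊓ U, n * k * n⁻¹ ∈ T ⊓ U := fun n hn k hk =>
    ⟨hT.conj_mem n hn k hk.1, hU.conj_mem n hn k hk.2⟩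
  exact hne ((hT.minimal _ inf_le_left hb hn).symm.trans (hU.minimal _ inf_le_right hb hn))

theorem IsFactor.commute {N T U : Subgroup G} (hT : IsFactor N T) (hU : IsFactor N U)
    (hne : T ≠ U) {x y : G} (hx : x ∈ T) (hy : y ∈ U) : Commute x y := by
  have h1 : x * y * x⁻¹ * y⁻¹ ∈ T ⊓ U := by
    refine Subgroup.mem_inf.2 ⟨?_, ?_⟩
    · have := mul_mem hx (hT.conj_mem y (hU.le hy) _ (inv_mem hx))
      simpa [mul_assoc] using this
    · exact mul_mem (hU.conj_mem x (hT.le hx) y hy) (inv_mem hy)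
  rw [hT.inf_eq_bot hU hne, Subgroup.mem_bot] at h1
  show x * y = y * x
  calc x * y = x * y * x⁻¹ * y⁻¹ * (y * x) := by group
    _ = y * x := by rw [h1, one_mul]

theorem IsFactor.map_conj {N T : Subgroup G} (hN : N.Normal) (hT : IsFactor N T) (g : G) :
    IsFactor N (T.map (MulAut.conj g).toMonoidHom) := by
  have hmem : ∀ (S : Subgroup G) (a x : G), x ∈ S.map (MulAut.conj a).toMonoidHom ↔ a⁻¹ * x * a ∈ S := by
    intro S a x
    constructor
    · rintro ⟨s, hs, rfl⟩
      simpa [mul_assoc] using hs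
    · intro h
      exact ⟨_, h, by simp [mul_assoc]⟩
  refine ⟨?_, ?_, ?_, ?_⟩
  · intro x hx
    have := hN.conj_mem _ (hT.le ((hmem T g x).1 hx)) g
    simpa [mul_assoc] using this
  · intro hb
    exact hT.ne_bot ((Subgroup.map_eq_bot_iff_of_injective _ (MulAut.conj g).injective).1 hb)
  · intro n hn t ht
    rw [hmem] at ht ⊢
    have := hT.conj_mem (g⁻¹ * n * g) (by simpa using hN.conj_mem n hn g⁻¹) _ ht
    simpa [mul_assoc] using this
  · intro K hK hK1 hKn
    have hK' : K.map (MulAut.conj g⁻¹).toMonoidHom = T := by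
      refine hT.minimal _ ?_ ?_ ?_
      · intro x hx
        rw [hmem, inv_inv] at hx
        have := (hmem T g _).1 (hK hx)
        simpa [mul_assoc] using this
      · intro hb
        exact hK1 ((Subgroup.map_eq_bot_iff_of_injective _ (MulAut.conj g⁻¹).injective).1 hb)
      · intro n hn k hk
        rw [hmem, inv_inv] at hk ⊢
        have := hKn (g * n * g⁻¹) (hN.conj_mem n hn g) _ hk
        simpa [mul_assoc] using this
    apply le_antisymm hK
    intro x hx
    rw [hmem, ← hK', hmem, inv_inv] at hx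
    simpa [mul_assoc] using hx

/-- A minimal normal subgroup is generated by the conjugates of any of its factors. -/
theorem IsMinNormal.le_of_conj_le {N T : Subgroup G} (h : IsMinNormal N) (hT : IsFactor N T)
    {S : Subgroup G} (hS : ∀ g : G, T.map (MulAut.conj g).toMonoidHom ≤ S) : N ≤ S := by
  have := h.normal
  have hle : Subgroup.normalClosure (T : Set G) ≤ N := Subgroup.normalClosure_le_normal hT.le
  have heq : Subgroup.normalClosure (T : Set G) = N := by
    rcases h.minimal _ Subgroup.normalClosure_normal hle with hb | hN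
    · exact absurd (eq_bot_iff.2 (Subgroup.le_normalClosure.trans hb.le)) hT.ne_bot
    · exact hN
  rw [← heq, Subgroup.normalClosure, Subgroup.closure_le]
  intro x hx
  obtain ⟨t, ht, htx⟩ := Group.mem_conjugatesOfSet_iff.1 hx
  obtain ⟨g, hg⟩ := isConj_iff.1 htx
  exact hS g ⟨t, ht, by simpa using hg⟩

theorem IsMinNormal.le_sup_centralizer {N T : Subgroup G} (h : IsMinNormal N) (hT : IsFactor N T) :
    N ≤ T ⊔ centralizer (T : Set G) := by
  refine h.le_of_conj_le hT fun g => ?_
  by_cases he : T.map (MulAut.conj g).toMonoidHom = T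
  · rw [he]; exact le_sup_left
  · refine le_trans (fun y hy => ?_) le_sup_right
    exact Subgroup.mem_centralizer_iff.2 fun x hx => hT.commute (hT.map_conj h.normal g) (Ne.symm he) hx hy

/-- Every element of a minimal normal subgroup is the product of an element of a given factor and of
an element centralising that factor. -/
theorem IsMinNormal.exists_eq_mul {N T : Subgroup G} (h : IsMinNormal N) (hT : IsFactor N T)
    {n : G} (hn : n ∈ N) : ∃ t ∈ T, ∃ c ∈ centralizer (T : Set G), n = t * c := by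
  have hle : centralizer (T : Set G) ≤ normalizer (T : Set G) := by
    refine Subgroup.le_normalizer_iff.2 fun c hc t ht => ?_
    rw [← Subgroup.mem_centralizer_iff.1 hc t ht]
    simpa using ht
  have := h.le_sup_centralizer hT hn
  rw [sup_comm, ← SetLike.mem_coe, Subgroup.coe_mul_of_left_le_normalizer_right _ _ hle] at this
  obtain ⟨c, hc, t, ht, rfl⟩ := this
  exact ⟨t, ht, c, hc, (Subgroup.mem_centralizer_iff.1 hc t ht).symm⟩

theorem IsMinNormal.not_commutative_factor {N T : Subgroup G} (h : IsMinNormal N)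
    (hT : IsFactor N T) (hc : ¬ IsMulCommutative N) : ¬ IsMulCommutative T := by
  intro hTc
  have hTN : ∀ g, T.map (MulAut.conj g).toMonoidHom ≤ centralizer (T : Set G) := by
    intro g y hy
    refine Subgroup.mem_centralizer_iff.2 fun x hx => ?_
    by_cases he : T.map (MulAut.conj g).toMonoidHom = T
    · rw [he] at hy
      exact congrArg Subtype.val (hTc.is_comm.comm ⟨x, hx⟩ ⟨y, hy⟩)
    · exact hT.commute (hT.map_conj h.normal g) (Ne.symm he) hx hy
  have hle := h.le_of_conj_le hT hTN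
  have hb : T ≤ N ⊓ centralizer (N : Set G) := le_inf hT.le fun t ht =>
    Subgroup.mem_centralizer_iff.2 fun n hn => (Subgroup.mem_centralizer_iff.1 (hle hn) t ht).symm
  rw [h.inf_centralizer hc] at hb
  exact hT.ne_bot (eq_bot_iff.2 hb)

/-- The factors of a non-commutative minimal normal subgroup are simple. -/
theorem IsMinNormal.isSimpleGroup_factor {N T : Subgroup G} (h : IsMinNormal N)
    (hT : IsFactor N T) : IsSimpleGroup T := by
  have : Nontrivial T := (Subgroup.nontrivial_iff_ne_bot T).2 hT.ne_bot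
  refine ⟨fun K hK => ?_⟩
  by_cases hKb : K = ⊥
  · exact Or.inl hKb
  · right
    have hinj : Function.Injective T.subtype := T.subtype_injective
    have hKne : K.map T.subtype ≠ ⊥ := fun hb =>
      hKb ((Subgroup.map_eq_bot_iff_of_injective _ hinj).1 hb)
    have hnorm : ∀ n ∈ N, ∀ k ∈ K.map T.subtype, n * k * n⁻¹ ∈ K.map T.subtype := by
      intro n hn k hk
      obtain ⟨t, ht, c, hc, rfl⟩ := h.exists_eq_mul hT hn
      obtain ⟨k', hk', rfl⟩ := hk
      have hck : c * (k' : G) * c⁻¹ = k' := by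
        rw [← Subgroup.mem_centralizer_iff.1 hc _ k'.2]; group
      refine ⟨⟨t, ht⟩ * k' * ⟨t, ht⟩⁻¹, hK.conj_mem k' hk' _, ?_⟩
      calc T.subtype (⟨t, ht⟩ * k' * ⟨t, ht⟩⁻¹) = t * (c * (k' : G) * c⁻¹) * t⁻¹ := by
            rw [hck]; simp
        _ = t * c * T.subtype k' * (t * c)⁻¹ := by simp [mul_assoc]
    have := hT.minimal _ (Subgroup.map_subtype_le K) hKne hnorm
    apply Subgroup.map_injective hinj
    rw [this, ← MonoidHom.range_eq_map, Subgroup.range_subtype]

/-- A non-abelian simple finite group is not a `p`-group: it has elements of two prime orders. -/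
theorem exists_prime_orderOf_ne {T : Subgroup G} [Finite T] (hs : IsSimpleGroup T)
    (hc : ¬ IsMulCommutative T) (p : ℕ) : ∃ y ∈ T, (orderOf y).Prime ∧ orderOf y ≠ p := by
  by_contra hne
  push Not at hne
  have hdiv : ∀ q : ℕ, q.Prime → q ∣ Nat.card T → q = p := by
    intro q hq hd
    have : Fact q.Prime := ⟨hq⟩
    obtain ⟨y, hy⟩ := exists_prime_orderOf_dvd_card' (G := T) q hd
    rw [← Subgroup.orderOf_coe] at hy
    rw [← hy]
    exact hne _ y.2 (hy ▸ hq)
  obtain ⟨q, hq, hqd⟩ := Nat.exists_prime_and_dvd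
    (fun he : Nat.card T = 1 => by
      have := hs.toNontrivial
      exact absurd he (Finite.one_lt_card (α := T)).ne')
  have : Fact q.Prime := ⟨hq⟩
  have hpq := hdiv q hq hqd
  have hP : IsPGroup q T := by
    exact IsPGroup.of_card (Nat.eq_prime_pow_of_unique_prime_dvd Nat.card_pos.ne'
      fun {d} hd hdd => (hdiv d hd hdd).trans hpq.symm)
  have := hs.toNontrivial
  have := hP.center_nontrivial
  rcases hs.eq_bot_or_eq_top_of_normal (Subgroup.center T) inferInstance with hb | htop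
  · exact (Subgroup.nontrivial_iff_ne_bot _).1 inferInstance hb
  · apply hc
    refine ⟨⟨fun a b => ?_⟩⟩
    exact (Subgroup.mem_center_iff.1 (htop ▸ Subgroup.mem_top b : b ∈ Subgroup.center T) a)

end Cfsg.Agent.Recog
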