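import Mathlib
import Cfsg.Prelude.Def_CaseTheorems

/-! Two-subgroups of order sixteen in `GL(2,3)`. -/

set_option autoImplicit false

namespace Cfsg.Agent.Recog.GL23

abbrev M := GL (Fin 2) (ZMod 3)

def x : M := ⟨!![0, 1; 1, 1], !![2, 1; 1, 0], by decide, by decide⟩
def y : M := ⟨!![1, 1; 0, 2], !![1, 1; 0, 2], by decide, by decide⟩

theorem x_order : orderOf x = 8 := by
  have : Fact (Nat.Prime 2) := ⟨Nat.prime_two⟩
  exact orderOf_eq_prime_pow (p := 2) (n := 2) (by decide +kernel) (by decide +kernel)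

/-- the normaliser of the cyclic group generated by `x` -/
def S : Subgroup M where
  carrier := {g | g * x = x * g ∨ g * x = x ^ 3 * g}
  one_mem' := Or.inl (by simp)
  mul_mem' := by
    have h9 : (x ^ 3) ^ 3 = x := by decide +kernel
    rintro a b ha hb
    have h3 : ∀ c : M, ∀ z : M, c * x = z * c → c * x ^ 3 = z ^ 3 * c := by
      intro c z h
      exact (SemiconjBy.pow_right (show SemiconjBy c x z from h) 3).eq
    rcases ha with ha | ha <;> rcases hb with hb | hb
    · exact Or.inl (by rw [mul_assoc, hb, ← mul_assoc, ha, mul_assoc])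
    · exact Or.inr (by rw [mul_assoc, hb, ← mul_assoc, h3 a x ha, mul_assoc])
    · exact Or.inr (by rw [mul_assoc, hb, ← mul_assoc, ha, mul_assoc])
    · exact Or.inl (by rw [mul_assoc, hb, ← mul_assoc, h3 a _ ha, h9, mul_assoc])
  inv_mem' := by
    have h9 : (x ^ 3) ^ 3 = x := by decide +kernel
    rintro a (ha | ha)
    · exact Or.inl (by rw [inv_mul_eq_iff_eq_mul, ← mul_assoc, ha, mul_inv_cancel_right])
    · have h3 := (SemiconjBy.pow_right (show SemiconjBy a x (x ^ 3) from ha) 3).eq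
      rw [h9] at h3
      exact Or.inr (by rw [inv_mul_eq_iff_eq_mul, ← mul_assoc, h3, mul_inv_cancel_right])

instance (g : M) : Decidable (g ∈ S) := inferInstanceAs (Decidable (_ ∨ _))

theorem card_S : Nat.card S = 16 := by
  rw [Nat.card_eq_fintype_card, Fintype.card_subtype]
  decide +kernel

theorem card_M : Nat.card M = 48 := by
  rw [Nat.card_eq_fintype_card]
  decide +kernel

theorem S_quasiDihedral : Cfsg.IsQuasiDihedral S := by
  refine ⟨3, le_rfl, by rw [card_S]; rfl, ⟨x, Or.inl rfl⟩, ⟨y, Or.inr (by decide +kernel)⟩, ?_, ?_, ?_⟩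
  · rw [← Subgroup.orderOf_coe]; exact x_order
  · rw [← Subgroup.orderOf_coe]
    exact orderOf_eq_prime (by decide +kernel) (by decide +kernel)
  · apply Subtype.ext
    show y * x * y⁻¹ = x ^ (2 ^ (3 - 1) - 1)
    decide +kernel

theorem iso_of_card_sixteen (P : Subgroup M) (hP : Nat.card P = 16) : Nonempty (P ≃* S) := by
  have : Fact (Nat.Prime 2) := ⟨Nat.prime_two⟩
  have hf : (Nat.card M).factorization 2 = 4 := by
    rw [card_M, show 48 = 2 ^ 4 * 3 by rfl, Nat.factorization_mul (by norm_num) (by norm_num)]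
    rw [Finsupp.add_apply, Nat.Prime.factorization_pow Nat.prime_two, Finsupp.single_eq_same,
      Nat.factorization_eq_zero_of_not_dvd (by norm_num : ¬ 2 ∣ 3)]
  let P' : Sylow 2 M := Sylow.ofCard P (by rw [hP, hf]; rfl)
  let S' : Sylow 2 M := Sylow.ofCard S (by rw [card_S, hf]; rfl)
  exact ⟨Sylow.equiv P' S'⟩

theorem quasiDihedral_of_card_sixteen (P : Subgroup M) (hP : Nat.card P = 16) : Cfsg.IsQuasiDihedral P := by
  obtain ⟨e⟩ := iso_of_card_sixteen P hP
  obtain ⟨n, hn, hc, a, b, ha, hb, hab⟩ := S_quasiDihedral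
  refine ⟨n, hn, (Nat.card_congr e.toEquiv).trans hc, e.symm a, e.symm b, ?_, ?_, ?_⟩
  · rw [MulEquiv.orderOf_eq, ha]
  · rw [MulEquiv.orderOf_eq, hb]
  · rw [← map_inv, ← map_mul, ← map_mul, hab, map_pow]

end Cfsg.Agent.Recog.GL23
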