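import Cfsg.Agent.Lib.Recog.JankoOneCheck
import Cfsg.Prelude.Def_Spor_J1

/-!
# Element orders of the first Janko group
-/

set_option autoImplicit false

namespace Cfsg.Agent.Recog.JankoOne

open PackedEleven

local notation "GLJ" => GL (Fin 7) (ZMod 11)

theorem small_repMat (i : ℕ) : Small (repMat i) := small_spread _

theorem small_subMat (k : ℕ) : Small (subMat k) := small_spread _

theorem one_val : toMat one = 1 := by decide +kernel

theorem repMat_zero : toMat (repMat 0) = 1 := by decide +kernel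

theorem subMat_zero : toMat (subMat 0) = 1 := by decide +kernel

theorem genX_val : toMat genX = (Spor.jankoX : GLJ).val := by decide +kernel

theorem genY_val : toMat genY = (Spor.jankoY : GLJ).val := by decide +kernel

theorem beq_eq {a b : ℕ} (h : Nat.beq a b = true) : a = b := Nat.eq_of_beq_eq_true h

theorem blt_lt {a b : ℕ} (h : Nat.blt a b = true) : a < b := Nat.le_of_ble_eq_true h

theorem mul_eq_of_beq {a b c d : ℕ} (ha : Small a) (hb : Small b) (hc : Small c) (hd : Small d)
    (h : Nat.beq (mul a b) (mul c d) = true) : toMat a * toMat b = toMat c * toMat d := by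
  rw [← toMat_mul ha hb, ← toMat_mul hc hd, beq_eq h]

theorem edges_spec (i : ℕ) (hi : i < 1596) :
    (∃ j < 1596, ∃ k < 110, toMat genX * toMat (repMat i) = toMat (repMat j) * toMat (subMat k)) ∧
    (∃ j < 1596, ∃ k < 110, toMat genY * toMat (repMat i) = toMat (repMat j) * toMat (subMat k)) := by
  have h := edges_check i (by omega)
  simp only [edgesOk, edgeOk, Bool.and_eq_true] at h
  obtain ⟨⟨a1, a2, a3⟩, b1, b2, b3⟩ := h
  exact ⟨⟨_, blt_lt a1, _, blt_lt a2,
      mul_eq_of_beq (small_spread _) (small_repMat _) (small_repMat _) (small_subMat _) a3⟩,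
    ⟨_, blt_lt b1, _, blt_lt b2,
      mul_eq_of_beq (small_spread _) (small_repMat _) (small_repMat _) (small_subMat _) b3⟩⟩

theorem sub_mul (k l : ℕ) (hk : k < 110) (hl : l < 110) :
    ∃ m < 110, toMat (subMat k) * toMat (subMat l) = toMat (subMat m) := by
  induction k using Nat.strong_induction_on generalizing l with
  | _ k ih =>
    by_cases h0 : k = 0
    · exact ⟨l, hl, by rw [h0, subMat_zero, one_mul]⟩
    have hk0 : Nat.beq k 0 = false := by
      cases e : Nat.beq k 0 with
      | false => rfl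
      | true => exact absurd (beq_eq e) h0
    have h := allBelow_spec 20 0 110 sub_check k (Nat.zero_le _) (by omega)
    simp only [subOk, Bool.and_eq_true, hk0, Bool.false_or] at h
    obtain ⟨-, -, hp, hpar⟩ := h
    set i := parent.get k / 2 with hi
    have hi' := blt_lt hp
    have hI := allBelow_spec 20 0 110 sub_check i (Nat.zero_le _) (by omega)
    simp only [subOk, Bool.and_eq_true] at hI
    obtain ⟨⟨-, hA⟩, ⟨-, hB⟩, -⟩ := hI
    obtain ⟨m, hm, hme⟩ := ih i hi' l (by omega) hl
    have hM := allBelow_spec 20 0 110 sub_check m (Nat.zero_le _) (by omega)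
    simp only [subOk, Bool.and_eq_true] at hM
    obtain ⟨⟨hA1, hA2⟩, ⟨hB1, hB2⟩, -⟩ := hM
    cases hc : Nat.beq (parent.get k % 2) 0
    · simp only [hc, cond_false] at hpar
      refine ⟨_, blt_lt hB1, ?_⟩
      rw [← beq_eq hB2, toMat_mul (small_subMat _) (small_subMat _), ← hme, ← mul_assoc]
      congr 1
      rw [← toMat_mul (small_subMat _) (small_subMat _), beq_eq hB, beq_eq hpar]
    · simp only [hc, cond_true] at hpar
      refine ⟨_, blt_lt hA1, ?_⟩
      rw [← beq_eq hA2, toMat_mul (small_subMat _) (small_subMat _), ← hme, ← mul_assoc]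
      congr 1
      rw [← toMat_mul (small_subMat _) (small_subMat _), beq_eq hA, beq_eq hpar]

theorem orbit_spec (i : ℕ) (hi : i < 1596) : ∃ r < 19, ∃ c < 110, ∃ d < 110,
    toMat (subMat c) * toMat (repMat (subReps.get r)) = toMat (repMat i) * toMat (subMat d) := by
  have h := orbit_check i (by omega)
  simp only [orbitOk, Bool.and_eq_true] at h
  obtain ⟨h1, h2, h3, h4⟩ := h
  exact ⟨_, blt_lt h1, _, blt_lt h2, _, blt_lt h3,
    mul_eq_of_beq (small_subMat _) (small_repMat _) (small_repMat _) (small_subMat _) h4⟩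

theorem powOk_spec {n g : ℕ} (hg : Small g) (h : powOk n g = true) :
    (n = 6 ∨ n = 7 ∨ n = 10 ∨ n = 11 ∨ n = 15 ∨ n = 19) ∧ toMat g ^ n = 1 := by
  set M := toMat g with hM
  have step : ∀ {a b : ℕ} {i j : ℕ}, (Small a ∧ toMat a = M ^ i) → (Small b ∧ toMat b = M ^ j) →
      Small (mul a b) ∧ toMat (mul a b) = M ^ (i + j) := fun ha hb =>
    ⟨small_mul ha.1 hb.1, by rw [toMat_mul ha.1 hb.1, ha.2, hb.2, pow_add]⟩
  have g1 : Small g ∧ toMat g = M ^ 1 := ⟨hg, by rw [pow_one]⟩
  have fin : ∀ {a i : ℕ}, (Small a ∧ toMat a = M ^ i) → Nat.beq a one = true → M ^ i = 1 :=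
    fun ha hb => by rw [← ha.2, beq_eq hb, one_val]
  have g2 := step g1 g1
  have g3 := step g2 g1
  have g4 := step g2 g2
  have g5 := step g4 g1
  have g6 := step g3 g3
  have g8 := step g4 g4
  have g9 := step g8 g1
  have g10 := step g5 g5
  have g12 := step g6 g6
  have g18 := step g9 g9
  simp only [powOk, force_eq] at h
  cases e6 : Nat.beq n 6
  · cases e7 : Nat.beq n 7
    · cases e10 : Nat.beq n 10
      · cases e11 : Nat.beq n 11
        · cases e15 : Nat.beq n 15
          · cases e19 : Nat.beq n 19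
            · simp [e6, e7, e10, e11, e15, e19] at h
            · simp only [e6, e7, e10, e11, e15, e19, cond_true, cond_false] at h
              obtain rfl := beq_eq e19
              exact ⟨by simp, fin (step g18 g1) h⟩
          · simp only [e6, e7, e10, e11, e15, cond_true, cond_false] at h
            obtain rfl := beq_eq e15
            exact ⟨by simp, fin (step g12 g3) h⟩
        · simp only [e6, e7, e10, e11, cond_true, cond_false] at h
          obtain rfl := beq_eq e11
          exact ⟨by simp, fin (step g10 g1) h⟩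
      · simp only [e6, e7, e10, cond_true, cond_false] at h
        obtain rfl := beq_eq e10
        exact ⟨by simp, fin g10 h⟩
    · simp only [e6, e7, cond_true, cond_false] at h
      obtain rfl := beq_eq e7
      exact ⟨by simp, fin (step g6 g1) h⟩
  · simp only [e6, cond_true] at h
    obtain rfl := beq_eq e6
    exact ⟨by simp, fin g6 h⟩

theorem cand_spec {r l : ℕ} (hr : r < 19) (hl : l < 110) :
    ∃ n ∈ ({6, 7, 10, 11, 15, 19} : Finset ℕ),
      (toMat (repMat (subReps.get r)) * toMat (subMat l)) ^ n = 1 := by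
  have h := cand_check (r * 110 + l) (by omega)
  simp only [candOk, cand] at h
  rw [show (r * 110 + l) / 110 = r by omega, show (r * 110 + l) % 110 = l by omega] at h
  obtain ⟨hn, hp⟩ := powOk_spec (small_mul (small_repMat _) (small_subMat _)) h
  rw [toMat_mul (small_repMat _) (small_subMat _)] at hp
  exact ⟨_, by simp only [Finset.mem_insert, Finset.mem_singleton]; exact hn, hp⟩

theorem inv_pow {x : GLJ} : x ^ (orderOf x - 1) = x⁻¹ := by
  refine eq_inv_of_mul_eq_one_left ?_
  rw [← pow_succ, Nat.sub_add_cancel (orderOf_pos x), pow_orderOf_eq_one]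

theorem exists_form {g : GLJ} (hg : g ∈ Spor.J1) :
    ∃ i < 1596, ∃ k < 110, g.val = toMat (repMat i) * toMat (subMat k) := by
  let S : Submonoid GLJ :=
    { carrier := {g | ∀ i < 1596, ∀ k < 110, ∃ j < 1596, ∃ l < 110,
        g.val * (toMat (repMat i) * toMat (subMat k)) = toMat (repMat j) * toMat (subMat l)}
      one_mem' := fun i hi k hk => ⟨i, hi, k, hk, by rw [Units.val_one, one_mul]⟩
      mul_mem' := fun {a b} ha hb i hi k hk => by
        obtain ⟨j, hj, l, hl, h⟩ := hb i hi k hk
        obtain ⟨j', hj', l', hl', h'⟩ := ha j hj l hl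
        exact ⟨j', hj', l', hl', by rw [Units.val_mul, mul_assoc, h, h']⟩ }
  suffices g ∈ S by
    obtain ⟨j, hj, l, hl, h⟩ := this 0 (by norm_num) 0 (by norm_num)
    rw [repMat_zero, subMat_zero, mul_one, mul_one] at h
    exact ⟨j, hj, l, hl, h⟩
  induction hg using Subgroup.closure_induction with
  | mem x hx =>
    intro i hi k hk
    obtain ⟨hX, hY⟩ := edges_spec i hi
    rcases hx with rfl | rfl
    · obtain ⟨j, hj, m, hm, h⟩ := hX
      obtain ⟨l, hl, hl'⟩ := sub_mul m k hm hk
      exact ⟨j, hj, l, hl, by rw [← genX_val, ← mul_assoc, h, mul_assoc, hl']⟩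
    · obtain ⟨j, hj, m, hm, h⟩ := hY
      obtain ⟨l, hl, hl'⟩ := sub_mul m k hm hk
      exact ⟨j, hj, l, hl, by rw [← genY_val, ← mul_assoc, h, mul_assoc, hl']⟩
  | one => exact one_mem S
  | mul x y _ _ hx hy => exact mul_mem hx hy
  | inv x _ hx => exact inv_pow ▸ pow_mem hx _

theorem subMat_inv (k : ℕ) (hk : k < 110) :
    ∃ l < 110, toMat (subMat l) * toMat (subMat k) = 1 := by
  classical
  let T : Submonoid (Matrix (Fin 7) (Fin 7) (ZMod 11)) :=
    { carrier := {M | ∃ m < 110, M = toMat (subMat m)}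
      one_mem' := ⟨0, by norm_num, subMat_zero.symm⟩
      mul_mem' := fun {a b} ⟨m, hm, ha⟩ ⟨n, hn, hb⟩ => by
        obtain ⟨q, hq, h⟩ := sub_mul m n hm hn
        exact ⟨q, hq, by rw [ha, hb, h]⟩ }
  obtain ⟨n, hn, hp⟩ : ∃ n, 0 < n ∧ toMat (subMat k) ^ n = 1 := by
    have h := allBelow_spec 20 0 110 sub_pow_check k (Nat.zero_le _) (by omega)
    simp only [Bool.or_eq_true] at h
    rcases h with h | h
    · exact ⟨10, by norm_num, (powOk_spec (small_subMat k) h).2⟩
    · exact ⟨11, by norm_num, (powOk_spec (small_subMat k) h).2⟩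
  obtain ⟨m, hm, he⟩ : toMat (subMat k) ^ (n - 1) ∈ T :=
    pow_mem (show toMat (subMat k) ∈ T from ⟨k, hk, rfl⟩) _
  refine ⟨m, hm, ?_⟩
  rw [← he, ← pow_succ, Nat.sub_add_cancel hn, hp]

/-- Every element of `J1` has order dividing one of six numbers. -/
theorem exists_pow_eq_one (g : Spor.J1) :
    ∃ n ∈ ({6, 7, 10, 11, 15, 19} : Finset ℕ), g ^ n = 1 := by
  obtain ⟨i, hi, k, hk, hg⟩ := exists_form g.2
  obtain ⟨r, hr, c, hc, d, hd, h⟩ := orbit_spec i hi
  obtain ⟨d', hd', hdd⟩ := subMat_inv d hd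
  obtain ⟨m, hm, hm'⟩ := sub_mul d' k hd' hk
  obtain ⟨l, hl, hl'⟩ := sub_mul m c hm hc
  obtain ⟨n, hn, hp⟩ := cand_spec hr hl
  refine ⟨n, hn, ?_⟩
  set A := toMat (subMat c)
  set R := toMat (repMat (subReps.get r))
  obtain ⟨c', hc', hcc⟩ := subMat_inv c hc
  have hcc' : A * toMat (subMat c') = 1 := mul_eq_one_comm.1 hcc
  have hdd' : toMat (subMat d) * toMat (subMat d') = 1 := mul_eq_one_comm.1 hdd
  have hconj : (g : GLJ).val * A = A * (R * toMat (subMat l)) := by
    rw [hg, ← mul_assoc A, h, ← hl', ← hm']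
    simp only [mul_assoc]
    rw [← mul_assoc (toMat (subMat d)) (toMat (subMat d')), hdd', one_mul]
  have hpow : ∀ j, (g : GLJ).val ^ j * A = A * (R * toMat (subMat l)) ^ j := by
    intro j
    induction j with
    | zero => simp
    | succ j ih => rw [pow_succ, mul_assoc, hconj, ← mul_assoc, ih, mul_assoc, ← pow_succ]
  apply Subtype.ext
  apply Units.ext
  rw [SubgroupClass.coe_pow, Units.val_pow_eq_pow_val, Subgroup.coe_one, Units.val_one]
  calc (g : GLJ).val ^ n = (g : GLJ).val ^ n * (A * toMat (subMat c')) := by rw [hcc', mul_one]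
    _ = 1 := by rw [← mul_assoc, hpow, hp, mul_one, hcc']

end Cfsg.Agent.Recog.JankoOne
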