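import Mathlib

/-! Schur's theorem on groups with a regular cyclic subgroup. -/

set_option autoImplicit false

namespace Cfsg.Agent.Recog.SchurCyclic

open MulAction

variable {G Ω : Type*} [Group G] [MulAction G Ω] (C : Subgroup G) (ω : Ω)

def InvF {R : Type*} (f : C → R) : Prop :=
  ∀ g : G, g • ω = ω → ∀ x y : C, g • ((x : G) • ω) = (y : G) • ω → f x = f y

def InvS (S : Set C) : Prop := InvF C ω (fun x => x ∈ S)

theorem rel {R : Type*} {f : C → R} (hf : InvF C ω f) {k : G} {a b a' b' : C}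
    (ha : k • ((a : G) • ω) = (a' : G) • ω) (hb : k • ((b : G) • ω) = (b' : G) • ω) :
    f (a⁻¹ * b) = f (a'⁻¹ * b') := by
  refine hf ((a' : G)⁻¹ * k * a) (by rw [mul_smul, mul_smul, ha, inv_smul_smul]) _ _ ?_
  rw [Subgroup.coe_mul, Subgroup.coe_mul, Subgroup.coe_inv, Subgroup.coe_inv, ← mul_smul, mul_assoc (_ * k),
    mul_inv_cancel_left, mul_smul, mul_smul, hb, ← mul_smul]

variable (hbij : Function.Bijective (fun x : C => (x : G) • ω))

include hbij

theorem invF_inv {R : Type*} {f : C → R} (hf : InvF C ω f) : InvF C ω (fun x => f x⁻¹) := by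
  intro g hg x y h
  have := rel C ω hf (k := g) (a := x) (b := 1) (a' := y) (b' := 1) h (by simpa using hg)
  simpa using this

theorem invF_conv [Fintype C] {R : Type*} [CommSemiring R] {f h : C → R} (hf : InvF C ω f) (hh : InvF C ω h) :
    InvF C ω (fun x => ∑ z, f z * h (z⁻¹ * x)) := by
  intro g hg x y hxy
  let e : C ≃ Ω := Equiv.ofBijective _ hbij
  let σ : C ≃ C := e.trans ((MulAction.toPerm g).trans e.symm)
  have hσ : ∀ z : C, g • ((z : G) • ω) = (σ z : G) • ω := fun z =>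
    (e.apply_symm_apply (g • e z)).symm
  refine Fintype.sum_equiv σ _ _ fun z => ?_
  rw [hf g hg z (σ z) (hσ z), rel C ω hh (hσ z) hxy]

theorem invS_orbit (x : C) : InvS C ω {y | ∃ g : G, g • ω = ω ∧ g • ((x : G) • ω) = (y : G) • ω} := by
  intro g hg a b hab
  refine propext ⟨fun ⟨k, hk, hka⟩ => ⟨g * k, by rw [mul_smul, hk, hg], by rw [mul_smul, hka, hab]⟩,
    fun ⟨k, hk, hkb⟩ => ⟨g⁻¹ * k, by rw [mul_smul, hk, inv_smul_eq_iff, hg], by rw [mul_smul, hkb, ← hab, inv_smul_smul]⟩⟩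

theorem invS_stab {S : Set C} (hS : InvS C ω S) : InvS C ω {x | ∀ z, x * z ∈ S ↔ z ∈ S} := by
  have key : ∀ g : G, g • ω = ω → ∀ x y : C, g • ((x : G) • ω) = (y : G) • ω →
      (∀ z, x * z ∈ S ↔ z ∈ S) → ∀ z, y * z ∈ S ↔ z ∈ S := by
    intro g hg x y hxy hx z
    obtain ⟨z', hz'⟩ := hbij.2 (g⁻¹ • (((y * z : C) : G) • ω))
    have hz'' : g • ((z' : G) • ω) = ((y * z : C) : G) • ω := by
      rw [show (z' : G) • ω = g⁻¹ • (((y * z : C) : G) • ω) from hz', smul_inv_smul]
    have h1 : (x⁻¹ * z' ∈ S) = (y⁻¹ * (y * z) ∈ S) := rel C ω hS hxy hz''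
    have h2 : (z' ∈ S) = (y * z ∈ S) := hS g hg z' (y * z) hz''
    have h3 := hx (x⁻¹ * z')
    rw [mul_inv_cancel_left, h2, h1, inv_mul_cancel_left] at h3
    exact h3
  intro g hg x y hxy
  exact propext ⟨key g hg x y hxy, key g⁻¹ (by rw [inv_smul_eq_iff, hg]) y x (by rw [← hxy, inv_smul_smul])⟩

theorem invS_closure [Finite C] {U : Set C} (hU : InvS C ω U) : InvS C ω (Subgroup.closure U : Set C) := by
  have key : ∀ a ∈ Subgroup.closure U, ∀ g : G, g • ω = ω → ∀ b : C, g • ((a : G) • ω) = (b : G) • ω →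
      b ∈ Subgroup.closure U := by
    intro a ha
    induction ha using Subgroup.closure_induction_right with
    | one =>
      intro g hg b hb
      have : (b : G) • ω = ((1 : C) : G) • ω := by rw [← hb, Subgroup.coe_one, one_smul, hg]
      rw [hbij.1 this]
      exact one_mem _
    | mul_right a ha u hu ih =>
      intro g hg b hb
      obtain ⟨a', ha'⟩ := hbij.2 (g • ((a : G) • ω))
      have h1 := ih g hg a' ha'.symm
      have h2 : (a⁻¹ * (a * u) ∈ U) = (a'⁻¹ * b ∈ U) := rel C ω hU ha'.symm hb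
      rw [inv_mul_cancel_left] at h2
      have := mul_mem h1 (Subgroup.subset_closure (h2 ▸ hu))
      rwa [mul_inv_cancel_left] at this
    | mul_inv_cancel a ha u hu ih =>
      intro g hg b hb
      obtain ⟨a', ha'⟩ := hbij.2 (g • ((a : G) • ω))
      have h1 := ih g hg a' ha'.symm
      have h2 : ((a * u⁻¹)⁻¹ * a ∈ U) = (b⁻¹ * a' ∈ U) := rel C ω hU hb ha'.symm
      rw [mul_inv_rev, inv_inv, inv_mul_cancel_right] at h2
      have := mul_mem h1 (inv_mem (Subgroup.subset_closure (h2 ▸ hu)))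
      rwa [mul_inv_rev, inv_inv, mul_inv_cancel_left] at this
  intro g hg x y hxy
  exact propext ⟨fun hx => key x hx g hg y hxy,
    fun hy => key y hy g⁻¹ (by rw [inv_smul_eq_iff, hg]) x (by rw [← hxy, inv_smul_smul])⟩

theorem invariant_subgroup [hp : IsPreprimitive G Ω] {K : Subgroup C} (hK : InvS C ω (K : Set C)) :
    K = ⊥ ∨ K = ⊤ := by
  set B : Set Ω := (fun x : C => (x : G) • ω) '' (K : Set C) with hB
  have key : ∀ g : G, ∀ a ∈ K, ∀ b ∈ K, g • ((a : G) • ω) = (b : G) • ω → ∀ c ∈ K, g • ((c : G) • ω) ∈ B := by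
    intro g a ha b hb hab c hc
    obtain ⟨d, hd⟩ := hbij.2 (g • ((c : G) • ω))
    refine ⟨d, ?_, hd⟩
    have h1 : (a⁻¹ * c ∈ (K : Set C)) = (b⁻¹ * d ∈ (K : Set C)) := rel C ω hK hab hd.symm
    have : b⁻¹ * d ∈ K := h1 ▸ (mul_mem (inv_mem ha) hc : a⁻¹ * c ∈ (K : Set C))
    simpa using mul_mem hb this
  have hblock : IsBlock G B := by
    rw [isBlock_iff_smul_eq_of_nonempty]
    rintro g ⟨x, ⟨_, ⟨a, ha, rfl⟩, rfl⟩, b, hb, hxb⟩
    refine Set.Subset.antisymm ?_ ?_
    · rintro _ ⟨_, ⟨c, hc, rfl⟩, rfl⟩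
      exact key g a ha b hb hxb.symm c hc
    · rintro _ ⟨c, hc, rfl⟩
      refine ⟨g⁻¹ • ((c : G) • ω), key g⁻¹ b hb a ha ?_ c hc, smul_inv_smul g _⟩
      rw [show (b : G) • ω = g • ((a : G) • ω) from hxb, inv_smul_smul]
  rcases hp.isTrivialBlock_of_isBlock hblock with h | h
  · refine Or.inl ((Subgroup.eq_bot_iff_forall _).2 fun x hx => ?_)
    exact hbij.1 (h ⟨x, hx, rfl⟩ ⟨1, one_mem K, rfl⟩)
  · refine Or.inr (eq_top_iff.2 fun x _ => ?_)
    obtain ⟨y, hy, hyx⟩ := (h ▸ Set.mem_univ _ : (x : G) • ω ∈ B)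
    exact hbij.1 hyx ▸ hy

open MonoidAlgebra in
theorem invF_pow_coeff [Fintype C] (p : ℕ) (a : MonoidAlgebra (ZMod p) C)
    (ha : InvF C ω (fun x => a.coeff x)) : ∀ n : ℕ, InvF C ω (fun x => (a ^ n).coeff x) := by
  classical
  intro n
  induction n with
  | zero =>
    intro g hg x y hxy
    have h1 : x = 1 ↔ y = 1 := by
      constructor <;> rintro rfl
      · exact hbij.1 (show (y : G) • ω = ((1 : C) : G) • ω by rw [← hxy, Subgroup.coe_one, one_smul, hg])
      · refine hbij.1 (show (x : G) • ω = ((1 : C) : G) • ω from ?_)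
        rw [Subgroup.coe_one, one_smul] at hxy ⊢
        exact MulAction.injective g (hxy.trans hg.symm)
    simp only [pow_zero, MonoidAlgebra.one_def, coeff_single, Finsupp.single_apply]
    by_cases hx : x = 1
    · rw [if_pos hx.symm, if_pos (h1.1 hx).symm]
    · rw [if_neg (Ne.symm hx), if_neg (fun e => hx (h1.2 e.symm))]
  | succ n ih =>
    have e : (fun x => (a ^ (n + 1)).coeff x) = fun x => ∑ z, (a ^ n).coeff z * a.coeff (z⁻¹ * x) := by
      funext x
      rw [pow_succ, coeff_mul_apply_left, Finsupp.sum_fintype _ _ (fun _ => zero_mul _)]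
    rw [e]
    exact invF_conv C ω hbij ih ha

open MonoidAlgebra in
theorem frobenius [Fintype C] [DecidableEq C] (p : ℕ) [hp : Fact p.Prime] (hC : ∀ a b : C, a * b = b * a) {S : Set C}
    [DecidablePred (· ∈ S)] (hS : InvS C ω S) :
    InvF C ω (fun x => ((Finset.univ.filter fun y => y ∈ S ∧ y ^ p = x).card : ZMod p)) := by
  letI : CommGroup C := { (inferInstance : Group C) with mul_comm := hC }
  let a : MonoidAlgebra (ZMod p) C := ∑ y ∈ Finset.univ.filter (· ∈ S), single y 1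
  have ha : InvF C ω (fun x => a.coeff x) := by
    intro g hg x y hxy
    have h := hS g hg x y hxy
    simp only [a, coeff_sum, Finsupp.coe_finset_sum, Finset.sum_apply, coeff_single, Finsupp.single_apply,
      Finset.sum_ite_eq', Finset.mem_filter, Finset.mem_univ, true_and]
    exact if_congr (Iff.of_eq h) rfl rfl
  haveI : CharP (MonoidAlgebra (ZMod p) C) p :=
    charP_of_injective_ringHom (f := algebraMap (ZMod p) (MonoidAlgebra (ZMod p) C)) (RingHom.injective _) p
  have h := invF_pow_coeff C ω hbij p a ha p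
  have e : a ^ p = ∑ y ∈ Finset.univ.filter (· ∈ S), single (y ^ p) 1 := by
    simp only [a, sum_pow_char, single_pow, one_pow]
  intro g hg x y hxy
  have h' := h g hg x y hxy
  simp only [e, coeff_sum, Finsupp.coe_finset_sum, Finset.sum_apply, coeff_single, Finsupp.single_apply,
    Finset.sum_boole, Finset.filter_filter] at h'
  exact h'

end Cfsg.Agent.Recog.SchurCyclic
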