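import Cfsg.Agent.Lib.Spinor.Rows
import Cfsg.Agent.Lib.LinearGroups.FormCount
import Cfsg.Agent.Lib.GLOrders.SympElems
import Cfsg.Agent.Lib.GLOrders.SylowTorus
import Cfsg.Agent.Lib.Recog.Zsigmondy
import Cfsg.Agent.Lib.LinearGroups.OrthOrder

/-!
An element order of `PSp_{2n}(q)` missing from `PΩ_{2n+1}(q)`, `q` odd.
-/

set_option autoImplicit false

namespace Cfsg.Agent.SpectrumBC

open Cfsg.Agent.FormsLib Cfsg.Agent.Spinor

section Perm

variable {α : Type*} [Fintype α] [DecidableEq α]

/-- All non-trivial cycles have length `L`. -/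
theorem semiregular (σ : Equiv.Perm α) {L : ℕ} (hL : σ ^ L = 1) (hL0' : 0 < L := by omega)
    (hfree : ∀ x, ∀ j, 0 < j → j < L → (σ ^ j) x = x → σ x = x) :
    ∃ k, σ.support.card = L * k ∧ Equiv.Perm.sign σ = (-1) ^ ((L + 1) * k) := by
  by_cases h1 : σ = 1
  · exact ⟨0, by simp [h1], by simp [h1]⟩
  have hL0 : ∀ n ∈ σ.cycleType, n = L := by
    intro n hn
    have hn2 := Equiv.Perm.two_le_of_mem_cycleType hn
    have hdvd : n ∣ orderOf σ := Equiv.Perm.dvd_of_mem_cycleType hn
    have hnL : n ∣ L := hdvd.trans (orderOf_dvd_of_pow_eq_one hL)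
    rw [Equiv.Perm.cycleType_def, Multiset.mem_map] at hn
    obtain ⟨c, hc, rfl⟩ := hn
    have hc' : c ∈ σ.cycleFactorsFinset := hc
    obtain ⟨hcyc, hcσ⟩ := Equiv.Perm.mem_cycleFactorsFinset_iff.1 hc'
    obtain ⟨x, hx⟩ := hcyc.nonempty_support
    have hxσ : x ∈ σ.support := Equiv.Perm.mem_cycleFactorsFinset_support_le hc' hx
    have hco : σ.cycleOf x = c := (Equiv.Perm.cycle_is_cycleOf hx hc').symm
    have hp : (σ ^ c.support.card) x = x := by
      rw [← Equiv.Perm.cycleOf_pow_apply_self, hco, ← hcyc.orderOf, pow_orderOf_eq_one]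
      rfl
    by_contra hne
    exact Equiv.Perm.mem_support.1 hxσ (hfree x c.support.card (Finset.card_pos.2 ⟨x, hx⟩)
      (lt_of_le_of_ne (Nat.le_of_dvd hL0' hnL) hne) hp)
  have hrep : σ.cycleType = Multiset.replicate (Multiset.card σ.cycleType) L :=
    Multiset.eq_replicate_card.2 hL0
  have hsum : σ.cycleType.sum = L * Multiset.card σ.cycleType := by
    conv_lhs => rw [hrep]
    rw [Multiset.sum_replicate, smul_eq_mul, mul_comm]
  refine ⟨Multiset.card σ.cycleType, by rw [← hsum, Equiv.Perm.sum_cycleType], ?_⟩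
  rw [Equiv.Perm.sign_of_cycleType, hsum]
  congr 1
  ring

/-- A permutation of prime order `L` with one fixed point. -/
theorem dvd_card_sub_one (σ : Equiv.Perm α) {L : ℕ} (hL : L.Prime) (hσ : σ ^ L = 1) {a : α}
    (hfix : ∀ x, σ x = x ↔ x = a) : L ∣ Fintype.card α - 1 := by
  obtain ⟨k, hk, -⟩ := semiregular σ hσ hL.pos fun x j hj0 hjL hx => by
    have h1 : (σ ^ L) x = x := by rw [hσ]; rfl
    have hco : Nat.gcd j L = 1 :=
      ((hL.coprime_iff_not_dvd).2 fun hd => absurd (Nat.le_of_dvd hj0 hd) (by omega)).symm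
    have hper := (Function.IsPeriodicPt.gcd (f := σ) (x := x) (m := j) (n := L)
      (by rw [Function.IsPeriodicPt, Function.IsFixedPt, Equiv.Perm.iterate_eq_pow]; exact hx)
      (by rw [Function.IsPeriodicPt, Function.IsFixedPt, Equiv.Perm.iterate_eq_pow]; exact h1))
    rw [hco] at hper
    exact hper
  have hs : σ.support = Finset.univ.erase a := by
    ext x
    simp [hfix]
  rw [hs, Finset.card_erase_of_mem (Finset.mem_univ _), Finset.card_univ] at hk
  exact ⟨k, hk⟩

end Perm

section Main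

variable {F V : Type*} [Field F] [Fintype F] [AddCommGroup V] [Module F V] [FiniteDimensional F V]

/-- An automorphism of prime order `L` fixing only `0` in an invariant subspace. -/
theorem prime_dvd (c : V ≃ₗ[F] V) {L : ℕ} (hL : L.Prime) (hc : c ^ L = 1) (X : Submodule F V)
    (hinv : ∀ x ∈ X, c x ∈ X) (hfix : ∀ x ∈ X, c x = x → x = 0) :
    L ∣ Fintype.card F ^ Module.finrank F X - 1 := by
  classical
  haveI : Finite V := Module.finite_of_finite F
  letI : Fintype X := Fintype.ofFinite X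
  let f : X → X := fun x => ⟨c x, hinv x x.2⟩
  have hf : Function.Bijective f := Finite.injective_iff_bijective.1 fun x y h =>
    Subtype.ext (c.injective (congrArg Subtype.val h))
  set σ := Equiv.ofBijective f hf
  have hpow : ∀ (j : ℕ) (x : X), (((σ ^ j) x : X) : V) = (c ^ j) (x : V) := by
    intro j
    induction j with
    | zero => intro x; simp
    | succ j ih =>
      intro x
      rw [pow_succ, pow_succ, Equiv.Perm.mul_apply, ih, LinearEquiv.mul_apply]
      rfl
  rw [← Module.card_eq_pow_finrank (K := F) (V := X)]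
  refine dvd_card_sub_one σ hL (Equiv.ext fun x => Subtype.ext ?_) (a := 0) fun x => ⟨fun h => ?_, fun h => ?_⟩
  · rw [hpow, hc]; rfl
  · exact Subtype.ext (hfix x x.2 (congrArg Subtype.val h))
  · subst h; exact Subtype.ext (map_zero c)

variable {Q : QuadraticForm F V}

omit [Fintype F] [FiniteDimensional F V] in
theorem comm_apply {a b : oGroup Q} (h : Commute a b) (x : V) : a.1 (b.1 x) = b.1 (a.1 x) := by
  have := congrArg (fun c : oGroup Q => c.1 x) h.eq
  simpa [LinearEquiv.mul_apply] using this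

omit [Fintype F] [FiniteDimensional F V] in
theorem mov_inv {a b : oGroup Q} (h : Commute a b) {x : V} (hx : x ∈ mov b.1) : a.1 x ∈ mov b.1 := by
  obtain ⟨y, rfl⟩ := mem_mov.1 hx
  exact mem_mov.2 ⟨a.1 y, by rw [map_sub, comm_apply h]⟩

omit [Fintype F] [FiniteDimensional F V] in
theorem fix_inv {a b : oGroup Q} (h : Commute a b) {x : V} (hx : b.1 x = x) : b.1 (a.1 x) = a.1 x := by
  rw [← comm_apply h, hx]

/-- The number of solutions of `a b + c z² = 1`. -/
theorem card_ternary (c : F) :
    Nat.card {v : F × (F × F) // c * v.1 ^ 2 + v.2.1 * v.2.2 = 1} =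
        Fintype.card F * (Fintype.card F - 1) ∨
      Nat.card {v : F × (F × F) // c * v.1 ^ 2 + v.2.1 * v.2.2 = 1} =
        Fintype.card F * (Fintype.card F - 1) + 2 * Fintype.card F ∨ (2 : F) = 0 := by
  classical
  by_cases h2 : (2 : F) = 0
  · exact Or.inr (Or.inr h2)
  have hq : 1 ≤ Fintype.card F := Fintype.card_pos
  have h := FormCount.card_sum_eq (Equiv.refl (F × (F × F))) (fun v => c * v.1 ^ 2 + v.2.1 * v.2.2)
    (fun z => c * z ^ 2) (fun p : F × F => p.1 * p.2) (fun _ _ => rfl) 1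
  rw [h]
  simp only [FormCount.card_mul_eq]
  have h1 : ∀ z : F, (if 1 - c * z ^ 2 = 0 then 2 * Fintype.card F - 1 else Fintype.card F - 1) =
      (Fintype.card F - 1) + (if c * z ^ 2 = 1 then Fintype.card F else 0) := by
    intro z
    by_cases hz : c * z ^ 2 = 1
    · rw [if_pos (by rw [hz, sub_self]), if_pos hz]; omega
    · rw [if_neg (fun e => hz (sub_eq_zero.1 e).symm), if_neg hz, add_zero]
  simp only [h1, Finset.sum_add_distrib, Finset.sum_const, Finset.card_univ, smul_eq_mul,
    ← Finset.sum_filter]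
  by_cases hex : ∃ z₀, c * z₀ ^ 2 = 1
  · right; left
    obtain ⟨z₀, hz₀⟩ := hex
    have hz0 : z₀ ≠ 0 := fun e => by simp [e] at hz₀
    have hne : z₀ ≠ -z₀ := fun e => hz0 (mul_right_injective₀ h2 (by linear_combination e : (2 : F) * z₀ = 2 * 0))
    have hS : Finset.univ.filter (fun z : F => c * z ^ 2 = 1) = {z₀, -z₀} := by
      ext z
      simp only [Finset.mem_filter, Finset.mem_univ, true_and, Finset.mem_insert, Finset.mem_singleton]
      constructor
      · intro hz
        have hc0 : c ≠ 0 := fun e => by simp [e] at hz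
        have : (z - z₀) * (z + z₀) = 0 := by
          refine (mul_eq_zero.1 (show c * ((z - z₀) * (z + z₀)) = 0 by linear_combination hz - hz₀)).resolve_left hc0
        rcases mul_eq_zero.1 this with h | h
        · exact Or.inl (sub_eq_zero.1 h)
        · exact Or.inr (eq_neg_of_add_eq_zero_left h)
      · rintro (rfl | rfl)
        · exact hz₀
        · rw [neg_sq]; exact hz₀
    rw [hS, Finset.card_pair hne]
  · left
    push Not at hex
    rw [Finset.filter_false_of_mem (fun z _ => hex z)]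
    simp

variable (hQ : (QuadraticMap.polarBilin Q).Nondegenerate)

include hQ

set_option maxHeartbeats 1600000 in
/-- The parity contradiction. -/
theorem no_element {p m : ℕ} [Fact p.Prime] [CharP F p] (hp : p ≠ 2) (hm : 2 ≤ m)
    (hdim : Module.finrank F V = 2 * m + 3) (hgen : reflGroup Q = ⊤) (g : oGroup Q)
    (hd : dick g = 1) (hspin : spin g = 1) (hord : orderOf g = p * (Fintype.card F ^ m + 1))
    (hS : Nat.card {x : V // Q x = 1} = Fintype.card F ^ (2 * m + 2) + Fintype.card F ^ (m + 1)) :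
    False := by
  classical
  haveI : Finite V := Module.finite_of_finite F
  letI : Fintype V := Fintype.ofFinite V
  haveI : Finite (oGroup Q) := Finite.of_injective (fun g => (fun x => g.1 x))
    (fun a b h => Subtype.ext (LinearEquiv.ext (congrFun h)))
  have hpp : p.Prime := Fact.out
  have h2 : (2 : F) ≠ 0 := fun h => by
    have h' : ((2 : ℕ) : F) = 0 := by exact_mod_cast h
    rw [CharP.cast_eq_zero_iff F p, Nat.prime_dvd_prime_iff_eq hpp Nat.prime_two] at h'
    exact hp h'
  obtain ⟨f, -, hqp⟩ := FiniteField.card F p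
  set q := Fintype.card F with hq
  have hpq : p ∣ q := hqp ▸ dvd_pow_self p f.ne_zero
  have hp3 : 3 ≤ p := by have := hpp.two_le; omega
  have hq3 : 3 ≤ q := hp3.trans (Nat.le_of_dvd Fintype.card_pos hpq)
  set M := q ^ m + 1 with hM
  have hqm : 9 ≤ q ^ m := le_trans (by nlinarith) (Nat.pow_le_pow_right (by omega) hm)
  have hqodd : Odd q := hqp ▸ (hpp.odd_of_ne_two hp).pow
  have hMeven : Even M := by rw [hM]; exact (hqodd.pow).add_odd odd_one
  obtain ⟨r, hr, hrd, hrprim⟩ := Recog.Zsig.exists_primitive_prime q (2 * m) (by omega) (by omega)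
    (by rintro ⟨h, -⟩; omega) (by rintro ⟨h, -⟩; omega)
  haveI : Fact r.Prime := ⟨hr⟩
  have hrM : r ∣ M := by
    rw [← OrthOrder.sq_pow_sub_one] at hrd
    exact (hr.dvd_mul.1 hrd).resolve_right (hrprim m (by omega) (by omega))
  have hrp : ¬ r ∣ q := fun h => by
    have h1 : r ∣ q ^ m := dvd_pow h (by omega)
    exact hr.not_dvd_one ((Nat.dvd_add_right h1).1 hrM)
  have hrF : (r : F) ≠ 0 := fun h => hrp (by
    rw [CharP.cast_eq_zero_iff F p, Nat.prime_dvd_prime_iff_eq hpp hr] at h
    exact h ▸ hpq)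
  have hd2m : ∀ k, r ∣ q ^ k - 1 → 2 * m ∣ k := by
    intro k hk
    have hd0 := GLOrders.orderOf_pos' (r := r) hrp
    have hdd := (GLOrders.dvd_pow_sub_one_iff (r := r) (by omega : 1 ≤ q) _).1 hrd
    have he : orderOf (q : ZMod r) = 2 * m := by
      rcases lt_or_eq_of_le (Nat.le_of_dvd (by omega) hdd) with hlt | heq
      · exact absurd ((GLOrders.dvd_pow_sub_one_iff (r := r) (by omega : 1 ≤ q) _).2 dvd_rfl)
          (hrprim _ hd0 hlt)
      · exact heq
    exact he ▸ (GLOrders.dvd_pow_sub_one_iff (r := r) (by omega : 1 ≤ q) _).1 hk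
  -- the parts of `g`
  set u := g ^ M with hu
  set s := g ^ p with hs
  set h := s ^ (M / r) with hh
  have hsM : orderOf s = M := by
    rw [hs, orderOf_pow_of_dvd hpp.ne_zero (hord ▸ dvd_mul_right p M), hord, Nat.mul_div_cancel_left _ hpp.pos]
  have hup : orderOf u = p := by
    rw [hu, orderOf_pow_of_dvd (by omega) (hord ▸ dvd_mul_left M p), hord, Nat.mul_div_cancel _ (by omega)]
  have hhr : orderOf h = r := by
    have := orderOf_pow_orderOf_div (x := s) (n := r) (by rw [hsM]; omega) (by rw [hsM]; exact hrM)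
    rwa [hsM] at this
  have hdpow : ∀ k, dick (g ^ k) = 1 := fun k => by
    have := map_pow (dickHom hQ hgen) g k
    exact this.trans (by rw [show dickHom hQ hgen g = 1 from hd, one_pow])
  have hspow : ∀ k, spin (g ^ k) = 1 := fun k => by
    have := map_pow (spinHom hQ hgen) g k
    exact this.trans (by rw [show spinHom hQ hgen g = 1 from hspin, one_pow])
  have cus : Commute u s := (Commute.refl g).pow_pow M p
  have chs : Commute h s := (Commute.refl s).pow_left _
  have chu : Commute h u := (cus.symm.pow_left _)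
  have hcoe : ∀ (a : oGroup Q) (k : ℕ), (a ^ k).1 = a.1 ^ k := fun a k => SubgroupClass.coe_pow a k
  have hone : ∀ (a : oGroup Q), a.1 = 1 → a = 1 := fun a ha => Subtype.ext ha
  -- decomposition
  set U := fixS h.1 with hU
  set W := mov h.1 with hW
  have hUW : U ⊓ W = ⊥ := by
    rw [Submodule.eq_bot_iff]
    rintro x ⟨hx, hx'⟩
    obtain ⟨y, hy⟩ := mem_mov.1 hx'
    have hk : ∀ k : ℕ, (h.1 ^ k) y = y + (k : F) • x := by
      intro k
      induction k with
      | zero => simp
      | succ k ih =>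
        rw [pow_succ', LinearEquiv.mul_apply, ih, map_add, map_smul, mem_fixS.1 hx, Nat.cast_succ,
          add_smul, one_smul, ← hy]
        abel
    have := hk r
    rw [← hcoe, ← hhr, pow_orderOf_eq_one, hhr] at this
    rw [show ((1 : oGroup Q).1 y) = y from rfl, left_eq_add] at this
    exact (smul_eq_zero.1 this).resolve_left hrF
  have hsup : U ⊔ W = ⊤ := by
    refine Submodule.eq_top_of_finrank_eq ?_
    have h1 := Submodule.finrank_sup_add_finrank_inf_eq U W
    have h2 := rk_add h.1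
    rw [hUW, finrank_bot, add_zero] at h1
    rw [h1, ← h2]
    exact add_comm _ _
  have hdec : ∀ z : V, ∃ a ∈ U, ∃ b ∈ W, a + b = z := fun z =>
    Submodule.mem_sup.1 (hsup ▸ Submodule.mem_top (x := z))
  have hzero : ∀ {x : V}, x ∈ U → x ∈ W → x = 0 := fun {x} h1 h2 =>
    (Submodule.mem_bot F).1 (hUW ▸ (⟨h1, h2⟩ : x ∈ U ⊓ W))
  have hort : ∀ {x y : V}, x ∈ U → y ∈ W → QuadraticMap.polar Q x y = 0 := fun {x y} h1 h2 =>
    polar_fix_mov h.2 (mem_fixS.1 h1) h2
  have hXdvd : ∀ X : Submodule F V, X ≤ W → (∀ x ∈ X, h.1 x ∈ X) → 2 * m ∣ Module.finrank F X := by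
    intro X hXW hX
    refine hd2m _ (prime_dvd h.1 hr ?_ X hX fun x hx hfx => hzero (mem_fixS.2 hfx) (hXW hx))
    rw [← hcoe, ← hhr, pow_orderOf_eq_one]; rfl
  have hWd : Module.finrank F W = 2 * m := by
    obtain ⟨k, hk⟩ := hXdvd W le_rfl (fun x hx => mov_inv (Commute.refl h) hx)
    have hk0 : k ≠ 0 := by
      rintro rfl
      have h1 : h.1 = 1 := eq_one_of_rk_eq_zero (by rw [rk]; simpa using hk)
      exact hr.ne_one (by rw [← hhr, hone h h1, orderOf_one])
    have hk1 : k < 2 := by
      by_contra hlt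
      have := Submodule.finrank_le W
      rw [hdim, hk] at this
      have : 4 * m ≤ 2 * m * k := by nlinarith
      omega
    rw [hk, show k = 1 by omega, mul_one]
  have hUd : Module.finrank F U = 3 := by
    have h1 : rk h.1 + Module.finrank F U = Module.finrank F V := rk_add h.1
    have h2 : rk h.1 = 2 * m := hWd
    omega
  have hirr : ∀ X : Submodule F V, X ≤ W → (∀ x ∈ X, h.1 x ∈ X) → X ≠ ⊥ → X = W := by
    intro X hXW hX hne
    refine Submodule.eq_of_le_of_finrank_le hXW ?_
    rw [hWd]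
    exact Nat.le_of_dvd (Nat.pos_of_ne_zero fun h0 => hne (Submodule.finrank_eq_zero.1 h0)) (hXdvd X hXW hX)
  have hfixall : ∀ c : oGroup Q, Commute h c → ∀ x ∈ W, x ≠ 0 → c.1 x = x → ∀ y ∈ W, c.1 y = y := by
    intro c hc x hx hx0 hcx y hy
    have heq := hirr (W ⊓ fixS c.1) inf_le_left
      (fun z hz => ⟨mov_inv (Commute.refl h) hz.1, mem_fixS.2 (fix_inv hc (mem_fixS.1 hz.2))⟩)
      (fun hb => hx0 ((Submodule.mem_bot F).1 (hb ▸ (⟨hx, mem_fixS.2 hcx⟩ : x ∈ W ⊓ fixS c.1))))
    exact mem_fixS.1 (heq.symm ▸ hy : y ∈ W ⊓ fixS c.1).2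
  -- `u` is trivial on `W`
  have hu1 : u.1 ^ p = 1 := by rw [← hcoe, ← hup, pow_orderOf_eq_one]; rfl
  have huW : ∀ y ∈ W, u.1 y = y := by
    by_cases hex : ∃ x ∈ W, x ≠ 0 ∧ u.1 x = x
    · obtain ⟨x, hx, hx0, hux⟩ := hex
      exact hfixall u chu x hx hx0 hux
    · push Not at hex
      have hdvd := prime_dvd u.1 hpp hu1 W (fun x hx => mov_inv chu.symm hx)
        (fun x hx hux => by by_contra hne; exact hex x hx hne hux)
      rw [hWd, ← hq] at hdvd
      have h1 : p ∣ q ^ (2 * m) := dvd_pow hpq (by omega)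
      have := Nat.dvd_sub h1 hdvd
      rw [Nat.sub_sub_self (Nat.one_le_pow _ _ (by omega))] at this
      exact absurd this hpp.not_dvd_one
  have hune : u.1 ≠ 1 := fun e => hpp.ne_one (by rw [← hup, hone u e, orderOf_one])
  have hUinv : ∀ c : oGroup Q, Commute c h → ∀ x ∈ U, c.1 x ∈ U := fun c hc x hx =>
    mem_fixS.2 (fix_inv hc (mem_fixS.1 hx))
  set R := mov u.1 with hR
  have hRU : R ≤ U := by
    intro v hv
    obtain ⟨z, rfl⟩ := mem_mov.1 hv
    obtain ⟨a, ha, b, hb, rfl⟩ := hdec z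
    rw [map_add, huW b hb, add_sub_add_right_eq_sub]
    exact U.sub_mem (hUinv u chu.symm a ha) ha
  have hRd : Module.finrank F R = 2 := by
    have h1 : Even (rk u.1) := (neg_one_pow_eq_one_iff_even (by decide)).1 (hdpow M)
    have h2 : rk u.1 ≠ 0 := fun e => hune (eq_one_of_rk_eq_zero e)
    have h3 : rk u.1 ≤ 3 := hUd ▸ Submodule.finrank_mono hRU
    obtain ⟨k, hk⟩ := h1
    show rk u.1 = 2
    omega
  set L := U ⊓ fixS u.1 with hL
  have hLd : Module.finrank F L = 1 := by
    have hWfix : W ≤ fixS u.1 := fun y hy => mem_fixS.2 (huW y hy)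
    have h1 : L ⊔ W = fixS u.1 := by
      refine le_antisymm (sup_le inf_le_right hWfix) fun z hz => ?_
      obtain ⟨a, ha, b, hb, rfl⟩ := hdec z
      refine Submodule.mem_sup.2 ⟨a, ⟨ha, ?_⟩, b, hb, rfl⟩
      simpa using (fixS u.1).sub_mem hz (hWfix hb)
    have h2 : L ⊓ W = ⊥ := by rw [eq_bot_iff, ← hUW]; exact inf_le_inf_right _ inf_le_left
    have h3 := Submodule.finrank_sup_add_finrank_inf_eq L W
    have h4 := rk_add u.1
    rw [h1, h2, finrank_bot, hWd] at h3
    rw [hdim, show rk u.1 = 2 from hRd] at h4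
    omega
  have hfixex : ∀ X : Submodule F V, X ≠ ⊥ → (∀ x ∈ X, u.1 x ∈ X) → ∃ x ∈ X, x ≠ 0 ∧ u.1 x = x := by
    intro X hne hX
    by_contra hex
    push Not at hex
    have hdvd := prime_dvd u.1 hpp hu1 X hX (fun x hx hux => by by_contra h0; exact hex x hx h0 hux)
    rw [← hq] at hdvd
    have hpos : Module.finrank F X ≠ 0 := fun h0 => hne (Submodule.finrank_eq_zero.1 h0)
    have := Nat.dvd_sub (dvd_pow hpq hpos) hdvd
    rw [Nat.sub_sub_self (Nat.one_le_pow _ _ (by omega))] at this
    exact hpp.not_dvd_one this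
  have hRinv : ∀ x ∈ R, u.1 x ∈ R := fun x hx => mov_inv (Commute.refl u) hx
  have hLR : L ≤ R := by
    obtain ⟨l, hl, hl0, hlf⟩ := hfixex R (fun e => by rw [e, finrank_bot] at hRd; omega) hRinv
    have hspan : Submodule.span F {l} = L := Submodule.eq_of_le_of_finrank_le
      ((Submodule.span_singleton_le_iff_mem l L).2 ⟨hRU hl, mem_fixS.2 hlf⟩)
      (by rw [hLd, finrank_span_singleton hl0])
    rw [← hspan]
    exact (Submodule.span_singleton_le_iff_mem l R).2 hl
  obtain ⟨x, hxU, hxN⟩ : ∃ x ∈ U, u.1 (u.1 x - x) - (u.1 x - x) ≠ 0 := by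
    by_contra hall
    push Not at hall
    have hle : R ≤ L := by
      intro v hv
      refine ⟨hRU hv, mem_fixS.2 ?_⟩
      obtain ⟨z, rfl⟩ := mem_mov.1 hv
      obtain ⟨a, ha, b, hb, rfl⟩ := hdec z
      rw [map_add u.1 a b, huW b hb, add_sub_add_right_eq_sub]
      exact sub_eq_zero.1 (hall a ha)
    have := Submodule.finrank_mono hle
    omega
  set y := u.1 x - x with hy
  set k := u.1 y - y with hk
  have hyR : y ∈ R := mem_mov.2 ⟨x, rfl⟩
  have hkR : k ∈ R := R.sub_mem (hRinv y hyR) hyR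
  have hkfix : u.1 k = k := by
    -- the line `N R` has a fixed point
    let N : V →ₗ[F] V := (u.1 : V →ₗ[F] V) - LinearMap.id
    have hker : LinearMap.ker (N.domRestrict R) = L.comap R.subtype := by
      ext z
      simp [N, sub_eq_zero, L, mem_fixS, hRU z.2]
    have h1 := (N.domRestrict R).finrank_range_add_finrank_ker
    rw [hker, (Submodule.comapSubtypeEquivOfLe hLR).finrank_eq, hLd, hRd] at h1
    set I := LinearMap.range (N.domRestrict R) with hI
    have hIinv : ∀ z ∈ I, u.1 z ∈ I := by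
      rintro _ ⟨w, rfl⟩
      refine ⟨⟨u.1 w.1, hRinv _ w.2⟩, ?_⟩
      simp [N, map_sub]
    obtain ⟨l, hl, hl0, hlf⟩ := hfixex I (fun e => by rw [e, finrank_bot] at h1; omega) hIinv
    have hkI : k ∈ I := ⟨⟨y, hyR⟩, by simp [N, k]⟩
    have hspan : Submodule.span F {l} = I := Submodule.eq_of_le_of_finrank_le
      ((Submodule.span_singleton_le_iff_mem l I).2 hl) (by rw [finrank_span_singleton hl0]; omega)
    obtain ⟨c, hc⟩ := Submodule.mem_span_singleton.1 (hspan.symm ▸ hkI)
    rw [← hc, map_smul, hlf]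
  have hxy : u.1 x = x + y := by rw [hy]; abel
  have hyk : u.1 y = y + k := by rw [hk]; abel
  have hyU : y ∈ U := hRU hyR
  have hkU : k ∈ U := hRU hkR
  have hk0 : k ≠ 0 := hxN
  -- coordinates on `U`
  let P : (F × (F × F)) →ₗ[F] U :=
    { toFun := fun v => ⟨v.1 • x + (v.2.1 • y + v.2.2 • k),
        U.add_mem (U.smul_mem _ hxU) (U.add_mem (U.smul_mem _ hyU) (U.smul_mem _ hkU))⟩
      map_add' := fun v w => Subtype.ext (by simp [add_smul]; abel)
      map_smul' := fun c v => Subtype.ext (by simp [smul_smul]) }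
  have hPinj : Function.Injective P := by
    rw [← LinearMap.ker_eq_bot, Submodule.eq_bot_iff]
    rintro ⟨a, b, c⟩ hv
    have hv' : a • x + (b • y + c • k) = 0 := congrArg Subtype.val (LinearMap.mem_ker.1 hv)
    have h1 : a • y + b • k = 0 := by
      have := congrArg (fun w => u.1 w - w) hv'
      simp only [map_add, map_smul, hxy, hyk, hkfix, map_zero, sub_zero, smul_add] at this
      rw [← this]; abel
    have h2 : a • k = 0 := by
      have := congrArg (fun w => u.1 w - w) h1
      simp only [map_add, map_smul, hyk, hkfix, map_zero, sub_zero, smul_add] at this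
      rw [← this]; abel
    have ha : a = 0 := (smul_eq_zero.1 h2).resolve_right hk0
    subst ha
    have hb : b = 0 := (smul_eq_zero.1 (by simpa using h1)).resolve_right hk0
    subst hb
    have hc : c = 0 := (smul_eq_zero.1 (by simpa using hv')).resolve_right hk0
    simp [hc]
  have hPsur : Function.Surjective P :=
    (LinearMap.injective_iff_surjective_of_finrank_eq_finrank (by simp [hUd])).1 hPinj
  -- `s` is a scalar on `U`
  have csh : Commute s h := chs.symm
  obtain ⟨⟨a, b, c⟩, habc⟩ := hPsur ⟨s.1 x, hUinv s csh x hxU⟩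
  have hsx : s.1 x = a • x + (b • y + c • k) := (congrArg Subtype.val habc).symm
  have hsy : s.1 y = a • y + b • k := by
    rw [hy, map_sub, ← comm_apply cus, hsx, ← hy]
    simp only [map_add, map_smul, hxy, hyk, hkfix, smul_add]
    abel
  have hsk : s.1 k = a • k := by
    rw [hk, map_sub, ← comm_apply cus, hsy, ← hk]
    simp only [map_add, map_smul, hyk, hkfix, smul_add]
    abel
  have hspw : ∀ j : ℕ, (s.1 ^ j) k = a ^ j • k ∧
      (s.1 ^ j) y = a ^ j • y + ((j : F) * a ^ (j - 1) * b) • k ∧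
      ∃ e : F, (s.1 ^ j) x = a ^ j • x + ((j : F) * a ^ (j - 1) * b) • y + e • k ∧
        (b = 0 → e = (j : F) * a ^ (j - 1) * c) := by
    intro j
    induction j with
    | zero => refine ⟨by simp, by simp, 0, by simp, fun _ => by simp⟩
    | succ j ih =>
      obtain ⟨i1, i2, e, i3, i4⟩ := ih
      have hj : (j : F) * a ^ (j - 1) * a = (j : F) * a ^ j := by
        cases j with
        | zero => simp
        | succ j => rw [Nat.add_sub_cancel, pow_succ, mul_assoc]
      refine ⟨?_, ?_, a * e + ((j : F) * a ^ (j - 1) * b) * b + a ^ j * c, ?_, fun hb => ?_⟩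
      · rw [pow_succ', LinearEquiv.mul_apply, i1, map_smul, hsk, smul_smul, pow_succ]
      · rw [pow_succ', LinearEquiv.mul_apply, i2, map_add, map_smul, map_smul, hsk, hsy, Nat.add_sub_cancel]
        push_cast
        match_scalars
        all_goals first | ring1 | linear_combination b * hj | linear_combination -b * hj
      · rw [pow_succ', LinearEquiv.mul_apply, i3, map_add, map_add, map_smul, map_smul, map_smul, hsk, hsy, hsx,
          Nat.add_sub_cancel]
        push_cast
        match_scalars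
        all_goals first | ring1 | linear_combination b * hj | linear_combination -b * hj
      · rw [i4 hb, hb, Nat.add_sub_cancel]
        push_cast
        linear_combination c * hj
  have hs1 : s.1 ^ M = 1 := by rw [← hcoe, ← hsM, pow_orderOf_eq_one]; rfl
  have hMF : (M : F) = 1 := by
    have hq0 : (q : F) = 0 := by rw [hq]; exact Nat.cast_card_eq_zero F
    rw [hM]; push_cast; rw [hq0, zero_pow (by omega), zero_add]
  obtain ⟨e1, e2, e, e3, e4⟩ := hspw M
  rw [hs1] at e1 e2 e3
  change k = _ at e1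
  change y = _ at e2
  change x = _ at e3
  have haM : a ^ M = 1 := by
    have : (a ^ M - 1) • k = 0 := by rw [sub_smul, one_smul, ← e1, sub_self]
    exact sub_eq_zero.1 ((smul_eq_zero.1 this).resolve_right hk0)
  have ha0 : a ≠ 0 := fun h => by rw [h, zero_pow (by omega)] at haM; exact zero_ne_one haM
  have hb0 : b = 0 := by
    rw [haM, one_smul, left_eq_add, hMF, one_mul] at e2
    exact ((mul_eq_zero.1 ((smul_eq_zero.1 e2).resolve_right hk0)).resolve_left (pow_ne_zero _ ha0))
  have hc0 : c = 0 := by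
    rw [haM, one_smul, e4 hb0, hb0, mul_zero, zero_smul, add_zero, left_eq_add, hMF, one_mul] at e3
    exact ((mul_eq_zero.1 ((smul_eq_zero.1 e3).resolve_right hk0)).resolve_left (pow_ne_zero _ ha0))
  have hsU : ∀ z ∈ U, s.1 z = a • z := by
    intro z hz
    obtain ⟨v, hv⟩ := hPsur ⟨z, hz⟩
    have hv' : v.1 • x + (v.2.1 • y + v.2.2 • k) = z := congrArg Subtype.val hv
    rw [← hv']
    simp only [map_add, map_smul, hsx, hsy, hsk, hb0, hc0, zero_smul, add_zero, smul_add, smul_smul, mul_comm]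
  have hperp : ∀ z ∈ U, (∀ w ∈ U, QuadraticMap.polar Q z w = 0) → z = 0 := by
    intro z hz hzU
    refine hQ.1 z fun w => ?_
    obtain ⟨a', ha', b', hb', rfl⟩ := hdec w
    rw [QuadraticMap.polarBilin_apply_apply, QuadraticMap.polar_add_right, hzU a' ha', hort hz hb', add_zero]
  have ha2 : a = 1 ∨ a = -1 := by
    by_contra hne
    have hsing : ∀ z ∈ U, Q z = 0 := by
      intro z hz
      have h1 := s.2 z
      rw [hsU z hz, QuadraticMap.map_smul, smul_eq_mul] at h1
      by_contra hQz
      exact hne (mul_self_eq_one_iff.1 ((mul_eq_right₀ hQz).1 h1))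
    exact hk0 (hperp k hkU fun w hw => polar_of_singular hsing hkU hw)
  have hsWfix : ∀ w ∈ W, s.1 w = w → w = 0 := by
    intro w hw hsw
    by_contra hw0
    have hall := hfixall s chs w hw hw0 hsw
    have : s ^ 2 = 1 := by
      refine hone _ (LinearEquiv.ext fun z => ?_)
      rw [hcoe, pow_two, LinearEquiv.mul_apply]
      obtain ⟨a', ha', b', hb', rfl⟩ := hdec z
      rw [map_add, hsU a' ha', hall b' hb', map_add, map_smul, hsU a' ha', hall b' hb', smul_smul]
      rcases ha2 with rfl | rfl <;> simp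
    have := Nat.le_of_dvd two_pos (hsM ▸ orderOf_dvd_of_pow_eq_one this)
    omega
  have ha1 : a = 1 := by
    refine ha2.resolve_right fun ham => ?_
    have hfix : fixS s.1 = ⊥ := by
      rw [Submodule.eq_bot_iff]
      intro z hz
      obtain ⟨a', ha', b', hb', rfl⟩ := hdec z
      have hz' := mem_fixS.1 hz
      rw [map_add, hsU a' ha', ham, neg_one_smul] at hz'
      have hsb : s.1 b' - b' ∈ W := W.sub_mem (mov_inv csh hb') hb'
      have h1 : s.1 b' - b' = (2 : F) • a' := by
        rw [two_smul]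
        linear_combination (norm := abel) hz'
      have h3 : (2 : F) • a' = 0 := hzero (U.smul_mem _ ha') (h1 ▸ hsb)
      have ha'0 : a' = 0 := (smul_eq_zero.1 h3).resolve_left h2
      rw [ha'0, zero_add] at hz ⊢
      exact hsWfix b' hb' (mem_fixS.1 hz)
    have h3 := rk_add s.1
    rw [hfix, finrank_bot, hdim] at h3
    have h4 : Even (rk s.1) := (neg_one_pow_eq_one_iff_even (by decide)).1 (hdpow p)
    obtain ⟨j, hj⟩ := h4
    omega
  subst ha1
  -- sign of the permutation of the sphere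
  have hfree : ∀ z : V, ∀ j, 0 < j → j < M → (s.1 ^ j) z = z → s.1 z = z := by
    intro z j hj0 hjM hz
    obtain ⟨a', ha', b', hb', rfl⟩ := hdec z
    have hsa : ∀ i : ℕ, (s.1 ^ i) a' = a' := by
      intro i
      induction i with
      | zero => simp
      | succ i ih => rw [pow_succ, LinearEquiv.mul_apply, hsU a' ha', one_smul, ih]
    rw [map_add, hsa, add_left_cancel_iff] at hz
    by_cases hb0' : b' = 0
    · rw [hb0', add_zero, hsU a' ha', one_smul]
    · exfalso
      rw [← hcoe] at hz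
      have hall := hfixall (s ^ j) (chs.pow_right j) b' hb' hb0' hz
      have : s ^ j = 1 := by
        refine hone _ (LinearEquiv.ext fun w => ?_)
        obtain ⟨a'', ha'', b'', hb'', rfl⟩ := hdec w
        rw [map_add, hall b'' hb'', hcoe]
        have hsa'' : ∀ i : ℕ, (s.1 ^ i) a'' = a'' := by
          intro i
          induction i with
          | zero => simp
          | succ i ih => rw [pow_succ, LinearEquiv.mul_apply, hsU a'' ha'', one_smul, ih]
        rw [hsa'']
        rfl
      have := Nat.le_of_dvd hj0 (hsM ▸ orderOf_dvd_of_pow_eq_one this)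
      omega
  have hsgn : sphereSign Q s = 1 := by
    have h1 := hspow p
    have h2' := hdpow p
    rw [← hs] at h1 h2'
    rw [spin, if_neg h2, h2', mul_one] at h1
    exact h1
  let _ : Fintype {x : V // Q x = 1} := Fintype.ofFinite _
  have hsgn' : Equiv.Perm.sign (sphereHom Q s) = 1 := by
    rw [← hsgn]
    show _ = Equiv.Perm.sign (sphereHom Q s)
    congr!
  obtain ⟨n, hn, hsign⟩ := semiregular (sphereHom Q s) (L := M)
    (by rw [← map_pow, ← hsM, pow_orderOf_eq_one, map_one]) (by omega) (fun z j hj0 hjM hz => by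
      refine Subtype.ext ?_
      rw [sphereHom_apply]
      refine hfree z.1 j hj0 hjM ?_
      rw [← hcoe, ← sphereHom_apply, map_pow, hz])
  -- the fixed points on the sphere
  let t : (sphereHom Q s).support = Finset.univ.filter (fun z : {x : V // Q x = 1} => z.1 ∉ U) := by
    ext z
    simp only [Equiv.Perm.mem_support, Finset.mem_filter, Finset.mem_univ, true_and, ne_eq, not_iff_not]
    rw [Subtype.ext_iff, sphereHom_apply]
    constructor
    · intro hz
      obtain ⟨a', ha', b', hb', he⟩ := hdec z.1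
      rw [← he, map_add, hsU a' ha', one_smul, add_left_cancel_iff] at hz
      rw [← he, hsWfix b' hb' hz, add_zero]
      exact ha'
    · intro hz
      rw [hsU _ hz, one_smul]
  rw [t] at hn
  have hsplit := Finset.card_filter_add_card_filter_not
    (s := (Finset.univ : Finset {x : V // Q x = 1})) (fun z => z.1 ∉ U)
  rw [Finset.card_univ, ← Nat.card_eq_fintype_card, hS, hn] at hsplit
  simp only [not_not] at hsplit
  -- coordinates adapted to the form
  obtain ⟨y₀, hy₀, hky₀⟩ : ∃ y₀ ∈ U, QuadraticMap.polar Q k y₀ = 1 := by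
    obtain ⟨w, hw, hne⟩ : ∃ w ∈ U, QuadraticMap.polar Q k w ≠ 0 := by
      by_contra hh'
      push Not at hh'
      exact hk0 (hperp k hkU hh')
    exact ⟨(QuadraticMap.polar Q k w)⁻¹ • w, U.smul_mem _ hw, by
      rw [QuadraticMap.polar_smul_right, smul_eq_mul, inv_mul_cancel₀ hne]⟩
  have hQk : Q k = 0 := by
    have h1 := polar_fix_mov u.2 hkfix hkR
    rw [polar_self'] at h1
    exact (mul_eq_zero.1 h1).resolve_left h2
  set y₁ := y₀ + (-Q y₀) • k with hy₁
  have hQy : Q y₁ = 0 := by
    rw [hy₁, quad_add, QuadraticMap.map_smul, hQk, QuadraticMap.polar_smul_right,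
      QuadraticMap.polar_comm, hky₀]
    simp
  have hky : QuadraticMap.polar Q k y₁ = 1 := by
    rw [hy₁, QuadraticMap.polar_add_right, hky₀, QuadraticMap.polar_smul_right, polar_self', hQk]
    simp
  have hy₁U : y₁ ∈ U := U.add_mem hy₀ (U.smul_mem _ hkU)
  obtain ⟨w, hwU, hwk, hwy, hw0⟩ : ∃ w ∈ U, QuadraticMap.polar Q k w = 0 ∧
      QuadraticMap.polar Q y₁ w = 0 ∧ w ≠ 0 := by
    let φ : U →ₗ[F] F × F :=
      (((QuadraticMap.polarBilin Q) k).comp U.subtype).prod (((QuadraticMap.polarBilin Q) y₁).comp U.subtype)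
    have hne : LinearMap.ker φ ≠ ⊥ := LinearMap.ker_ne_bot_of_finrank_lt (by simp [hUd])
    obtain ⟨⟨w, hwU⟩, hw, hw0⟩ := Submodule.exists_mem_ne_zero_of_ne_bot hne
    have hw' := LinearMap.mem_ker.1 hw
    exact ⟨w, hwU, congrArg Prod.fst hw', congrArg Prod.snd hw', fun e => hw0 (Subtype.ext e)⟩
  let L' : (F × (F × F)) →ₗ[F] U :=
    { toFun := fun v => ⟨v.1 • w + (v.2.1 • k + v.2.2 • y₁),
        U.add_mem (U.smul_mem _ hwU) (U.add_mem (U.smul_mem _ hkU) (U.smul_mem _ hy₁U))⟩
      map_add' := fun v v' => Subtype.ext (by simp [add_smul]; abel)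
      map_smul' := fun c v => Subtype.ext (by simp [smul_smul]) }
  have hL'inj : Function.Injective L' := by
    rw [← LinearMap.ker_eq_bot, Submodule.eq_bot_iff]
    rintro ⟨z, a', b'⟩ hv
    have hv' : z • w + (a' • k + b' • y₁) = 0 := congrArg Subtype.val (LinearMap.mem_ker.1 hv)
    have hk1 := congrArg (fun v => QuadraticMap.polar Q k v) hv'
    have hy1 := congrArg (fun v => QuadraticMap.polar Q y₁ v) hv'
    have hyk1 : QuadraticMap.polar Q y₁ k = 1 := by rw [QuadraticMap.polar_comm, hky]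
    simp [QuadraticMap.polar_add_right, QuadraticMap.polar_smul_right, hwk, hwy, hky, hyk1, polar_self',
      hQk, hQy, QuadraticMap.polar_zero_right] at hk1 hy1
    subst hk1 hy1
    have hz : z = 0 := (smul_eq_zero.1 (by simpa using hv')).resolve_right hw0
    simp [hz]
  have hL'bij : Function.Bijective L' :=
    ⟨hL'inj, (LinearMap.injective_iff_surjective_of_finrank_eq_finrank (by simp [hUd])).1 hL'inj⟩
  have hQL : ∀ v, Q (L' v : V) = Q w * v.1 ^ 2 + v.2.1 * v.2.2 := by
    intro v
    show Q (v.1 • w + (v.2.1 • k + v.2.2 • y₁)) = _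
    simp [quad_add, QuadraticMap.map_smul, QuadraticMap.polar_add_right, QuadraticMap.polar_smul_right,
      QuadraticMap.polar_smul_left, hQk, hQy, hky, QuadraticMap.polar_comm (f := ⇑Q) w, hwk, hwy]
    ring
  have hfixc : (Finset.univ.filter (fun z : {x : V // Q x = 1} => z.1 ∈ U)).card =
      Nat.card {v : F × (F × F) // Q w * v.1 ^ 2 + v.2.1 * v.2.2 = 1} := by
    rw [← Fintype.card_subtype, ← Nat.card_eq_fintype_card]
    refine Nat.card_congr ?_
    refine Equiv.trans
      ({ toFun := fun z => ⟨⟨z.1.1, z.2⟩, z.1.2⟩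
         invFun := fun z => ⟨⟨z.1.1, z.2⟩, z.1.2⟩
         left_inv := fun _ => rfl
         right_inv := fun _ => rfl } :
        {z : {x : V // Q x = 1} // z.1 ∈ U} ≃ {z : U // Q z = 1})
      ((Equiv.ofBijective L' hL'bij).subtypeEquiv (fun v => ?_)).symm
    rw [Equiv.ofBijective_apply, hQL]
  rw [hfixc] at hsplit
  rw [hsign] at hsgn'
  have hev : Even ((M + 1) * n) := (neg_one_pow_eq_one_iff_even (by decide)).1 hsgn'
  have hneven : Even n := by
    rcases Nat.even_mul.1 hev with h' | h'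
    · exact absurd (Nat.even_add_one.1 h') (not_not.2 hMeven)
    · exact h'
  have hqz : ((q - 1 : ℕ) : ℤ) = (q : ℤ) - 1 := by rw [Nat.cast_sub (by omega)]; simp
  rcases card_ternary (Q w) with hc' | hc' | hc'
  · rw [hc', ← hq] at hsplit
    have hz : ((M * n + q * (q - 1) : ℕ) : ℤ) = ((q ^ (2 * m + 2) + q ^ (m + 1) : ℕ) : ℤ) := by rw [hsplit]
    simp only [Nat.cast_add, Nat.cast_mul, Nat.cast_pow, hqz, hM, Nat.cast_one] at hz
    have hn' : (n : ℤ) = (q : ℤ) ^ 2 * ((q : ℤ) ^ m - 1) + q := by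
      refine mul_left_cancel₀ (show ((q : ℤ) ^ m + 1) ≠ 0 by positivity) ?_
      linear_combination hz
    obtain ⟨j, hj⟩ := hneven
    obtain ⟨i, hi⟩ := hqodd.pow (n := m)
    obtain ⟨i', hi'⟩ := hqodd
    have hi2 : ((q : ℤ) ^ m) = 2 * (i : ℤ) + 1 := by exact_mod_cast hi
    have hi3 : (q : ℤ) = 2 * (i' : ℤ) + 1 := by exact_mod_cast hi'
    rw [hj, hi2] at hn'
    push_cast at hn'
    have : (2 : ℤ) ∣ 1 := ⟨(j : ℤ) - (q : ℤ) ^ 2 * i - i', by linear_combination -hn' - hi3⟩
    omega
  · rw [hc', ← hq] at hsplit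
    have hz : ((M * n + (q * (q - 1) + 2 * q) : ℕ) : ℤ) = ((q ^ (2 * m + 2) + q ^ (m + 1) : ℕ) : ℤ) := by
      rw [hsplit]
    simp only [Nat.cast_add, Nat.cast_mul, Nat.cast_pow, hqz, hM, Nat.cast_one, Nat.cast_ofNat] at hz
    have hdvd : ((q : ℤ) ^ m + 1) ∣ 2 * (q : ℤ) :=
      ⟨(q : ℤ) ^ 2 * ((q : ℤ) ^ m - 1) + q - n, by linear_combination hz⟩
    have hle : q ^ m + 1 ≤ 2 * q := by
      have := Int.le_of_dvd (by positivity) hdvd
      exact_mod_cast this
    have : q * q ≤ q ^ m := by rw [← pow_two]; exact Nat.pow_le_pow_right (by omega) hm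
    nlinarith
  · exact h2 hc'

end Main

/-- The number of vectors of norm one of the standard odd-dimensional form. -/
theorem card_sphere {F : Type*} [Field F] [Fintype F] (h2 : (2 : F) ≠ 0) (n : ℕ) :
    Nat.card {v // Cfsg.quadFormOdd n F v = 1} = Fintype.card F ^ (2 * n) + Fintype.card F ^ n := by
  classical
  let e : (Unit ⊕ (Fin n ⊕ Fin n) → F) ≃ F × (Fin n ⊕ Fin n → F) :=
    (Equiv.sumArrowEquivProdArrow _ _ _).trans ((Equiv.funUnique Unit F).prodCongr (Equiv.refl _))
  have hQ : ∀ x w, Cfsg.quadFormOdd n F (e.symm (x, w)) = x ^ 2 + Cfsg.quadFormPlus n F w := by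
    intro x w
    simp [e, Cfsg.quadFormOdd, Cfsg.quadFormPlus]
  have h := FormCount.step e _ (fun x => x ^ 2) _ hQ _ _ _ 1 (fun z => FormCount.card_plus n _)
  have h1 : Nat.card {x : F // x ^ 2 = 1} = 2 := by
    rw [Nat.card_eq_two_iff]
    refine ⟨⟨1, one_pow 2⟩, ⟨-1, by ring⟩, fun e => h2 ?_, ?_⟩
    · linear_combination congrArg Subtype.val e
    · refine Set.eq_univ_of_forall fun x => ?_
      rcases sq_eq_one_iff.1 x.2 with hx | hx
      · exact Or.inl (Subtype.ext hx)
      · exact Or.inr (Subtype.ext hx)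
  rw [h1] at h
  have hq : (0 : ℤ) < Fintype.card F := by exact_mod_cast Fintype.card_pos
  have hz : ((Nat.card {v // Cfsg.quadFormOdd n F v = 1} : ℕ) : ℤ) =
      (Fintype.card F : ℤ) ^ (2 * n) + (Fintype.card F : ℤ) ^ n := by
    refine mul_left_cancel₀ hq.ne' ?_
    rw [h]; push_cast; ring
  exact_mod_cast hz

end Cfsg.Agent.SpectrumBC
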