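import Mathlib

/-!
# Element orders of the alternating group of degree 5
-/

namespace Cfsg.Agent.Recog

theorem a5_pow_eq_one : ∀ g : Equiv.Perm (Fin 5), Equiv.Perm.sign g = 1 →
    g ^ 2 = 1 ∨ g ^ 3 = 1 ∨ g ^ 5 = 1 := by
  decide +kernel

theorem a5_orderOf_cases (g : alternatingGroup (Fin 5)) :
    orderOf g ∈ ({1, 2, 3, 5} : Set ℕ) := by
  have h := a5_pow_eq_one g (Equiv.Perm.mem_alternatingGroup.1 g.2)
  rw [← Subgroup.orderOf_coe]
  simp only [← orderOf_dvd_iff_pow_eq_one] at h
  rcases h with h | h | h <;> rcases (Nat.dvd_prime (by norm_num)).1 h with h | h <;> simp [h]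

theorem a5_exists_orderOf {n : ℕ} (hn : n ∈ ({1, 2, 3, 5} : Set ℕ)) :
    ∃ g : alternatingGroup (Fin 5), orderOf g = n := by
  have h60 : Nat.card (alternatingGroup (Fin 5)) = 60 := by
    rw [nat_card_alternatingGroup, Nat.card_fin]; rfl
  rcases hn with rfl | rfl | rfl | rfl
  · exact ⟨1, orderOf_one⟩
  all_goals
    first
      | (have : Fact (Nat.Prime 2) := ⟨by norm_num⟩
         exact exists_prime_orderOf_dvd_card' 2 (by rw [h60]; norm_num))
      | (have : Fact (Nat.Prime 3) := ⟨by norm_num⟩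
         exact exists_prime_orderOf_dvd_card' 3 (by rw [h60]; norm_num))
      | (have : Fact (Nat.Prime 5) := ⟨by norm_num⟩
         exact exists_prime_orderOf_dvd_card' 5 (by rw [h60]; norm_num))

end Cfsg.Agent.Recog
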