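import Cfsg.Agent.Lib.CoprimeExt.Gallagher
import Cfsg.Agent.Lib.CT.Degree
import Cfsg.Agent.Lib.CT.Integral
import Cfsg.Agent.Lib.CT.SmallDegree
import Mathlib.GroupTheory.GroupAction.CardCommute

/-!
# Abelian subgroups of index at most `(b!)²`

If all irreducible degrees of a nonabelian group are at most `n`, then some subgroup of small
index has only smaller degrees.
-/

namespace Cfsg.Agent.AbelianIndex

open Cfsg Cfsg.Agent.CT
open scoped commutatorElement

open scoped ComplexConjugate

set_option linter.style.haveILetI false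
set_option linter.unusedSectionVars false

universe u

variable {G : Type u} [Group G]

/-- All irreducible degrees are at most `n`. -/
def DegLe (G : Type u) [Group G] (n : ℕ) : Prop :=
  ∀ χ : G → ℂ, IsIrrCharacter G χ → deg χ ≤ n

theorem deg_restrict (H : Subgroup G) (χ : G → ℂ) : deg (fun h : H => χ h) = deg χ := rfl

theorem exists_over [Fintype G] (H : Subgroup G) [Fintype H] {φ : H → ℂ}
    (hφ : IsIrrCharacter H φ) :
    ∃ χ : IrrCharacter G, classInner (fun h : H => (χ : G → ℂ) h) φ ≠ 0 := by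
  have hi := isCharacter_indFun H (isCharacter_of_isIrr hφ)
  have h1 : indFun H φ 1 ≠ 0 := by
    rw [indFun_one_eval, deg_eq (isCharacter_of_isIrr hφ)]
    exact mul_ne_zero (Nat.cast_ne_zero.mpr Subgroup.index_ne_zero_of_finite)
      (Nat.cast_ne_zero.mpr (deg_pos hφ).ne')
  obtain ⟨χ, hχ⟩ := exists_constituent hi (fun h => h1 (by rw [h]; rfl))
  refine ⟨χ, ?_⟩
  rw [← frobenius_reciprocity' H (isClassFunction_of_isIrr χ.2),
    classInner_comm_of_char (isCharacter_of_isIrr χ.2) hi]
  exact hχ

theorem deg_le_of_over [Fintype G] (H : Subgroup G) [Fintype H] {φ : H → ℂ}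
    (hφ : IsIrrCharacter H φ) {χ : G → ℂ} (hχ : IsIrrCharacter G χ)
    (h : classInner (fun x : H => χ x) φ ≠ 0) : deg φ ≤ deg χ := by
  rcases le_total (deg φ) (deg χ) with h1 | h1
  · exact h1
  · have := eq_of_deg_le (isCharacter_restrict H (isCharacter_of_isIrr hχ)) hφ h
      (by rw [deg_restrict]; exact h1)
    exact (congrArg deg this).symm.le.trans (deg_restrict H χ).le

theorem degLe_subgroup [Finite G] {n : ℕ} (hn : DegLe G n) (H : Subgroup G) : DegLe H n := by
  intro φ hφ
  haveI := Fintype.ofFinite G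
  haveI := Fintype.ofFinite H
  obtain ⟨χ, hχ⟩ := exists_over H hφ
  exact (deg_le_of_over H hφ χ.2 hχ).trans (hn _ χ.2)

/-- A constituent of an induced character of maximal degree is an extension. -/
theorem restrict_eq_of_over [Fintype G] {n : ℕ} (hn : DegLe G n) (H : Subgroup G) [Fintype H]
    {φ : H → ℂ} (hφ : IsIrrCharacter H φ) (hd : n ≤ deg φ) {χ : G → ℂ}
    (hχ : IsIrrCharacter G χ) (h : classInner (fun x : H => χ x) φ ≠ 0) :
    (fun x : H => χ x) = φ :=
  eq_of_deg_le (isCharacter_restrict H (isCharacter_of_isIrr hχ)) hφ h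
    (((deg_restrict H χ).le.trans (hn _ hχ)).trans hd)

theorem degLe_pred [Finite G] {n : ℕ} (hn : DegLe G n) (H : Subgroup G)
    (h : ∀ χ : G → ℂ, IsIrrCharacter G χ → deg χ = n →
      IsIrrCharacter H (fun x : H => χ x) → False) : DegLe H (n - 1) := by
  intro φ hφ
  haveI := Fintype.ofFinite G
  haveI := Fintype.ofFinite H
  by_contra hc
  have hle := degLe_subgroup hn H φ hφ
  have hd : n ≤ deg φ := by omega
  obtain ⟨χ, hχ⟩ := exists_over H hφ
  have he := restrict_eq_of_over hn H hφ hd χ.2 hχ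
  refine h _ χ.2 ?_ (he ▸ hφ)
  rw [← deg_restrict H, he]
  omega

/-- Some subgroup has smaller degrees and small index. -/
def HasSmall (G : Type u) [Group G] (n : ℕ) : Prop :=
  ∃ (H : Subgroup G) (m : ℕ), m < n ∧ DegLe H m ∧
    H.index * m.factorial ^ 2 ≤ n.factorial ^ 2

theorem hasSmall_pred {n : ℕ} (hn : 1 ≤ n) (H : Subgroup G) (hd : DegLe H (n - 1))
    (hi : H.index ≤ n ^ 2) : HasSmall G n := by
  refine ⟨H, n - 1, by omega, hd, ?_⟩
  rw [← Nat.mul_factorial_pred (by omega : n ≠ 0), mul_pow]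
  exact Nat.mul_le_mul_right _ hi

section Product

variable [Fintype G]

theorem isIrr_mul_of_restrict (K : Subgroup G) [K.Normal] [Fintype K] {χ β : G → ℂ}
    (hχ : IsIrrCharacter G χ) (hχK : IsIrrCharacter K (fun x : K => χ x))
    (hβ : IsIrrCharacter G β) (hβK : ∀ k ∈ K, β k = β 1) :
    IsIrrCharacter G (β * χ) := by
  classical
  have hne : classInner (fun x : K => β x) (fun _ => (1 : ℂ)) ≠ 0 := by
    have e : (fun x : K => β x) = β 1 • (fun _ : K => (1 : ℂ)) := by
      funext x
      simp [hβK x x.2]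
    rw [e, classInner_smul_left, irr_inner_self isIrrCharacter_one, mul_one,
      deg_eq (isCharacter_of_isIrr hβ)]
    exact Nat.cast_ne_zero.mpr (deg_pos hβ).ne'
  refine isIrr_of_inner_self (isCharacter_mul (isCharacter_of_isIrr hβ)
    (isCharacter_of_isIrr hχ)) ?_
  have h := CoprimeExt.inner_mul_ext K ⟨χ, hχ⟩ ⟨_, hχK⟩ (fun _ => rfl) ⟨β, hβ⟩ ⟨β, hβ⟩ hne hne
  rwa [if_pos rfl] at h

theorem deg_mul {χ β : G → ℂ} (hχ : IsCharacter G χ) (hβ : IsCharacter G β) :
    deg (β * χ) = deg β * deg χ := by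
  have h := deg_eq (isCharacter_mul hβ hχ)
  rw [Pi.mul_apply, deg_eq hχ, deg_eq hβ] at h
  exact_mod_cast h.symm

/-- Gallagher: degrees of the characters of `K` are at most half of the largest degree. -/
theorem degLe_half {n : ℕ} (hn : DegLe G n) (K : Subgroup G) [K.Normal] {β : G → ℂ}
    (hβ : IsIrrCharacter G β) (hf : 2 ≤ deg β) (hβK : ∀ k ∈ K, β k = β 1) :
    DegLe K (n / 2) := by
  intro φ hφ
  haveI := Fintype.ofFinite K
  by_contra hc
  obtain ⟨χ, hχ⟩ := exists_over K hφ
  have hd := clifford_mult K χ.2 hφ hχ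
  have hle := hn _ χ.2
  have hp := deg_pos χ.2
  rw [hd] at hle hp
  have h2 : n < 2 * deg φ := by omega
  have hone : mult (fun x : K => (χ : G → ℂ) x) φ * (inertia K φ).index = 1 := by
    rcases Nat.lt_or_ge (mult (fun x : K => (χ : G → ℂ) x) φ * (inertia K φ).index) 2 with h | h
    · have := pos_of_mul_pos_left hp (Nat.zero_le _)
      omega
    · exact absurd (Nat.mul_le_mul_right (deg φ) h) (by omega)
  rw [hone, one_mul] at hd
  have he : (fun x : K => (χ : G → ℂ) x) = φ :=
    eq_of_deg_le (isCharacter_restrict K (isCharacter_of_isIrr χ.2)) hφ hχ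
      ((deg_restrict K _).le.trans hd.le)
  have hirr := isIrr_mul_of_restrict K χ.2 (he ▸ hφ) hβ hβK
  have h3 := hn _ hirr
  rw [deg_mul (isCharacter_of_isIrr χ.2) (isCharacter_of_isIrr hβ), hd] at h3
  nlinarith [Nat.mul_le_mul_right (deg φ) hf]

end Product

section MinimalQuotient

variable {Q : Type u} [Group Q]

/-- Every nontrivial normal subgroup contains the derived subgroup, which is nontrivial. -/
def CommMin (Q : Type u) [Group Q] : Prop :=
  commutator Q ≠ ⊥ ∧ ∀ M : Subgroup Q, M.Normal → M ≠ ⊥ → commutator Q ≤ M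

theorem exists_nonlinear [Finite Q] (h : CommMin Q) :
    ∃ β : IrrCharacter Q, 2 ≤ deg (β : Q → ℂ) := by
  by_contra hc
  push Not at hc
  have hall : ∀ χ : IrrCharacter Q, (χ : Q → ℂ) 1 = 1 := by
    intro χ
    have h1 : deg (χ : Q → ℂ) = 1 := by
      have := hc χ
      have := deg_pos χ.2
      omega
    rw [deg_eq (isCharacter_of_isIrr χ.2), h1, Nat.cast_one]
  refine h.1 (eq_bot_iff.mpr (Subgroup.commutator_le.mpr fun a _ b _ => ?_))
  rw [Subgroup.mem_bot, commutatorElement_eq_one_iff_mul_comm]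
  exact comm_iff_all_linear.mpr hall a b

theorem eq_one_of_rep [Fintype Q] (h : CommMin Q) {d : ℕ}
    (ρ : Representation ℂ Q (Fin d → ℂ)) [hρ : ρ.IsIrreducible] (hd : 2 ≤ d) {w : Q}
    (hw : ρ w = 1) : w = 1 := by
  have hker : ρ.asGroupHom.ker = ⊥ := by
    by_contra hne
    have hle := h.2 _ inferInstance hne
    have hK : ∀ x ∈ commutator Q, ρ.character x = ρ.character 1 := by
      intro x hx
      have h1 := congrArg Units.val (MonoidHom.mem_ker.mp (hle hx))
      rw [Representation.asGroupHom_apply, Units.val_one] at h1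
      exact (rep_eq_one_iff ρ x).mp h1
    obtain ⟨ψ, hψ, hψe⟩ := exists_quotient_irr ⟨d, ρ, hρ, rfl⟩ (commutator Q) hK
    have hc : ∀ a b : Q ⧸ commutator Q, a * b = b * a := fun a b =>
      (inferInstance : CommGroup (Abelianization Q)).mul_comm a b
    have h1 := irr_degree_one_of_comm hc hψ
    rw [← QuotientGroup.mk_one, hψe, Representation.char_one, Module.finrank_fin_fun] at h1
    have : d = 1 := by exact_mod_cast h1
    omega
  have : w ∈ ρ.asGroupHom.ker := by
    rw [MonoidHom.mem_ker]
    exact Units.ext (by rw [Representation.asGroupHom_apply, hw, Units.val_one])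
  rw [hker] at this
  exact Subgroup.mem_bot.mp this

theorem centralCase [Fintype Q] (h : CommMin Q) (hz : commutator Q ≤ Subgroup.center Q)
    {β : Q → ℂ} (hβ : IsIrrCharacter Q β) (hf : 2 ≤ deg β) :
    (∀ g ∈ Subgroup.center Q, ‖β g‖ = (deg β : ℝ)) ∧
      (∀ g ∉ Subgroup.center Q, β g = 0) ∧
      (Subgroup.center Q).index = deg β ^ 2 := by
  classical
  obtain ⟨d, ρ, hρ, rfl⟩ := hβ
  haveI := hρ
  have hd : deg ρ.character = d := by rw [deg_eq_finrank, Module.finrank_fin_fun]
  rw [hd] at hf ⊢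
  have hsc : ∀ z ∈ Subgroup.center Q, ∃ c : ℂ, ρ z = c • LinearMap.id := fun z hz' =>
    ⟨_, eq_scalar_of_commute ρ (ρ z) fun g => by
      rw [← map_mul, ← map_mul, Subgroup.mem_center_iff.mp hz' g]⟩
  have hon : ∀ g ∈ Subgroup.center Q, ‖ρ.character g‖ = (d : ℝ) := fun g hg => by
    rw [(norm_eq_iff_scalar ρ g).mpr (hsc g hg), Module.finrank_fin_fun]
  have hoff : ∀ g ∉ Subgroup.center Q, ρ.character g = 0 := by
    intro g hg
    obtain ⟨t, ht⟩ : ∃ t : Q, t * g ≠ g * t := by
      by_contra hc
      push Not at hc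
      exact hg (Subgroup.mem_center_iff.mpr hc)
    have hwC : ⁅t, g⁆ ∈ commutator Q :=
      Subgroup.commutator_mem_commutator (Subgroup.mem_top _) (Subgroup.mem_top _)
    obtain ⟨c, hc⟩ := hsc _ (hz hwC)
    have hw : ⁅t, g⁆ * g = t * g * t⁻¹ := by rw [commutatorElement_def]; group
    have h1 : c * ρ.character g = ρ.character g := by
      have h2 := ρ.char_conj g t
      rw [← hw] at h2
      simp only [Representation.character, map_mul] at h2 ⊢
      rw [hc, show (c • LinearMap.id : Module.End ℂ (Fin d → ℂ)) * ρ g = c • ρ g from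
        LinearMap.ext fun v => rfl, map_smul, smul_eq_mul] at h2
      exact h2
    by_contra h0
    have hc1 : c = 1 := mul_right_cancel₀ h0 (h1.trans (one_mul _).symm)
    rw [hc1, one_smul] at hc
    exact ht (commutatorElement_eq_one_iff_mul_comm.mp (eq_one_of_rep h ρ hf hc))
  refine ⟨hon, hoff, ?_⟩
  have hself := irr_inner_self (⟨d, ρ, hρ, rfl⟩ : IsIrrCharacter Q ρ.character)
  rw [classInner_self] at hself
  have hsum : ∑ g : Q, ‖ρ.character g‖ ^ 2 =
      ∑ g : Q, if g ∈ Subgroup.center Q then (d : ℝ) ^ 2 else 0 := by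
    refine Finset.sum_congr rfl fun g _ => ?_
    split_ifs with hg
    · rw [hon g hg]
    · simp [hoff g hg]
  rw [hsum, ← Finset.sum_filter, Finset.sum_const, nsmul_eq_mul,
    ← Fintype.card_subtype, ← Nat.card_eq_fintype_card] at hself
  have h1 : (Nat.card Q : ℝ)⁻¹ * ((Nat.card (Subgroup.center Q) : ℝ) * (d : ℝ) ^ 2) = 1 := by
    exact_mod_cast hself
  have hQ : (Nat.card Q : ℝ) ≠ 0 := Nat.cast_ne_zero.mpr Nat.card_pos.ne'
  have h2 : ((Nat.card (Subgroup.center Q) * d ^ 2 : ℕ) : ℝ) = (Nat.card Q : ℕ) := by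
    field_simp at h1
    push_cast
    linarith
  have h3 : Nat.card (Subgroup.center Q) * d ^ 2 = Nat.card Q := by exact_mod_cast h2
  exact mul_left_cancel₀ Nat.card_pos.ne'
    ((Subgroup.card_mul_index _).trans h3.symm)

theorem center_eq_bot (h : CommMin Q) (hz : ¬ commutator Q ≤ Subgroup.center Q) :
    Subgroup.center Q = ⊥ := by
  by_contra hne
  exact hz (h.2 _ inferInstance hne)

theorem centralizer_eq_bot (h : CommMin Q)
    (hab : ¬ commutator Q ≤ Subgroup.centralizer (commutator Q : Set Q)) :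
    Subgroup.centralizer (commutator Q : Set Q) = ⊥ := by
  by_contra hne
  exact hab (h.2 _ inferInstance hne)

variable (h : CommMin Q) (hab : commutator Q ≤ Subgroup.centralizer (commutator Q : Set Q))

include hab in
theorem comm_derived {a b : Q} (ha : a ∈ commutator Q) (hb : b ∈ commutator Q) :
    a * b = b * a :=
  (Subgroup.mem_centralizer_iff.mp (hab ha) b hb).symm

include h hab in
theorem eq_one_of_commute {g v : Q} (hg : g ∉ Subgroup.centralizer (commutator Q : Set Q))
    (hv : v ∈ commutator Q) (hc : g * v = v * g) : v = 1 := by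
  set Z := commutator Q ⊓ Subgroup.centralizer ({g} : Set Q) with hZ
  have hn : Z.Normal := by
    refine ⟨fun x hx t => ?_⟩
    obtain ⟨hx1, hx2⟩ := Subgroup.mem_inf.mp hx
    have hn : (commutator Q).Normal := inferInstance
    refine Subgroup.mem_inf.mpr ⟨hn.conj_mem x hx1 t, Subgroup.mem_centralizer_singleton_iff.mpr ?_⟩
    have hg' : g * x = x * g := (Subgroup.mem_centralizer_singleton_iff.mp hx2).symm
    have hw : ⁅g⁻¹, t⁻¹⁆ ∈ commutator Q :=
      Subgroup.commutator_mem_commutator (Subgroup.mem_top _) (Subgroup.mem_top _)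
    have hs : t⁻¹ * g * t = g * ⁅g⁻¹, t⁻¹⁆ := by rw [commutatorElement_def]; group
    have hcomm : (t⁻¹ * g * t) * x = x * (t⁻¹ * g * t) := by
      rw [hs, mul_assoc, comm_derived hab hw hx1, ← mul_assoc, hg', mul_assoc]
    calc t * x * t⁻¹ * g = t * (x * (t⁻¹ * g * t)) * t⁻¹ := by group
      _ = t * ((t⁻¹ * g * t) * x) * t⁻¹ := by rw [hcomm]
      _ = g * (t * x * t⁻¹) := by group
  by_contra hv1
  have hle := h.2 Z hn fun hb => hv1 (Subgroup.mem_bot.mp (hb ▸
    Subgroup.mem_inf.mpr ⟨hv, Subgroup.mem_centralizer_singleton_iff.mpr hc.symm⟩))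
  exact hg (Subgroup.mem_centralizer_iff.mpr fun y hy =>
    Subgroup.mem_centralizer_singleton_iff.mp (Subgroup.mem_inf.mp (hle hy)).2)

include h hab in
theorem derived_eq_commutators [Finite Q] {g : Q}
    (hg : g ∉ Subgroup.centralizer (commutator Q : Set Q)) {w : Q} (hw : w ∈ commutator Q) :
    ∃ v ∈ commutator Q, ⁅g, v⁆ = w := by
  let D : commutator Q → commutator Q := fun v =>
    ⟨⁅g, (v : Q)⁆, Subgroup.commutator_mem_commutator (Subgroup.mem_top _) (Subgroup.mem_top _)⟩
  have hinj : Function.Injective D := by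
    intro a b hd
    have he : ⁅g, (a : Q)⁆ = ⁅g, (b : Q)⁆ := congrArg Subtype.val hd
    have hu : (a : Q) * (b : Q)⁻¹ ∈ commutator Q := mul_mem a.2 (inv_mem b.2)
    have hwc := comm_derived hab
      (Subgroup.commutator_mem_commutator (Subgroup.mem_top g) (Subgroup.mem_top (b : Q))) hu
    have h1 : g * ((a : Q) * (b : Q)⁻¹) * g⁻¹ = (a : Q) * (b : Q)⁻¹ := by
      calc g * ((a : Q) * (b : Q)⁻¹) * g⁻¹
          = ⁅g, (a : Q)⁆ * ((a : Q) * (b : Q)⁻¹) * ⁅g, (b : Q)⁆⁻¹ := by
            simp only [commutatorElement_def]; group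
        _ = (a : Q) * (b : Q)⁻¹ := by rw [he, hwc, mul_inv_cancel_right]
    have := eq_one_of_commute h hab hg hu (mul_inv_eq_iff_eq_mul.mp h1)
    exact Subtype.ext (mul_inv_eq_one.mp this)
  obtain ⟨v, hv⟩ := (Finite.injective_iff_surjective.mp hinj) ⟨w, hw⟩
  exact ⟨v, v.2, congrArg Subtype.val hv⟩

include h hab in
theorem centralizer_le_derived [Finite Q] (hz : Subgroup.center Q = ⊥) :
    Subgroup.centralizer (commutator Q : Set Q) ≤ commutator Q := by
  intro c hc
  obtain ⟨g, hg⟩ : ∃ g : Q, g ∉ Subgroup.centralizer (commutator Q : Set Q) := by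
    by_contra hall
    push Not at hall
    refine h.1 (eq_bot_iff.mpr (hz ▸ fun x hx => Subgroup.mem_center_iff.mpr fun y =>
      (Subgroup.mem_centralizer_iff.mp (hall y) x hx).symm))
  obtain ⟨v, hv, hvw⟩ := derived_eq_commutators h hab hg
    (Subgroup.commutator_mem_commutator (Subgroup.mem_top g) (Subgroup.mem_top c))
  set C := Subgroup.centralizer (commutator Q : Set Q) with hC
  have hc' : c * v⁻¹ ∈ C := mul_mem hc (inv_mem (hab hv))
  have hgc : g * (c * v⁻¹) = (c * v⁻¹) * g := by
    have hwC : ⁅g, v⁆ ∈ commutator Q :=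
      Subgroup.commutator_mem_commutator (Subgroup.mem_top _) (Subgroup.mem_top _)
    have h1 := (Subgroup.mem_centralizer_iff.mp hc' _ hwC)
    have h2 : g * (c * v⁻¹) * g⁻¹ = c * v⁻¹ := by
      calc g * (c * v⁻¹) * g⁻¹ = ⁅g, c⁆ * (c * v⁻¹) * ⁅g, v⁆⁻¹ := by
            simp only [commutatorElement_def]; group
        _ = c * v⁻¹ := by rw [← hvw, h1, mul_inv_cancel_right]
    exact mul_inv_eq_iff_eq_mul.mp h2
  have hcz : c * v⁻¹ ∈ Subgroup.center Q := by
    rw [Subgroup.mem_center_iff]
    intro t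
    have hw : ⁅c * v⁻¹, t⁆ ∈ commutator Q :=
      Subgroup.commutator_mem_commutator (Subgroup.mem_top _) (Subgroup.mem_top _)
    have hu : ⁅g, t⁆ ∈ commutator Q :=
      Subgroup.commutator_mem_commutator (Subgroup.mem_top _) (Subgroup.mem_top _)
    have hu' := Subgroup.mem_centralizer_iff.mp hc' _ hu
    have hgw : g * ⁅c * v⁻¹, t⁆ * g⁻¹ = ⁅c * v⁻¹, t⁆ := by
      have e1 : g * t * g⁻¹ = ⁅g, t⁆ * t := by rw [commutatorElement_def]; group
      have e2 : g * (c * v⁻¹) * g⁻¹ = c * v⁻¹ := by rw [hgc, mul_inv_cancel_right]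
      calc g * ⁅c * v⁻¹, t⁆ * g⁻¹
          = (g * (c * v⁻¹) * g⁻¹) * (g * t * g⁻¹) * (g * (c * v⁻¹) * g⁻¹)⁻¹ *
              (g * t * g⁻¹)⁻¹ := by
            simp only [commutatorElement_def]; group
        _ = ((c * v⁻¹) * ⁅g, t⁆) * t * (c * v⁻¹)⁻¹ * t⁻¹ * ⁅g, t⁆⁻¹ := by
            rw [e1, e2]; group
        _ = ⁅g, t⁆ * ⁅c * v⁻¹, t⁆ * ⁅g, t⁆⁻¹ := by
            rw [← hu']; simp only [commutatorElement_def]; group
        _ = ⁅c * v⁻¹, t⁆ := by rw [comm_derived hab hu hw, mul_inv_cancel_right]
    have := eq_one_of_commute h hab hg hw (mul_inv_eq_iff_eq_mul.mp hgw)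
    exact (commutatorElement_eq_one_iff_mul_comm.mp this).symm
  rw [hz, Subgroup.mem_bot, mul_inv_eq_one] at hcz
  exact hcz ▸ hv

include h hab in
theorem index_derived_le [Fintype Q] (hz : Subgroup.center Q = ⊥)
    {β : Q → ℂ} (hβ : IsIrrCharacter Q β) (hf : 2 ≤ deg β) :
    (commutator Q).index ≤ deg β := by
  classical
  obtain ⟨lam, hlam⟩ := exists_constituent_restrict (commutator Q) hβ
  have hcomm : ∀ a b : commutator Q, a * b = b * a :=
    fun a b => Subtype.ext (comm_derived hab a.2 b.2)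
  have hd := clifford_mult (commutator Q) hβ lam.2 hlam
  have hpos := deg_pos hβ
  obtain ⟨l, hl⟩ := exists_hom_of_comm hcomm lam.2
  have hin : inertia (commutator Q) (lam : commutator Q → ℂ) ≤ commutator Q := by
    intro g hg
    by_contra hgQ
    have hgC : g ∉ Subgroup.centralizer (commutator Q : Set Q) :=
      fun hh => hgQ (centralizer_le_derived h hab hz hh)
    have hinv := (mem_inertia_iff (commutator Q)).mp hg
    have hone : ∀ x : commutator Q, (lam : commutator Q → ℂ) x = 1 := by
      intro x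
      obtain ⟨v, hv, hvx⟩ := derived_eq_commutators h hab hgC x.2
      have h1 := hinv ⟨v, hv⟩
      rw [hl] at h1 ⊢
      have hx : x = ⟨g * v * g⁻¹, (inferInstance : (commutator Q).Normal).conj_mem v hv g⟩ *
          (⟨v, hv⟩ : commutator Q)⁻¹ :=
        Subtype.ext (by simp [← hvx, commutatorElement_def])
      simp only [Units.val_inj] at h1
      show (l x : ℂ) = 1
      rw [hx, map_mul, map_inv, h1, mul_inv_cancel, Units.val_one]
    have he : (lam : commutator Q → ℂ) = fun _ => 1 := funext hone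
    rw [he] at hlam
    have hr := restrict_eq_smul_of_invariant (commutator Q) hβ isIrrCharacter_one hlam
      (fun _ => rfl)
    refine h.1 (eq_bot_iff.mpr fun x hx => Subgroup.mem_bot.mpr ?_)
    have h1 := congrFun hr ⟨x, hx⟩
    have h2 := congrFun hr 1
    simp only [Pi.smul_apply, OneMemClass.coe_one] at h1 h2
    obtain ⟨d, ρ, hρ, rfl⟩ := hβ
    haveI := hρ
    refine eq_one_of_rep h ρ ?_ ((rep_eq_one_iff ρ x).mpr (h1.trans h2.symm))
    rwa [deg_eq_finrank, Module.finrank_fin_fun] at hf
  have hpi := Subgroup.index_dvd_of_le hin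
  have hi0 : (inertia (commutator Q) (lam : commutator Q → ℂ)).index ∣ deg β :=
    ⟨mult (fun x : commutator Q => β x) lam * deg (lam : commutator Q → ℂ), by rw [hd]; ring⟩
  exact Nat.le_of_dvd hpos (hpi.trans hi0)

include h hab in
theorem derived_sq_ne_one [Finite Q] (hz : Subgroup.center Q = ⊥)
    (hi : (commutator Q).index ≤ 2) {v : Q} (hv : v ∈ commutator Q) (h2 : v * v = 1) : v = 1 := by
  obtain ⟨g, hg⟩ : ∃ g : Q, g ∉ commutator Q := by
    by_contra hall
    push Not at hall
    refine h.1 (eq_bot_iff.mpr (hz ▸ fun x hx => Subgroup.mem_center_iff.mpr fun y =>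
      comm_derived hab (hall y) hx))
  have hi2 : (commutator Q).index = 2 := by
    have h0 : (commutator Q).index ≠ 0 := Subgroup.index_ne_zero_of_finite
    have h1 : (commutator Q).index ≠ 1 := fun e =>
      hg ((Subgroup.index_eq_one.mp e) ▸ Subgroup.mem_top g)
    omega
  have hgC : g ∉ Subgroup.centralizer (commutator Q : Set Q) :=
    fun hh => hg (centralizer_le_derived h hab hz hh)
  have hgg : g * g ∈ commutator Q := Subgroup.mul_self_mem_of_index_two hi2 g
  have hu : g * v * g⁻¹ ∈ commutator Q :=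
    (inferInstance : (commutator Q).Normal).conj_mem v hv g
  have hggv : (g * g) * v = v * (g * g) := comm_derived hab hgg hv
  have hfix : g * (v * (g * v * g⁻¹)) * g⁻¹ = v * (g * v * g⁻¹) := by
    calc g * (v * (g * v * g⁻¹)) * g⁻¹ = (g * v * g⁻¹) * ((g * g) * v * (g * g)⁻¹) := by group
      _ = (g * v * g⁻¹) * v := by rw [hggv, mul_inv_cancel_right]
      _ = v * (g * v * g⁻¹) := comm_derived hab hu hv
  have h1 := eq_one_of_commute h hab hgC (mul_mem hv hu) (mul_inv_eq_iff_eq_mul.mp hfix)
  have h3 : g * v * g⁻¹ = v :=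
    (eq_inv_of_mul_eq_one_right h1).trans (inv_eq_of_mul_eq_one_right h2)
  exact eq_one_of_commute h hab hgC hv (mul_inv_eq_iff_eq_mul.mp h3)

end MinimalQuotient

theorem factorial_bound {n : ℕ} (hn : 5 ≤ n) :
    n ^ 4 * (n / 2).factorial ^ 2 ≤ n.factorial ^ 2 := by
  have h1 : n ^ 2 * (n / 2).factorial ≤ n.factorial := by
    obtain ⟨k, rfl⟩ : ∃ k, n = k + 3 := ⟨n - 3, by omega⟩
    have h2 : ((k + 3) / 2).factorial ≤ k.factorial := Nat.factorial_le (by omega)
    rw [Nat.factorial_succ, Nat.factorial_succ, Nat.factorial_succ]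
    have h3 : (k + 3) ^ 2 ≤ (k + 2 + 1) * ((k + 1 + 1) * (k + 1)) := by nlinarith
    calc (k + 3) ^ 2 * ((k + 3) / 2).factorial
        ≤ ((k + 2 + 1) * ((k + 1 + 1) * (k + 1))) * k.factorial := Nat.mul_le_mul h3 h2
      _ = _ := by ring
  calc n ^ 4 * (n / 2).factorial ^ 2 = (n ^ 2 * (n / 2).factorial) ^ 2 := by ring
    _ ≤ _ := Nat.pow_le_pow_left h1 2

theorem cube_bound {n : ℕ} (hn : 3 ≤ n) :
    n ^ 3 * (n / 2).factorial ^ 2 ≤ n.factorial ^ 2 := by
  rcases Nat.lt_or_ge n 5 with h | h
  · interval_cases n <;> decide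
  · refine le_trans ?_ (factorial_bound h)
    exact Nat.mul_le_mul_right _ (Nat.pow_le_pow_right (by omega) (by omega))

section Main

variable [Fintype G] {n : ℕ} (hn : DegLe G n) (K : Subgroup G) [hK : K.Normal]
  (hq : CommMin (G ⧸ K)) {b : G ⧸ K → ℂ} (hb : IsIrrCharacter (G ⧸ K) b) (hf : 2 ≤ deg b)

theorem deg_inflate : deg (fun g => b (QuotientGroup.mk g)) = deg b := by
  simp [CT.deg]

include hb in
theorem isIrr_inflated : IsIrrCharacter G (fun g => b (QuotientGroup.mk g)) :=
  isIrr_inflate K hb fun _ => rfl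

theorem inflate_eq_one : ∀ k ∈ K, (fun g : G => b (QuotientGroup.mk g)) k =
    (fun g : G => b (QuotientGroup.mk g)) 1 := fun k hk => by
  show b (QuotientGroup.mk k) = b (QuotientGroup.mk 1)
  rw [(QuotientGroup.eq_one_iff k).mpr hk, QuotientGroup.mk_one]

include hn hb hf in
theorem two_le_bound : 2 ≤ n := by
  have := hn _ (isIrr_inflated K hb)
  rw [deg_inflate] at this
  omega

include hn hb hf in
theorem bound_sq : deg b ≤ n := by
  have := hn _ (isIrr_inflated K hb)
  rwa [deg_inflate] at this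

include hn hb hf in
theorem degLe_K : DegLe K (n / 2) :=
  degLe_half hn K (isIrr_inflated K hb) (by rw [deg_inflate]; exact hf) (inflate_eq_one K)

include hn hb hf in
theorem restrict_K_not_irr {χ : G → ℂ} (hχ : IsIrrCharacter G χ) (hd : deg χ = n) :
    ¬ IsIrrCharacter K (fun x : K => χ x) := by
  haveI := Fintype.ofFinite K
  intro hi
  have h := hn _ (isIrr_mul_of_restrict K hχ hi (isIrr_inflated K hb) (inflate_eq_one K))
  rw [deg_mul (isCharacter_of_isIrr hχ) (isCharacter_of_isIrr (isIrr_inflated K hb)),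
    deg_inflate, hd] at h
  have := two_le_bound hn K hb hf
  nlinarith

include hn hq hb hf in
theorem hasSmall_central (hz : commutator (G ⧸ K) ≤ Subgroup.center (G ⧸ K)) :
    HasSmall G n := by
  classical
  haveI := Fintype.ofFinite (G ⧸ K)
  obtain ⟨hon, hoff, hidx⟩ := centralCase hq hz hb hf
  set Z := (Subgroup.center (G ⧸ K)).comap (QuotientGroup.mk' K) with hZdef
  have hZi : Z.index = deg b ^ 2 := by
    rw [hZdef, Subgroup.index_comap_of_surjective _ (QuotientGroup.mk'_surjective K), hidx]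
  have hfn := bound_sq hn K hb hf
  refine hasSmall_pred (by omega) Z (degLe_pred hn Z fun χ hχ hd hi => ?_)
    (hZi ▸ Nat.pow_le_pow_left hfn 2)
  haveI := Fintype.ofFinite Z
  set β : G → ℂ := fun g => b (QuotientGroup.mk g) with hβdef
  have hβ := isIrr_inflated K hb
  have h1 := irr_inner_self hi
  rw [classInner_self] at h1
  have hsumZ : ∑ x : Z, ‖χ x‖ ^ 2 = (Nat.card Z : ℝ) := by
    have h2 : (Nat.card Z : ℝ)⁻¹ * ∑ x : Z, ‖χ x‖ ^ 2 = 1 := by exact_mod_cast h1
    have hZ0 : (Nat.card Z : ℝ) ≠ 0 := Nat.cast_ne_zero.mpr Nat.card_pos.ne'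
    field_simp at h2
    linarith
  have hirr : IsIrrCharacter G (β * χ) := by
    refine isIrr_of_inner_self (isCharacter_mul (isCharacter_of_isIrr hβ)
      (isCharacter_of_isIrr hχ)) ?_
    rw [classInner_self]
    have hs : ∑ g : G, ‖(β * χ) g‖ ^ 2 =
        ∑ g : G, if g ∈ Z then (deg b : ℝ) ^ 2 * ‖χ g‖ ^ 2 else 0 := by
      refine Finset.sum_congr rfl fun g _ => ?_
      rw [Pi.mul_apply, norm_mul, mul_pow]
      show ‖b (QuotientGroup.mk g)‖ ^ 2 * _ = _
      split_ifs with hg
      · rw [hon (QuotientGroup.mk g) hg]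
      · simp [hoff (QuotientGroup.mk g) hg]
    rw [hs, ← Finset.sum_filter, Finset.sum_subtype (p := fun g => g ∈ Z)
      (Finset.univ.filter fun g => g ∈ Z) (by simp) (fun g => (deg b : ℝ) ^ 2 * ‖χ g‖ ^ 2),
      ← Finset.mul_sum, hsumZ, ← Z.card_mul_index, hZi]
    have hZ0 : (Nat.card Z : ℝ) ≠ 0 := Nat.cast_ne_zero.mpr Nat.card_pos.ne'
    have hd0 : (deg b : ℝ) ≠ 0 := Nat.cast_ne_zero.mpr (by omega)
    push_cast
    norm_cast
    push_cast
    field_simp
    exact div_self (Nat.cast_ne_zero.mpr (by omega))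
  have h3 := hn _ hirr
  rw [deg_mul (isCharacter_of_isIrr hχ) (isCharacter_of_isIrr hβ), deg_inflate, hd] at h3
  nlinarith

include hn hq hb hf in
theorem hasSmall_abelian
    (hab : commutator (G ⧸ K) ≤ Subgroup.centralizer (commutator (G ⧸ K) : Set (G ⧸ K)))
    (hz : Subgroup.center (G ⧸ K) = ⊥) : HasSmall G n := by
  classical
  haveI := Fintype.ofFinite (G ⧸ K)
  haveI := Fintype.ofFinite K
  set D := commutator (G ⧸ K) with hD
  set N := D.comap (QuotientGroup.mk' K) with hNdef
  have hn2 := two_le_bound hn K hb hf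
  have hDi : D.index ≤ n := (index_derived_le hq hab hz hb hf).trans (bound_sq hn K hb hf)
  have hNi : N.index = D.index := by
    rw [hNdef, Subgroup.index_comap_of_surjective _ (QuotientGroup.mk'_surjective K)]
  by_cases hex : ∀ χ : G → ℂ, IsIrrCharacter G χ → deg χ = n →
      IsIrrCharacter N (fun x : N => χ x) → False
  · exact hasSmall_pred (by omega) N (degLe_pred hn N hex)
      ((hNi.le.trans hDi).trans (Nat.le_self_pow two_ne_zero n))
  push Not at hex
  obtain ⟨χ, hχ, hd, hi, -⟩ := hex
  haveI := Fintype.ofFinite N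
  have hKN : K ≤ N := fun k hk => by
    rw [hNdef, Subgroup.mem_comap, QuotientGroup.mk'_apply, (QuotientGroup.eq_one_iff k).mpr hk]
    exact one_mem _
  let π : N →* D := ((QuotientGroup.mk' K).comp N.subtype).codRestrict D fun x => x.2
  have hπ : ∀ x : N, π x = 1 ↔ (x : G) ∈ K := fun x => by
    rw [Subtype.ext_iff]
    exact QuotientGroup.eq_one_iff (x : G)
  have hcommD : ∀ a b : D, a * b = b * a :=
    fun a b => Subtype.ext (comm_derived hab a.2 b.2)
  have hcardG : Nat.card K * (Nat.card D * D.index) = Nat.card G := by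
    rw [Subgroup.card_mul_index, ← Subgroup.index_eq_card, Subgroup.card_mul_index]
  have hcardN : Nat.card N = Nat.card D * Nat.card K := by
    have h1 := N.card_mul_index
    rw [hNi, ← hcardG, ← mul_assoc, mul_comm (Nat.card K)] at h1
    exact mul_right_cancel₀ Subgroup.index_ne_zero_of_finite h1
  have hNs := irr_inner_self hi
  rw [classInner_self] at hNs
  have hNsum : ∑ x : N, ‖χ x‖ ^ 2 = (Nat.card N : ℝ) := by
    have h2 : (Nat.card N : ℝ)⁻¹ * ∑ x : N, ‖χ x‖ ^ 2 = 1 := by exact_mod_cast hNs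
    have hZ0 : (Nat.card N : ℝ) ≠ 0 := Nat.cast_ne_zero.mpr Nat.card_pos.ne'
    field_simp at h2
    linarith
  -- some nontrivial linear character of `D` fixes the restriction of `χ`
  obtain ⟨l, hl1, hl⟩ : ∃ l : D →* ℂˣ, l ≠ 1 ∧ ∀ x : N, (l (π x) : ℂ) * χ x = χ x := by
    by_contra hc
    have hirrK : IsIrrCharacter K (fun x : K => χ x) := by
      refine isIrr_of_inner_self (isCharacter_restrict K (isCharacter_of_isIrr hχ)) ?_
      have hcol : ∀ a : D, ∑ m : IrrCharacter D, (m : D → ℂ) a =
          if a = 1 then (Nat.card D : ℂ) else 0 := by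
        intro a
        have h := column_orthogonality a 1
        have hone : ∀ m : IrrCharacter D, (m : D → ℂ) 1 = 1 :=
          fun m => irr_degree_one_of_comm hcommD m.2
        simp only [hone, map_one, mul_one] at h
        rw [h]
        by_cases ha : a = 1
        · subst ha
          rw [if_pos (IsConj.refl _), if_pos rfl]
          have : Subgroup.centralizer ({1} : Set D) = ⊤ :=
            eq_top_iff.mpr fun y _ => Subgroup.mem_centralizer_singleton_iff.mpr (by simp)
          rw [this, Subgroup.card_top]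
        · rw [if_neg ha, if_neg fun hcj => ha (isConj_one_left.mp hcj)]
      have hterm : ∀ m : IrrCharacter D,
          classInner ((fun x : N => (m : D → ℂ) (π x)) * fun x : N => χ x) (fun x : N => χ x) =
            if m = trivIrr D then 1 else 0 := by
        intro m
        obtain ⟨l, hl⟩ := exists_hom_of_comm hcommD m.2
        split_ifs with hm
        · rw [hm, show ((fun x : N => (trivIrr D : D → ℂ) (π x)) * fun x : N => χ x) =
            (fun x : N => χ x) from funext fun x => by simp]
          exact irr_inner_self hi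
        · have hprod : ((fun x : N => (m : D → ℂ) (π x)) * fun x : N => χ x) =
              fun x : N => ((l.comp π) x : ℂ) * χ x := by
            funext x
            simp [hl]
          rw [hprod, irr_inner (CT.SmallDeg.isIrr_lin_mul (l.comp π) hi) hi, if_neg]
          intro he
          refine hc ⟨l, fun h1 => hm (Subtype.ext ?_), fun x => congrFun he x⟩
          rw [hl, h1]
          funext x
          simp
      have hsum : ∑ m : IrrCharacter D,
          classInner ((fun x : N => (m : D → ℂ) (π x)) * fun x : N => χ x) (fun x : N => χ x) =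
            1 := by
        simp only [hterm, Finset.sum_ite_eq', Finset.mem_univ, if_true]
      rw [← hsum]
      simp only [classInner, Pi.mul_apply]
      rw [← Finset.mul_sum, Finset.sum_comm]
      simp only [mul_assoc, ← Finset.sum_mul, hcol, ite_mul, zero_mul]
      rw [← Finset.sum_filter, ← Finset.mul_sum, hcardN]
      have he : ∑ x ∈ Finset.univ.filter (fun x : N => π x = 1), χ x * conj (χ x) =
          ∑ k : K, χ k * conj (χ k) := by
        refine (Finset.sum_bij (fun (k : K) _ => (⟨k, hKN k.2⟩ : N)) ?_ ?_ ?_ ?_).symm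
        · intro k _
          simp [hπ]
        · intro k₁ _ k₂ _ h
          exact Subtype.ext (congrArg (fun y : N => (y : G)) h)
        · intro x hx
          exact ⟨⟨x, (hπ x).mp (Finset.mem_filter.mp hx).2⟩, Finset.mem_univ _, rfl⟩
        · intro k _
          rfl
      rw [he]
      have hD0 : (Nat.card D : ℂ) ≠ 0 := card_ne_zero
      push_cast
      field_simp
    exact restrict_K_not_irr hn K hb hf hχ hd hirrK
  have hvan : ∀ x : N, (x : G) ∉ K → χ x = 0 := by
    intro x hx
    by_contra h0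
    set T : Set G := {y | ∃ z : N, (z : G) = y ∧ ((z : G) ∈ K ∨ χ z ≠ 0)} with hT
    let S : Subgroup G := ((MonoidHom.ker (l.comp π))).map N.subtype
    have hTS : Group.conjugatesOfSet T ⊆ S := by
      intro y hy
      obtain ⟨a, ⟨z, rfl, hz'⟩, hay⟩ := Group.mem_conjugatesOfSet_iff.mp hy
      obtain ⟨t, rfl⟩ := isConj_iff.mp hay
      have hzN : t * (z : G) * t⁻¹ ∈ N := (inferInstance : N.Normal).conj_mem _ z.2 t
      refine ⟨⟨_, hzN⟩, ?_, rfl⟩
      simp only [SetLike.mem_coe, MonoidHom.mem_ker, MonoidHom.comp_apply]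
      rcases hz' with hzK | hz0
      · rw [(hπ ⟨_, hzN⟩).mpr (hK.conj_mem _ hzK t), map_one]
      · have h1 := hl ⟨_, hzN⟩
        simp only at h1
        rw [isClassFunction_of_isIrr hχ (z : G) t] at h1
        exact Units.ext (mul_right_cancel₀ hz0 (h1.trans (one_mul _).symm))
    have hMS : Subgroup.normalClosure T ≤ S := (Subgroup.closure_le S).mpr hTS
    have hxT : (x : G) ∈ Subgroup.normalClosure T :=
      Subgroup.subset_normalClosure ⟨x, rfl, Or.inr h0⟩
    have hKT : K ≤ Subgroup.normalClosure T := fun k hk =>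
      Subgroup.subset_normalClosure ⟨⟨k, hKN hk⟩, rfl, Or.inl hk⟩
    have hDle : D ≤ (Subgroup.normalClosure T).map (QuotientGroup.mk' K) := by
      refine hq.2 _ (Subgroup.normalClosure_normal.map _ (QuotientGroup.mk'_surjective K)) fun hbot => ?_
      exact hx ((QuotientGroup.eq_one_iff (x : G)).mp
        (Subgroup.mem_bot.mp (hbot ▸ Subgroup.mem_map_of_mem (QuotientGroup.mk' K) hxT)))
    refine hl1 (MonoidHom.ext fun d => ?_)
    obtain ⟨y, hy, hyd⟩ := hDle d.2
    obtain ⟨z, hz', hzy⟩ := hMS hy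
    have hzd : π z = d := Subtype.ext (by
      show QuotientGroup.mk' K (N.subtype z) = _
      rw [hzy, hyd])
    rw [← hzd]
    exact hz'
  -- hence `D` has order at most `n ^ 2`
  have hDn : Nat.card D ≤ n ^ 2 := by
    have hle : ∑ x : N, ‖χ x‖ ^ 2 ≤ ∑ x : N, if (x : G) ∈ K then (n : ℝ) ^ 2 else 0 := by
      refine Finset.sum_le_sum fun x _ => ?_
      split_ifs with hx
      · obtain ⟨d, ρ, hρ, rfl⟩ := hχ
        rw [deg_eq_finrank] at hd
        have := norm_char_le ρ (x : G)
        rw [hd] at this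
        gcongr
      · simp [hvan x hx]
    rw [hNsum, ← Finset.sum_filter, Finset.sum_const, nsmul_eq_mul] at hle
    have hc : (Finset.univ.filter fun x : N => (x : G) ∈ K).card = Nat.card K := by
      rw [← Fintype.card_subtype, ← Nat.card_eq_fintype_card]
      exact Nat.card_congr
        { toFun := fun x => ⟨x.1.1, x.2⟩
          invFun := fun k => ⟨⟨k, hKN k.2⟩, k.2⟩
          left_inv := fun x => rfl
          right_inv := fun k => rfl }
    rw [hc, hcardN] at hle
    have : Nat.card D * Nat.card K ≤ Nat.card K * n ^ 2 := by exact_mod_cast hle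
    rw [mul_comm] at this
    exact Nat.le_of_mul_le_mul_left this Nat.card_pos
  rcases Nat.lt_or_ge n 3 with hn3 | hn3
  · exfalso
    have hn' : n = 2 := by omega
    subst hn'
    have hcK : ∀ a b : K, a * b = b * a := by
      refine comm_iff_all_linear.mpr fun θ => ?_
      have h1 := degLe_K hn K hb hf _ θ.2
      have := deg_pos θ.2
      rw [deg_eq (isCharacter_of_isIrr θ.2), show deg (θ : K → ℂ) = 1 by omega, Nat.cast_one]
    haveI : (K.subgroupOf N).Normal := inferInstance
    haveI := Fintype.ofFinite (K.subgroupOf N)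
    have hdvd := deg_dvd_index_of_comm (K.subgroupOf N) hi fun a b => Subtype.ext (Subtype.ext
      (congrArg (fun k : K => (k : G)) (hcK ⟨_, a.2⟩ ⟨_, b.2⟩)))
    rw [deg_restrict, hd] at hdvd
    have hqd : (K.subgroupOf N).index = Nat.card D := by
      have h1 := (K.subgroupOf N).card_mul_index
      rw [Nat.card_congr (Subgroup.subgroupOfEquivOfLe hKN).toEquiv, hcardN,
        mul_comm (Nat.card D)] at h1
      exact mul_left_cancel₀ Nat.card_pos.ne' h1
    rw [hqd] at hdvd
    haveI : Fact (Nat.Prime 2) := ⟨Nat.prime_two⟩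
    obtain ⟨v, hv⟩ := exists_prime_orderOf_dvd_card' 2 hdvd
    have hv2 : (v : G ⧸ K) * v = 1 := by
      have := pow_orderOf_eq_one v
      rw [hv, sq] at this
      exact congrArg Subtype.val this
    have : v = 1 := Subtype.ext (derived_sq_ne_one hq hab hz hDi v.2 hv2)
    rw [this, orderOf_one] at hv
    omega
  · refine ⟨K, n / 2, by omega, degLe_K hn K hb hf, ?_⟩
    have hidx : K.index ≤ n ^ 3 := by
      rw [Subgroup.index_eq_card, ← D.card_mul_index, pow_succ]
      exact Nat.mul_le_mul hDn hDi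
    refine (Nat.mul_le_mul_right _ hidx).trans ?_
    exact cube_bound hn3

end Main

section NonSolvable

variable [Fintype G] {n : ℕ} (hn : DegLe G n) (K : Subgroup G) [hK : K.Normal]
  (hq : CommMin (G ⧸ K)) {b : G ⧸ K → ℂ} (hb : IsIrrCharacter (G ⧸ K) b) (hf : 2 ≤ deg b)
  (hab : ¬ commutator (G ⧸ K) ≤ Subgroup.centralizer (commutator (G ⧸ K) : Set (G ⧸ K)))

theorem card_le_mul_classes {n : ℕ} (hn : DegLe G n) :
    Nat.card G ≤ Nat.card (ConjClasses G) * n ^ 2 := by
  classical
  rw [← card_irr_eq_card_conjClasses, Nat.card_eq_fintype_card (α := IrrCharacter G)]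
  have h := sum_degree_sq (G := G)
  have h2 : (∑ χ : IrrCharacter G, deg (χ : G → ℂ) ^ 2) = Nat.card G := by
    have he : ∀ χ : IrrCharacter G, (χ : G → ℂ) 1 ^ 2 = ((deg (χ : G → ℂ) ^ 2 : ℕ) : ℂ) := by
      intro χ
      rw [deg_eq (isCharacter_of_isIrr χ.2), Nat.cast_pow]
    simp only [he] at h
    exact_mod_cast h
  calc Nat.card G = ∑ χ : IrrCharacter G, deg (χ : G → ℂ) ^ 2 := h2.symm
    _ ≤ ∑ _χ : IrrCharacter G, n ^ 2 :=
        Finset.sum_le_sum fun χ _ => Nat.pow_le_pow_left (hn _ χ.2) 2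
    _ = _ := by simp

include hn in
theorem exists_small_class_or (hn1 : 1 ≤ n) :
    (∃ x : G, x ∉ K ∧ (Subgroup.centralizer ({x} : Set G)).index ≤ n ^ 2) ∨
      K.index ≤ n ^ 4 := by
  classical
  by_cases hex : ∃ x : G, x ∉ K ∧ (Subgroup.centralizer ({x} : Set G)).index ≤ n ^ 2
  · exact Or.inl hex
  · right
    push Not at hex
    have hpt : ∀ x : G, Nat.card (Subgroup.centralizer ({x} : Set G)) * (n ^ 2 + 1) ≤
        (if x ∈ K then Nat.card G * n ^ 2 else 0) + Nat.card G := by
      intro x
      split_ifs with hx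
      · have h1 : Nat.card (Subgroup.centralizer ({x} : Set G)) ≤ Nat.card G :=
          Subgroup.card_le_card_group _
        nlinarith
      · rw [zero_add, ← Subgroup.card_mul_index (Subgroup.centralizer ({x} : Set G))]
        exact Nat.mul_le_mul_left _ (hex x hx)
    have hsum : ∑ x : G, Nat.card (Subgroup.centralizer ({x} : Set G)) =
        Nat.card (ConjClasses G) * Nat.card G := by
      rw [← card_comm_eq_card_conjClasses_mul_card]
      rw [Nat.card_congr (Equiv.subtypeProdEquivSigmaSubtype fun a b : G => Commute a b),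
        Nat.card_sigma]
      refine Finset.sum_congr rfl fun x _ => ?_
      exact Nat.card_congr (Equiv.subtypeEquivRight fun y => by
        rw [Subgroup.mem_centralizer_singleton_iff]
        exact eq_comm)
    have h2 := Finset.sum_le_sum (s := (Finset.univ : Finset G)) fun x _ => hpt x
    rw [← Finset.sum_mul, hsum, Finset.sum_add_distrib, ← Finset.sum_filter, Finset.sum_const,
      Finset.sum_const, Finset.card_univ, ← Fintype.card_subtype, ← Nat.card_eq_fintype_card,
      ← Nat.card_eq_fintype_card, smul_eq_mul, smul_eq_mul] at h2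
    have hG : 0 < Nat.card G := Nat.card_pos
    have h3 : Nat.card (ConjClasses G) * (n ^ 2 + 1) ≤ Nat.card K * n ^ 2 + Nat.card G := by
      refine Nat.le_of_mul_le_mul_left ?_ hG
      calc Nat.card G * (Nat.card (ConjClasses G) * (n ^ 2 + 1))
          = Nat.card (ConjClasses G) * Nat.card G * (n ^ 2 + 1) := by ring
        _ ≤ Nat.card K * (Nat.card G * n ^ 2) + Nat.card G * Nat.card G := h2
        _ = Nat.card G * (Nat.card K * n ^ 2 + Nat.card G) := by ring
    have h4 := card_le_mul_classes hn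
    have h5 : Nat.card G ≤ n ^ 4 * Nat.card K := by
      have h6 := Nat.mul_le_mul_right (n ^ 2) h3
      have h7 := Nat.mul_le_mul_right (n ^ 2 + 1) h4
      nlinarith
    rw [← K.card_mul_index, mul_comm (n ^ 4)] at h5
    exact Nat.le_of_mul_le_mul_left h5 Nat.card_pos

include hn hq hb hf hab in
theorem degLe_centralizer {x : G} (hx : x ∉ K) :
    DegLe (Subgroup.centralizer ({x} : Set G)) (n - 1) := by
  classical
  haveI := Fintype.ofFinite (G ⧸ K)
  set H := Subgroup.centralizer ({x} : Set G) with hH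
  haveI := Fintype.ofFinite H
  have hn2 := two_le_bound hn K hb hf
  intro φ hφ
  by_contra hc
  have hd : n ≤ deg φ := by omega
  have hxH : x ∈ H := Subgroup.mem_centralizer_singleton_iff.mpr rfl
  -- commutators with conjugates of `x` lie in `H`
  have hmem : ∀ t u : G, ⁅t * x * t⁻¹, u⁆ ∈ H := by
    intro t u
    set w := ⁅t * x * t⁻¹, u⁆ with hw
    have hker : ∀ χ : IrrCharacter G, classInner (fun y : H => (χ : G → ℂ) y) φ ≠ 0 →
        ∀ y, (χ : G → ℂ) (w * y) = (χ : G → ℂ) y := by
      intro χ hχ y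
      have he := restrict_eq_of_over hn H hφ hd χ.2 hχ
      obtain ⟨d, ρ, hρ, hρχ⟩ := χ.2
      obtain ⟨d', σ, hσ, hσφ⟩ := hφ
      haveI := hσ
      have hz : ∃ c : ℂ, σ ⟨x, hxH⟩ = c • LinearMap.id :=
        ⟨_, eq_scalar_of_commute σ (σ ⟨x, hxH⟩) fun g => by
          rw [← map_mul, ← map_mul]
          exact congrArg σ (Subtype.ext (Subgroup.mem_centralizer_singleton_iff.mp g.2).symm)⟩
      have hnorm := (norm_eq_iff_scalar σ ⟨x, hxH⟩).mpr hz
      have hval : σ.character ⟨x, hxH⟩ = ρ.character x := by rw [hσφ, ← he, hρχ]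
      have hdim : d' = d := by
        have h1 : σ.character 1 = ρ.character 1 := by
          rw [hσφ, ← he, hρχ]; rfl
        rw [Representation.char_one, Representation.char_one, Module.finrank_fin_fun,
          Module.finrank_fin_fun] at h1
        exact_mod_cast h1
      rw [hval, Module.finrank_fin_fun, hdim] at hnorm
      obtain ⟨c, hc'⟩ := (norm_eq_iff_scalar ρ x).mp
        (by rw [Module.finrank_fin_fun]; exact hnorm)
      have hcx : ∀ g : G, ρ x * ρ g = ρ g * ρ x := fun g => by
        rw [hc']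
        exact LinearMap.ext fun v => by simp [Module.End.mul_apply]
      have h1 : ∀ g : G, ρ (g * x * g⁻¹) = ρ x := fun g => by
        rw [map_mul, map_mul, ← hcx g, mul_assoc, ← map_mul, mul_inv_cancel, map_one, mul_one]
      have h2 : ρ w = 1 := by
        have e : w = (t * x * t⁻¹) * (u * (t * x * t⁻¹) * u⁻¹)⁻¹ := by
          rw [hw, commutatorElement_def]; group
        have e2 : u * (t * x * t⁻¹) * u⁻¹ = (u * t) * x * (u * t)⁻¹ := by group
        have e3 : ρ ((t * x * t⁻¹) * (u * (t * x * t⁻¹) * u⁻¹)⁻¹) *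
            ρ (u * (t * x * t⁻¹) * u⁻¹) = ρ (t * x * t⁻¹) := by
          rw [← map_mul, inv_mul_cancel_right]
        rw [← e, e2, h1, h1] at e3
        have e4 : ρ x * ρ x⁻¹ = 1 := by rw [← map_mul, mul_inv_cancel, map_one]
        calc ρ w = ρ w * (ρ x * ρ x⁻¹) := by rw [e4, mul_one]
          _ = (ρ w * ρ x) * ρ x⁻¹ := by rw [mul_assoc]
          _ = 1 := by rw [e3, e4]
      rw [← hρχ]
      simp only [Representation.character, map_mul, h2, one_mul]
    have hi := isCharacter_indFun H (isCharacter_of_isIrr hφ)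
    have hfix : ∀ y, indFun H φ (w * y) = indFun H φ y := by
      intro y
      rw [classFunction_eq_sum (isClassFunction_indFun H φ), Finset.sum_apply, Finset.sum_apply]
      refine Finset.sum_congr rfl fun χ _ => ?_
      by_cases h0 : classInner (indFun H φ) (χ : G → ℂ) = 0
      · simp [h0]
      · simp only [Pi.smul_apply]
        rw [hker χ ?_ y]
        rw [← frobenius_reciprocity' H (isClassFunction_of_isIrr χ.2),
          classInner_comm_of_char (isCharacter_of_isIrr χ.2) hi]
        exact h0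
    by_contra hwH
    have h1 := hfix 1
    rw [mul_one, indFun_one_eval, indFun] at h1
    obtain ⟨d', σ, hσ, rfl⟩ := hφ
    have hle : ∀ g : G, ‖extendByZero H σ.character g‖ ≤ if g ∈ H then (d' : ℝ) else 0 := by
      intro g
      split_ifs with hg
      · rw [extendByZero_mem H _ hg]
        simpa using norm_char_le σ ⟨g, hg⟩
      · rw [extendByZero_not_mem H _ hg, norm_zero]
    have hlt : ∑ g : G, ‖extendByZero H σ.character (g⁻¹ * w * g)‖ < ∑ _g : G, (d' : ℝ) := by
      refine Finset.sum_lt_sum (fun g _ => (hle _).trans ?_) ⟨1, Finset.mem_univ _, ?_⟩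
      · split_ifs <;> simp
      · simp only [inv_one, one_mul, mul_one, extendByZero_not_mem H _ hwH, norm_zero]
        exact Nat.cast_pos.mpr (by
          have := deg_eq_finrank σ
          rw [Module.finrank_fin_fun] at this
          omega)
    have h2 := congrArg norm h1
    rw [norm_mul, norm_inv, Complex.norm_natCast, Representation.char_one,
      Module.finrank_fin_fun, norm_mul, Complex.norm_natCast, Complex.norm_natCast] at h2
    have hH0 : (0 : ℝ) < Nat.card H := Nat.cast_pos.mpr Nat.card_pos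
    have h3 := norm_sum_le (Finset.univ : Finset G)
      (fun g => extendByZero H σ.character (g⁻¹ * w * g))
    rw [Finset.sum_const, Finset.card_univ, ← Nat.card_eq_fintype_card, nsmul_eq_mul,
      ← H.card_mul_index, Nat.cast_mul] at hlt
    field_simp at h2
    nlinarith
  -- the image in the quotient
  set q : G →* G ⧸ K := QuotientGroup.mk' K with hqdef
  set C := Subgroup.centralizer ({q x} : Set (G ⧸ K)) with hC
  set S : Set (G ⧸ K) := {y | ∃ t u : G, y = q ⁅t * x * t⁻¹, u⁆} with hS
  set M := Subgroup.normalClosure S with hM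
  have hMC : M ≤ C := by
    refine (Subgroup.closure_le C).mpr fun y hy => ?_
    obtain ⟨a, ⟨t, u, rfl⟩, hay⟩ := Group.mem_conjugatesOfSet_iff.mp hy
    obtain ⟨r, rfl⟩ := isConj_iff.mp hay
    obtain ⟨r, rfl⟩ := QuotientGroup.mk'_surjective K r
    have h1 := hmem (r * t) (r * u * r⁻¹)
    have e : ⁅r * t * x * (r * t)⁻¹, r * u * r⁻¹⁆ = r * ⁅t * x * t⁻¹, u⁆ * r⁻¹ := by
      simp only [commutatorElement_def]; group
    rw [e] at h1
    refine Subgroup.mem_centralizer_singleton_iff.mpr ?_
    rw [← map_inv, ← map_mul, ← map_mul, ← map_mul, ← map_mul,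
      Subgroup.mem_centralizer_singleton_iff.mp h1]
  have hbot := centralizer_eq_bot hq hab
  have hqx : q x ≠ 1 := fun h => hx ((QuotientGroup.eq_one_iff x).mp h)
  have hMne : M ≠ ⊥ := by
    intro h0
    have hz : q x ∈ Subgroup.center (G ⧸ K) := by
      refine Subgroup.mem_center_iff.mpr fun y => ?_
      obtain ⟨u, rfl⟩ := QuotientGroup.mk'_surjective K y
      have h1 : q ⁅x, u⁆ ∈ M := Subgroup.subset_normalClosure ⟨1, u, by simp⟩
      rw [h0, Subgroup.mem_bot, map_commutatorElement,
        commutatorElement_eq_one_iff_mul_comm] at h1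
      exact h1.symm
    exact hqx (Subgroup.mem_bot.mp (hbot ▸ (Subgroup.center_le_centralizer _ hz)))
  refine hqx (Subgroup.mem_bot.mp (hbot ▸ Subgroup.mem_centralizer_iff.mpr fun y hy => ?_))
  exact Subgroup.mem_centralizer_singleton_iff.mp
    (hMC (hq.2 M Subgroup.normalClosure_normal hMne hy))

include hq hab in
theorem exists_large_prime : ∃ p, Nat.Prime p ∧ 5 ≤ p ∧ p ∣ K.index := by
  by_contra hc
  push Not at hc
  have hsol : Group.IsSolvable (G ⧸ K) := by
    have hcard : Nat.card (G ⧸ K) = 2 ^ (K.index.factorization 2) * 3 ^ (K.index.factorization 3) := by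
      rw [← Subgroup.index_eq_card]
      have h0 : K.index ≠ 0 := Subgroup.index_ne_zero_of_finite
      have h1 := Nat.prod_factorization_pow_eq_self h0
      rw [Finsupp.prod_of_support_subset _ (s := {2, 3}) ?_ _ (by simp)] at h1
      · rw [Finset.prod_insert (by simp), Finset.prod_singleton] at h1
        exact h1.symm
      · intro p hp
        rw [Nat.support_factorization, Nat.mem_primeFactors] at hp
        obtain ⟨hpp, hpd, -⟩ := hp
        simp only [Finset.mem_insert, Finset.mem_singleton]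
        by_contra h
        push Not at h
        refine hc p hpp ?_ hpd
        have h4 : p ≠ 4 := fun h4 => by subst h4; exact absurd hpp (by decide)
        have := hpp.two_le
        omega
    exact isSolvable_of_card_two_primes Nat.prime_two Nat.prime_three _ (G ⧸ K) _ _ rfl hcard
  haveI := hsol
  have hnt : Nontrivial (commutator (G ⧸ K)) := (Subgroup.nontrivial_iff_ne_bot _).mpr hq.1
  have hlt : ⁅commutator (G ⧸ K), commutator (G ⧸ K)⁆ < commutator (G ⧸ K) :=
    Group.IsSolvable.commutator_lt_of_ne_bot hq.1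
  by_cases h0 : ⁅commutator (G ⧸ K), commutator (G ⧸ K)⁆ = ⊥
  · exact hab (Subgroup.commutator_eq_bot_iff_le_centralizer.mp h0)
  · exact hlt.not_ge (hq.2 _ inferInstance h0)

include hn hq hb hf hab in
theorem hasSmall_nonabelian : HasSmall G n := by
  classical
  have hn2 := two_le_bound hn K hb hf
  rcases exists_small_class_or hn K (by omega) with ⟨x, hx, hi⟩ | hidx
  · exact hasSmall_pred (by omega) _ (degLe_centralizer hn K hq hb hf hab hx) hi
  rcases Nat.lt_or_ge n 5 with hn5 | hn5
  · obtain ⟨p, hp, hp5, hpd⟩ := exists_large_prime K hq hab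
    haveI : Fact p.Prime := ⟨hp⟩
    obtain ⟨y, hy⟩ := exists_prime_orderOf_dvd_card' (G := G ⧸ K) p
      (Subgroup.index_eq_card K ▸ hpd)
    set H := (Subgroup.zpowers y).comap (QuotientGroup.mk' K) with hH
    have hKH : K ≤ H := fun k hk => by
      rw [hH, Subgroup.mem_comap, QuotientGroup.mk'_apply, (QuotientGroup.eq_one_iff k).mpr hk]
      exact one_mem _
    haveI := Fintype.ofFinite H
    haveI := Fintype.ofFinite K
    haveI := Fintype.ofFinite (K.subgroupOf H)
    have hHi : H.index * p = K.index := by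
      rw [hH, Subgroup.index_comap_of_surjective _ (QuotientGroup.mk'_surjective K), ← hy,
        ← Nat.card_zpowers, mul_comm, Subgroup.card_mul_index, Subgroup.index_eq_card]
    have hrel : (K.subgroupOf H).index = p := by
      have h1 := Subgroup.relIndex_mul_index hKH
      rw [← hHi, mul_comm H.index] at h1
      exact mul_right_cancel₀ Subgroup.index_ne_zero_of_finite h1
    have hdeg : DegLe H (n / 2) := by
      intro φ hφ
      obtain ⟨θ, hθ⟩ := exists_constituent_restrict (K.subgroupOf H) hφ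
      obtain ⟨k, hk, hkd⟩ := deg_ratio_dvd_index (K.subgroupOf H) hφ θ.2 hθ
      have hθle : deg (θ : K.subgroupOf H → ℂ) ≤ n / 2 := by
        let e := Subgroup.subgroupOfEquivOfLe hKH
        have h1 := degLe_K hn K hb hf _
          (isIrrCharacter_comp e.symm.toMonoidHom e.symm.surjective θ.2)
        simpa [CT.deg] using h1
      have hθpos := deg_pos θ.2
      have hφle := degLe_subgroup hn H φ hφ
      rw [hrel] at hkd
      rcases (Nat.dvd_prime hp).mp hkd with rfl | rfl
      · rw [hk, one_mul]; exact hθle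
      · rw [hk] at hφle
        have := Nat.le_mul_of_pos_right k hθpos
        omega
    refine ⟨H, n / 2, by omega, hdeg, ?_⟩
    have h5 : H.index * 5 ≤ n ^ 4 := (Nat.mul_le_mul_left _ hp5).trans (hHi.le.trans hidx)
    interval_cases n <;> simp [Nat.factorial] at * <;> omega
  · exact ⟨K, n / 2, by omega, degLe_K hn K hb hf,
      (Nat.mul_le_mul_right _ hidx).trans (factorial_bound hn5)⟩

end NonSolvable

theorem commutator_bot_or_hasSmall [Finite G] {n : ℕ} (hn : DegLe G n) :
    commutator G = ⊥ ∨ HasSmall G n := by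
  classical
  by_cases hG : commutator G = ⊥
  · exact Or.inl hG
  right
  haveI := Fintype.ofFinite G
  let S : Set (Subgroup G) := {K | K.Normal ∧ ¬ commutator G ≤ K}
  have hne : S.Nonempty := ⟨⊥, inferInstance, fun h => hG (le_bot_iff.mp h)⟩
  obtain ⟨K, hKS⟩ := (Set.toFinite S).exists_maximal hne
  obtain ⟨hKn, hKc⟩ := hKS.prop
  haveI := hKn
  have hmap : (commutator G).map (QuotientGroup.mk' K) = commutator (G ⧸ K) := by
    rw [_root_.commutator_def, _root_.commutator_def, Subgroup.map_commutator,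
      Subgroup.map_top_of_surjective _ (QuotientGroup.mk'_surjective K)]
  have hq : CommMin (G ⧸ K) := by
    refine ⟨fun h => ?_, fun M hM hMne => ?_⟩
    · rw [← hmap, Subgroup.map_eq_bot_iff, QuotientGroup.ker_mk'] at h
      exact hKc h
    · haveI := hM
      have hKM : K ≤ M.comap (QuotientGroup.mk' K) :=
        (QuotientGroup.ker_mk' K).symm.le.trans (MonoidHom.ker_le_comap _ _)
      have hle : commutator G ≤ M.comap (QuotientGroup.mk' K) := by
        by_contra hc
        have := hKS.le_of_ge (show M.comap (QuotientGroup.mk' K) ∈ S from ⟨inferInstance, hc⟩) hKM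
        refine hMne (eq_bot_iff.mpr fun y hy => ?_)
        obtain ⟨g, rfl⟩ := QuotientGroup.mk'_surjective K y
        rw [Subgroup.mem_bot, QuotientGroup.mk'_apply, QuotientGroup.eq_one_iff]
        exact this hy
      rw [← hmap]
      exact Subgroup.map_le_iff_le_comap.mpr hle
  haveI := Fintype.ofFinite (G ⧸ K)
  obtain ⟨⟨b, hb⟩, hf⟩ := exists_nonlinear hq
  by_cases hz : commutator (G ⧸ K) ≤ Subgroup.center (G ⧸ K)
  · exact hasSmall_central hn K hq hb hf hz
  by_cases hab : commutator (G ⧸ K) ≤ Subgroup.centralizer (commutator (G ⧸ K) : Set (G ⧸ K))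
  · exact hasSmall_abelian hn K hq hb hf hab (center_eq_bot hq hz)
  · exact hasSmall_nonabelian hn K hq hb hf hab

/-- An abelian subgroup of index at most `(n!)²`. -/
theorem exists_abelian (n : ℕ) : ∀ (G : Type u) [Group G] [Finite G], DegLe G n →
    ∃ A : Subgroup G, (∀ x ∈ A, ∀ y ∈ A, x * y = y * x) ∧ A.index ≤ n.factorial ^ 2 := by
  induction n using Nat.strong_induction_on with
  | _ n ih =>
    intro G _ _ hn
    rcases commutator_bot_or_hasSmall hn with hG | ⟨H, m, hm, hH, hi⟩
    · refine ⟨⊤, fun x _ y _ => ?_, by simpa using Nat.one_le_pow 2 _ (Nat.factorial_pos n)⟩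
      rw [← commutatorElement_eq_one_iff_mul_comm, ← Subgroup.mem_bot, ← hG]
      exact Subgroup.commutator_mem_commutator (Subgroup.mem_top _) (Subgroup.mem_top _)
    · obtain ⟨A, hA, hAi⟩ := ih m hm H hH
      refine ⟨A.map H.subtype, ?_, ?_⟩
      · rintro _ ⟨x, hx, rfl⟩ _ ⟨y, hy, rfl⟩
        exact congrArg Subtype.val (hA x hx y hy)
      · rw [Subgroup.index_map_subtype, mul_comm]
        exact (Nat.mul_le_mul_left _ hAi).trans hi

end Cfsg.Agent.AbelianIndex
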