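import Mathlib

/-! Order bound for abelian permutation p-groups of given rank. -/

set_option autoImplicit false

namespace Cfsg.Agent.Recog.AbelianPermBound

theorem exists_parts {p : ℕ} (hp : 2 ≤ p) : ∀ (r e : ℕ), 1 ≤ r → r ≤ e →
    ∃ f : Multiset ℕ, Multiset.card f = r ∧ p ^ e ≤ f.prod ∧ f.sum ≤ p ^ e := by
  intro r
  induction r with
  | zero => omega
  | succ r ih =>
    intro e _ he
    rcases Nat.eq_zero_or_pos r with rfl | hr
    · exact ⟨{p ^ e}, by simp, by simp, by simp⟩
    obtain ⟨e, rfl⟩ : ∃ e', e = e' + 1 := ⟨e - 1, by omega⟩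
    obtain ⟨f, h1, h2, h3⟩ := ih e hr (by omega)
    refine ⟨p ::ₘ f, by simp [h1], ?_, ?_⟩
    · rw [Multiset.prod_cons, pow_succ']
      exact Nat.mul_le_mul_left p h2
    · rw [Multiset.sum_cons, pow_succ']
      have h4 : p ≤ p ^ e := Nat.le_self_pow (by omega) p
      have h5 : 2 * p ^ e ≤ p * p ^ e := Nat.mul_le_mul_right _ hp
      omega

theorem amgm (f : Multiset ℕ) : f.prod * (Multiset.card f) ^ (Multiset.card f) ≤ f.sum ^ (Multiset.card f) := by
  induction f using Quotient.inductionOn with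
  | h l =>
    simp only [Multiset.quot_mk_to_coe, Multiset.coe_card, Multiset.prod_coe, Multiset.sum_coe]
    rcases Nat.eq_zero_or_pos l.length with h | h
    · rw [List.length_eq_zero_iff.1 h]; simp
    have hg := Real.geom_mean_le_arith_mean (Finset.univ : Finset (Fin l.length)) (fun _ => (1 : ℝ))
      (fun i => (l.get i : ℝ)) (fun _ _ => zero_le_one) (by simp [h]) (fun _ _ => Nat.cast_nonneg _)
    simp only [Real.rpow_one, one_mul, Finset.sum_const, Finset.card_univ, Fintype.card_fin,
      nsmul_eq_mul, mul_one] at hg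
    have hpos : (0 : ℝ) ≤ ∏ i : Fin l.length, (l.get i : ℝ) := Finset.prod_nonneg fun _ _ => Nat.cast_nonneg _
    have h1 := pow_le_pow_left₀ (Real.rpow_nonneg hpos _) hg l.length
    rw [Real.rpow_inv_natCast_pow hpos h.ne', div_pow, le_div_iff₀ (pow_pos (Nat.cast_pos.2 h) _)] at h1
    have e1 : (∏ i : Fin l.length, l.get i) = l.prod := by rw [← List.prod_ofFn, List.ofFn_get]
    have e2 : (∑ i : Fin l.length, l.get i) = l.sum := by rw [← List.sum_ofFn, List.ofFn_get]
    rw [← e1, ← e2]
    exact_mod_cast h1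

variable {Ω : Type*} [Fintype Ω] [DecidableEq Ω]

theorem exists_bound (p : ℕ) (hp : p.Prime) (A : Subgroup (Equiv.Perm Ω)) (hA : IsPGroup p A)
    (hab : ∀ x ∈ A, ∀ y ∈ A, x * y = y * x) (E : Subgroup (Equiv.Perm Ω))
    (hE : ∀ x ∈ A, (x ∈ E ↔ x ^ p = 1)) :
    ∀ (S : Finset Ω) (B : Subgroup (Equiv.Perm Ω)), B ≤ A → (∀ b ∈ B, b.support ⊆ S) →
      ∀ k, Nat.card ↥(B ⊓ E) = p ^ k →
      ∃ f : Multiset ℕ, Multiset.card f = k ∧ Nat.card B ≤ f.prod ∧ f.sum ≤ S.card := by
  haveI := Fact.mk hp
  intro S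
  induction S using Finset.strongInduction with
  | H S ih =>
    classical
    intro B hBA hS k hk
    by_cases hbot : B ⊓ E = ⊥
    · have hk0 : k = 0 := by
        rw [hbot, Subgroup.card_bot] at hk
        rcases Nat.eq_zero_or_pos k with h | h
        · exact h
        · exact absurd hk (Nat.one_lt_pow h.ne' hp.one_lt).ne
      subst hk0
      refine ⟨0, rfl, ?_, by simp⟩
      obtain ⟨n, hn⟩ := (hA.to_le hBA).exists_card_eq
      rcases Nat.eq_zero_or_pos n with rfl | hn'
      · rw [Multiset.prod_zero, hn, pow_zero]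
      exfalso
      obtain ⟨x, hx⟩ := exists_prime_orderOf_dvd_card' (G := B) p (hn ▸ dvd_pow_self p hn'.ne')
      have hxE : (x : Equiv.Perm Ω) ∈ E := by
        rw [hE _ (hBA x.2), ← Subgroup.coe_pow, ← hx, pow_orderOf_eq_one]; rfl
      have hmem : (x : Equiv.Perm Ω) ∈ B ⊓ E := ⟨x.2, hxE⟩
      rw [hbot, Subgroup.mem_bot] at hmem
      rw [show x = 1 from Subtype.ext hmem, orderOf_one] at hx
      exact hp.ne_one hx.symm
    · obtain ⟨z, hz, hz1⟩ := (B ⊓ E).bot_or_exists_ne_one.resolve_left hbot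
      obtain ⟨ω, hω⟩ : ∃ ω, z ω ≠ ω := by
        by_contra h
        push Not at h
        exact hz1 (Equiv.ext h)
      set K := B ⊓ MulAction.stabilizer (Equiv.Perm Ω) ω with hK
      set O := Finset.univ.filter (fun y => y ∈ MulAction.orbit B ω) with hO
      have hOS : O ⊆ S := by
        intro y hy
        obtain ⟨b, rfl⟩ := (Finset.mem_filter.1 hy).2
        have hωS : ω ∈ S := hS z hz.1 (Equiv.Perm.mem_support.2 hω)
        by_contra hout
        have hout' : (b : Equiv.Perm Ω) ω ∉ S := hout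
        have hfix := Equiv.Perm.notMem_support.1 (fun h => hout' (hS _ b.2 h))
        rw [(b : Equiv.Perm Ω).injective hfix] at hout'
        exact hout' hωS
      have hωO : ω ∈ O := Finset.mem_filter.2 ⟨Finset.mem_univ _, MulAction.mem_orbit_self ω⟩
      have hKS : ∀ c ∈ K, c.support ⊆ S \ O := by
        intro c hc y hy
        refine Finset.mem_sdiff.2 ⟨hS c hc.1 hy, fun hyO => ?_⟩
        obtain ⟨b, rfl⟩ := (Finset.mem_filter.1 hyO).2
        apply Equiv.Perm.mem_support.1 hy
        show c ((b : Equiv.Perm Ω) ω) = (b : Equiv.Perm Ω) ω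
        rw [← Equiv.Perm.mul_apply, hab c (hBA hc.1) b (hBA b.2), Equiv.Perm.mul_apply]
        exact congrArg _ hc.2
      obtain ⟨k', hk'⟩ : ∃ k', Nat.card ↥(K ⊓ E) = p ^ k' :=
        (hA.to_le (inf_le_left.trans (inf_le_left.trans hBA))).exists_card_eq
      obtain ⟨f', hf1, hf2, hf3⟩ := ih (S \ O)
        (Finset.ssubset_iff_subset_ne.2 ⟨Finset.sdiff_subset, fun h => by
          have := h ▸ hOS hωO
          exact (Finset.mem_sdiff.1 this).2 hωO⟩) K (inf_le_left.trans hBA) hKS k' hk'
      have hOcard : O.card = K.relIndex B := by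
        have h1 : O.card = Nat.card (MulAction.orbit B ω) := by
          rw [Nat.card_coe_set_eq, ← Set.ncard_coe_finset]
          congr 1
          ext y
          simp [hO]
        rw [h1, Nat.card_congr (MulAction.orbitEquivQuotientStabilizer B ω), hK, Subgroup.inf_relIndex_left]
        rfl
      have hBcard : Nat.card B = O.card * Nat.card K := by
        have h1 := Subgroup.card_mul_index (K.subgroupOf B)
        rw [Nat.card_congr (Subgroup.subgroupOfEquivOfLe (inf_le_left : K ≤ B)).toEquiv] at h1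
        rw [hOcard, ← h1, mul_comm]
        rfl
      obtain ⟨e, he⟩ : ∃ e, O.card = p ^ e := by
        obtain ⟨nB, hnB⟩ := (hA.to_le hBA).exists_card_eq
        obtain ⟨e, -, he⟩ := (Nat.dvd_prime_pow hp).1 (show O.card ∣ p ^ nB by rw [← hnB, hBcard]; exact dvd_mul_right _ _)
        exact ⟨e, he⟩
      have hkk : k' < k := by
        have hlt : K ⊓ E < B ⊓ E := lt_of_le_of_ne (inf_le_inf_right _ inf_le_left) (fun h => by
          have := (h ▸ hz : z ∈ K ⊓ E).1.2
          exact hω this)
        have hcl : Nat.card ↥(K ⊓ E) < Nat.card ↥(B ⊓ E) := by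
          rw [← SetLike.coe_sort_coe, ← SetLike.coe_sort_coe, Nat.card_coe_set_eq, Nat.card_coe_set_eq]
          exact Set.ncard_lt_ncard (SetLike.coe_ssubset_coe.2 hlt) (Set.toFinite _)
        rw [hk', hk] at hcl
        exact (Nat.pow_lt_pow_iff_right hp.one_lt).1 hcl
      have hre : k - k' ≤ e := by
        have h1 := Subgroup.card_mul_index ((K ⊓ E).subgroupOf (B ⊓ E))
        rw [Nat.card_congr (Subgroup.subgroupOfEquivOfLe (inf_le_inf_right E (inf_le_left : K ≤ B))).toEquiv, hk', hk] at h1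
        have h2 : (K ⊓ E).relIndex (B ⊓ E) ≤ K.relIndex B := by
          have : (K ⊓ E).relIndex (B ⊓ E) = K.relIndex (B ⊓ E) := by
            have : K ⊓ E = K ⊓ (B ⊓ E) := by
              rw [← inf_assoc, inf_of_le_left (inf_le_left : K ≤ B)]
            rw [this, Subgroup.inf_relIndex_right]
          rw [this]
          exact Subgroup.relIndex_le_of_le_right inf_le_left Subgroup.index_ne_zero_of_finite
        rw [← hOcard, he] at h2
        have h3 : p ^ k ≤ p ^ (k' + e) := by
          rw [← h1, pow_add]; exact Nat.mul_le_mul_left _ h2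
        have := (Nat.pow_le_pow_iff_right hp.one_lt).1 h3
        omega
      obtain ⟨g, hg1, hg2, hg3⟩ := exists_parts hp.two_le (k - k') e (by omega) hre
      refine ⟨g + f', by rw [Multiset.card_add, hg1, hf1]; omega, ?_, ?_⟩
      · rw [Multiset.prod_add, hBcard, he]; exact Nat.mul_le_mul hg2 hf2
      · rw [Multiset.sum_add]
        have h4 := Finset.card_sdiff_add_card_eq_card hOS
        omega

end Cfsg.Agent.Recog.AbelianPermBound
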