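import Cfsg.Agent.Lib.Recog.ThreeClasses

/-!
# Affine groups, sharply 2-transitive groups and their derangements
-/

namespace Cfsg.Agent.Recog

open MulAction

variable {G Ω : Type*} [Group G] [MulAction G Ω]

theorem nontrivial_of_two_le [Finite Ω] [IsPretransitive G Ω] (h : 2 ≤ Nat.card Ω) :
    Nontrivial G := by
  by_contra hG
  rw [not_nontrivial_iff_subsingleton] at hG
  have : Subsingleton Ω := ⟨fun a b => by
    obtain ⟨g, rfl⟩ := exists_smul_eq G a b
    rw [Subsingleton.elim g 1, one_smul]⟩
  have := Finite.card_le_one_iff_subsingleton.2 this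
  omega

/-- A primitive group is affine, or almost simple, or has three classes of derangements, and
derangements of order divisible by a prime different from any given one. -/
theorem primitive_cases [Finite G] [Finite Ω] [FaithfulSMul G Ω] [IsQuasiPreprimitive G Ω]
    (hΩ : 2 ≤ Nat.card Ω) :
    (∃ N : Subgroup G, IsMinNormal N ∧ IsMulCommutative N ∧ IsPretransitive N Ω) ∨
    IsAlmostSimple' G ∨
    ((∃ d : Fin 3 → G, (∀ i, IsDerangement Ω (d i)) ∧ ∀ i j, IsConj (d i) (d j) → i = j) ∧
      ∀ p : ℕ, p.Prime → ∃ g : G, IsDerangement Ω g ∧ ∃ q : ℕ, q.Prime ∧ q ≠ p ∧ q ∣ orderOf g) := by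
  have : Nontrivial G := nontrivial_of_two_le hΩ
  have : Nonempty Ω := (Nat.card_pos_iff.1 (by omega)).1
  by_cases h : ∃ N : Subgroup G, IsMinNormal N ∧ IsMulCommutative N
  · obtain ⟨N, hN, hc⟩ := h
    exact Or.inl ⟨N, hN, hc, isPretransitive_of_normal hN.normal hN.ne_bot⟩
  · push Not at h
    refine Or.inr (Classical.or_iff_not_imp_left.2 fun hnas => ?_)
    obtain ⟨N, hN⟩ := exists_isMinNormal (G := G)
    exact three_classes hnas hN (h N hN) h

/-- Every element outside a transitive abelian subgroup fixes some point iff all derangements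
lie in it; then every non-trivial element fixes at most one point. -/
theorem fixedBy_le_one_of_derangements_mem [Finite G] [Finite Ω] [FaithfulSMul G Ω]
    {N : Subgroup G} (hN : N.Normal) (hc : IsMulCommutative N) [IsPretransitive N Ω]
    (hD : ∀ g : G, IsDerangement Ω g → g ∈ N) {g : G} (hg : g ≠ 1) {a b : Ω}
    (ha : g • a = a) (hb : g • b = b) : a = b := by
  classical
  by_contra hab
  obtain ⟨n₀, hn₀⟩ := exists_smul_eq N a b
  have hconj : ∀ n : N, g * (n : G) * g⁻¹ ∈ N := fun n => hN.conj_mem _ n.2 g
  have hga : ∀ n : G, (g * n * g⁻¹) • a = g • (n • a) := fun n => by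
    have h : g⁻¹ • a = a := by rw [inv_smul_eq_iff, ha]
    rw [mul_smul, mul_smul, h]
  let φ : N → N := fun n => n * ⟨_, hconj n⟩⁻¹
  have hφ0 : φ n₀ = φ 1 := by
    have h1 : g * (n₀ : G) * g⁻¹ = n₀ := by
      have hm : (n₀ : G)⁻¹ * (g * (n₀ : G) * g⁻¹) ∈ N := mul_mem (inv_mem n₀.2) (hconj n₀)
      have := eq_one_of_abelian (Ω := Ω) hc hm (ω := a) (by
        rw [mul_smul, hga, ← Subgroup.smul_def, hn₀, hb, inv_smul_eq_iff, ← Subgroup.smul_def, hn₀])
      exact (inv_mul_eq_one.1 this).symm
    apply Subtype.ext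
    simp [φ, h1]
  have hninj : ¬ Function.Injective φ := fun h => hab (by rw [← hn₀, h hφ0, one_smul])
  rw [Finite.injective_iff_surjective] at hninj
  obtain ⟨v, hv⟩ := not_forall.1 hninj
  have hvg : IsDerangement Ω ((v : G) * g) := by
    intro z hz
    obtain ⟨n, rfl⟩ := exists_smul_eq N a z
    apply hv
    refine ⟨n, ?_⟩
    rw [Subgroup.smul_def] at hz
    have h2 : ((v : G) * (g * n * g⁻¹)) • a = (n : G) • a := by
      rw [mul_smul, hga, ← mul_smul]
      exact hz
    have hm : (n : G)⁻¹ * ((v : G) * (g * n * g⁻¹)) ∈ N :=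
      mul_mem (inv_mem n.2) (mul_mem v.2 (hconj n))
    have h3 := eq_one_of_abelian (Ω := Ω) hc hm (ω := a) (by rw [mul_smul, h2, inv_smul_smul])
    apply Subtype.ext
    show (n : G) * (g * n * g⁻¹)⁻¹ = v
    rw [mul_inv_eq_iff_eq_mul]
    exact inv_mul_eq_one.1 h3
  have hgN : g ∈ N := by
    have := mul_mem (inv_mem v.2) (hD _ hvg)
    simpa using this
  exact hg (eq_one_of_abelian hc hgN ha)

/-- In a transitive finite group in which non-trivial elements fix at most one point there are
exactly `n - 1` derangements. -/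
theorem card_derangements_of_fixedBy_le_one [Finite G] [Finite Ω] [IsPretransitive G Ω]
    (hΩ : 2 ≤ Nat.card Ω) (hfix : ∀ g : G, g ≠ 1 → ∀ a b : Ω, g • a = a → g • b = b → a = b) :
    Nat.card {g : G // IsDerangement Ω g} = Nat.card Ω - 1 := by
  classical
  have := Fintype.ofFinite G
  have := Fintype.ofFinite Ω
  have hsum := sum_card_fixedBy_eq_card_orbits_mul_card_group G Ω
  have h1 : Fintype.card (orbitRel.Quotient G Ω) = 1 := by
    have : Subsingleton (orbitRel.Quotient G Ω) :=
      (pretransitive_iff_subsingleton_quotient G Ω).1 inferInstance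
    have : Nonempty Ω := (Nat.card_pos_iff.1 (by omega)).1
    exact Fintype.card_eq_one_iff.2
      ⟨Quotient.mk'' (Classical.arbitrary Ω), fun y => Subsingleton.elim _ _⟩
  rw [h1, one_mul] at hsum
  have key : ∀ g : G, Fintype.card (fixedBy Ω g) + (if IsDerangement Ω g then 1 else 0) =
      1 + (if g = 1 then Fintype.card Ω - 1 else 0) := by
    intro g
    have hne : Nonempty Ω := (Nat.card_pos_iff.1 (by omega)).1
    by_cases hg : g = 1
    · subst hg
      have hd : ¬ IsDerangement Ω (1 : G) := fun h => h.ne_one rfl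
      rw [if_neg hd, if_pos rfl, add_zero]
      have : Nat.card (fixedBy Ω (1 : G)) = Nat.card Ω :=
        Nat.card_congr (Equiv.subtypeUnivEquiv fun ω => one_smul G ω)
      rw [Nat.card_eq_fintype_card, Nat.card_eq_fintype_card] at this
      rw [Nat.card_eq_fintype_card] at hΩ
      omega
    · rw [if_neg hg, add_zero]
      by_cases hd : IsDerangement Ω g
      · rw [if_pos hd, Fintype.card_eq_zero_iff.2 ⟨fun z : fixedBy Ω g => hd z.1 z.2⟩]
      · simp only [IsDerangement, not_forall, not_not] at hd
        obtain ⟨a, ha⟩ := hd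
        rw [if_neg (fun h => h a ha), add_zero]
        exact Fintype.card_eq_one_iff.2
          ⟨⟨a, ha⟩, fun z : fixedBy Ω g => Subtype.ext (hfix g hg z.1 a z.2 ha)⟩
  have h2 := Finset.sum_congr rfl (fun g (_ : g ∈ (Finset.univ : Finset G)) => key g)
  rw [Finset.sum_add_distrib, Finset.sum_add_distrib, hsum, Finset.sum_boole, Finset.sum_ite_eq',
    Finset.sum_const, Finset.card_univ, smul_eq_mul, mul_one, if_pos (Finset.mem_univ _)] at h2
  rw [Nat.card_eq_fintype_card, Nat.card_eq_fintype_card, Fintype.card_subtype]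
  simpa using h2

/-- In a sharply 2-transitive finite group all derangements are conjugate. -/
theorem isConj_of_sharply_two_transitive [Finite G] [Finite Ω] [FaithfulSMul G Ω]
    (h2 : IsMultiplyPretransitive G Ω 2) (hΩ : 2 ≤ Nat.card Ω)
    (hfix : ∀ g : G, g ≠ 1 → ∀ a b : Ω, g • a = a → g • b = b → a = b)
    {d e : G} (hd : IsDerangement Ω d) (he : IsDerangement Ω e) : IsConj d e := by
  classical
  have := Fintype.ofFinite G
  have := Fintype.ofFinite Ω
  have : IsPretransitive G Ω := isPretransitive_of_is_two_pretransitive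
  have hD := card_derangements_of_fixedBy_le_one hΩ hfix
  rw [Nat.card_eq_fintype_card, Fintype.card_subtype, Nat.card_eq_fintype_card] at hD
  rw [Nat.card_eq_fintype_card] at hΩ
  set D := Finset.univ.filter fun g : G => IsDerangement Ω g with hDdef
  set C := Finset.univ.filter fun g : G => IsConj d g with hCdef
  have hCD : C ⊆ D := by
    intro g hg
    simp only [hCdef, Finset.mem_filter, Finset.mem_univ, true_and] at hg
    obtain ⟨c, rfl⟩ := isConj_iff.1 hg
    simp [hDdef, hd.conj c]
  -- centralisers of derangements have at most `n` elements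
  have hcent : (Finset.univ.filter fun g : G => Commute g d).card ≤ Fintype.card Ω := by
    have hsub : (Finset.univ.filter fun g : G => Commute g d) ⊆ insert 1 D := by
      intro g hg
      simp only [Finset.mem_filter, Finset.mem_univ, true_and] at hg
      simp only [Finset.mem_insert, hDdef, Finset.mem_filter, Finset.mem_univ, true_and]
      refine Classical.or_iff_not_imp_left.2 fun hg1 z hz => ?_
      refine hd z (hfix g hg1 (d • z) z ?_ hz)
      rw [← mul_smul, hg.eq, mul_smul, hz]
    have := (Finset.card_le_card hsub).trans (Finset.card_insert_le _ _)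
    omega
  -- the order of `G` is at least `n (n - 1)`
  have hG : (Fintype.card Ω) * (Fintype.card Ω - 1) ≤ Fintype.card G := by
    obtain ⟨α, β, hab⟩ := Fintype.exists_pair_of_one_lt_card (α := Ω) (by omega)
    have hsub : (Finset.univ : Finset Ω).offDiag ⊆ Finset.univ.image fun g : G => (g • α, g • β) := by
      intro x hx
      simp only [Finset.mem_offDiag, Finset.mem_univ, true_and] at hx
      obtain ⟨g, hg1, hg2⟩ := is_two_pretransitive_iff.1 h2 hab hx
      exact Finset.mem_image.2 ⟨g, Finset.mem_univ _, by rw [hg1, hg2]⟩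
    have := (Finset.card_le_card hsub).trans Finset.card_image_le
    rw [Finset.offDiag_card, Finset.card_univ, Finset.card_univ] at this
    rwa [Nat.mul_sub, mul_one]
  have hfib : Fintype.card G ≤ Fintype.card Ω * C.card := by
    have h := Finset.card_le_mul_card_image_of_maps_to (s := (Finset.univ : Finset G)) (t := C)
      (f := fun g => g * d * g⁻¹) (fun g _ => by simp [hCdef, isConj_iff]) (Fintype.card Ω) ?_
    · simpa using h
    intro b hb
    simp only [hCdef, Finset.mem_filter, Finset.mem_univ, true_and, isConj_iff] at hb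
    obtain ⟨c, rfl⟩ := hb
    refine le_trans ?_ hcent
    refine Finset.card_le_card_of_injOn (fun g => c⁻¹ * g) ?_ ?_
    · intro g hg
      simp only [Finset.coe_filter, Finset.mem_univ, true_and, Set.mem_ofPred_eq] at hg ⊢
      show c⁻¹ * g * d = d * (c⁻¹ * g)
      calc c⁻¹ * g * d = c⁻¹ * (g * d * g⁻¹) * g := by group
        _ = d * (c⁻¹ * g) := by rw [hg]; group
    · intro x _ y _ hxy
      exact mul_left_cancel hxy
  have hC : Fintype.card Ω - 1 ≤ C.card :=
    Nat.le_of_mul_le_mul_left (hG.trans hfib) (by omega)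
  have : e ∈ C := by
    rw [Finset.eq_of_subset_of_card_le hCD (by omega)]
    simp [hDdef, he]
  simpa [hCdef] using this

/-- If all non-trivial elements of a transitive abelian normal subgroup are conjugate, the group is
2-transitive. -/
theorem two_transitive_of_conj [FaithfulSMul G Ω] {N : Subgroup G} (hN : N.Normal)
    [IsPretransitive N Ω] (hc : IsMulCommutative N)
    (hconj : ∀ u ∈ N, u ≠ 1 → ∀ v ∈ N, v ≠ 1 → IsConj u v) : IsMultiplyPretransitive G Ω 2 := by
  rw [is_two_pretransitive_iff]
  intro a b c d hab hcd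
  obtain ⟨m, hm⟩ := exists_smul_eq N a c
  obtain ⟨u, hu⟩ := exists_smul_eq N c (m • b)
  obtain ⟨v, hv⟩ := exists_smul_eq N c d
  have hu1 : (u : G) ≠ 1 := fun h => hab (by
    have : c = m • b := by rw [← hu, Subgroup.smul_def, h, one_smul]
    rw [← hm] at this
    exact MulAction.injective m this)
  have hv1 : (v : G) ≠ 1 := fun h => hcd (by rw [← hv, Subgroup.smul_def, h, one_smul])
  obtain ⟨k, hk⟩ := isConj_iff.1 (hconj u u.2 hu1 v v.2 hv1)
  -- replace the conjugating element by one fixing `c`
  obtain ⟨n, hn⟩ := exists_smul_eq N (k • c) c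
  have hvn : Commute (n : G) v := congrArg Subtype.val (hc.is_comm.comm n v)
  have hkc : ((n : G) * k) • c = c := by rw [mul_smul]; exact hn
  have hk' : (n : G) * k * u = v * ((n : G) * k) := by
    rw [← mul_assoc, ← hvn.eq, mul_assoc, mul_assoc, ← hk]; group
  refine ⟨(n : G) * k * m, ?_, ?_⟩
  · rw [mul_smul, ← Subgroup.smul_def, hm, hkc]
  · rw [mul_smul, ← Subgroup.smul_def, ← hu, Subgroup.smul_def, ← mul_smul, hk', mul_smul, hkc]
    exact hv

end Cfsg.Agent.Recog
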