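import Mathlib

/-! Affine maps on triples of points. -/

set_option autoImplicit false

namespace Cfsg.Agent.Recog.AffineTriples

variable {K V : Type*} [Field K] [AddCommGroup V] [Module K V] [FiniteDimensional K V]

theorem exists_equiv_of_li {ι : Type*} [Finite ι] {v w : ι → V} (hv : LinearIndependent K v)
    (hw : LinearIndependent K w) : ∃ A : V ≃ₗ[K] V, ∀ i, A (v i) = w i := by
  classical
  let b := Module.Basis.sumExtend hv
  let b' := Module.Basis.sumExtend hw
  have hb : ∀ i, b (Sum.inl i) = v i := fun i => by
    simp only [b, Module.Basis.sumExtend, Module.Basis.reindex_apply, Module.Basis.coe_extend,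
      Equiv.symm_symm]
    rfl
  have hb' : ∀ i, b' (Sum.inl i) = w i := fun i => by
    simp only [b', Module.Basis.sumExtend, Module.Basis.reindex_apply, Module.Basis.coe_extend,
      Equiv.symm_symm]
    rfl
  have hf := Module.Finite.finite_basis b
  have hf' := Module.Finite.finite_basis b'
  haveI := Fintype.ofFinite ι
  haveI : Finite (Module.Basis.sumExtendIndex hv) := Finite.sum_right ι
  haveI : Finite (Module.Basis.sumExtendIndex hw) := Finite.sum_right ι
  haveI := Fintype.ofFinite (Module.Basis.sumExtendIndex hv)
  haveI := Fintype.ofFinite (Module.Basis.sumExtendIndex hw)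
  have h1 := Module.finrank_eq_card_basis b
  have h2 := Module.finrank_eq_card_basis b'
  rw [Fintype.card_sum] at h1 h2
  let e := Fintype.equivOfCardEq (show Fintype.card (Module.Basis.sumExtendIndex hv) =
    Fintype.card (Module.Basis.sumExtendIndex hw) by omega)
  exact ⟨b.equiv b' ((Equiv.refl ι).sumCongr e), fun i => by
    rw [← hb i, Module.Basis.equiv_apply, Equiv.sumCongr_apply, Sum.map_inl, Equiv.refl_apply, hb']⟩

end Cfsg.Agent.Recog.AffineTriples
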