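import Mathlib
import Cfsg.Agent.Lib.Components.Fitting

/-! Group-theoretic lemmas for local actions containing an alternating group. -/

set_option autoImplicit false

namespace Cfsg.Agent.Recog.AltLocal

open Subgroup Equiv Equiv.Perm

/-- No subgroup maps onto `S`. -/
def NoSec (S : Type*) [Group S] (Γ : Type*) [Group Γ] : Prop :=
  ∀ (U : Subgroup Γ) (f : U →* S), ¬ Function.Surjective f

theorem noSec_of_card_lt {S : Type*} [Group S] {Γ : Type*} [Group Γ] [Finite Γ]
    (h : Nat.card Γ < Nat.card S) : NoSec S Γ := by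
  intro U f hf
  have h1 := Nat.card_le_card_of_surjective f hf
  have h2 := U.card_le_card_group
  omega

theorem noSec_injective {S : Type*} [Group S] {Γ Γ' : Type*} [Group Γ] [Group Γ'] (h : Γ →* Γ')
    (hinj : Function.Injective h) (hf : NoSec S Γ') : NoSec S Γ := by
  intro U f hfs
  let e := U.equivMapOfInjective h hinj
  exact hf (U.map h) (f.comp e.symm.toMonoidHom) (hfs.comp e.symm.surjective)

/-- A group embedded in a product of groups without a section `S` has none. -/
theorem noSec_joint {S : Type*} [Group S] [IsSimpleGroup S] {Γ : Type*} [Group Γ] {ι : Type*} [Finite ι]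
    {T : ι → Type*} [∀ i, Group (T i)] (h : ∀ i, Γ →* T i) (hker : ⨅ i, (h i).ker = ⊥)
    (hf : ∀ i, NoSec S (T i)) : NoSec S Γ := by
  classical
  haveI := Fintype.ofFinite ι
  intro U f hfs
  have key : ∀ s : Finset ι, ((U.subtype.comp (⊤ : Subgroup U).subtype).ker = ⊥) →
      ((⨅ i ∈ s, (h i).ker).subgroupOf U).map f = ⊤ := by
    intro s _
    induction s using Finset.induction_on with
    | empty => simp [hfs, Subgroup.map_top_of_surjective]
    | @insert j s hj ih =>
      set M := (⨅ i ∈ s, (h i).ker).subgroupOf U with hM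
      haveI hMn : M.Normal := by
        rw [hM]
        haveI : (⨅ i ∈ s, (h i).ker).Normal := normal_iInf_normal fun i => normal_iInf_normal fun _ => inferInstance
        infer_instance
      set M' := (⨅ i ∈ insert j s, (h i).ker).subgroupOf U with hM'
      haveI hMn' : M'.Normal := by
        rw [hM']
        haveI : (⨅ i ∈ insert j s, (h i).ker).Normal :=
          normal_iInf_normal fun i => normal_iInf_normal fun _ => inferInstance
        infer_instance
      haveI := hMn'.map f hfs
      rcases (inferInstance : (M'.map f).Normal).eq_bot_or_eq_top with hb | ht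
      swap
      · exact ht
      exfalso
      -- `f` on `M` factors through `h j`
      let g : M →* T j := (h j).comp (U.subtype.comp M.subtype)
      have hle : g.rangeRestrict.ker ≤ (f.comp M.subtype).ker := by
        intro x hx
        rw [MonoidHom.ker_rangeRestrict, MonoidHom.mem_ker] at hx
        have hx' : (x : U) ∈ M' := by
          rw [hM', mem_subgroupOf]
          simp only [Finset.iInf_insert, mem_inf]
          exact ⟨hx, x.2⟩
        have : f x ∈ M'.map f := ⟨x, hx', rfl⟩
        rw [hb, mem_bot] at this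
        exact this
      let k := (g.rangeRestrict).liftOfSurjective (MonoidHom.rangeRestrict_surjective g) ⟨f.comp M.subtype, hle⟩
      refine hf j g.range k fun y => ?_
      have hy : y ∈ M.map f := ih.ge (mem_top y)
      obtain ⟨x, hx, rfl⟩ := hy
      refine ⟨g.rangeRestrict ⟨x, hx⟩, ?_⟩
      exact MonoidHom.liftOfRightInverse_comp_apply _ _ _ ⟨f.comp M.subtype, hle⟩ ⟨x, hx⟩
  have := key Finset.univ ((MonoidHom.ker_eq_bot_iff _).mpr (U.subtype_injective.comp (Subgroup.subtype_injective _)))
  rw [show (⨅ i ∈ (Finset.univ : Finset ι), (h i).ker) = ⊥ by simpa using hker, bot_subgroupOf,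
    Subgroup.map_bot] at this
  exact bot_ne_top this

variable {β : Type*} [Fintype β] [DecidableEq β]

theorem noSec_perm {d : ℕ} (hd : 3 ≤ d) (hβ : Fintype.card β + 1 = d) :
    NoSec (alternatingGroup (Fin d)) (Equiv.Perm β) := by
  refine noSec_of_card_lt ?_
  haveI : Nontrivial (Fin d) := Fin.nontrivial_iff_two_le.mpr (by omega)
  have h1 := two_mul_nat_card_alternatingGroup (α := Fin d)
  rw [Nat.card_perm, Nat.card_fin] at h1
  rw [Nat.card_perm, Nat.card_eq_fintype_card]
  obtain ⟨m, rfl⟩ : ∃ m, d = m + 1 := ⟨d - 1, by omega⟩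
  rw [show Fintype.card β = m by omega]
  rw [Nat.factorial_succ] at h1
  have : 3 * m.factorial ≤ (m + 1) * m.factorial := Nat.mul_le_mul_right _ hd
  have := m.factorial_pos
  omega

theorem centralizer_alt_eq_bot (h : 4 ≤ Fintype.card β) {σ : Perm β}
    (hσ : ∀ τ ∈ alternatingGroup β, τ * σ = σ * τ) : σ = 1 := by
  by_contra hne
  obtain ⟨x, hx⟩ : ∃ x, σ x ≠ x := by
    by_contra hall
    push Not at hall
    exact hne (Equiv.ext hall)
  have hcard : 2 ≤ (({x, σ x} : Finset β)ᶜ).card := by
    rw [Finset.card_compl, Finset.card_pair (Ne.symm hx)]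
    omega
  obtain ⟨z, hz, w, hw, hzw⟩ := Finset.one_lt_card.mp hcard
  simp only [Finset.mem_compl, Finset.mem_insert, Finset.mem_singleton, not_or] at hz hw
  have hτ : swap (σ x) z * swap z w ∈ alternatingGroup β := by
    rw [mem_alternatingGroup, map_mul, sign_swap (Ne.symm hz.2), sign_swap hzw]
    rfl
  have := Equiv.ext_iff.mp (hσ _ hτ) x
  simp only [Perm.mul_apply, swap_apply_of_ne_of_ne (Ne.symm hz.1) (Ne.symm hw.1)] at this
  rw [swap_apply_of_ne_of_ne (Ne.symm hz.2) (Ne.symm hw.2), swap_apply_left,
    swap_apply_of_ne_of_ne (Ne.symm hx) (Ne.symm hz.1)] at this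
  exact hz.2 this

/-- A subgroup normalised by the alternating group is trivial or contains it. -/
theorem bot_or_alt_le (h : 5 ≤ Fintype.card β) {N : Subgroup (Perm β)}
    (hn : alternatingGroup β ≤ normalizer (N : Set (Perm β))) : N = ⊥ ∨ alternatingGroup β ≤ N := by
  haveI := alternatingGroup.isSimpleGroup (α := β) (by rwa [Nat.card_eq_fintype_card])
  haveI : (N.subgroupOf (alternatingGroup β)).Normal := normal_subgroupOf_of_le_normalizer hn
  rcases (inferInstance : (N.subgroupOf (alternatingGroup β)).Normal).eq_bot_or_eq_top with hb | ht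
  · left
    rw [eq_bot_iff]
    intro σ hσ
    refine mem_bot.mpr (centralizer_alt_eq_bot (by omega) fun τ hτ => ?_)
    have hc : τ * σ * τ⁻¹ * σ⁻¹ ∈ N ⊓ alternatingGroup β := by
      refine ⟨N.mul_mem ((mem_normalizer_iff.mp (hn hτ) σ).mp hσ) (N.inv_mem hσ), ?_⟩
      refine mem_alternatingGroup.mpr ?_
      simp [map_mul, mem_alternatingGroup.mp hτ]
    rw [disjoint_iff.mp (subgroupOf_eq_bot.mp hb), mem_bot, mul_inv_eq_one, mul_inv_eq_iff_eq_mul] at hc
    exact hc
  · exact Or.inr (subgroupOf_eq_top.mp ht)

/-- The commutator subgroup of a subgroup containing the alternating group. -/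
theorem commutator_eq_alt (h : 5 ≤ Fintype.card β) {U : Subgroup (Perm β)} (hU : alternatingGroup β ≤ U) :
    ⁅U, U⁆ = alternatingGroup β := by
  refine le_antisymm ?_ ?_
  · rw [commutator_le]
    intro a _ b _
    rw [mem_alternatingGroup, map_commutatorElement]
    exact commutatorElement_eq_one_iff_mul_comm.mpr (mul_comm _ _)
  · refine le_trans ?_ (commutator_mono hU hU)
    rw [← Subgroup.map_subtype_commutator,
      commutator_alternatingGroup_eq_top (α := β) (by rwa [Nat.card_eq_fintype_card]),
      ← MonoidHom.range_eq_map, range_subtype]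

theorem alt_not_le_bot (h : 3 ≤ Fintype.card β) : ¬ alternatingGroup β ≤ ⊥ := by
  intro hb
  haveI : Nontrivial β := Fintype.one_lt_card_iff_nontrivial.mp (by omega)
  have h1 := two_mul_nat_card_alternatingGroup (α := β)
  rw [le_bot_iff.mp hb, card_bot, Nat.card_perm, Nat.card_eq_fintype_card] at h1
  have := Nat.factorial_le h
  norm_num [Nat.factorial] at this
  omega

/-- A nilpotent normal subgroup vanishes in a group with an image containing the alternating group. -/
theorem fitting_eq_bot (h : 5 ≤ Fintype.card β) {Γ : Type*} [Group Γ] [Finite Γ] (f : Γ →* Perm β)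
    (hinj : Function.Injective f) (hU : alternatingGroup β ≤ f.range) : Cfsg.fittingSubgroup Γ = ⊥ := by
  set F := Cfsg.fittingSubgroup Γ
  haveI : Group.IsNilpotent F := Components.fitting_isNilpotent
  have hn : alternatingGroup β ≤ normalizer ((F.map f : Subgroup (Perm β)) : Set (Perm β)) := by
    refine hU.trans ?_
    rw [MonoidHom.range_eq_map]
    exact (Subgroup.map_mono (by rw [normalizer_eq_top_iff.mpr Components.fitting_normal])).trans
      (le_normalizer_map f)
  rcases bot_or_alt_le h hn with hb | ha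
  · exact (map_eq_bot_iff_of_injective _ hinj).mp hb
  · exfalso
    haveI : Group.IsNilpotent (F.map f) :=
      Group.nilpotent_of_surjective _ (f.subgroupMap_surjective F)
    have h5 : Group.IsSolvable (alternatingGroup β) :=
      Group.isSolvable_of_isSolvable_injective (f := Subgroup.inclusion ha) (Subgroup.inclusion_injective ha)
    have hperf : Group.IsPerfect (alternatingGroup β) :=
      ⟨commutator_alternatingGroup_eq_top (α := β) (by rwa [Nat.card_eq_fintype_card])⟩
    haveI : Nontrivial (alternatingGroup β) := (nontrivial_iff_ne_bot _).mpr fun e => alt_not_le_bot (by omega) e.le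
    exact Group.IsPerfect.not_isSolvable (alternatingGroup β) h5

/-- An even permutation with two prescribed values. -/
theorem exists_even (h : 4 ≤ Fintype.card β) {x x' y y' : β} (hx : x ≠ x') (hy : y ≠ y') :
    ∃ σ ∈ alternatingGroup β, σ x = y ∧ σ x' = y' := by
  set τ := swap x y with hτ
  set σ := swap (τ x') y' * τ with hσ
  have h1 : τ x = y := swap_apply_left _ _
  have h2 : σ x = y := by
    rw [hσ, Perm.mul_apply, h1, swap_apply_of_ne_of_ne ?_ hy]
    exact fun e => hx (τ.injective (h1.trans e))
  have h3 : σ x' = y' := by rw [hσ, Perm.mul_apply, swap_apply_left]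
  rcases Int.units_eq_one_or (sign σ) with hs | hs
  · exact ⟨σ, mem_alternatingGroup.mpr hs, h2, h3⟩
  · have hcard : 2 ≤ (({y, y'} : Finset β)ᶜ).card := by
      rw [Finset.card_compl, Finset.card_pair hy]
      omega
    obtain ⟨p, hp, q, hq, hpq⟩ := Finset.one_lt_card.mp hcard
    simp only [Finset.mem_compl, Finset.mem_insert, Finset.mem_singleton, not_or] at hp hq
    refine ⟨swap p q * σ, ?_, ?_, ?_⟩
    · rw [mem_alternatingGroup, map_mul, sign_swap hpq, hs]; rfl
    · rw [Perm.mul_apply, h2, swap_apply_of_ne_of_ne (Ne.symm hp.1) (Ne.symm hq.1)]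
    · rw [Perm.mul_apply, h3, swap_apply_of_ne_of_ne (Ne.symm hp.2) (Ne.symm hq.2)]

/-- Groups inside a product of two symmetric groups with both alternating groups. -/
theorem classify {Γ : Type*} [Group Γ] {β γ : Type*} [Fintype β] [DecidableEq β] [Fintype γ] [DecidableEq γ]
    [Nontrivial β] [Nontrivial γ]
    (f : Γ →* Perm β) (g : Γ →* Perm γ) (hinj : f.ker ⊓ g.ker = ⊥)
    (hf : alternatingGroup β ≤ g.ker.map f) (hg : alternatingGroup γ ≤ f.ker.map g) :
    (f.range.index = 2 ∧ g.range.index = 2 → Nonempty (Γ ≃* alternatingGroup β × alternatingGroup γ)) ∧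
    (f.range = ⊤ ∧ g.range = ⊤ → Nonempty (Γ ≃* Perm β × Perm γ) ∨
      Nonempty (Γ ≃* ((sign.comp (MonoidHom.fst (Perm β) (Perm γ))) *
         (sign.comp (MonoidHom.snd (Perm β) (Perm γ)))).ker)) := by
  set F := f.prod g with hF
  have hFinj : Function.Injective F := by
    rw [← MonoidHom.ker_eq_bot_iff, hF, MonoidHom.ker_prod, hinj]
  have hAA : ∀ s ∈ alternatingGroup β, ∀ t ∈ alternatingGroup γ, (s, t) ∈ F.range := by
    intro s hs t ht
    obtain ⟨u, hu, rfl⟩ := hf hs
    obtain ⟨v, hv, rfl⟩ := hg ht
    refine ⟨u * v, ?_⟩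
    simp [hF, MonoidHom.mem_ker.mp hu, MonoidHom.mem_ker.mp hv]
  constructor
  · rintro ⟨hf2, hg2⟩
    have e : F.range = (alternatingGroup β).prod (alternatingGroup γ) := by
      refine le_antisymm ?_ (fun (p : Perm β × Perm γ) (hp : p ∈ (alternatingGroup β).prod (alternatingGroup γ)) => hAA p.1 hp.1 p.2 hp.2)
      rintro _ ⟨u, rfl⟩
      exact ⟨(eq_alternatingGroup_of_index_eq_two hf2).le ⟨u, rfl⟩,
        (eq_alternatingGroup_of_index_eq_two hg2).le ⟨u, rfl⟩⟩
    exact ⟨((MonoidHom.ofInjective hFinj).trans (MulEquiv.subgroupCongr e)).trans (prodEquiv _ _)⟩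
  · rintro ⟨hft, hgt⟩
    by_cases hmix : ∃ u, sign (f u) ≠ sign (g u)
    · left
      obtain ⟨u, hu⟩ := hmix
      have htop : F.range = ⊤ := by
        obtain ⟨a, b, hab⟩ : ∃ a b : Γ, (sign (f a) = -1 ∧ sign (g a) = 1) ∧ (sign (f b) = 1 ∧ sign (g b) = -1) := by
          obtain ⟨i, j, hij⟩ := exists_pair_ne β
          obtain ⟨c, hc⟩ : swap i j ∈ f.range := by rw [hft]; trivial
          obtain ⟨i', j', hij'⟩ := exists_pair_ne γ
          obtain ⟨c', hc'⟩ : swap i' j' ∈ g.range := by rw [hgt]; trivial
          have hc1 : sign (f c) = -1 := by rw [hc, sign_swap hij]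
          have hc2 : sign (g c') = -1 := by rw [hc', sign_swap hij']
          rcases Int.units_eq_one_or (sign (f u)) with h1 | h1 <;>
            rcases Int.units_eq_one_or (sign (g u)) with h2 | h2
          · exact absurd (h1.trans h2.symm) hu
          · rcases Int.units_eq_one_or (sign (g c)) with h3 | h3
            · exact ⟨c, u, ⟨hc1, h3⟩, h1, h2⟩
            · exact ⟨c * u, u, ⟨by simp [hc1, h1], by simp [h3, h2]⟩, h1, h2⟩
          · rcases Int.units_eq_one_or (sign (f c')) with h3 | h3
            · exact ⟨u, c', ⟨h1, h2⟩, h3, hc2⟩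
            · exact ⟨u, c' * u, ⟨h1, h2⟩, by simp [h3, h1], by simp [hc2, h2]⟩
          · exact absurd (h1.trans h2.symm) hu
        rw [eq_top_iff]
        rintro ⟨s, t⟩ -
        have even : ∀ s t, sign s = 1 → sign t = 1 → (s, t) ∈ F.range := fun s t h1 h2 =>
          hAA s (mem_alternatingGroup.mpr h1) t (mem_alternatingGroup.mpr h2)
        have mk : ∀ w : Γ, sign (f w) = sign s → sign (g w) = sign t → (s, t) ∈ F.range := by
          intro w h1 h2
          have h3 := F.range.mul_mem (⟨w, rfl⟩ : F w ∈ F.range)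
            (even ((f w)⁻¹ * s) ((g w)⁻¹ * t) (by simp [h1]) (by simp [h2]))
          simpa [hF] using h3
        rcases Int.units_eq_one_or (sign s) with h1 | h1 <;>
          rcases Int.units_eq_one_or (sign t) with h2 | h2
        · exact mk 1 (by simp [h1]) (by simp [h2])
        · exact mk b (by rw [hab.2.1, h1]) (by rw [hab.2.2, h2])
        · exact mk a (by rw [hab.1.1, h1]) (by rw [hab.1.2, h2])
        · exact mk (a * b) (by simp [hab.1.1, hab.2.1, h1]) (by simp [hab.1.2, hab.2.2, h2])
      exact ⟨((MonoidHom.ofInjective hFinj).trans (MulEquiv.subgroupCongr htop)).trans topEquiv⟩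
    · right
      push Not at hmix
      have e : F.range = ((sign.comp (MonoidHom.fst (Perm β) (Perm γ))) *
          (sign.comp (MonoidHom.snd (Perm β) (Perm γ)))).ker := by
        apply le_antisymm
        · rintro _ ⟨u, rfl⟩
          show sign (f u) * sign (g u) = 1
          rw [hmix u]; exact Int.units_mul_self _
        · rintro ⟨s, t⟩ hst
          have hst' : sign s = sign t := by
            have h3 : sign s * sign t = 1 := hst
            rw [← Int.units_inv_eq_self (sign t)]
            exact eq_inv_of_mul_eq_one_left h3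
          obtain ⟨w, hw⟩ : s ∈ f.range := by rw [hft]; trivial
          have h3 := F.range.mul_mem (⟨w, rfl⟩ : F w ∈ F.range)
            (hAA ((f w)⁻¹ * s) (by simp [mem_alternatingGroup, hw]) ((g w)⁻¹ * t)
              (by simp [mem_alternatingGroup, ← hmix w, hw, hst']))
          simpa [hF] using h3
      exact ⟨(MonoidHom.ofInjective hFinj).trans (MulEquiv.subgroupCongr e)⟩

end Cfsg.Agent.Recog.AltLocal
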