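import Cfsg.Agent.Lib.Basics.FrobeniusBasic

/-!
# Three primes along a normal series

If `p`, `q`, `r` divide `|K|`, `|M / K|`, `|G / M|` for normal subgroups `K ≤ M`, two of them are
adjacent in the prime graph.
-/

set_option autoImplicit false

namespace Cfsg.Agent.Recog

variable {G : Type*} [Group G] [Finite G]

/-- Commuting elements of orders divisible by distinct primes give an element of the product order. -/
theorem exists_orderOf_mul {a b : G} {p q : ℕ} (hp : p.Prime) (hq : q.Prime) (hpq : p ≠ q)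
    (hab : Commute a b) (ha : p ∣ orderOf a) (hb : q ∣ orderOf b) :
    ∃ x : G, orderOf x = p * q := by
  have ha' : orderOf (a ^ (orderOf a / p)) = p := by
    rw [orderOf_pow_of_dvd (Nat.div_pos (Nat.le_of_dvd (orderOf_pos a) ha) hp.pos).ne'
      (Nat.div_dvd_of_dvd ha), Nat.div_div_self ha (orderOf_pos a).ne']
  have hb' : orderOf (b ^ (orderOf b / q)) = q := by
    rw [orderOf_pow_of_dvd (Nat.div_pos (Nat.le_of_dvd (orderOf_pos b) hb) hq.pos).ne'
      (Nat.div_dvd_of_dvd hb), Nat.div_div_self hb (orderOf_pos b).ne']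
  refine ⟨a ^ (orderOf a / p) * b ^ (orderOf b / q), ?_⟩
  rw [(hab.pow_pow _ _).orderOf_mul_eq_mul_orderOf_of_coprime
    (by rw [ha', hb']; exact (Nat.coprime_primes hp hq).2 hpq), ha', hb']

omit [Finite G] in
theorem dvd_orderOf_of_isPGroup {P : Subgroup G} {p : ℕ} [Fact p.Prime] (hP : IsPGroup p P) {a : G}
    (ha : a ∈ P) (h1 : a ≠ 1) : p ∣ orderOf a := by
  obtain ⟨k, hk⟩ := hP ⟨a, ha⟩
  have hak : a ^ p ^ k = 1 := congrArg Subtype.val hk
  obtain ⟨j, -, hj⟩ := (Nat.dvd_prime_pow Fact.out).1 (orderOf_dvd_of_pow_eq_one hak)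
  cases j with
  | zero => rw [pow_zero] at hj; exact absurd (orderOf_eq_one_iff.1 hj) h1
  | succ j => rw [hj]; exact dvd_pow_self p (Nat.succ_ne_zero j)

/-- The three primes lemma. -/
theorem three_primes (K M : Subgroup G) [K.Normal] [M.Normal] (hKM : K ≤ M)
    (p q r : ℕ) (hp : p.Prime) (hq : q.Prime) (hr : r.Prime) (hpq : p ≠ q) (hpr : p ≠ r) (hqr : q ≠ r)
    (hpK : p ∣ Nat.card K) (hqM : q ∣ K.relIndex M) (hrG : r ∣ M.index) :
    (∃ x : G, orderOf x = p * q) ∨ (∃ x : G, orderOf x = p * r) ∨ (∃ x : G, orderOf x = q * r) := by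
  classical
  by_contra hcon
  push Not at hcon
  obtain ⟨hnpq, hnpr, hnqr⟩ := hcon
  have hpF : Fact p.Prime := ⟨hp⟩
  have hqF : Fact q.Prime := ⟨hq⟩
  have hrF : Fact r.Prime := ⟨hr⟩
  obtain ⟨P₀⟩ : Nonempty (Sylow p K) := inferInstance
  set P : Subgroup G := (P₀ : Subgroup K).map K.subtype with hPdef
  have hPp : IsPGroup p P := P₀.2.map _
  set N : Subgroup G := Subgroup.normalizer (P : Set G) with hNdef
  have hNK : N ⊔ K = ⊤ := Sylow.normalizer_sup_eq_top P₀
  set V : Subgroup G := P ⊓ Subgroup.centralizer (P : Set G) with hVdef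
  have : IsMulCommutative V :=
    ⟨⟨fun a b => Subtype.ext ((Subgroup.mem_centralizer_iff.1 b.2.2) a a.2.1)⟩⟩
  have hNV : N ≤ Subgroup.normalizer (V : Set G) := by
    intro g hg
    rw [Subgroup.mem_normalizer_iff]
    rw [hNdef, Subgroup.mem_normalizer_iff] at hg
    have key : ∀ v, g * v * g⁻¹ ∈ Subgroup.centralizer (P : Set G) ↔
        v ∈ Subgroup.centralizer (P : Set G) := by
      intro v
      simp only [Subgroup.mem_centralizer_iff, SetLike.mem_coe]
      constructor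
      · intro h z hz
        have := h (g * z * g⁻¹) ((hg z).1 hz)
        calc z * v = g⁻¹ * ((g * z * g⁻¹) * (g * v * g⁻¹)) * g := by group
          _ = g⁻¹ * ((g * v * g⁻¹) * (g * z * g⁻¹)) * g := by rw [this]
          _ = v * z := by group
      · intro h z hz
        have hz' : g⁻¹ * z * g ∈ P := (hg _).2 (by simpa [mul_assoc] using hz)
        have e := h _ hz'
        calc z * (g * v * g⁻¹) = g * ((g⁻¹ * z * g) * v) * g⁻¹ := by group
          _ = g * (v * (g⁻¹ * z * g)) * g⁻¹ := by rw [e]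
          _ = g * v * g⁻¹ * z := by group
    intro v
    simp only [hVdef, Subgroup.mem_inf, key, ← hg v]
  obtain ⟨v, hvV, hv1⟩ : ∃ v ∈ V, v ≠ 1 := by
    have : Nontrivial P₀ := by
      apply Finite.one_lt_card_iff_nontrivial.1
      have hd : p ∣ Nat.card P₀ := P₀.dvd_card_of_dvd_card hpK
      exact lt_of_lt_of_le hp.one_lt (Nat.le_of_dvd Nat.card_pos hd)
    have hnt := P₀.2.center_nontrivial
    obtain ⟨⟨z, hz⟩, hz1⟩ := exists_ne (1 : Subgroup.center P₀)
    refine ⟨((z : K) : G), ⟨⟨_, z.2, rfl⟩, ?_⟩, fun h => hz1 (Subtype.ext (Subtype.ext (Subtype.ext h)))⟩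
    rintro _ ⟨w, hw, rfl⟩
    exact congrArg (fun t : P₀ => ((t : K) : G)) (Subgroup.mem_center_iff.1 hz ⟨w, hw⟩)
  set A : Subgroup G := N ⊓ M with hAdef
  have hAK : A ⊔ K = M := by
    apply le_antisymm (sup_le inf_le_right hKM)
    intro m hm
    have : m ∈ ((N ⊔ K : Subgroup G) : Set G) := by rw [hNK]; trivial
    rw [Subgroup.mul_normal N K] at this
    obtain ⟨a, ha, k, hk, rfl⟩ := this
    refine Subgroup.mul_mem_sup ⟨ha, ?_⟩ hk
    simpa using M.mul_mem hm (M.inv_mem (hKM hk))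
  have hqA : q ∣ Nat.card A := by
    rw [← hAK, Subgroup.relIndex_sup_right] at hqM
    exact hqM.trans (K.relIndex_dvd_card A)
  have hAN : A ≤ N := inf_le_left
  have : (A.subgroupOf N).Normal := by
    rw [hAdef, Subgroup.inf_subgroupOf_left]; exact Subgroup.normal_subgroupOf
  obtain ⟨Q₀⟩ : Nonempty (Sylow q (A.subgroupOf N)) := inferInstance
  set QN : Subgroup N := (Q₀ : Subgroup (A.subgroupOf N)).map (A.subgroupOf N).subtype with hQN
  have hfr := Sylow.normalizer_sup_eq_top Q₀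
  set Q : Subgroup G := QN.map N.subtype with hQdef
  have hQq : IsPGroup q Q := (Q₀.2.map _).map _
  obtain ⟨x, hxN, hxQ, hxr⟩ : ∃ x : G, x ∈ N ∧ x ∈ Subgroup.normalizer (Q : Set G) ∧ orderOf x = r := by
    have hAidx : r ∣ (A.subgroupOf N).index := by
      have h1 : M.relIndex (N ⊔ M) = M.relIndex N := Subgroup.relIndex_sup_right N M
      have h2 : N ⊔ M = ⊤ := top_unique (hNK.ge.trans (sup_le_sup_left hKM N))
      rw [h2, Subgroup.relIndex_top_right] at h1
      rw [hAdef, Subgroup.inf_subgroupOf_left]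
      show r ∣ M.relIndex N
      rw [← h1]; exact hrG
    have hd : r ∣ Nat.card (Subgroup.normalizer (QN : Set N)) := by
      have h3 : (A.subgroupOf N).relIndex (Subgroup.normalizer (QN : Set N)) =
          (A.subgroupOf N).index := by
        rw [← Subgroup.relIndex_sup_right, hfr, Subgroup.relIndex_top_right]
      exact (h3 ▸ hAidx).trans (Subgroup.relIndex_dvd_card _ _)
    obtain ⟨y, hy⟩ := exists_prime_orderOf_dvd_card' r hd
    refine ⟨((y : N) : G), (y : N).2, ?_, by rw [Subgroup.orderOf_coe, Subgroup.orderOf_coe, hy]⟩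
    rw [Subgroup.mem_normalizer_iff]
    intro g
    have hy' := Subgroup.mem_normalizer_iff.1 y.2
    constructor
    · rintro ⟨w, hw, rfl⟩
      exact ⟨(y : N) * w * (y : N)⁻¹, (hy' w).1 hw, by simp⟩
    · rintro ⟨w, hw, he⟩
      have hgN : g ∈ N := by
        have h4 := N.mul_mem (N.mul_mem (N.inv_mem (y : N).2) w.2) (y : N).2
        rw [show ((w : G)) = _ from he] at h4
        simpa [mul_assoc] using h4
      refine ⟨⟨g, hgN⟩, (hy' _).2 ?_, rfl⟩
      have e : (y : N) * (⟨g, hgN⟩ : N) * (y : N)⁻¹ = w := Subtype.ext he.symm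
      exact e.symm ▸ hw
  set D : Subgroup G := Q ⊓ Subgroup.centralizer (Q : Set G) with hDdef
  obtain ⟨d, hdD, hd1⟩ : ∃ d ∈ D, d ≠ 1 := by
    have : Nontrivial Q₀ := by
      apply Finite.one_lt_card_iff_nontrivial.1
      have h4 : q ∣ Nat.card (A.subgroupOf N) := by
        rwa [Nat.card_congr (Subgroup.subgroupOfEquivOfLe hAN).toEquiv]
      have hd : q ∣ Nat.card Q₀ := Q₀.dvd_card_of_dvd_card h4
      exact lt_of_lt_of_le hq.one_lt (Nat.le_of_dvd Nat.card_pos hd)
    have hnt := Q₀.2.center_nontrivial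
    obtain ⟨⟨z, hz⟩, hz1⟩ := exists_ne (1 : Subgroup.center Q₀)
    refine ⟨(((z : A.subgroupOf N) : N) : G), ⟨⟨_, ⟨_, z.2, rfl⟩, rfl⟩, ?_⟩,
      fun h => hz1 (Subtype.ext (Subtype.ext (Subtype.ext (Subtype.ext h))))⟩
    rintro _ ⟨_, ⟨w, hw, rfl⟩, rfl⟩
    exact congrArg (fun t : Q₀ => (((t : A.subgroupOf N) : N) : G))
      (Subgroup.mem_center_iff.1 hz ⟨w, hw⟩)
  have hQN' : Q ≤ N := by rintro _ ⟨w, -, rfl⟩; exact w.2
  have hDV : D ≤ Subgroup.normalizer (V : Set G) := (inf_le_left.trans hQN').trans hNV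
  have hxD : Subgroup.zpowers x ≤ Subgroup.normalizer (D : Set G) := by
    rw [Subgroup.zpowers_le, Subgroup.mem_normalizer_iff]
    have hx' := Subgroup.mem_normalizer_iff.1 hxQ
    intro g
    simp only [hDdef, Subgroup.mem_inf, Subgroup.mem_centralizer_iff, SetLike.mem_coe, ← hx' g]
    refine and_congr_right fun _ => ⟨fun h z hz => ?_, fun h z hz => ?_⟩
    · have hz' : x⁻¹ * z * x ∈ Q := (hx' _).2 (by simpa [mul_assoc] using hz)
      have e := h _ hz'
      calc z * (x * g * x⁻¹) = x * ((x⁻¹ * z * x) * g) * x⁻¹ := by group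
        _ = x * (g * (x⁻¹ * z * x)) * x⁻¹ := by rw [e]
        _ = x * g * x⁻¹ * z := by group
    · have := h (x * z * x⁻¹) ((hx' z).1 hz)
      calc z * g = x⁻¹ * ((x * z * x⁻¹) * (x * g * x⁻¹)) * x := by group
        _ = x⁻¹ * ((x * g * x⁻¹) * (x * z * x⁻¹)) * x := by rw [this]
        _ = g * z := by group
  have hfpf : ∀ y ∈ D ⊔ Subgroup.zpowers x, y ≠ 1 → V ⊓ Subgroup.centralizer {y} = ⊥ := by
    intro y hy hy1
    rw [Subgroup.eq_bot_iff_forall]
    rintro w ⟨hwV, hwc⟩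
    by_contra hw1
    have hc : Commute w y := (Subgroup.mem_centralizer_iff.1 hwc y rfl).symm
    have hpw : p ∣ orderOf w := dvd_orderOf_of_isPGroup hPp hwV.1 hw1
    have hdvd : q ∣ orderOf y ∨ r ∣ orderOf y := by
      have hy' : y ∈ ((D ⊔ Subgroup.zpowers x : Subgroup G) : Set G) := hy
      rw [Subgroup.coe_mul_of_right_le_normalizer_left D (Subgroup.zpowers x) hxD] at hy'
      obtain ⟨a, ha, b, hb, rfl⟩ := hy'
      simp only at hy1 hc ⊢
      by_cases hb1 : b = 1
      · subst hb1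
        rw [mul_one] at hy1 ⊢
        exact Or.inl (dvd_orderOf_of_isPGroup hQq ha.1 hy1)
      · right
        by_contra hnr
        apply hb1
        obtain ⟨n, hn⟩ : ∃ n : ℕ, 0 < n ∧ (a * b) ^ n = 1 ∧ ¬ r ∣ n :=
          ⟨orderOf (a * b), orderOf_pos _, pow_orderOf_eq_one _, hnr⟩
        obtain ⟨-, hn1, hnr'⟩ := hn
        have key : ∀ k : ℕ, ∃ a' ∈ D, (a * b) ^ k = a' * b ^ k := by
          intro k
          induction k with
          | zero => exact ⟨1, D.one_mem, by simp⟩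
          | succ k ih =>
            obtain ⟨a', ha', hk⟩ := ih
            refine ⟨a' * (b ^ k * a * (b ^ k)⁻¹), D.mul_mem ha'
              ((Subgroup.mem_normalizer_iff.1 (hxD (pow_mem hb k)) a).1 ha), ?_⟩
            rw [pow_succ, hk, pow_succ]; group
        obtain ⟨a', ha', hk⟩ := key n
        rw [hn1] at hk
        have hbn : b ^ n ∈ D := by
          rw [eq_inv_of_mul_eq_one_right hk.symm]; exact D.inv_mem ha'
        have h1 : orderOf (b ^ n) ∣ r := by
          refine (orderOf_pow_dvd n).trans ?_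
          rw [← hxr, ← Nat.card_zpowers x]
          exact Subgroup.orderOf_dvd_natCard _ hb
        have hbn1 : b ^ n = 1 := by
          by_contra hne
          have h2 := dvd_orderOf_of_isPGroup hQq hbn.1 hne
          exact hqr ((Nat.prime_dvd_prime_iff_eq hq hr).1 (h2.trans h1))
        have h3 : orderOf b ∣ r := by
          rw [← hxr, ← Nat.card_zpowers x]; exact Subgroup.orderOf_dvd_natCard _ hb
        rcases (Nat.dvd_prime hr).1 h3 with h | h
        · exact orderOf_eq_one_iff.1 h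
        · exact absurd (h ▸ orderOf_dvd_of_pow_eq_one hbn1) hnr'
    rcases hdvd with h | h
    · exact absurd (exists_orderOf_mul hp hq hpq hc hpw h) (fun ⟨z, hz⟩ => hnpq z hz)
    · exact absurd (exists_orderOf_mul hp hr hpr hc hpw h) (fun ⟨z, hz⟩ => hnpr z hz)
  have hvD : v ^ Nat.card D = 1 := by
    refine Basics.fpf_pow_eq_one V D (Subgroup.zpowers x) hDV ?_ hxD ?_ ?_ ?_ hfpf hvV
    · exact (Subgroup.zpowers_le.2 hxN).trans hNV
    · exact fun h => hd1 (by rw [h] at hdD; exact hdD)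
    · rw [Ne, Subgroup.zpowers_eq_bot]
      intro h
      rw [h, orderOf_one] at hxr
      exact hr.one_lt.ne hxr
    · intro a ha b hb hb1 hab
      by_contra ha1
      have h2 : r ∣ orderOf b := by
        have h3 : orderOf b ∣ r := by
          rw [← hxr, ← Nat.card_zpowers x]; exact Subgroup.orderOf_dvd_natCard _ hb
        rcases (Nat.dvd_prime hr).1 h3 with h | h
        · exact absurd (orderOf_eq_one_iff.1 h) hb1
        · rw [h]
      obtain ⟨z, hz⟩ := exists_orderOf_mul hq hr hqr hab (dvd_orderOf_of_isPGroup hQq ha.1 ha1) h2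
      exact hnqr z hz
  obtain ⟨j, hj⟩ := (IsPGroup.iff_card.1 (hQq.to_le (inf_le_left : D ≤ Q)))
  have h5 := dvd_orderOf_of_isPGroup hPp hvV.1 hv1
  have h6 : p ∣ q ^ j := h5.trans (hj ▸ orderOf_dvd_of_pow_eq_one hvD)
  exact hpq ((Nat.prime_dvd_prime_iff_eq hp hq).1 (hp.dvd_of_dvd_pow h6))

end Cfsg.Agent.Recog

namespace Cfsg.Agent.Recog

variable {G : Type*} [Group G] [Finite G]

/-- Two primes dividing an abelian section give an element of the product order. -/
theorem exists_orderOf_of_abelian_section {A B : Subgroup G} (hBA : B ≤ A)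
    (hcomm : ∀ a ∈ A, ∀ b ∈ A, a * b * a⁻¹ * b⁻¹ ∈ B) [(B.subgroupOf A).Normal]
    {r s : ℕ} (hr : r.Prime) (hs : s.Prime) (hrs : r ≠ s)
    (hrA : r ∣ Nat.card A) (hsA : s ∣ Nat.card A) (hrB : ¬ r ∣ Nat.card B) (hsB : ¬ s ∣ Nat.card B) :
    ∃ x : G, orderOf x = r * s := by
  have hr' := Fact.mk hr
  have hs' := Fact.mk hs
  have hcard : Nat.card (A ⧸ B.subgroupOf A) * Nat.card B = Nat.card A := by
    rw [← Subgroup.index_eq_card, ← Nat.card_congr (Subgroup.subgroupOfEquivOfLe hBA).toEquiv,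
      Subgroup.index_mul_card]
  have hd : ∀ t : ℕ, t.Prime → t ∣ Nat.card A → ¬ t ∣ Nat.card B →
      t ∣ Nat.card (A ⧸ B.subgroupOf A) := fun t ht h1 h2 =>
    ((Nat.Prime.dvd_mul ht).1 (hcard ▸ h1)).resolve_right h2
  obtain ⟨x, hx⟩ := exists_prime_orderOf_dvd_card' r (hd r hr hrA hrB)
  obtain ⟨y, hy⟩ := exists_prime_orderOf_dvd_card' s (hd s hs hsA hsB)
  have hc : Commute x y := by
    obtain ⟨a, rfl⟩ := QuotientGroup.mk_surjective x
    obtain ⟨b, rfl⟩ := QuotientGroup.mk_surjective y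
    have h1 : (QuotientGroup.mk (a * b * a⁻¹ * b⁻¹) : A ⧸ B.subgroupOf A) = 1 := by
      rw [QuotientGroup.eq_one_iff, Subgroup.mem_subgroupOf]
      simpa using hcomm a a.2 b b.2
    rw [QuotientGroup.mk_mul, QuotientGroup.mk_mul, QuotientGroup.mk_mul, QuotientGroup.mk_inv,
      QuotientGroup.mk_inv] at h1
    exact commutatorElement_eq_one_iff_mul_comm.1 h1
  obtain ⟨w, hw⟩ := exists_orderOf_mul hr hs hrs hc (by rw [hx]) (by rw [hy])
  obtain ⟨g, rfl⟩ := QuotientGroup.mk_surjective w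
  have hdg : r * s ∣ orderOf (g : G) := by
    rw [Subgroup.orderOf_coe, ← hw]; exact orderOf_map_dvd (QuotientGroup.mk' _) g
  refine ⟨(g : G) ^ (orderOf (g : G) / (r * s)), ?_⟩
  rw [orderOf_pow_of_dvd (Nat.div_pos (Nat.le_of_dvd (orderOf_pos _) hdg)
    (Nat.mul_pos hr.pos hs.pos)).ne' (Nat.div_dvd_of_dvd hdg),
    Nat.div_div_self hdg (orderOf_pos _).ne']

/-- The derived series of `K` inside `G`, preceded by the whole group. -/
def derivedChain (K : Subgroup G) : ℕ → Subgroup G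
  | 0 => ⊤
  | j + 1 => (derivedSeries K j).map K.subtype

omit [Finite G] in
theorem derivedChain_normal (K : Subgroup G) [K.Normal] : ∀ i, (derivedChain K i).Normal
  | 0 => by show (⊤ : Subgroup G).Normal; infer_instance
  | j + 1 => by show ((derivedSeries K j).map K.subtype).Normal; infer_instance

omit [Finite G] in
theorem derivedChain_succ_le (K : Subgroup G) : ∀ i, derivedChain K (i + 1) ≤ derivedChain K i
  | 0 => le_top
  | j + 1 => Subgroup.map_mono
      (by rw [derivedSeries_succ]; exact Subgroup.commutator_le_left _ _)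

omit [Finite G] in
theorem derivedChain_le (K : Subgroup G) {i j : ℕ} (h : i ≤ j) :
    derivedChain K j ≤ derivedChain K i :=
  antitone_nat_of_succ_le (derivedChain_succ_le K) h

omit [Finite G] in
theorem derivedChain_comm (K : Subgroup G) (m : ℕ) {a b : G} (ha : a ∈ derivedChain K (m + 1))
    (hb : b ∈ derivedChain K (m + 1)) : a * b * a⁻¹ * b⁻¹ ∈ derivedChain K (m + 2) := by
  obtain ⟨u, hu, rfl⟩ := ha
  obtain ⟨v, hv, rfl⟩ := hb
  refine ⟨u * v * u⁻¹ * v⁻¹, ?_, by simp⟩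
  rw [derivedSeries_succ]
  exact Subgroup.commutator_mem_commutator hu hv

/-- At most one of three pairwise non-adjacent primes divides a solvable normal subgroup. -/
theorem eq_of_dvd_solvable {K : Subgroup G} [K.Normal] (hK : Group.IsSolvable K) {r s t : ℕ}
    (hr : r.Prime) (hs : s.Prime) (ht : t.Prime) (hrs : r ≠ s) (hrt : r ≠ t) (hst : s ≠ t)
    (hrK : r ∣ Nat.card K) (hsK : s ∣ Nat.card K) (htG : t ∣ Nat.card G)
    (nrs : ¬ ∃ x : G, orderOf x = r * s) (nrt : ¬ ∃ x : G, orderOf x = r * t)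
    (nst : ¬ ∃ x : G, orderOf x = s * t) : False := by
  classical
  obtain ⟨E, hEdef⟩ : ∃ E, E = derivedChain K := ⟨_, rfl⟩
  have hE0 : E 0 = ⊤ := by rw [hEdef]; rfl
  have hE : ∀ i, (E i).Normal := hEdef ▸ derivedChain_normal K
  have hanti : ∀ i, E (i + 1) ≤ E i := hEdef ▸ derivedChain_succ_le K
  have hle : ∀ {i j}, i ≤ j → E j ≤ E i := by
    subst hEdef
    exact derivedChain_le K
  obtain ⟨n, hn⟩ := (Group.isSolvable_def K).1 hK
  have hEbot : E (n + 1) = ⊥ := by
    rw [hEdef]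
    show (derivedSeries K n).map K.subtype = ⊥
    rw [hn, Subgroup.map_bot]
  have hlevel : ∀ a : ℕ, a.Prime → a ∣ Nat.card G →
      ∃ i, a ∣ Nat.card (E i) ∧ ∀ j, i < j → ¬ a ∣ Nat.card (E j) := by
    intro a ha haG
    have hlast : ∀ j, n + 1 ≤ j → ¬ a ∣ Nat.card (E j) := by
      intro j hj
      have : E j = ⊥ := le_bot_iff.1 ((hle hj).trans hEbot.le)
      rw [this, Subgroup.card_bot]
      exact fun h => ha.ne_one (Nat.dvd_one.1 h)
    have h0 : ∃ i, i ≤ n + 1 ∧ a ∣ Nat.card (E i) := ⟨0, Nat.zero_le _, by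
      rw [hE0, Subgroup.card_top]; exact haG⟩
    obtain ⟨i0, hi0, hai0⟩ := h0
    refine ⟨Nat.findGreatest (fun i => a ∣ Nat.card (E i)) (n + 1),
      Nat.findGreatest_spec (P := fun i => a ∣ Nat.card (E i)) hi0 hai0, fun j hj => ?_⟩
    by_cases h : j ≤ n + 1
    · exact Nat.findGreatest_is_greatest (P := fun i => a ∣ Nat.card (E i)) hj h
    · exact hlast j (by omega)
  have hdvd_le : ∀ (a : ℕ) i j, i ≤ j → a ∣ Nat.card (E j) → a ∣ Nat.card (E i) :=
    fun a i j hij h => h.trans (Subgroup.card_dvd_of_le (hle hij))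
  have hrG : r ∣ Nat.card G := hrK.trans (Subgroup.card_subgroup_dvd_card K)
  have hsG : s ∣ Nat.card G := hsK.trans (Subgroup.card_subgroup_dvd_card K)
  obtain ⟨i, hi, hi'⟩ := hlevel r hr hrG
  obtain ⟨j, hj, hj'⟩ := hlevel s hs hsG
  obtain ⟨k, hk, hk'⟩ := hlevel t ht htG
  have hE1 : E 1 = K := by
    rw [hEdef]
    show (derivedSeries K 0).map K.subtype = K
    rw [derivedSeries_zero, ← MonoidHom.range_eq_map, K.range_subtype]
  have hi1 : 1 ≤ i := by
    by_contra h
    exact hi' 1 (by omega) (hE1.symm ▸ hrK)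
  have hj1 : 1 ≤ j := by
    by_contra h
    exact hj' 1 (by omega) (hE1.symm ▸ hsK)
  have key : ∀ (a b : ℕ) (m : ℕ), a.Prime → b.Prime → a ≠ b → 1 ≤ m →
      a ∣ Nat.card (E m) → b ∣ Nat.card (E m) → ¬ a ∣ Nat.card (E (m + 1)) →
      ¬ b ∣ Nat.card (E (m + 1)) → ∃ x : G, orderOf x = a * b := by
    intro a b m ha hb hab hm h1 h2 h3 h4
    obtain ⟨m, rfl⟩ := Nat.exists_eq_add_of_le' hm
    have := hE (m + 1 + 1)
    have : ((E (m + 1 + 1)).subgroupOf (E (m + 1))).Normal := Subgroup.normal_subgroupOf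
    refine exists_orderOf_of_abelian_section (hanti _) ?_ ha hb hab h1 h2 h3 h4
    intro u hu v hv
    rw [hEdef] at hu hv ⊢
    exact derivedChain_comm K m hu hv
  have hij : i ≠ j := fun e => nrs
    (key r s i hr hs hrs hi1 hi (e ▸ hj) (hi' _ (Nat.lt_succ_self i)) (hj' _ (by omega)))
  have hik : i ≠ k := fun e => nrt
    (key r t i hr ht hrt hi1 hi (e ▸ hk) (hi' _ (Nat.lt_succ_self i)) (hk' _ (by omega)))
  have hjk : j ≠ k := fun e => nst
    (key s t j hs ht hst hj1 hj (e ▸ hk) (hj' _ (Nat.lt_succ_self j)) (hk' _ (by omega)))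
  have fin : ∀ (a b c A B C : ℕ), a.Prime → b.Prime → c.Prime → a ≠ b → a ≠ c → b ≠ c →
      A < B → B < C → a ∣ Nat.card G → (∀ l, A < l → ¬ a ∣ Nat.card (E l)) →
      b ∣ Nat.card (E B) → (∀ l, B < l → ¬ b ∣ Nat.card (E l)) → c ∣ Nat.card (E C) →
      (∃ x : G, orderOf x = c * b) ∨ (∃ x : G, orderOf x = c * a) ∨
        (∃ x : G, orderOf x = b * a) := by
    intro a b c A B C ha hb hc hab hac hbc hAB hBC haG hA hB hB' hC
    have := hE (B + 1)
    have := hE (A + 1)
    have hKM : E (B + 1) ≤ E (A + 1) := hle (by omega)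
    refine three_primes (E (B + 1)) (E (A + 1)) hKM c b a hc hb ha hbc.symm hac.symm hab.symm
      (hdvd_le c (B + 1) C hBC hC) ?_ ?_
    · have h := hdvd_le b (A + 1) B hAB hB
      rw [← Subgroup.relIndex_bot_left, ← Subgroup.relIndex_mul_relIndex ⊥ _ _ bot_le hKM,
        Subgroup.relIndex_bot_left] at h
      exact ((Nat.Prime.dvd_mul hb).1 h).resolve_left (hB' _ (Nat.lt_succ_self B))
    · have h := haG
      rw [← Subgroup.card_mul_index (E (A + 1))] at h
      exact ((Nat.Prime.dvd_mul ha).1 h).resolve_left (hA _ (Nat.lt_succ_self A))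
  have sw : ∀ {a b : ℕ}, (∃ x : G, orderOf x = a * b) → ∃ x : G, orderOf x = b * a :=
    fun ⟨x, hx⟩ => ⟨x, hx.trans (mul_comm _ _)⟩
  rcases Nat.lt_or_gt_of_ne hij with h | h <;> rcases Nat.lt_or_gt_of_ne hik with h' | h' <;>
    rcases Nat.lt_or_gt_of_ne hjk with h'' | h''
  · rcases fin r s t i j k hr hs ht hrs hrt hst h h'' hrG hi' hj hj' hk with e | e | e
    exacts [nst (sw e), nrt (sw e), nrs (sw e)]
  · rcases fin r t s i k j hr ht hs hrt hrs hst.symm h' h'' hrG hi' hk hk' hj with e | e | e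
    exacts [nst e, nrs (sw e), nrt (sw e)]
  · omega
  · rcases fin t r s k i j ht hr hs hrt.symm hst.symm hrs h' h htG hk' hi hi' hj with e | e | e
    exacts [nrs (sw e), nst e, nrt e]
  · rcases fin s r t j i k hs hr ht hrs.symm hst hrt h h' hsG hj' hi hi' hk with e | e | e
    exacts [nrt (sw e), nst (sw e), nrs e]
  · omega
  · rcases fin s t r j k i hs ht hr hst hrs.symm hrt.symm h'' h' hsG hj' hk hk' hi with e | e | e
    exacts [nrt e, nrs e, nst (sw e)]
  · rcases fin t s r k j i ht hs hr hst.symm hrt.symm hrs.symm h'' h htG hk' hj hj' hi with e | e | e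
    exacts [nrs e, nrt e, nst e]

end Cfsg.Agent.Recog
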