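import Cfsg.Agent.Lib.Recog.MinNormal
import Cfsg.Agent.Lib.FGB.TwoPrimes
import Cfsg.Agent.Lib.Basics.Hall
import Cfsg.Agent.Lib.Recog.ThreePrimes

/-!
# Groups with the order and element orders of an alternating group

The primes in `(n / 2, n]` lie in one non-abelian simple chief factor.
-/

set_option autoImplicit false

namespace Cfsg.Agent.Recog.AltPrimes

open Equiv Equiv.Perm

theorem exists_dvd_of_prime_dvd_lcm {p : ℕ} (hp : p.Prime) (s : Multiset ℕ) (h : p ∣ s.lcm) :
    ∃ a ∈ s, p ∣ a := by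
  induction s using Multiset.induction_on with
  | empty => rw [Multiset.lcm_zero] at h; exact absurd (Nat.dvd_one.1 h) hp.ne_one
  | cons a s ih =>
    rw [Multiset.lcm_cons] at h
    rcases hp.dvd_mul.1 (h.trans (Nat.lcm_dvd_mul a s.lcm)) with h' | h'
    · exact ⟨a, Multiset.mem_cons_self _ _, h'⟩
    · obtain ⟨b, hb, hb'⟩ := ih h'
      exact ⟨b, Multiset.mem_cons_of_mem hb, hb'⟩

/-- No element order `p q` in degree below `p + q`. -/
theorem no_orderOf_mul {n p q : ℕ} (hp : p.Prime) (hq : q.Prime) (hpq : p ≠ q) (hn : n < p + q)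
    (g : alternatingGroup (Fin n)) : orderOf g ≠ p * q := by
  intro h
  rw [← Subgroup.orderOf_coe, ← lcm_cycleType] at h
  obtain ⟨a, ha, hpa⟩ := exists_dvd_of_prime_dvd_lcm hp _ (h ▸ dvd_mul_right p q)
  obtain ⟨b, hb, hqb⟩ := exists_dvd_of_prime_dvd_lcm hq _ (h ▸ dvd_mul_left q p)
  have hsum := sum_cycleType_le (g : Perm (Fin n))
  rw [Fintype.card_fin] at hsum
  have ha2 := two_le_of_mem_cycleType ha
  have hb2 := two_le_of_mem_cycleType hb
  by_cases hab : a = b
  · subst hab
    have : p * q ∣ a := ((Nat.coprime_primes hp hq).2 hpq).mul_dvd_of_dvd_of_dvd hpa hqb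
    have h1 : p * q ≤ a := Nat.le_of_dvd (by omega) this
    have h2 : a ≤ n := (Multiset.le_sum_of_mem ha).trans hsum
    have h3 : p + q ≤ p * q := Nat.add_le_mul hp.two_le hq.two_le
    omega
  · obtain ⟨s, hs⟩ := Multiset.exists_cons_of_mem ha
    rw [hs] at hb hsum
    rw [Multiset.sum_cons] at hsum
    have h2 := Multiset.le_sum_of_mem ((Multiset.mem_cons.1 hb).resolve_left (Ne.symm hab))
    have h3 : p ≤ a := Nat.le_of_dvd (by omega) hpa
    have h4 : q ≤ b := Nat.le_of_dvd (by omega) hqb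
    omega

theorem exists_two_primes {n : ℕ} (hn : 5 ≤ n) (h6 : n ≠ 6) (h10 : n ≠ 10) :
    ∃ p q : ℕ, p.Prime ∧ q.Prime ∧ p < q ∧ n < 2 * p ∧ q ≤ n := by
  by_cases h17 : 17 ≤ n
  · obtain ⟨p, q, hp, hq, h1, h2, h3⟩ := FGB.exists_two_primes_gap h17
    exact ⟨p, q, hp, hq, by omega, h1, h3⟩
  by_cases h : n = 5
  · exact ⟨3, 5, by norm_num, by norm_num, by omega, by omega, by omega⟩
  by_cases h' : n ≤ 9
  · exact ⟨5, 7, by norm_num, by norm_num, by omega, by omega, by omega⟩
  by_cases h'' : n ≤ 13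
  · exact ⟨7, 11, by norm_num, by norm_num, by omega, by omega, by omega⟩
  · exact ⟨11, 13, by norm_num, by norm_num, by omega, by omega, by omega⟩

variable {G : Type*} [Group G] [Finite G]

/-- An element of prime order normalising a subgroup of prime order centralises it unless it
divides `p - 1`. -/
theorem exists_orderOf_of_normalizes {p q : ℕ} [Fact p.Prime] (hq : q.Prime) (hpq : p ≠ q)
    (hdvd : ¬ q ∣ p - 1) (P : Subgroup G) (hP : Nat.card P = p) {x : G} (hx : orderOf x = q)
    (hxP : x ∈ Subgroup.normalizer (P : Set G)) : ∃ z : G, orderOf z = p * q := by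
  have : IsCyclic P := isCyclic_of_prime_card hP
  set φ := P.normalizerMonoidHom ⟨x, hxP⟩ with hφ
  have h1 : φ = 1 := by
    rw [← orderOf_eq_one_iff]
    rcases (Nat.dvd_prime hq).1 ((orderOf_map_dvd P.normalizerMonoidHom ⟨x, hxP⟩).trans
        (by rw [← Subgroup.orderOf_coe]; exact dvd_of_eq hx)) with h | h
    · exact h
    · exfalso
      apply hdvd
      have h2 := orderOf_dvd_natCard φ
      rw [IsCyclic.card_mulAut, hP, Nat.totient_prime (Fact.out : p.Prime), hφ, h] at h2
      exact h2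
  obtain ⟨y, hy⟩ := exists_prime_orderOf_dvd_card' (G := P) p (hP ▸ dvd_rfl)
  have hc : Commute (y : G) x := by
    have h2 : x * (y : G) * x⁻¹ = y := congrArg (fun e : MulAut P => ((e y : P) : G)) h1
    show (y : G) * x = x * y
    calc (y : G) * x = (x * (y : G) * x⁻¹) * x := by rw [h2]
      _ = x * y := by group
  exact exists_orderOf_mul (Fact.out : p.Prime) hq hpq hc (by rw [Subgroup.orderOf_coe, hy])
    (by rw [hx])

/-- The hypotheses. -/
structure Hyp (G : Type*) [Group G] (n : ℕ) : Prop where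
  card_eq : Nat.card G = Nat.card (alternatingGroup (Fin n))
  spec : Set.range (orderOf : G → ℕ) = Set.range (orderOf : alternatingGroup (Fin n) → ℕ)

variable {n : ℕ}

omit [Finite G] in
theorem Hyp.card_mul (h : Hyp G n) (hn : 2 ≤ n) : 2 * Nat.card G = n.factorial := by
  have : Nontrivial (Fin n) := Fin.nontrivial_iff_two_le.2 hn
  rw [h.card_eq, Nat.card_eq_fintype_card, two_mul_card_alternatingGroup, Fintype.card_perm,
    Fintype.card_fin]

omit [Finite G] in
theorem Hyp.no_adjacent (h : Hyp G n) {p q : ℕ} (hp : p.Prime) (hq : q.Prime) (hpq : p ≠ q)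
    (hn : n < p + q) (x : G) : orderOf x ≠ p * q := by
  intro hx
  have : p * q ∈ Set.range (orderOf : alternatingGroup (Fin n) → ℕ) := h.spec ▸ ⟨x, hx⟩
  obtain ⟨g, hg⟩ := this
  exact no_orderOf_mul hp hq hpq hn g hg

omit [Finite G] in
theorem Hyp.dvd_card (h : Hyp G n) {p : ℕ} (hp : p.Prime) (h3 : 3 ≤ p) (hpn : p ≤ n) :
    p ∣ Nat.card G := by
  have h1 : p ∣ 2 * Nat.card G := h.card_mul (by omega) ▸ Nat.dvd_factorial hp.pos hpn
  exact (hp.dvd_mul.1 h1).resolve_left fun h2 => by
    have := Nat.le_of_dvd two_pos h2; omega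

omit [Finite G] in
theorem Hyp.not_sq_dvd (h : Hyp G n) {p : ℕ} (hp : p.Prime) (h2 : n < 2 * p) (hpn : p ≤ n) :
    ¬ p ^ 2 ∣ Nat.card G := by
  intro hd
  have h1 : p ^ 2 ∣ n.factorial := h.card_mul (by have := hp.two_le; omega) ▸ dvd_mul_of_dvd_right hd 2
  have hlog : Nat.log p n < 2 := Nat.log_lt_of_lt_pow (by have := hp.two_le; omega)
    (by rw [pow_two]; nlinarith [hp.two_le])
  rw [Nat.Prime.pow_dvd_factorial_iff hp hlog, show Finset.Ico 1 2 = {1} from rfl,
    Finset.sum_singleton, pow_one] at h1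
  have : n / p < 2 := (Nat.div_lt_iff_lt_mul hp.pos).2 (by omega)
  omega

/-- Two large primes lie in the same normal subgroups. -/
theorem Hyp.dvd_normal (h : Hyp G n) (hn : 5 ≤ n) {p q : ℕ} (hp : p.Prime) (hq : q.Prime)
    (hp2 : n < 2 * p) (hq2 : n < 2 * q) (hpn : p ≤ n) (hqn : q ≤ n) (K : Subgroup G) [K.Normal]
    (hpK : p ∣ Nat.card K) : q ∣ Nat.card K := by
  by_contra hqK
  have hpq : p ≠ q := fun e => hqK (e ▸ hpK)
  have := Fact.mk hp
  have := Fact.mk hq
  obtain ⟨P₀⟩ : Nonempty (Sylow p K) := inferInstance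
  set P : Subgroup G := (P₀ : Subgroup K).map K.subtype
  have hP : Nat.card P = p := by
    obtain ⟨k, hk⟩ := IsPGroup.iff_card.1 P₀.2
    rw [Subgroup.card_map_of_injective K.subtype_injective, hk]
    have h1 : k ≠ 0 := fun h0 => by
      have := P₀.dvd_card_of_dvd_card hpK
      rw [hk, h0, pow_zero] at this
      exact hp.ne_one (Nat.dvd_one.1 this)
    have h2 : k < 2 := by
      by_contra hk2
      refine h.not_sq_dvd hp hp2 hpn ?_
      exact ((pow_dvd_pow p (show 2 ≤ k by omega)).trans (hk ▸ Subgroup.card_subgroup_dvd_card _)).trans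
        (Subgroup.card_subgroup_dvd_card K)
    rw [show k = 1 by omega, pow_one]
  have hNK : Subgroup.normalizer (P : Set G) ⊔ K = ⊤ := Sylow.normalizer_sup_eq_top P₀
  have hqN : q ∣ Nat.card (Subgroup.normalizer (P : Set G)) := by
    have h1 : q ∣ K.index := by
      have hqG := h.dvd_card hq (by omega) hqn
      rw [← K.card_mul_index] at hqG
      exact (hq.dvd_mul.1 hqG).resolve_left hqK
    have h2 := Subgroup.relIndex_sup_right (Subgroup.normalizer (P : Set G)) K
    rw [hNK, Subgroup.relIndex_top_right] at h2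
    rw [h2] at h1
    exact h1.trans (Subgroup.relIndex_dvd_card _ _)
  obtain ⟨x, hx⟩ := exists_prime_orderOf_dvd_card' q hqN
  obtain ⟨z, hz⟩ := exists_orderOf_of_normalizes hq hpq
    (fun hd => by
      obtain ⟨c, hc⟩ := hd
      have hp1 := hp.two_le
      have hq1 := hq.two_le
      rcases c with _ | _ | c
      · omega
      · rcases hp.eq_two_or_odd with hp' | hp' <;> rcases hq.eq_two_or_odd with hq' | hq' <;> omega
      · nlinarith [Nat.sub_add_cancel (show 1 ≤ p by omega)])
    P hP (x := (x : G)) (by rw [Subgroup.orderOf_coe, hx]) x.2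
  exact h.no_adjacent hp hq hpq (by omega) z hz

/-- The simple section. -/
theorem Hyp.exists_simple_section (h : Hyp G n) (hn : 5 ≤ n) (h6 : n ≠ 6) (h10 : n ≠ 10) :
    ∃ (N H : Subgroup G) (_ : N.Normal), H.Normal ∧ N < H ∧
      IsSimpleGroup (H ⧸ N.subgroupOf H) ∧ ¬ IsMulCommutative (H ⧸ N.subgroupOf H) ∧
      ∀ p : ℕ, p.Prime → n < 2 * p → p ≤ n → p ∣ Nat.card (H ⧸ N.subgroupOf H) := by
  classical
  obtain ⟨a, b, ha, hb, hab, ha2, hbn⟩ := exists_two_primes hn h6 h10
  have haG := h.dvd_card ha (by omega) (by omega)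
  obtain ⟨H, hH⟩ := (Set.toFinite {K : Subgroup G | K.Normal ∧ a ∣ Nat.card K}).exists_minimal
    ⟨⊤, inferInstance, by rw [Subgroup.card_top]; exact haG⟩
  obtain ⟨hHn, haH⟩ := hH.1
  obtain ⟨N, hN⟩ := (Set.toFinite {K : Subgroup G | K.Normal ∧ K < H}).exists_maximal
    ⟨⊥, inferInstance, bot_lt_iff_ne_bot.2 fun e => ha.ne_one (Nat.dvd_one.1 (by
      rw [e, Subgroup.card_bot] at haH; exact haH))⟩
  obtain ⟨hNn, hNH⟩ := hN.1
  have haN : ¬ a ∣ Nat.card N := fun hd => hNH.not_ge (hH.2 ⟨hNn, hd⟩ hNH.le)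
  set π := QuotientGroup.mk' N with hπ
  set M := H.map π with hM
  have hcardM : ∀ p : ℕ, p.Prime → p ∣ Nat.card H → ¬ p ∣ Nat.card N → p ∣ Nat.card M := by
    intro p hp h1 h2
    have h3 : Nat.card H = Nat.card M * Nat.card N := by
      rw [hM, ← Subgroup.card_mul_index (N.subgroupOf H),
        Nat.card_congr (Subgroup.subgroupOfEquivOfLe hNH.le).toEquiv, mul_comm]
      congr 1
      have : (π.subgroupMap H).ker = N.subgroupOf H := by
        ext x
        rw [MonoidHom.mem_ker, Subtype.ext_iff, Subgroup.mem_subgroupOf]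
        exact QuotientGroup.eq_one_iff _
      rw [← this, Subgroup.index_ker, MonoidHom.range_eq_top.2 (π.subgroupMap_surjective H),
        Subgroup.card_top]
    exact (hp.dvd_mul.1 (h3 ▸ h1)).resolve_right h2
  have hall : ∀ p : ℕ, p.Prime → n < 2 * p → p ≤ n → p ∣ Nat.card M := by
    intro p hp hp2 hpn
    exact hcardM p hp (h.dvd_normal hn ha hp ha2 hp2 (by omega) hpn H haH)
      fun hd => haN (h.dvd_normal hn hp ha hp2 ha2 hpn (by omega) N hd)
  have hMmin : IsMinNormal M := by
    refine ⟨hHn.map π (QuotientGroup.mk'_surjective N), ?_, fun K hK hKM => ?_⟩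
    · intro e
      have := hall a ha ha2 (by omega)
      rw [e, Subgroup.card_bot] at this
      exact ha.ne_one (Nat.dvd_one.1 this)
    · have hK' : (K.comap π).Normal := hK.comap π
      have h1 : N ≤ K.comap π := fun x hx => by
        show π x ∈ K
        rw [hπ, QuotientGroup.mk'_apply, (QuotientGroup.eq_one_iff x).2 hx]
        exact K.one_mem
      have h2 : K.comap π ≤ H := by
        intro x hx
        obtain ⟨y, hy, hyx⟩ := hKM hx
        have h3 : y⁻¹ * x ∈ N := QuotientGroup.eq.1 hyx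
        simpa using H.mul_mem hy (hNH.le h3)
      rcases h2.eq_or_lt with he | hlt
      · refine Or.inr ?_
        rw [hM, ← he, Subgroup.map_comap_eq_self_of_surjective (QuotientGroup.mk'_surjective N)]
      · refine Or.inl ?_
        have h4 : K.comap π = N := le_antisymm (hN.2 ⟨hK', hlt⟩ h1) h1
        rw [← Subgroup.map_comap_eq_self_of_surjective (QuotientGroup.mk'_surjective N) K, h4,
          QuotientGroup.map_mk'_self]
  have hnoab : ∀ w : M, orderOf w ≠ a * b := by
    intro w hw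
    obtain ⟨x, hx, hxw⟩ := w.2
    have hd : a * b ∣ orderOf x := by
      rw [← hw, ← Subgroup.orderOf_coe, ← hxw]
      exact orderOf_map_dvd π x
    refine h.no_adjacent ha hb hab.ne (by omega) (x ^ (orderOf x / (a * b))) ?_
    rw [orderOf_pow_of_dvd (Nat.div_pos (Nat.le_of_dvd (orderOf_pos x) hd)
      (Nat.mul_pos ha.pos hb.pos)).ne' (Nat.div_dvd_of_dvd hd),
      Nat.div_div_self hd (orderOf_pos x).ne']
  have hncomm : ¬ IsMulCommutative M := by
    intro hc
    have := Fact.mk ha
    have := Fact.mk hb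
    obtain ⟨u, hu⟩ := exists_prime_orderOf_dvd_card' a (hall a ha ha2 (by omega))
    obtain ⟨v, hv⟩ := exists_prime_orderOf_dvd_card' b (hall b hb (by omega) hbn)
    obtain ⟨w, hw⟩ := exists_orderOf_mul ha hb hab.ne (hc.is_comm.comm u v) (by rw [hu]) (by rw [hv])
    exact hnoab w hw
  obtain ⟨T, hT⟩ := exists_isFactor hMmin.ne_bot
  have hTM : T = M := by
    by_contra hne
    obtain ⟨g, hg⟩ : ∃ g, T.map (MulAut.conj g).toMonoidHom ≠ T := by
      by_contra hallc
      push Not at hallc
      exact hne (le_antisymm hT.le (hMmin.le_of_conj_le hT fun g => (hallc g).le))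
    set U := T.map (MulAut.conj g).toMonoidHom with hU
    have hUf := hT.map_conj hMmin.normal g
    have := Fact.mk ha
    have haT : a ∣ Nat.card T := by
      by_contra haT
      have hcop : Nat.Coprime a (Nat.card T) := (ha.coprime_iff_not_dvd).2 haT
      have hle : ∀ g : G ⧸ N, T.map (MulAut.conj g).toMonoidHom ≤
          (⊤ : Subgroup (G ⧸ N)) := fun _ => le_top
      obtain ⟨u, hu⟩ := exists_prime_orderOf_dvd_card' a (hall a ha ha2 (by omega))
      obtain ⟨t, ht, c, hc, hu'⟩ := hMmin.exists_eq_mul hT u.2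
      have hua : (u : G ⧸ N) ^ a = 1 := by rw [← SubgroupClass.coe_pow, ← hu, pow_orderOf_eq_one]; rfl
      have hcomm : Commute t c := (Subgroup.mem_centralizer_iff.1 hc t ht)
      have hta : t ^ a * c ^ a = 1 := by rw [← hcomm.mul_pow, ← hu', hua]
      have hcent : t ^ a ∈ T ⊓ Subgroup.centralizer (T : Set (G ⧸ N)) :=
        ⟨pow_mem ht a, (eq_inv_of_mul_eq_one_left hta).symm ▸ Subgroup.inv_mem _ (pow_mem hc a)⟩
      have hZ : T ⊓ Subgroup.centralizer (T : Set (G ⧸ N)) = ⊥ := by
        by_contra hb'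
        have := hMmin.not_commutative_factor hT hncomm
        refine this ?_
        have hTeq := hT.minimal _ inf_le_left hb' (fun m hm k hk => ⟨hT.conj_mem m hm k hk.1,
          Subgroup.mem_centralizer_iff.2 fun x hx => by
            have h5 := hT.conj_mem m⁻¹ (inv_mem hm) x hx
            have h6 := Subgroup.mem_centralizer_iff.1 hk.2 _ h5
            calc x * (m * k * m⁻¹) = m * ((m⁻¹ * x * m⁻¹⁻¹) * k) * m⁻¹ := by group
              _ = m * (k * (m⁻¹ * x * m⁻¹⁻¹)) * m⁻¹ := by rw [h6]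
              _ = m * k * m⁻¹ * x := by group⟩)
        exact ⟨⟨fun x y => Subtype.ext (by
          have hy : (y : G ⧸ N) ∈ Subgroup.centralizer (T : Set (G ⧸ N)) := (inf_eq_left.1 hTeq) y.2
          exact Subgroup.mem_centralizer_iff.1 hy x x.2)⟩⟩
      rw [hZ, Subgroup.mem_bot] at hcent
      have ht1 : t = 1 := by
        have h7 : orderOf t ∣ a := orderOf_dvd_of_pow_eq_one hcent
        have h8 : orderOf t ∣ Nat.card T := Subgroup.orderOf_dvd_natCard T ht
        exact orderOf_eq_one_iff.1 (Nat.dvd_one.1 (hcop ▸ Nat.dvd_gcd h7 h8))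
      -- so `u` centralises `T`; likewise for every element of order `a`
      have hS : ∀ g : G ⧸ N, ∀ x ∈ T.map (MulAut.conj g).toMonoidHom, Commute (u : G ⧸ N) x := by
        intro g x hx
        have hTf := hT.map_conj hMmin.normal g
        obtain ⟨t', ht', c', hc', hu''⟩ := hMmin.exists_eq_mul hTf u.2
        have hcomm' : Commute t' c' := (Subgroup.mem_centralizer_iff.1 hc' t' ht')
        have hta' : t' ^ a * c' ^ a = 1 := by rw [← hcomm'.mul_pow, ← hu'', hua]
        have hca : t' ^ a ∈ Subgroup.centralizer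
            (T.map (MulAut.conj g).toMonoidHom : Set (G ⧸ N)) := by
          rw [eq_inv_of_mul_eq_one_left hta']; exact inv_mem (pow_mem hc' a)
        obtain ⟨t0, ht0, ht0e⟩ := ht'
        have h9 : t0 ^ a ∈ T ⊓ Subgroup.centralizer (T : Set (G ⧸ N)) := by
          refine ⟨pow_mem ht0 a, Subgroup.mem_centralizer_iff.2 fun y hy => ?_⟩
          have h10 := Subgroup.mem_centralizer_iff.1 hca _ ⟨y, hy, rfl⟩
          rw [← ht0e, ← map_pow, ← map_mul, ← map_mul] at h10
          exact (MulAut.conj g).injective h10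
        rw [hZ, Subgroup.mem_bot] at h9
        have h11 : t0 = 1 := orderOf_eq_one_iff.1 (Nat.dvd_one.1 (hcop ▸ Nat.dvd_gcd
          (orderOf_dvd_of_pow_eq_one h9) (Subgroup.orderOf_dvd_natCard T ht0)))
        rw [h11, map_one] at ht0e
        rw [hu'', ← ht0e, one_mul]
        exact (Subgroup.mem_centralizer_iff.1 hc' x hx).symm
      have huc : M ≤ Subgroup.centralizer ({(u : G ⧸ N)} : Set (G ⧸ N)) :=
        hMmin.le_of_conj_le hT fun g x hx => by
          rw [Subgroup.mem_centralizer_singleton_iff]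
          exact (hS g x hx).eq.symm
      have : (u : G ⧸ N) ∈ M ⊓ Subgroup.centralizer (M : Set (G ⧸ N)) :=
        ⟨u.2, Subgroup.mem_centralizer_iff.2 fun x hx =>
          (Subgroup.mem_centralizer_singleton_iff.1 (huc hx))⟩
      rw [hMmin.inf_centralizer hncomm, Subgroup.mem_bot] at this
      rw [← Subgroup.orderOf_coe, this, orderOf_one] at hu
      exact ha.ne_one hu.symm
    have haU : a ∣ Nat.card U := by
      rwa [hU, Subgroup.card_map_of_injective (MulAut.conj g).injective]
    obtain ⟨t, ht⟩ := exists_prime_orderOf_dvd_card' a haT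
    obtain ⟨v, hv⟩ := exists_prime_orderOf_dvd_card' a haU
    have hinf := hT.inf_eq_bot hUf (Ne.symm hg)
    have hTU : Commute (t : G ⧸ N) v := hT.commute hUf (Ne.symm hg) t.2 v.2
    -- an elementary abelian subgroup of order `a ^ 2`
    let f : Subgroup.zpowers (t : G ⧸ N) × Subgroup.zpowers (v : G ⧸ N) →* G ⧸ N :=
      MonoidHom.noncommCoprod (Subgroup.zpowers (t : G ⧸ N)).subtype
        (Subgroup.zpowers (v : G ⧸ N)).subtype (fun x y => by
          obtain ⟨i, hi⟩ := x.2
          obtain ⟨j, hj⟩ := y.2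
          show Commute (x : G ⧸ N) y
          rw [← hi, ← hj]
          exact hTU.zpow_zpow i j)
    have hf : Function.Injective f := by
      rw [injective_iff_map_eq_one]
      rintro ⟨x, y⟩ hxy
      have hxy' : (x : G ⧸ N) * y = 1 := hxy
      have hx1 : (x : G ⧸ N) ∈ T ⊓ U := ⟨Subgroup.zpowers_le.2 t.2 x.2,
        (eq_inv_of_mul_eq_one_left hxy').symm ▸ Subgroup.inv_mem _ (Subgroup.zpowers_le.2 v.2 y.2)⟩
      rw [hinf, Subgroup.mem_bot] at hx1
      rw [hx1, one_mul] at hxy'
      exact Prod.ext (Subtype.ext hx1) (Subtype.ext hxy')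
    have hsq : a ^ 2 ∣ Nat.card (G ⧸ N) := by
      have h12 := Subgroup.card_dvd_of_injective f hf
      rwa [Nat.card_prod, Nat.card_zpowers, Nat.card_zpowers, Subgroup.orderOf_coe,
        Subgroup.orderOf_coe, ht, hv, ← pow_two] at h12
    exact h.not_sq_dvd ha ha2 (by omega) (hsq.trans ⟨Nat.card N,
      Subgroup.card_eq_card_quotient_mul_card_subgroup N⟩)
  subst hTM
  have hsimp : IsSimpleGroup M := hMmin.isSimpleGroup_factor hT
  let e : H ⧸ N.subgroupOf H ≃* M :=
    (QuotientGroup.quotientMulEquivOfEq (show N.subgroupOf H = (π.subgroupMap H).ker by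
        ext x
        rw [MonoidHom.mem_ker, Subtype.ext_iff, Subgroup.mem_subgroupOf]
        exact (QuotientGroup.eq_one_iff _).symm)).trans
      (QuotientGroup.quotientKerEquivOfSurjective _ (π.subgroupMap_surjective H))
  refine ⟨N, H, hNn, hHn, hNH, e.isSimpleGroup, ?_, fun p hp h1 h2 => ?_⟩
  · intro hc
    exact hncomm ⟨⟨fun x y => e.symm.injective (by
      rw [map_mul, map_mul]; exact hc.is_comm.comm _ _)⟩⟩
  · rw [Nat.card_congr e.toEquiv]; exact hall p hp h1 h2

/-- The degrees 6 and 10. -/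
theorem Hyp.not_solvable_small (h : Hyp G n) {a q k : ℕ} (ha : a.Prime) (hq : q.Prime)
    (haq : a ≠ q) (hn : n < a + q) (hG : ∃ m, Nat.card G = a ^ k * q * m ∧ ¬ a ∣ m ∧ ¬ q ∣ m)
    (hk : 0 < k) (hsyl : ∀ d, d ∣ a ^ k → d % q = 1 → d = 1) (hdvd : ¬ a ∣ q - 1) :
    ¬ Group.IsSolvable G := by
  intro hs
  obtain ⟨m, hm, ham, hqm⟩ := hG
  have := Fact.mk ha
  have := Fact.mk hq
  have hcop : (a ^ k * q).Coprime m :=
    (((ha.coprime_iff_not_dvd).2 ham).pow_left k).mul_left ((hq.coprime_iff_not_dvd).2 hqm)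
  obtain ⟨L, hL⟩ := Basics.exists_hall_of_card hm hcop
  obtain ⟨Q⟩ : Nonempty (Sylow q L) := inferInstance
  have hfac : (Nat.card L).factorization q = 1 := by
    rw [hL, Nat.factorization_mul (pow_ne_zero k ha.ne_zero) hq.ne_zero, ha.factorization_pow,
      hq.factorization_self.symm, Finsupp.add_apply, Finsupp.single_apply, if_neg haq, zero_add]
  have hQ : Nat.card Q = q := by rw [Q.card_eq_multiplicity, hfac, pow_one]
  have hnum : Nat.card (Sylow q L) = 1 := by
    apply hsyl
    · have h1 : Nat.card (Sylow q L) ∣ (Q : Subgroup L).index := Q.card_dvd_index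
      have h2 := (Q : Subgroup L).card_mul_index
      rw [show Nat.card (Q : Subgroup L) = q from hQ, hL, mul_comm (a ^ k) q] at h2
      rwa [Nat.eq_of_mul_eq_mul_left hq.pos h2] at h1
    · have h1 := card_sylow_modEq_one q L
      rw [Nat.ModEq, Nat.mod_eq_of_lt hq.one_lt] at h1
      exact h1
  have hQn : (Q : Subgroup L).Normal := by
    rw [← Subgroup.normalizer_eq_top_iff, ← Subgroup.index_eq_one]
    exact (Q.card_eq_index_normalizer).symm.trans hnum
  obtain ⟨x, hx⟩ := exists_prime_orderOf_dvd_card' (G := L) a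
    (hL ▸ dvd_mul_of_dvd_left (dvd_pow_self a hk.ne') q)
  obtain ⟨z, hz⟩ := exists_orderOf_of_normalizes (p := q) ha (Ne.symm haq) hdvd Q hQ hx
    (by rw [Subgroup.normalizer_eq_top_iff.2 hQn]; exact Subgroup.mem_top x)
  exact h.no_adjacent hq ha (Ne.symm haq) (by omega) z (by rw [Subgroup.orderOf_coe, hz])

/-- Such a group is not solvable. -/
theorem Hyp.not_solvable (h : Hyp G n) (hn : 5 ≤ n) : ¬ Group.IsSolvable G := by
  by_cases h6 : n = 6
  · subst h6
    refine h.not_solvable_small (a := 3) (q := 5) (k := 2) (by norm_num) (by norm_num) (by norm_num)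
      (by norm_num) ⟨8, ?_, by norm_num, by norm_num⟩ two_pos ?_ (by norm_num)
    · have := h.card_mul (by norm_num); norm_num [Nat.factorial] at this ⊢; omega
    · intro d hd hm
      have := Nat.le_of_dvd (by norm_num) hd
      interval_cases d <;> norm_num at *
  by_cases h10 : n = 10
  · subst h10
    refine h.not_solvable_small (a := 5) (q := 7) (k := 2) (by norm_num) (by norm_num) (by norm_num)
      (by norm_num) ⟨10368, ?_, by norm_num, by norm_num⟩ two_pos ?_ (by norm_num)
    · have := h.card_mul (by norm_num); norm_num [Nat.factorial] at this ⊢; omega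
    · intro d hd hm
      have := Nat.le_of_dvd (by norm_num) hd
      interval_cases d <;> norm_num at *
  obtain ⟨N, H, _, hH, hlt, hs, hc, -⟩ := h.exists_simple_section hn h6 h10
  intro hsol
  apply hc
  have := hs
  have : Group.IsSolvable (H ⧸ N.subgroupOf H) := inferInstance
  exact ⟨⟨IsSimpleGroup.comm_iff_isSolvable.2 this⟩⟩

end Cfsg.Agent.Recog.AltPrimes
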