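import Mathlib

/-! Coset bound for Moore's presentation of alternating groups. -/

set_option autoImplicit false

namespace Cfsg.Agent.Recog.AltPresentation

variable {G : Type*} [Group G]

structure Rel (x : ℕ → G) (N : ℕ) : Prop where
  cube : 0 < N → x 0 ^ 3 = 1
  sq : ∀ i, 1 ≤ i → i < N → x i * x i = 1
  near : ∀ i, i + 1 < N → (x i * x (i + 1)) ^ 3 = 1
  far : ∀ i j, i + 1 < j → j < N → (x i * x j) ^ 2 = 1

def word (x : ℕ → G) (k : ℕ) : ℕ → G
  | 0 => 1
  | d + 1 => word x k d * x (k - d)

/-- `w j = x k * x (k-1) * ... * x j`. -/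
def w (x : ℕ → G) (k j : ℕ) : G := word x k (k + 1 - j)

theorem w_top (x : ℕ → G) (k : ℕ) : w x k (k + 1) = 1 := by
  simp [w, word]

theorem w_step (x : ℕ → G) {k j : ℕ} (hj : j ≤ k) : w x k j = w x k (j + 1) * x j := by
  unfold w
  rw [show k + 1 - j = (k + 1 - (j + 1)) + 1 by omega]
  show _ * x (k - (k + 1 - (j + 1))) = _
  rw [show k - (k + 1 - (j + 1)) = j by omega]

theorem push {x : ℕ → G} {N k i : ℕ} (h : Rel x N) (hk : k < N) :
    ∀ d j, j + d = k + 1 → i + 2 ≤ j → ∀ e : ℤ, ∃ e' : ℤ, w x k j * x i ^ e = x i ^ e' * w x k j := by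
  intro d
  induction d with
  | zero =>
    intro j hj _ e
    rw [show j = k + 1 by omega]
    exact ⟨e, by rw [w_top, one_mul, mul_one]⟩
  | succ d ih =>
    intro j hj hij e
    have hf := h.far i j (by omega) (by omega)
    rw [pow_two] at hf
    have hs := h.sq j (by omega) (by omega)
    have h1 : x j * x i * (x j)⁻¹ = (x i)⁻¹ := by
      rw [inv_eq_of_mul_eq_one_right hs, eq_inv_iff_mul_eq_one]
      calc x j * x i * x j * x i = (x i)⁻¹ * (x i * x j * (x i * x j)) * x i := by group
        _ = 1 := by rw [hf]; group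
    have h2 : x j * x i ^ e = x i ^ (-e) * x j := by
      rw [← mul_inv_eq_iff_eq_mul, ← conj_zpow, h1, inv_zpow']
    obtain ⟨e', he'⟩ := ih (j + 1) (by omega) (by omega) (-e)
    refine ⟨e', ?_⟩
    rw [w_step x (show j ≤ k by omega), mul_assoc, h2, ← mul_assoc, he', mul_assoc]

theorem push_one {x : ℕ → G} {N k i : ℕ} (h : Rel x N) (hk : k < N) {j : ℕ} (hij : i + 2 ≤ j) (hj : j ≤ k + 1) (e : ℤ) :
    ∃ e' : ℤ, w x k j * x i ^ e = x i ^ e' * w x k j :=
  push h hk (k + 1 - j) j (by omega) hij e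

theorem slide {x : ℕ → G} {N k i : ℕ} (h : Rel x N) (hk : k < N) (hik : i < k) :
    ∀ d j, j + d = i → 1 ≤ j → ∃ e : ℤ, w x k j * x (i + 1) = x i ^ e * w x k j := by
  intro d
  induction d with
  | zero =>
    intro j hj hj1
    obtain rfl : j = i := by omega
    have hn := h.near j (by omega)
    have hs := h.sq j (by omega) (by omega)
    have hs' := h.sq (j + 1) (by omega) (by omega)
    have hb : x (j + 1) * x j * x (j + 1) = x j * x (j + 1) * x j := by
      have h1 : x j * x (j + 1) * x j * (x (j + 1) * x j * x (j + 1)) = 1 := by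
        rw [← hn]; simp [pow_succ, mul_assoc]
      rw [← inv_eq_of_mul_eq_one_right h1, mul_inv_rev, mul_inv_rev, inv_eq_of_mul_eq_one_right hs,
        inv_eq_of_mul_eq_one_right hs']
      simp only [mul_assoc]
    obtain ⟨e, he⟩ := push_one h hk (i := j) (j := j + 2) (by omega) (by omega) 1
    rw [zpow_one] at he
    refine ⟨e, ?_⟩
    have e1 : w x k j = w x k (j + 2) * x (j + 1) * x j := by
      rw [w_step x (show j ≤ k by omega), w_step x (show j + 1 ≤ k by omega)]
    calc w x k j * x (j + 1) = w x k (j + 2) * (x (j + 1) * x j * x (j + 1)) := by rw [e1]; group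
      _ = w x k (j + 2) * x j * (x (j + 1) * x j) := by rw [hb]; group
      _ = x j ^ e * w x k (j + 2) * (x (j + 1) * x j) := by rw [he]
      _ = x j ^ e * w x k j := by rw [e1]; group
  | succ d ih =>
    intro j hj hj1
    obtain ⟨e, he⟩ := ih (j + 1) (by omega) (by omega)
    refine ⟨e, ?_⟩
    have hf := h.far j (i + 1) (by omega) (by omega)
    rw [pow_two] at hf
    have hs := h.sq j (by omega) (by omega)
    have hs' := h.sq (i + 1) (by omega) (by omega)
    have hc : x j * x (i + 1) = x (i + 1) * x j := by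
      rw [← inv_eq_of_mul_eq_one_right hf, mul_inv_rev, inv_eq_of_mul_eq_one_right hs,
        inv_eq_of_mul_eq_one_right hs']
    rw [w_step x (show j ≤ k by omega), mul_assoc, hc, ← mul_assoc, he, mul_assoc]

theorem closure_bound {x : ℕ → G} {N : ℕ} (h : Rel x N) : ∀ k, k ≤ N →
    ∃ S : Finset G, (∀ g ∈ Subgroup.closure (x '' Set.Iio k), g ∈ S) ∧ 2 * S.card ≤ (k + 2).factorial := by
  classical
  intro k
  induction k with
  | zero =>
    intro _
    refine ⟨{1}, fun g hg => ?_, by simp⟩
    rw [show Set.Iio 0 = (∅ : Set ℕ) by ext; simp, Set.image_empty, Subgroup.closure_empty, Subgroup.mem_bot] at hg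
    simp [hg]
  | succ k ih =>
    intro hkN
    have hk : k < N := by omega
    obtain ⟨S, hS, hScard⟩ := ih (by omega)
    set H := Subgroup.closure (x '' Set.Iio k)
    have hxH : ∀ i, i < k → ∀ e : ℤ, x i ^ e ∈ H := fun i hi e =>
      zpow_mem (Subgroup.subset_closure (Set.mem_image_of_mem x (Set.mem_Iio.2 hi))) e
    set R : Finset G := (Finset.Icc 1 (k + 1)).image (w x k) ∪ {w x k 1 * x 0, w x k 1 * x 0 * x 0} with hR
    have hw : ∀ j, 1 ≤ j → j ≤ k + 1 → w x k j ∈ R := fun j h1 h2 =>
      Finset.mem_union_left _ (Finset.mem_image.2 ⟨j, Finset.mem_Icc.2 ⟨h1, h2⟩, rfl⟩)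
    have ha : w x k 1 * x 0 ∈ R := Finset.mem_union_right _ (by simp)
    have hb : w x k 1 * x 0 * x 0 ∈ R := Finset.mem_union_right _ (by simp)
    have h0 : x 0 ^ 3 = 1 := h.cube (by omega)
    have special : ∀ i, 1 ≤ i → i ≤ k → ∃ g ∈ H, w x k 1 * x 0 * x i = g * (w x k 1 * x 0 * x 0) := by
      intro i hi hik
      have h02 : (x 0)⁻¹ = x 0 * x 0 := inv_eq_of_mul_eq_one_right (by rw [← mul_assoc, ← pow_two, ← pow_succ]; exact h0)
      rcases Nat.lt_or_ge i 2 with hi2 | hi2
      · obtain rfl : i = 1 := by omega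
        obtain ⟨e, he⟩ := push_one h hk (i := 0) (j := 2) (by omega) (by omega) (-1)
        rw [zpow_neg_one] at he
        refine ⟨x 0 ^ e, hxH 0 (by omega) e, ?_⟩
        have hs := h.sq 1 le_rfl (by omega)
        have hn := h.near 0 (by omega)
        have hb' : x 1 * x 0 * x 1 = (x 0)⁻¹ * x 1 * (x 0)⁻¹ := by
          have h1 : x 0 * x 1 * x 0 * (x 1 * x 0 * x 1) = 1 := by rw [← hn]; simp [pow_succ, mul_assoc]
          rw [← inv_eq_of_mul_eq_one_right h1, mul_inv_rev, mul_inv_rev, inv_eq_of_mul_eq_one_right hs]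
          simp only [mul_assoc]
        have e1 : w x k 1 = w x k 2 * x 1 := w_step x (show 1 ≤ k by omega)
        calc w x k 1 * x 0 * x 1 = w x k 2 * (x 1 * x 0 * x 1) := by rw [e1]; group
          _ = w x k 2 * (x 0)⁻¹ * (x 1 * (x 0)⁻¹) := by rw [hb']; group
          _ = x 0 ^ e * w x k 2 * (x 1 * (x 0)⁻¹) := by rw [he]
          _ = x 0 ^ e * (w x k 1 * x 0 * x 0) := by rw [e1, h02]; group
      · obtain ⟨i, rfl⟩ : ∃ i', i = i' + 1 := ⟨i - 1, by omega⟩
        obtain ⟨e, he⟩ := slide h hk (i := i) (by omega) (i - 1) 1 (by omega) le_rfl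
        refine ⟨x i ^ e, hxH i (by omega) e, ?_⟩
        have hf := h.far 0 (i + 1) (by omega) (by omega)
        rw [pow_two] at hf
        have hs' := h.sq (i + 1) (by omega) (by omega)
        have hc : x 0 * x (i + 1) = x (i + 1) * (x 0)⁻¹ := by
          rw [← inv_eq_of_mul_eq_one_right hf, mul_inv_rev, inv_eq_of_mul_eq_one_right hs']
        calc w x k 1 * x 0 * x (i + 1) = w x k 1 * x (i + 1) * (x 0)⁻¹ := by rw [mul_assoc, hc, ← mul_assoc]
          _ = x i ^ e * w x k 1 * (x 0 * x 0) := by rw [he, h02]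
          _ = _ := by group
    have hstep : ∀ r ∈ R, ∀ i, i ≤ k → ∃ g ∈ H, ∃ r' ∈ R, r * x i = g * r' := by
      intro r hr i hik
      rcases Finset.mem_union.1 hr with hr | hr
      · obtain ⟨j, hj, rfl⟩ := Finset.mem_image.1 hr
        obtain ⟨hj1, hj2⟩ := Finset.mem_Icc.1 hj
        rcases lt_trichotomy i j with hij | hij | hij
        · rcases Nat.lt_or_ge (i + 1) j with hlt | hge
          · obtain ⟨e, he⟩ := push_one h hk (i := i) (show i + 2 ≤ j by omega) hj2 1
            exact ⟨x i ^ e, hxH i (by omega) e, _, hw j hj1 hj2, by rwa [zpow_one] at he⟩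
          · obtain rfl : j = i + 1 := by omega
            refine ⟨1, one_mem _, w x k (i + 1) * x i, ?_, (one_mul _).symm⟩
            rcases Nat.eq_zero_or_pos i with rfl | hi
            · exact ha
            · rw [← w_step x hik]; exact hw i hi (by omega)
        · subst hij
          refine ⟨1, one_mem _, w x k (i + 1), hw _ (by omega) (by omega), ?_⟩
          rw [one_mul, w_step x hik, mul_assoc, h.sq i hj1 (by omega), mul_one]
        · obtain ⟨i, rfl⟩ : ∃ i', i = i' + 1 := ⟨i - 1, by omega⟩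
          obtain ⟨e, he⟩ := slide h hk (i := i) (by omega) (i - j) j (by omega) hj1
          exact ⟨x i ^ e, hxH i (by omega) e, _, hw j hj1 hj2, he⟩
      · rcases Finset.mem_insert.1 hr with rfl | hr
        · rcases Nat.eq_zero_or_pos i with rfl | hi
          · exact ⟨1, one_mem _, _, hb, (one_mul _).symm⟩
          · obtain ⟨g, hg, he⟩ := special i hi hik
            exact ⟨g, hg, _, hb, he⟩
        · rw [Finset.mem_singleton] at hr
          subst hr
          rcases Nat.eq_zero_or_pos i with rfl | hi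
          · exact ⟨1, one_mem _, _, hw 1 le_rfl (by omega), by
              rw [one_mul, mul_assoc, mul_assoc, ← pow_two, ← pow_succ', h0, mul_one]⟩
          · obtain ⟨g, hg, he⟩ := special i hi hik
            refine ⟨g⁻¹, inv_mem hg, _, ha, ?_⟩
            have e2 : w x k 1 * x 0 * x 0 = g⁻¹ * (w x k 1 * x 0 * x i) := by rw [he, inv_mul_cancel_left]
            rw [e2, mul_assoc, mul_assoc _ (x i) (x i), h.sq i hi (by omega), mul_one]
    refine ⟨(S ×ˢ R).image (fun p => p.1 * p.2), fun g hg => ?_, ?_⟩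
    · have main : ∀ g ∈ Subgroup.closure (x '' Set.Iio (k + 1)), ∃ a ∈ H, ∃ r ∈ R, g = a * r := by
        intro g hg
        induction hg using Subgroup.closure_induction_right with
        | one => exact ⟨1, one_mem _, w x k (k + 1), hw _ (by omega) le_rfl, by rw [w_top, one_mul]⟩
        | mul_right a ha y hy ih =>
          obtain ⟨b, hbH, r, hrR, rfl⟩ := ih
          obtain ⟨i, hi, rfl⟩ := hy
          obtain ⟨c, hc, r', hr', he⟩ := hstep r hrR i (Nat.lt_succ_iff.1 hi)
          exact ⟨b * c, mul_mem hbH hc, r', hr', by rw [mul_assoc, he, mul_assoc]⟩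
        | mul_inv_cancel a ha y hy ih =>
          obtain ⟨b, hbH, r, hrR, rfl⟩ := ih
          obtain ⟨i, hi, rfl⟩ := hy
          have hik := Nat.lt_succ_iff.1 hi
          rcases Nat.eq_zero_or_pos i with rfl | hi0
          · rw [inv_eq_of_mul_eq_one_right (show x 0 * (x 0 * x 0) = 1 by rw [← pow_two, ← pow_succ', h0])]
            obtain ⟨c, hc, r', hr', he⟩ := hstep r hrR 0 hik
            obtain ⟨c', hc', r'', hr'', he'⟩ := hstep r' hr' 0 hik
            refine ⟨b * c * c', mul_mem (mul_mem hbH hc) hc', r'', hr'', ?_⟩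
            calc b * r * (x 0 * x 0) = b * (r * x 0) * x 0 := by group
              _ = b * c * (r' * x 0) := by rw [he]; group
              _ = _ := by rw [he']; group
          · rw [inv_eq_of_mul_eq_one_right (h.sq i hi0 (by omega))]
            obtain ⟨c, hc, r', hr', he⟩ := hstep r hrR i hik
            exact ⟨b * c, mul_mem hbH hc, r', hr', by rw [mul_assoc, he, mul_assoc]⟩
      obtain ⟨a, ha, r, hr, rfl⟩ := main g hg
      exact Finset.mem_image.2 ⟨(a, r), Finset.mem_product.2 ⟨hS a ha, hr⟩, rfl⟩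
    · have h1 : R.card ≤ k + 3 := by
        refine (Finset.card_union_le _ _).trans ?_
        refine le_trans (Nat.add_le_add Finset.card_image_le Finset.card_le_two) ?_
        rw [Nat.card_Icc]; omega
      calc 2 * ((S ×ˢ R).image (fun p => p.1 * p.2)).card ≤ 2 * (S ×ˢ R).card :=
            Nat.mul_le_mul_left _ Finset.card_image_le
        _ = 2 * S.card * R.card := by rw [Finset.card_product, mul_assoc]
        _ ≤ (k + 2).factorial * (k + 3) := Nat.mul_le_mul hScard h1
        _ = (k + 1 + 2).factorial := by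
          rw [show k + 1 + 2 = (k + 2) + 1 by omega, Nat.factorial_succ (k + 2), mul_comm]

end Cfsg.Agent.Recog.AltPresentation
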