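import Cfsg.Agent.Lib.Recog.PrimeGraph

/-!
# The affine group `F^2 ⋊ SL(2, F)` inside `SL(3, F)`

For four elements it has the element orders `{1, 2, 3, 4, 5}`.
-/

set_option autoImplicit false

namespace Cfsg.Agent.Recog.AffineSL

open Matrix PGLTwo

variable {F : Type*} [Field F]

/-- Matrices with last row `(0, 0, 1)`. -/
def gens (F : Type*) [Field F] : Set (SpecialLinearGroup (Fin 3) F) :=
  {M | (M : Matrix (Fin 3) (Fin 3) F) 2 0 = 0 ∧ (M : Matrix (Fin 3) (Fin 3) F) 2 1 = 0 ∧
    (M : Matrix (Fin 3) (Fin 3) F) 2 2 = 1}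

/-- The affine group. -/
def affine (F : Type*) [Field F] : Subgroup (SpecialLinearGroup (Fin 3) F) :=
  Subgroup.closure (gens F)

theorem mul_mem_gens {a b : SpecialLinearGroup (Fin 3) F} (ha : a ∈ gens F) (hb : b ∈ gens F) :
    a * b ∈ gens F := by
  obtain ⟨a0, a1, a2⟩ := ha
  obtain ⟨b0, b1, b2⟩ := hb
  refine ⟨?_, ?_, ?_⟩ <;>
    simp [Matrix.mul_apply, Fin.sum_univ_three, a0, a1, a2, b0, b1, b2]

theorem mem_gens [Finite F] {g : SpecialLinearGroup (Fin 3) F} (hg : g ∈ affine F) :
    g ∈ gens F := by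
  let S : Submonoid (SpecialLinearGroup (Fin 3) F) :=
    { carrier := gens F
      one_mem' := by refine ⟨?_, ?_, ?_⟩ <;> simp
      mul_mem' := fun ha hb => mul_mem_gens ha hb }
  show g ∈ S
  induction hg using Subgroup.closure_induction with
  | mem x hx => exact hx
  | one => exact one_mem S
  | mul x y _ _ hx hy => exact mul_mem hx hy
  | inv x _ hx =>
    have : x ^ (orderOf x - 1) = x⁻¹ := by
      refine eq_inv_of_mul_eq_one_left ?_
      rw [← pow_succ, Nat.sub_add_cancel (orderOf_pos x), pow_orderOf_eq_one]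
    exact this ▸ pow_mem hx _

theorem block_det {M : SpecialLinearGroup (Fin 3) F} (h : M ∈ gens F) :
    (Matrix.of fun i j : Fin 2 =>
      (M : Matrix (Fin 3) (Fin 3) F) i.castSucc j.castSucc).det = 1 := by
  obtain ⟨h0, h1, h2⟩ := h
  have := M.det_coe
  rw [Matrix.det_fin_three, h0, h1, h2] at this
  rw [Matrix.det_fin_two]
  simp
  linear_combination this

variable [Finite F]

/-- The upper left block. -/
def block (M : affine F) : SpecialLinearGroup (Fin 2) F :=
  ⟨Matrix.of fun i j => ((M : SpecialLinearGroup (Fin 3) F) :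
    Matrix (Fin 3) (Fin 3) F) i.castSucc j.castSucc, block_det (mem_gens M.2)⟩

theorem block_apply (M : affine F) (i j : Fin 2) :
    (block M : Matrix (Fin 2) (Fin 2) F) i j =
      ((M : SpecialLinearGroup (Fin 3) F) : Matrix (Fin 3) (Fin 3) F) i.castSucc j.castSucc := rfl

/-- The linear part. -/
def linPart : affine F →* SpecialLinearGroup (Fin 2) F where
  toFun := block
  map_one' := by
    apply Subtype.ext
    ext i j
    rw [block_apply, Matrix.SpecialLinearGroup.coe_one]
    fin_cases i <;> fin_cases j <;> simp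
  map_mul' M N := by
    obtain ⟨h0, h1, -⟩ := mem_gens N.2
    apply Subtype.ext
    ext i j
    rw [block_apply, Matrix.SpecialLinearGroup.coe_mul]
    fin_cases i <;> fin_cases j <;>
      simp [block_apply, Matrix.mul_apply, Fin.sum_univ_three, h0, h1]

theorem linPart_apply (M : affine F) (i j : Fin 2) :
    (linPart M : Matrix (Fin 2) (Fin 2) F) i j =
      ((M : SpecialLinearGroup (Fin 3) F) : Matrix (Fin 3) (Fin 3) F) i.castSucc j.castSucc := rfl

theorem linPart_surjective : Function.Surjective (linPart (F := F)) := by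
  intro A
  let M : SpecialLinearGroup (Fin 3) F :=
    ⟨!![A.1 0 0, A.1 0 1, 0; A.1 1 0, A.1 1 1, 0; 0, 0, 1], by
      rw [Matrix.det_fin_three]
      have := A.det_coe
      rw [Matrix.det_fin_two] at this
      simp
      linear_combination this⟩
  have hM : M ∈ gens F := by refine ⟨?_, ?_, ?_⟩ <;> simp [M]
  refine ⟨⟨M, Subgroup.subset_closure hM⟩, Subtype.ext ?_⟩
  ext i j
  rw [linPart_apply]
  fin_cases i <;> fin_cases j <;> simp [M]

/-- The translation part. -/
def trans (M : affine F) : Fin 2 → F :=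
  fun i => ((M : SpecialLinearGroup (Fin 3) F) : Matrix (Fin 3) (Fin 3) F) i.castSucc 2

theorem eq_one_of_trans {M : affine F} (h : linPart M = 1) (ht : trans M = 0) : M = 1 := by
  obtain ⟨h0, h1, h2⟩ := mem_gens M.2
  have hl := fun i j => congrFun (congrFun (congrArg Subtype.val h) i) j
  have a00 := hl 0 0
  have a01 := hl 0 1
  have a10 := hl 1 0
  have a11 := hl 1 1
  have t0 := congrFun ht 0
  have t1 := congrFun ht 1
  simp [linPart_apply, trans] at a00 a01 a10 a11 t0 t1
  apply Subtype.ext; apply Subtype.ext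
  ext i j
  fin_cases i <;> fin_cases j <;> simp [*]

theorem trans_mul (M N : affine F) :
    trans (M * N) = (linPart M : Matrix (Fin 2) (Fin 2) F) *ᵥ trans N + trans M := by
  obtain ⟨-, -, h2⟩ := mem_gens N.2
  funext i
  fin_cases i <;>
    simp [trans, linPart_apply, Matrix.mul_apply, Fin.sum_univ_three, h2]

variable [CharP F 2]

theorem ker_sq {x : affine F} (hx : x ∈ (linPart (F := F)).ker) : x ^ 2 = 1 := by
  rw [MonoidHom.mem_ker] at hx
  refine eq_one_of_trans (by rw [map_pow, hx, one_pow]) ?_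
  rw [pow_two, trans_mul, hx]
  funext i
  simp [CharTwo.add_self_eq_zero]

theorem ker_fix {x h : affine F} (hx : linPart x = 1) (hx1 : x ≠ 1) (hc : h * x = x * h) :
    linPart h ^ 2 = 1 := by
  have h1 := congrArg trans hc
  rw [trans_mul, trans_mul, hx, Matrix.SpecialLinearGroup.coe_one, one_mulVec,
    add_comm (trans h)] at h1
  exact PrimeGraph.sl2_sq_eq_one _ (fun h0 => hx1 (eq_one_of_trans hx h0)) (add_right_cancel h1)

/-- The element orders when there are four scalars. -/
theorem range_affine {F : Type*} [Field F] [Fintype F] (hF : Fintype.card F = 4) :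
    Set.range (orderOf : affine F → ℕ) = {1, 2, 3, 4, 5} := by
  classical
  have : CharP F 2 := charP_of_card_eq_prime_pow (f := 2) (by rw [hF]; norm_num)
  have : Fact (Nat.Prime 2) := ⟨Nat.prime_two⟩
  have hker : ∀ y ∈ (linPart (F := F)).ker, y ^ 2 = 1 := fun y hy => ker_sq hy
  apply Set.Subset.antisymm
  · rintro _ ⟨x, rfl⟩
    obtain ⟨h1, h2⟩ := orderOf_of_hom linPart hker x (isOfFinOrder_of_finite _)
    set g := linPart x with hg
    have hg' : orderOf g = 2 ∨ orderOf g ∣ 3 ∨ orderOf g ∣ 5 := by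
      have := PrimeGraph.sl2_orders g
      rwa [hF] at this
    by_cases hx : x ^ orderOf g = 1
    · rw [h1 hx]
      rcases hg' with e | e | e
      · simp [e]
      · rcases (Nat.dvd_prime Nat.prime_three).1 e with e | e <;> simp [e]
      · rcases (Nat.dvd_prime (by norm_num)).1 e with e | e <;> simp [e]
    · rw [h2 hx]
      have hfix := ker_fix (x := x ^ orderOf g) (h := x)
        (by rw [map_pow, ← hg, pow_orderOf_eq_one]) hx (Commute.self_pow x _).eq
      rcases (Nat.dvd_prime Nat.prime_two).1 (orderOf_dvd_of_pow_eq_one hfix) with e | e <;>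
        simp [← hg] at e <;> simp [e]
  · intro n hn
    let t : SpecialLinearGroup (Fin 3) F := ⟨!![1, 1, 0; 0, 1, 1; 0, 0, 1], by
      simp [Matrix.det_fin_three]⟩
    have ht : t ∈ affine F := Subgroup.subset_closure (by refine ⟨?_, ?_, ?_⟩ <;> simp [t])
    have h4 : orderOf (⟨t, ht⟩ : affine F) = 4 := by
      rw [← Subgroup.orderOf_coe]
      apply orderOf_eq_prime_pow (p := 2) (n := 1)
      · intro h
        rw [pow_one] at h
        have := congrArg (fun z : SpecialLinearGroup (Fin 3) F =>
          (z : Matrix (Fin 3) (Fin 3) F) 0 2) h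
        rw [Matrix.SpecialLinearGroup.coe_pow, pow_two, Matrix.SpecialLinearGroup.coe_one,
          Matrix.mul_apply, Fin.sum_univ_three] at this
        simp [t] at this
      · apply Subtype.ext
        rw [Matrix.SpecialLinearGroup.coe_pow]
        ext i j
        fin_cases i <;> fin_cases j <;>
          simp [t, pow_succ, Matrix.mul_apply, Fin.sum_univ_three, CharTwo.add_self_eq_zero]
    have hsurj : ∀ d : ℕ, (∃ y : SpecialLinearGroup (Fin 2) F, orderOf y = d) →
        d ∈ Set.range (orderOf : affine F → ℕ) := by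
      rintro _ ⟨y, rfl⟩
      obtain ⟨z, rfl⟩ := linPart_surjective y
      refine ⟨z ^ (orderOf z / orderOf (linPart z)), ?_⟩
      have hd := orderOf_map_dvd linPart z
      rw [orderOf_pow_of_dvd (Nat.div_pos (Nat.le_of_dvd (orderOf_pos z) hd)
        (orderOf_pos _)).ne' (Nat.div_dvd_of_dvd hd), Nat.div_div_self hd (orderOf_pos z).ne']
    have hpgl : ∀ d : ℕ, d.Prime → d ≠ 2 → (∃ y : PGL F, orderOf y = d) →
        ∃ y : SpecialLinearGroup (Fin 2) F, orderOf y = d := by
      rintro d hd h2 ⟨y, hy⟩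
      obtain ⟨s, hs⟩ := PrimeGraph.sl2_to_pgl_surjective y
      have hds : d ∣ orderOf s := hy ▸ hs ▸ orderOf_map_dvd (PrimeGraph.slToPGL (F := F)) s
      refine ⟨s ^ (orderOf s / d), ?_⟩
      rw [orderOf_pow_of_dvd (Nat.div_pos (Nat.le_of_dvd (orderOf_pos s) hds)
        hd.pos).ne' (Nat.div_dvd_of_dvd hds), Nat.div_div_self hds (orderOf_pos s).ne']
    simp only [Set.mem_insert_iff, Set.mem_singleton_iff] at hn
    rcases hn with rfl | rfl | rfl | rfl | rfl
    · exact ⟨1, orderOf_one⟩
    · refine ⟨(⟨t, ht⟩ : affine F) ^ 2, ?_⟩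
      rw [orderOf_pow_of_dvd (by norm_num) (by rw [h4]; norm_num), h4]
    · refine hsurj 3 (hpgl 3 Nat.prime_three (by norm_num) ?_)
      simpa [hF] using PGLTwo.exists_pgl_order_sub_one (F := F)
    · exact ⟨_, h4⟩
    · refine hsurj 5 (hpgl 5 (by norm_num) (by norm_num) ?_)
      simpa [hF] using PGLTwo.exists_pgl_order_add_one (F := F)

end Cfsg.Agent.Recog.AffineSL
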