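import Mathlib

/-!
# Element orders of small alternating groups

The order of a permutation is the least common multiple of its cycle lengths, so the element
orders of an alternating group are read off the partitions of the degree.
-/

namespace Cfsg.Agent.Recog.AltSpectrum

open Equiv Equiv.Perm

/-- Multisets with parts in `[2, m]` and sum at most `n`, as lists. -/
def gen : ℕ → ℕ → List (List ℕ)
  | _, 0 => [[]]
  | _, 1 => [[]]
  | n, m + 2 => (List.range (n / (m + 2) + 1)).flatMap fun c =>
      (gen (n - c * (m + 2)) (m + 1)).map (List.replicate c (m + 2) ++ ·)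

theorem mem_gen : ∀ (m n : ℕ) (s : Multiset ℕ), (∀ x ∈ s, 2 ≤ x ∧ x ≤ m) → s.sum ≤ n →
    ∃ l ∈ gen n m, (l : Multiset ℕ) = s
  | 0, n, s, h, _ => ⟨[], by simp [gen], (Multiset.eq_zero_of_forall_notMem fun x hx => by
      have := h x hx; omega).symm⟩
  | 1, n, s, h, _ => ⟨[], by simp [gen], (Multiset.eq_zero_of_forall_notMem fun x hx => by
      have := h x hx; omega).symm⟩
  | m + 2, n, s, h, hn => by
    set t := s.filter (fun x => ¬ x = m + 2) with ht
    set c := s.count (m + 2) with hc
    have hs : s = Multiset.replicate c (m + 2) + t := by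
      rw [hc, ← Multiset.filter_eq', ht, Multiset.filter_add_not]
    have hsum : c * (m + 2) + t.sum ≤ n := by
      rw [hs, Multiset.sum_add, Multiset.sum_replicate, smul_eq_mul] at hn
      exact hn
    obtain ⟨l, hl, hlt⟩ := mem_gen (m + 1) (n - c * (m + 2)) t (fun x hx => by
      have h1 := Multiset.mem_filter.1 hx
      have h2 := h x h1.1
      have h3 := h1.2
      omega) (by omega)
    refine ⟨List.replicate c (m + 2) ++ l, ?_, ?_⟩
    · simp only [gen, List.mem_flatMap, List.mem_range, List.mem_map]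
      refine ⟨c, ?_, l, hl, rfl⟩
      rw [Nat.lt_add_one_iff, Nat.le_div_iff_mul_le (by omega)]
      omega
    · rw [hs, ← hlt, ← Multiset.coe_replicate, Multiset.coe_add]

/-- The orders allowed by the partitions of `n`. -/
def check (n : ℕ) (S : Finset ℕ) : Bool :=
  (gen n n).all fun l => decide ((l.sum + l.length) % 2 = 0 → l.foldr Nat.lcm 1 ∈ S)

/-- Every element order of `A_n` is allowed. -/
theorem orderOf_mem {n : ℕ} {S : Finset ℕ} (hS : check n S = true)
    (g : alternatingGroup (Fin n)) : orderOf g ∈ S := by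
  rw [← Subgroup.orderOf_coe, ← lcm_cycleType]
  obtain ⟨σ, hσ⟩ := g
  show (σ.cycleType).lcm ∈ S
  obtain ⟨l, hl, hls⟩ := mem_gen n n σ.cycleType (fun x hx => ⟨two_le_of_mem_cycleType hx,
    (Multiset.le_sum_of_mem hx).trans ((sum_cycleType_le σ).trans (Fintype.card_fin n).le)⟩)
    ((sum_cycleType_le σ).trans (Fintype.card_fin n).le)
  have h1 : sign σ = 1 := mem_alternatingGroup.1 hσ
  rw [sign_of_cycleType, ← hls] at h1
  simp only [Multiset.sum_coe, Multiset.coe_card] at h1
  have := List.all_eq_true.1 hS l hl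
  rw [decide_eq_true_eq] at this
  rw [← hls]
  refine this ?_
  rcases Nat.even_or_odd (l.sum + l.length) with h | h
  · exact Nat.even_iff.1 h
  · rw [h.neg_one_pow] at h1
    exact absurd h1 (by decide)

/-- An element of given order from a permutation given by values. -/
theorem exists_of_pow {n m : ℕ} (hm : 0 < m) (σ : Perm (Fin n)) (hs : sign σ = 1)
    (h1 : σ ^ m = 1) (h2 : ∀ j < m, 0 < j → σ ^ j ≠ 1) :
    ∃ g : alternatingGroup (Fin n), orderOf g = m := by
  refine ⟨⟨σ, mem_alternatingGroup.2 hs⟩, ?_⟩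
  rw [← Subgroup.orderOf_coe]
  exact (orderOf_eq_iff hm).2 ⟨h1, fun j hj hj0 => h2 j hj hj0⟩

/-- Divisors of element orders are element orders. -/
theorem mem_range_of_dvd {G : Type*} [Group G] [Finite G] {d : ℕ} {z : G} (hd : d ∣ orderOf z) :
    d ∈ Set.range (orderOf : G → ℕ) := by
  refine ⟨z ^ (orderOf z / d), ?_⟩
  rw [orderOf_pow_of_dvd (Nat.div_pos (Nat.le_of_dvd (orderOf_pos z) hd)
    (Nat.pos_of_dvd_of_pos hd (orderOf_pos z))).ne' (Nat.div_dvd_of_dvd hd),
    Nat.div_div_self hd (orderOf_pos z).ne']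

theorem six_check : check 6 {1, 2, 3, 4, 5} = true := by decide +kernel

theorem ten_check : check 10 {1, 2, 3, 4, 5, 6, 7, 8, 9, 10, 12, 15, 21} = true := by
  decide +kernel

/-- The element orders of `A_6`. -/
theorem range_six :
    Set.range (orderOf : alternatingGroup (Fin 6) → ℕ) = {1, 2, 3, 4, 5} := by
  apply Set.Subset.antisymm
  · rintro _ ⟨g, rfl⟩
    have := orderOf_mem six_check g
    simpa using this
  · intro m hm
    obtain ⟨g4, h4⟩ := exists_of_pow (m := 4) (by norm_num)
      ([0, 1, 2, 3].formPerm * swap (4 : Fin 6) 5) (by decide +kernel) (by decide +kernel)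
      (by decide +kernel)
    obtain ⟨g3, h3⟩ := exists_of_pow (m := 3) (by norm_num)
      ([0, 1, 2].formPerm : Perm (Fin 6)) (by decide +kernel) (by decide +kernel) (by decide +kernel)
    obtain ⟨g5, h5⟩ := exists_of_pow (m := 5) (by norm_num)
      ([0, 1, 2, 3, 4].formPerm : Perm (Fin 6)) (by decide +kernel) (by decide +kernel)
      (by decide +kernel)
    simp only [Set.mem_insert_iff, Set.mem_singleton_iff] at hm
    rcases hm with rfl | rfl | rfl | rfl | rfl
    · exact ⟨1, orderOf_one⟩
    · exact mem_range_of_dvd (z := g4) (by rw [h4]; norm_num)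
    · exact ⟨g3, h3⟩
    · exact ⟨g4, h4⟩
    · exact ⟨g5, h5⟩

/-- The element orders of `A_10`. -/
theorem range_ten :
    Set.range (orderOf : alternatingGroup (Fin 10) → ℕ) =
      {1, 2, 3, 4, 5, 6, 7, 8, 9, 10, 12, 15, 21} := by
  apply Set.Subset.antisymm
  · rintro _ ⟨g, rfl⟩
    have := orderOf_mem ten_check g
    simpa using this
  · intro m hm
    obtain ⟨g8, h8⟩ := exists_of_pow (m := 8) (by norm_num)
      ([0, 1, 2, 3, 4, 5, 6, 7].formPerm * swap (8 : Fin 10) 9) (by decide +kernel)
      (by decide +kernel) (by decide +kernel)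
    obtain ⟨g9, h9⟩ := exists_of_pow (m := 9) (by norm_num)
      ([0, 1, 2, 3, 4, 5, 6, 7, 8].formPerm : Perm (Fin 10)) (by decide +kernel)
      (by decide +kernel) (by decide +kernel)
    obtain ⟨g10, h10⟩ := exists_of_pow (m := 10) (by norm_num)
      (([0, 1, 2, 3, 4].formPerm : Perm (Fin 10)) * swap 5 6 * swap 7 8) (by decide +kernel)
      (by decide +kernel) (by decide +kernel)
    obtain ⟨g12, h12⟩ := exists_of_pow (m := 12) (by norm_num)
      (([0, 1, 2, 3].formPerm : Perm (Fin 10)) * [4, 5, 6].formPerm * swap 7 8) (by decide +kernel)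
      (by decide +kernel) (by decide +kernel)
    obtain ⟨g15, h15⟩ := exists_of_pow (m := 15) (by norm_num)
      (([0, 1, 2, 3, 4].formPerm : Perm (Fin 10)) * [5, 6, 7].formPerm) (by decide +kernel)
      (by decide +kernel) (by decide +kernel)
    obtain ⟨g21, h21⟩ := exists_of_pow (m := 21) (by norm_num)
      (([0, 1, 2, 3, 4, 5, 6].formPerm : Perm (Fin 10)) * [7, 8, 9].formPerm) (by decide +kernel)
      (by decide +kernel) (by decide +kernel)
    simp only [Set.mem_insert_iff, Set.mem_singleton_iff] at hm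
    rcases hm with rfl | rfl | rfl | rfl | rfl | rfl | rfl | rfl | rfl | rfl | rfl | rfl | rfl
    · exact ⟨1, orderOf_one⟩
    · exact mem_range_of_dvd (z := g8) (by rw [h8]; norm_num)
    · exact mem_range_of_dvd (z := g9) (by rw [h9]; norm_num)
    · exact mem_range_of_dvd (z := g8) (by rw [h8]; norm_num)
    · exact mem_range_of_dvd (z := g10) (by rw [h10]; norm_num)
    · exact mem_range_of_dvd (z := g12) (by rw [h12]; norm_num)
    · exact mem_range_of_dvd (z := g21) (by rw [h21]; norm_num)
    · exact ⟨g8, h8⟩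
    · exact ⟨g9, h9⟩
    · exact ⟨g10, h10⟩
    · exact ⟨g12, h12⟩
    · exact ⟨g15, h15⟩
    · exact ⟨g21, h21⟩

end Cfsg.Agent.Recog.AltSpectrum
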