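import Mathlib
import Cfsg.Agent.Lib.Components.FStar2
import Cfsg.Agent.Lib.Components.Fitting
import Cfsg.Agent.Lib.Components.PTimesQ
import Cfsg.Agent.Lib.Invol.BenderMax

/-! Two conjugate maximal subgroups sharing a subgroup normal in one and subnormal in the other. -/

set_option autoImplicit false

namespace Cfsg.Agent.Recog.PointPair

open Subgroup Cfsg.Agent.Components

variable {G : Type*} [Group G] [Finite G]

/-- `O_q(U)` as a subgroup of `G`. -/
def core (q : ℕ) (U : Subgroup G) : Subgroup G := (Cfsg.pCore q U).map U.subtype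

/-- `E(U)` as a subgroup of `G`. -/
def lay (U : Subgroup G) : Subgroup G := (Cfsg.layer U).map U.subtype

omit [Finite G] in
theorem core_le (q : ℕ) (U : Subgroup G) : core q U ≤ U := map_subtype_le _

omit [Finite G] in
theorem lay_le (U : Subgroup G) : lay U ≤ U := map_subtype_le _

theorem core_isPGroup {q : ℕ} (hq : q.Prime) (U : Subgroup G) : IsPGroup q (core q U) := by
  haveI := Fact.mk hq
  exact sSup_isPGroup_of_normal.map _

omit [Finite G] in
theorem map_normal_normalized {U : Subgroup G} (N : Subgroup U) [N.Normal] :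
    U ≤ normalizer ((N.map U.subtype : Subgroup G) : Set G) := by
  intro u hu
  rw [mem_normalizer_iff]
  intro x
  constructor
  · rintro ⟨y, hy, rfl⟩
    exact ⟨⟨u, hu⟩ * y * ⟨u, hu⟩⁻¹, Subgroup.Normal.conj_mem inferInstance y hy _, rfl⟩
  · rintro ⟨y, hy, he⟩
    refine ⟨⟨u, hu⟩⁻¹ * y * ⟨u, hu⟩, Subgroup.Normal.conj_mem' inferInstance y hy _, ?_⟩
    simp only [map_mul, map_inv, he]
    simp [mul_assoc]

omit [Finite G] in
theorem le_normalizer_core (q : ℕ) (U : Subgroup G) : U ≤ normalizer (core q U : Set G) :=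
  map_normal_normalized _

omit [Finite G] in
theorem le_normalizer_lay (U : Subgroup G) : U ≤ normalizer (lay U : Set G) :=
  map_normal_normalized _

theorem core_inf_le_normalizer {q : ℕ} {U V : Subgroup G} :
    U ⊓ V ≤ normalizer ((core q U ⊓ V : Subgroup G) : Set G) :=
  (le_inf (inf_le_left.trans (le_normalizer_core q U)) (inf_le_right.trans le_normalizer)).trans
    inf_normalizer_le_normalizer_inf

theorem pgroup_subnormal_le_core {q : ℕ} (hq : q.Prime) {X U : Subgroup G} (hX : IsPGroup q X)
    (hle : X ≤ U) (hs : (X.subgroupOf U).IsSubnormal) : X ≤ core q U := by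
  haveI := Fact.mk hq
  have hp : IsPGroup q (X.subgroupOf U) := hX.of_equiv (subgroupOfEquivOfLe hle).symm
  have hF := nilpotent_subnormal_le_fitting hs hp.isNilpotent
  intro x hx
  obtain ⟨k, hk⟩ := hX ⟨x, hx⟩
  refine ⟨⟨x, hle hx⟩, Invol.BenderMax.mem_pCore_of_rElem (hF hx) (k := k) ?_, rfl⟩
  exact Subtype.ext (by simpa using congrArg Subtype.val hk)

omit [Finite G] in
theorem subnormal_in {X C U : Subgroup G} (hXC : X ≤ C) (hCU : C ≤ U)
    (hC : (C.subgroupOf U).IsSubnormal) (hn : C ≤ normalizer (X : Set G)) :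
    (X.subgroupOf U).IsSubnormal := by
  refine IsSubnormal.step _ _ (fun x hx => hXC hx) hC ?_
  refine normal_subgroupOf_of_le_normalizer ?_
  intro c hc
  rw [mem_normalizer_iff]
  intro y
  exact mem_normalizer_iff.mp (hn hc) (y : G)

omit [Finite G] in
theorem subgroupOf_isSubnormal_of_normalized {C U : Subgroup G} (hn : U ≤ normalizer (C : Set G)) :
    (C.subgroupOf U).IsSubnormal := by
  haveI : (C.subgroupOf U).Normal := normal_subgroupOf_of_le_normalizer hn
  exact isSubnormal_of_normal _

theorem centralizer_inf_normalized {U : Subgroup G} {X : Subgroup G} (hn : U ≤ normalizer (X : Set G)) :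
    U ≤ normalizer ((U ⊓ centralizer (X : Set G) : Subgroup G) : Set G) := by
  refine (le_inf le_normalizer ?_).trans inf_normalizer_le_normalizer_inf
  refine hn.trans ?_
  intro g hg
  rw [mem_normalizer_iff]
  intro c
  simp only [mem_centralizer_iff, SetLike.mem_coe]
  constructor
  · intro hc x hx
    have := hc (g⁻¹ * x * g) ((mem_normalizer_iff''.mp hg x).mp hx)
    calc x * (g * c * g⁻¹) = g * ((g⁻¹ * x * g) * c) * g⁻¹ := by group
      _ = g * (c * (g⁻¹ * x * g)) * g⁻¹ := by rw [this]
      _ = (g * c * g⁻¹) * x := by group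
  · intro hc x hx
    have := hc (g * x * g⁻¹) ((mem_normalizer_iff.mp hg x).mp hx)
    calc x * c = g⁻¹ * ((g * x * g⁻¹) * (g * c * g⁻¹)) * g := by group
      _ = g⁻¹ * ((g * c * g⁻¹) * (g * x * g⁻¹)) * g := by rw [this]
      _ = c * x := by group

theorem comm_of_inter {q p : ℕ} [Fact q.Prime] [Fact p.Prime] (hne : q ≠ p) {X Y : Subgroup G}
    (hX : IsPGroup q X) (hY : IsPGroup p Y) (hXY : X ≤ normalizer (Y : Set G))
    (hYX : Y ≤ normalizer (X : Set G)) : X ≤ centralizer (Y : Set G) := by
  rw [← commutator_eq_bot_iff_le_centralizer, eq_bot_iff]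
  refine le_trans (le_inf ?_ ?_) (IsPGroup.disjoint_of_ne q p hne X Y hX hY).eq_bot.le
  · exact le_normalizer_iff_commutator_le_left.mp hYX
  · exact le_normalizer_iff_commutator_le_right.mp hXY

omit [Finite G] in
theorem normalizer_le_map_char {P : Subgroup G} (W : Subgroup P) [hW : W.Characteristic] :
    normalizer (P : Set G) ≤ normalizer ((W.map P.subtype : Subgroup G) : Set G) := by
  intro g hg
  refine mem_normalizer_of_map_conj_eq ?_
  have hmap := map_conj_eq_of_mem_normalizer hg
  let e : P ≃* P := (P.equivMapOfInjective (MulAut.conj g).toMonoidHom (MulAut.conj g).injective).trans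
    (MulEquiv.subgroupCongr hmap)
  have he : (MulAut.conj g).toMonoidHom.comp P.subtype = P.subtype.comp e.toMonoidHom := by
    ext x
    rfl
  rw [map_map, he, ← map_map, characteristic_iff_map_eq.mp hW e]

/-- Two distinct maximal subgroups, isomorphic, with trivial core. -/
structure Pair (H K : Subgroup G) : Prop where
  maxH : ∀ M, H ≤ M → M = H ∨ M = ⊤
  maxK : ∀ M, K ≤ M → M = K ∨ M = ⊤
  ne : H ≠ K
  coreH : ∀ N : Subgroup G, N.Normal → N ≤ H → N = ⊥
  coreK : ∀ N : Subgroup G, N.Normal → N ≤ K → N = ⊥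
  iso : Nonempty (H ≃* K)

variable {H K : Subgroup G}

theorem Pair.symm (h : Pair H K) : Pair K H :=
  ⟨h.maxK, h.maxH, h.ne.symm, h.coreK, h.coreH, h.iso.map MulEquiv.symm⟩

theorem Pair.normalizer_eq (h : Pair H K) {X : Subgroup G} (hX : X ≠ ⊥) (hle : X ≤ H)
    (hn : H ≤ normalizer (X : Set G)) : normalizer (X : Set G) = H := by
  rcases h.maxH _ hn with he | he
  · exact he
  · exact absurd (h.coreH X (normalizer_eq_top_iff.mp he) hle) hX

theorem Pair.centralizer_le (h : Pair H K) {X : Subgroup G} (hX : X ≠ ⊥) (hle : X ≤ H)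
    (hn : H ≤ normalizer (X : Set G)) : centralizer (X : Set G) ≤ H :=
  (centralizer_le_normalizer _).trans (h.normalizer_eq hX hle hn).le

theorem Pair.eq_bot_of_both (h : Pair H K) {X : Subgroup G} (hle : X ≤ H)
    (hH : H ≤ normalizer (X : Set G)) (hK : K ≤ normalizer (X : Set G)) : X = ⊥ := by
  by_contra hX
  have := h.normalizer_eq hX hle hH
  rw [this] at hK
  rcases h.maxK _ hK with he | he
  · exact h.ne he
  · rw [he] at hle this
    exact hX (h.coreH X (normalizer_eq_top_iff.mp this) (le_top.trans he.ge))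

theorem Pair.card_core (h : Pair H K) (q : ℕ) : Nat.card (core q H) = Nat.card (core q K) := by
  obtain ⟨e⟩ := h.iso
  have h1 : Nat.card (core q H) = Nat.card (Cfsg.pCore q H) :=
    Nat.card_congr (equivMapOfInjective _ _ H.subtype_injective).symm.toEquiv
  have h2 : Nat.card (core q K) = Nat.card (Cfsg.pCore q K) :=
    Nat.card_congr (equivMapOfInjective _ _ K.subtype_injective).symm.toEquiv
  rw [h1, h2, ← map_pCore_equiv e]
  exact Nat.card_congr (equivMapOfInjective _ _ e.injective).toEquiv

theorem Pair.card_lay (h : Pair H K) : Nat.card (lay H) = Nat.card (lay K) := by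
  obtain ⟨e⟩ := h.iso
  have h1 : Nat.card (lay H) = Nat.card (Cfsg.layer H) :=
    Nat.card_congr (equivMapOfInjective _ _ H.subtype_injective).symm.toEquiv
  have h2 : Nat.card (lay K) = Nat.card (Cfsg.layer K) :=
    Nat.card_congr (equivMapOfInjective _ _ K.subtype_injective).symm.toEquiv
  rw [h1, h2, ← map_layer_equiv e]
  exact Nat.card_congr (equivMapOfInjective _ _ e.injective).toEquiv

theorem Pair.lay_eq_bot_of_le (h : Pair H K) (hle : lay H ≤ lay K) : lay H = ⊥ := by
  have he : lay H = lay K := eq_of_le_of_card_ge hle h.card_lay.ge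
  exact h.eq_bot_of_both (lay_le H) (le_normalizer_lay H) (he ▸ le_normalizer_lay K)

/-- The growth of normalisers in a `q`-group. -/
theorem Pair.core_eq_bot (h : Pair H K) {q : ℕ} (hq : q.Prime) (h1 : core q K ≤ H)
    (h2 : core q H ⊓ K ≤ core q K) : core q H = ⊥ := by
  haveI := Fact.mk hq
  suffices hRQ : core q H ≤ core q K by
    have he := eq_of_le_of_card_ge hRQ (h.card_core q).ge
    exact h.eq_bot_of_both (core_le q H) (le_normalizer_core q H) (he ▸ le_normalizer_core q K)
  set R := core q H
  set Q := core q K with hQ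
  by_cases hQ0 : Q = ⊥
  · have := h.card_core q
    rw [show core q K = ⊥ from hQ0, card_bot, card_eq_one] at this
    simp [R, this]
  have hQR : Q ≤ normalizer (R : Set G) := h1.trans (le_normalizer_core q H)
  set Z := R ⊔ Q with hZ
  have hZq : IsPGroup q Z :=
    (core_isPGroup hq H).to_sup_of_normal_left' (core_isPGroup hq K) hQR
  haveI := hZq.isNilpotent
  by_contra hcon
  have hlt : Q.subgroupOf Z < ⊤ :=
    Ne.lt_top fun e => hcon (le_sup_left.trans (subgroupOf_eq_top.mp e))
  obtain ⟨z, hz, hzQ⟩ := SetLike.exists_of_lt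
    (Group.normalizerCondition_of_isNilpotent (G := Z) _ hlt)
  rw [← subgroupOf_normalizer_eq (show Q ≤ Z from le_sup_right)] at hz
  have hzK : (z : G) ∈ K := by
    have : normalizer (Q : Set G) = K :=
      h.symm.normalizer_eq hQ0 (core_le q K) (le_normalizer_core q K)
    exact this ▸ hz
  have hz' : (z : G) ∈ ((R ⊔ Q : Subgroup G) : Set G) := z.2
  rw [coe_mul_of_right_le_normalizer_left _ _ hQR] at hz'
  obtain ⟨r, hr, s, hs, hrs⟩ := hz'
  refine hzQ ?_
  show (z : G) ∈ Q
  rw [← hrs]
  refine mul_mem (h2 ⟨hr, ?_⟩) hs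
  have : r = (z : G) * s⁻¹ := by rw [← hrs]; group
  rw [this]
  exact K.mul_mem hzK (K.inv_mem (core_le q K (show s ∈ core q K from hs)))

/-- The layer of `K` lies in `H` as soon as some nontrivial normal subgroup of `H` is subnormal in `K`. -/
theorem Pair.lay_le_left (h : Pair H K) {P : Subgroup G} (hP : P ≠ ⊥) (hPH : P ≤ H)
    (hn : H ≤ normalizer (P : Set G)) (hPK : P ≤ K) (hs : (P.subgroupOf K).IsSubnormal) :
    lay K ≤ H := by
  rw [lay, map_le_iff_le_comap, layer_le_iff]
  intro L hL
  rcases component_le_or_commute hL hs with h' | h'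
  · exact fun x hx => hPH (h' hx)
  · intro x hx
    refine h.centralizer_le hP hPH hn (mem_centralizer_iff.mpr fun y hy => ?_)
    have := commutator_eq_bot_iff_forall.mp h' x hx ⟨y, hPK hy⟩ hy
    exact (congrArg Subtype.val this).symm

theorem lay_centralizes_solvable {U : Subgroup G} {X : Subgroup G} (hXU : X ≤ U)
    (hs : Group.IsSolvable X) (hn : lay U ≤ normalizer (X : Set G)) : lay U ≤ centralizer (X : Set G) := by
  rw [lay, map_le_iff_le_comap, layer_le_iff]
  intro L hL x hx
  haveI : Group.IsSolvable X := hs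
  have hs' : Group.IsSolvable (X.subgroupOf U) :=
    Group.isSolvable_of_isSolvable_injective (f := (subgroupOfEquivOfLe hXU).toMonoidHom)
      (subgroupOfEquivOfLe hXU).injective
  have hn' : L ≤ normalizer ((X.subgroupOf U : Subgroup U) : Set U) := fun l hl => by
    rw [← subgroupOf_normalizer_eq hXU]
    exact hn ⟨l, component_le_layer hL hl, rfl⟩
  have := commutator_eq_bot_iff_forall.mp (component_commute_solvable hL hs' hn') x hx
  exact mem_centralizer_iff.mpr fun y hy => (congrArg Subtype.val (this ⟨y, hXU hy⟩ hy)).symm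

/-- A subgroup of `O_q(H) ∩ K` centralises the nontrivial normal `p`-subgroup's overgroup. -/
theorem Pair.core_inf_le_of_pType (h : Pair H K) {p q : ℕ} (hp : p.Prime) (hq : q.Prime) (hne : q ≠ p)
    {W : Subgroup G} (hW : W ≠ ⊥) (hWH : W ≤ core p H) (hn : H ≤ normalizer (W : Set G))
    (hWK : W ≤ core p K) : core q H ⊓ K ≤ core q K := by
  haveI := Fact.mk hp
  haveI := Fact.mk hq
  set C := K ⊓ centralizer (core p K : Set G) with hC
  have hCH : C ≤ H := inf_le_right.trans ((Subgroup.centralizer_le hWK).trans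
    (h.centralizer_le hW (hWH.trans (core_le p H)) hn))
  have hXC : core q H ⊓ K ≤ C := by
    refine le_inf inf_le_right ?_
    intro x hx
    rw [mem_centralizer_iff]
    intro r hr
    refine ((pq_lemma (p := p) (P := W) ((core_isPGroup hp K).to_le hWK) ?_ ?_
      (core_isPGroup hp K) ((hWK.trans (core_le p K)).trans (le_normalizer_core p K))
      (le_normalizer_core p K hx.2) ?_) r hr).eq.symm
    · obtain ⟨k, hk⟩ := (core_isPGroup hq H) ⟨x, hx.1⟩
      have h1 : orderOf x ∣ q ^ k := orderOf_dvd_of_pow_eq_one (congrArg Subtype.val hk)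
      exact (Nat.Coprime.pow_left k ((Nat.coprime_primes hq hp).mpr hne)).coprime_dvd_left h1
    · intro y hy
      exact (mem_centralizer_iff.mp (comm_of_inter hne (core_isPGroup hq H) (core_isPGroup hp H)
        ((core_le q H).trans (le_normalizer_core p H)) ((core_le p H).trans (le_normalizer_core q H))
        hx.1) y (hWH hy)).symm
    · intro r hr hrW
      have hrH : r ∈ H := h.centralizer_le hW (hWH.trans (core_le p H)) hn
        (mem_centralizer_iff.mpr fun y hy => (hrW y hy).eq.symm)
      have hsub : core q H ⊓ K ≤ normalizer ((core p K ⊓ H : Subgroup G) : Set G) :=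
        (show core q H ⊓ K ≤ K ⊓ H from le_inf inf_le_right (inf_le_left.trans (core_le q H))).trans
          core_inf_le_normalizer
      have hsub2 : core p K ⊓ H ≤ normalizer ((core q H ⊓ K : Subgroup G) : Set G) :=
        (show core p K ⊓ H ≤ H ⊓ K from le_inf inf_le_right (inf_le_left.trans (core_le p K))).trans
          core_inf_le_normalizer
      exact (mem_centralizer_iff.mp (comm_of_inter hne ((core_isPGroup hq H).to_le inf_le_left)
        ((core_isPGroup hp K).to_le inf_le_left) hsub hsub2 hx) r ⟨hr, hrH⟩).symm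
  refine pgroup_subnormal_le_core hq ((core_isPGroup hq H).to_le inf_le_left) inf_le_right
    (subnormal_in hXC inf_le_left (subgroupOf_isSubnormal_of_normalized
      (centralizer_inf_normalized (le_normalizer_core p K))) ?_)
  exact (show C ≤ H ⊓ K from le_inf hCH inf_le_left).trans core_inf_le_normalizer

/-- With a normal `p`-subgroup of `H` in `O_p(K)`, the other cores vanish. -/
theorem Pair.core_eq_bot_of_pType (h : Pair H K) {p : ℕ} (hp : p.Prime)
    {W : Subgroup G} (hW : W ≠ ⊥) (hWH : W ≤ core p H) (hn : H ≤ normalizer (W : Set G))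
    (hWK : W ≤ core p K) {q : ℕ} (hq : q.Prime) (hne : q ≠ p) : core q H = ⊥ := by
  haveI := Fact.mk hp
  haveI := Fact.mk hq
  refine h.core_eq_bot hq ?_ (h.core_inf_le_of_pType hp hq hne hW hWH hn hWK)
  refine (comm_of_inter hne (core_isPGroup hq K) (core_isPGroup hp K)
    ((core_le q K).trans (le_normalizer_core p K)) ((core_le p K).trans (le_normalizer_core q K))).trans ?_
  exact (Subgroup.centralizer_le hWK).trans (h.centralizer_le hW (hWH.trans (core_le p H)) hn)

theorem component_le_lay {U L : Subgroup G} (hLU : L ≤ U) (hs : (L.subgroupOf U).IsSubnormal)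
    (hq : Cfsg.IsQuasisimple L) : L ≤ lay U := fun x hx =>
  ⟨⟨x, hLU hx⟩, component_le_layer (L := L.subgroupOf U)
    ⟨hs, qs_of_equiv hq (subgroupOfEquivOfLe hLU).symm⟩ hx, rfl⟩

/-- Components of `H` that are normalised inside a subnormal subgroup of `K`. -/
theorem lay_le_lay {C : Subgroup G} (hC : lay H ≤ C) (hCK : C ≤ K)
    (hs : (C.subgroupOf K).IsSubnormal) (hn : C ≤ normalizer (lay H : Set G)) : lay H ≤ lay K := by
  have hsL := subnormal_in hC hCK hs hn
  rw [lay, map_le_iff_le_comap, layer_le_iff]
  intro L hL x hx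
  have hLlay : L.map H.subtype ≤ lay H := map_mono (component_le_layer hL)
  have hqs : Cfsg.IsQuasisimple (L.map H.subtype) :=
    (isQuasisimple_map_injective _ H.subtype_injective).mpr hL.2
  refine component_le_lay (hLlay.trans (hC.trans hCK))
    (subnormal_in hLlay (hC.trans hCK) hsL ?_) hqs ⟨x, hx, rfl⟩
  rintro _ ⟨u, hu, rfl⟩
  rw [mem_normalizer_iff]
  intro y
  have hun := mem_normalizer_iff.mp (layer_le_normalizer hL hu)
  constructor
  · rintro ⟨z, hz, rfl⟩
    exact ⟨u * z * u⁻¹, (hun z).mp hz, rfl⟩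
  · rintro ⟨z, hz, he⟩
    refine ⟨u⁻¹ * z * u, (hun _).mpr (by simpa [mul_assoc] using hz), ?_⟩
    simp only [map_mul, map_inv, he]
    simp [mul_assoc]

/-- An element set containing the `p'`-elements of a perfect group is everything. -/
theorem le_of_perfect {p : ℕ} [Fact p.Prime] {E C : Subgroup G} (hE : ⁅E, E⁆ = E)
    (hn : E ≤ normalizer (C : Set G)) (hx : ∀ x ∈ E, (orderOf x).Coprime p → x ∈ C) : E ≤ C := by
  haveI : (C.subgroupOf E).Normal := normal_subgroupOf_of_le_normalizer hn
  have hp : IsPGroup p (E ⧸ C.subgroupOf E) := by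
    intro g
    obtain ⟨g, rfl⟩ := QuotientGroup.mk_surjective g
    obtain ⟨a, b, hab, ⟨k, hk⟩, hb, -, -⟩ := LocalEvenA.exists_pPart (p := p) (isOfFinOrder_of_finite g)
    refine ⟨k, ?_⟩
    subst hab
    have hbC : b ∈ C.subgroupOf E := hx b b.2 (by rwa [← Subgroup.orderOf_coe] at hb)
    rw [QuotientGroup.mk_mul, (QuotientGroup.eq_one_iff b).2 hbC, mul_one, ← QuotientGroup.mk_pow, hk,
      QuotientGroup.mk_one]
  haveI := hp.isNilpotent
  haveI hperfE : Group.IsPerfect E := Subgroup.isPerfect_iff.mpr hE
  haveI : Group.IsPerfect (E ⧸ C.subgroupOf E) :=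
    Group.IsPerfect.ofSurjective (QuotientGroup.mk'_surjective (C.subgroupOf E))
  rw [← subgroupOf_eq_top, ← QuotientGroup.subsingleton_iff]
  by_contra hns
  rw [not_subsingleton_iff_nontrivial] at hns
  exact Group.IsPerfect.not_isSolvable (E ⧸ C.subgroupOf E) inferInstance

theorem Pair.lay_eq_bot_of_pType (h : Pair H K) {p : ℕ} (hp : p.Prime)
    {W : Subgroup G} (hW : W ≠ ⊥) (hWH : W ≤ core p H) (hn : H ≤ normalizer (W : Set G))
    (hWK : W ≤ core p K) (hEK : lay H ≤ K) : lay H = ⊥ := by
  haveI := Fact.mk hp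
  set C := K ⊓ centralizer (core p K : Set G) with hC
  have hCH : C ≤ H := inf_le_right.trans ((Subgroup.centralizer_le hWK).trans
    (h.centralizer_le hW (hWH.trans (core_le p H)) hn))
  have hD : lay H ≤ K ⊓ H := le_inf hEK (lay_le H)
  have hCn : K ≤ normalizer (C : Set G) := centralizer_inf_normalized (le_normalizer_core p K)
  have h1 : lay H ≤ centralizer ((core p K ⊓ H : Subgroup G) : Set G) := by
    refine lay_centralizes_solvable inf_le_right ?_ (hD.trans core_inf_le_normalizer)
    haveI := ((core_isPGroup hp K).to_le (inf_le_left : core p K ⊓ H ≤ _)).isNilpotent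
    infer_instance
  have hcomm : ∀ x ∈ lay H, (orderOf x).Coprime p → x ∈ C := by
    intro x hx hxo
    refine ⟨hEK hx, mem_centralizer_iff.mpr fun r hr => ?_⟩
    refine ((pq_lemma (p := p) (P := W) ((core_isPGroup hp K).to_le hWK) hxo ?_
      (core_isPGroup hp K) ((hWK.trans (core_le p K)).trans (le_normalizer_core p K))
      (le_normalizer_core p K (hEK hx)) ?_) r hr).eq.symm
    · intro y hy
      exact (mem_centralizer_iff.mp (h1 hx) y ⟨hWK hy, core_le p H (hWH hy)⟩).symm
    · intro r hr hrW
      have hrH : r ∈ H := h.centralizer_le hW (hWH.trans (core_le p H)) hn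
        (mem_centralizer_iff.mpr fun y hy => (hrW y hy).eq.symm)
      exact (mem_centralizer_iff.mp (h1 hx) r ⟨hr, hrH⟩).symm
  have hperf : ⁅lay H, lay H⁆ = lay H := by
    rw [lay, ← map_commutator, layer_commutator_eq_self]
  have hle : lay H ≤ C := le_of_perfect hperf (hEK.trans hCn) hcomm
  exact h.lay_eq_bot_of_le (lay_le_lay hle inf_le_left (subgroupOf_isSubnormal_of_normalized hCn)
    (hCH.trans (le_normalizer_lay H)))

/-- With a nontrivial normal subgroup of `H` inside `E(K)`, the Fitting subgroup of `H` vanishes. -/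
theorem Pair.core_eq_bot_of_layType (h : Pair H K) {W : Subgroup G} (hW : W ≠ ⊥) (hWH : W ≤ H)
    (hn : H ≤ normalizer (W : Set G)) (hWK : W ≤ lay K) (hEK : lay K ≤ H)
    {q : ℕ} (hq : q.Prime) : core q H = ⊥ := by
  haveI := Fact.mk hq
  haveI hsol : ∀ {X : Subgroup G}, IsPGroup q X → Group.IsSolvable X := fun hX => by
    haveI := hX.isNilpotent
    infer_instance
  have hcK := (Subgroup.centralizer_le hWK).trans (h.centralizer_le hW hWH hn)
  refine h.core_eq_bot hq ?_ ?_
  · refine le_trans ?_ hcK
    rw [Subgroup.le_centralizer_iff]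
    exact lay_centralizes_solvable (core_le q K) (hsol (core_isPGroup hq K))
      ((lay_le K).trans (le_normalizer_core q K))
  · set C := K ⊓ centralizer (lay K : Set G) with hC
    have hX : core q H ⊓ K ≤ C := by
      refine le_inf inf_le_right ?_
      rw [Subgroup.le_centralizer_iff]
      exact lay_centralizes_solvable inf_le_right (hsol ((core_isPGroup hq H).to_le inf_le_left))
        ((show lay K ≤ H ⊓ K from le_inf hEK (lay_le K)).trans core_inf_le_normalizer)
    refine pgroup_subnormal_le_core hq ((core_isPGroup hq H).to_le inf_le_left) inf_le_right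
      (subnormal_in hX inf_le_left (subgroupOf_isSubnormal_of_normalized
        (centralizer_inf_normalized (le_normalizer_lay K))) ?_)
    exact (show C ≤ H ⊓ K from le_inf (inf_le_right.trans hcK) inf_le_left).trans core_inf_le_normalizer

theorem fitting_eq_bot_of_cores {U : Subgroup G} (h : ∀ q, q.Prime → core q U = ⊥) :
    Cfsg.fittingSubgroup U = ⊥ := by
  rw [fitting_eq_iSup_pCore, eq_bot_iff, iSup_le_iff]
  intro p
  have := h p (Nat.prime_of_mem_primeFactors p.2)
  rw [core, map_eq_bot_iff_of_injective _ U.subtype_injective] at this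
  exact this.le

theorem Pair.lay_eq_bot_of_mutual (h : Pair H K) (hEH : lay H ≤ K) (hEK : lay K ≤ H)
    (hF : Cfsg.fittingSubgroup K = ⊥) : lay H = ⊥ := by
  refine h.lay_eq_bot_of_le ?_
  set D := H ⊓ K with hD
  rw [lay, map_le_iff_le_comap, layer_le_iff]
  intro L hL x hx
  have hLlay : L.map H.subtype ≤ lay H := map_mono (component_le_layer hL)
  have hLD : L.map H.subtype ≤ D := le_inf (hLlay.trans (lay_le H)) (hLlay.trans hEH)
  have hLc : Cfsg.IsComponent ((L.map H.subtype).subgroupOf D) := by
    refine ⟨?_, qs_of_equiv ((isQuasisimple_map_injective _ H.subtype_injective).mpr hL.2)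
      (subgroupOfEquivOfLe hLD).symm⟩
    have := hL.1.comap (Subgroup.inclusion (show D ≤ H from inf_le_left))
    convert this using 1
    ext y
    constructor
    · rintro ⟨z, hz, he⟩
      have h' : Subgroup.inclusion (inf_le_left : H ⊓ K ≤ H) y = z := Subtype.ext he.symm
      rw [← h'] at hz
      exact hz
    · intro hy
      exact ⟨_, hy, rfl⟩
  by_contra hxK
  have hcomm : L.map H.subtype ≤ centralizer (lay K : Set G) := by
    rw [Subgroup.le_centralizer_iff, lay, map_le_iff_le_comap, layer_le_iff]
    intro M hM y hy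
    have hMlay : M.map K.subtype ≤ lay K := map_mono (component_le_layer hM)
    have hMD : M.map K.subtype ≤ D := le_inf (hMlay.trans hEK) (hMlay.trans (lay_le K))
    have hMc : Cfsg.IsComponent ((M.map K.subtype).subgroupOf D) := by
      refine ⟨?_, qs_of_equiv ((isQuasisimple_map_injective _ K.subtype_injective).mpr hM.2)
        (subgroupOfEquivOfLe hMD).symm⟩
      have := hM.1.comap (Subgroup.inclusion (show D ≤ K from inf_le_right))
      convert this using 1
      ext z
      constructor
      · rintro ⟨w, hw, he⟩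
        have h' : Subgroup.inclusion (inf_le_right : H ⊓ K ≤ K) z = w := Subtype.ext he.symm
        rw [← h'] at hw
        exact hw
      · intro hz
        exact ⟨_, hz, rfl⟩
    rcases component_eq_or_commute hLc hMc with he | he
    · exact absurd (hMlay (by
        have h1 : L.map H.subtype = M.map K.subtype := by
          rw [← map_subgroupOf_eq_of_le hLD, ← map_subgroupOf_eq_of_le hMD, he]
        rw [← h1]; exact ⟨x, hx, rfl⟩)) hxK
    · rw [commutator_subgroupOf_eq_bot_iff hLD hMD, commutator_eq_bot_iff_forall] at he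
      exact mem_centralizer_iff.mpr fun l hl => he l hl y ⟨y, hy, rfl⟩
  -- `L` centralises `F*(K)`
  have hLK : L.map H.subtype ≤ K := hLlay.trans hEH
  have hle : (L.map H.subtype).subgroupOf K ≤ Cfsg.layer K := by
    refine le_trans ?_ (centralizer_fStar_le.trans (sup_le le_rfl (by rw [hF]; exact bot_le)))
    intro y hy
    rw [mem_centralizer_iff]
    intro z hz
    have hz' : z ∈ Cfsg.layer K :=
      (sup_le le_rfl (by rw [hF]; exact bot_le) : Cfsg.generalizedFittingSubgroup K ≤ _) hz
    exact Subtype.ext (mem_centralizer_iff.mp (hcomm hy) (z : G) ⟨z, hz', rfl⟩)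
  exact hxK (show (x : G) ∈ lay K from ⟨⟨(x : G), hLK ⟨x, hx, rfl⟩⟩, hle ⟨x, hx, rfl⟩, rfl⟩)

/-- The dichotomy for a nontrivial normal subgroup of `H` that is subnormal in `K`. -/
theorem Pair.char_p (h : Pair H K) {P : Subgroup G} (hP : P ≠ ⊥) (hPH : P ≤ H)
    (hn : H ≤ normalizer (P : Set G)) (hPK : P ≤ K) (hs : (P.subgroupOf K).IsSubnormal)
    (hEH : lay H ≤ K) :
    ∃ p : ℕ, p.Prime ∧ Cfsg.generalizedFittingSubgroup H = Cfsg.pCore p H := by
  have hEK := h.lay_le_left hP hPH hn hPK hs
  haveI hPnH : (P.subgroupOf H).Normal := normal_subgroupOf_of_le_normalizer hn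
  have sub_n : ∀ (W : Subgroup P), W.Characteristic → H ≤ normalizer ((W.map P.subtype : Subgroup G) : Set G) := by
    intro W hW
    haveI := hW
    exact hn.trans (normalizer_le_map_char W)
  have sub_K : ∀ (W : Subgroup P), W.Characteristic → ((W.map P.subtype).subgroupOf K).IsSubnormal := by
    intro W hW
    haveI := hW
    exact subnormal_in (map_subtype_le W) hPK hs (map_normal_normalized W)
  by_cases hex : ∃ p : ℕ, p.Prime ∧ Cfsg.pCore p P ≠ ⊥
  · obtain ⟨p, hp, hne⟩ := hex
    haveI := Fact.mk hp
    set W := core p P with hWdef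
    have hWp : IsPGroup p W := core_isPGroup hp P
    have hW0 : W ≠ ⊥ := by
      rw [hWdef, core, Ne, map_eq_bot_iff_of_injective _ P.subtype_injective]; exact hne
    have hWn : H ≤ normalizer (W : Set G) := sub_n _ inferInstance
    have hWH : W ≤ core p H := pgroup_subnormal_le_core hp hWp ((core_le p P).trans hPH)
      (subgroupOf_isSubnormal_of_normalized hWn)
    have hWK : W ≤ core p K := pgroup_subnormal_le_core hp hWp ((core_le p P).trans hPK)
      (sub_K _ inferInstance)
    have hlay := h.lay_eq_bot_of_pType hp hW0 hWH hWn hWK hEH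
    refine ⟨p, hp, le_antisymm (sup_le ?_ ?_) (pCore_le_fitting.trans fitting_le_fStar)⟩
    · rw [lay, map_eq_bot_iff_of_injective _ H.subtype_injective] at hlay
      rw [hlay]; exact bot_le
    · rw [fitting_eq_iSup_pCore, iSup_le_iff]
      intro q
      by_cases hqp : (q : ℕ) = p
      · rw [hqp]
      · have := h.core_eq_bot_of_pType hp hW0 hWH hWn hWK (Nat.prime_of_mem_primeFactors q.2) hqp
        rw [core, map_eq_bot_iff_of_injective _ H.subtype_injective] at this
        rw [this]; exact bot_le
  · exfalso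
    push Not at hex
    have hlayP : lay P ≠ ⊥ := by
      intro h0
      rw [lay, map_eq_bot_iff_of_injective _ P.subtype_injective] at h0
      have hF : Cfsg.fittingSubgroup P = ⊥ := by
        rw [fitting_eq_iSup_pCore, eq_bot_iff, iSup_le_iff]
        exact fun q => (hex q (Nat.prime_of_mem_primeFactors q.2)).le
      have hc := centralizer_fStar_le (G := P)
      rw [Cfsg.generalizedFittingSubgroup, h0, hF, bot_sup_eq] at hc
      have : (⊤ : Subgroup P) ≤ ⊥ := fun x _ => hc (mem_centralizer_iff.mpr fun y hy => by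
        rw [mem_bot.mp hy]; simp)
      exact hP (by
        rw [eq_bot_iff]
        intro x hx
        exact mem_bot.mpr (congrArg Subtype.val (mem_bot.mp (this (mem_top (⟨x, hx⟩ : P))))))
    have hWn : H ≤ normalizer (lay P : Set G) := sub_n _ inferInstance
    have into : ∀ U : Subgroup G, P ≤ U → (P.subgroupOf U).IsSubnormal → lay P ≤ lay U := by
      intro U hPU hsU
      rw [lay, map_le_iff_le_comap, layer_le_iff]
      intro L hL x hx
      refine component_le_lay ((map_subtype_le L).trans hPU) ?_
        ((isQuasisimple_map_injective _ P.subtype_injective).mpr hL.2) ⟨x, hx, rfl⟩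
      have he : (L.map P.subtype).subgroupOf U =
          (L.map (subgroupOfEquivOfLe hPU).symm.toMonoidHom).map (P.subgroupOf U).subtype := by
        rw [map_map]
        ext y
        simp only [mem_subgroupOf, mem_map]
        constructor
        · rintro ⟨l, hl, he⟩
          exact ⟨l, hl, Subtype.ext he⟩
        · rintro ⟨l, hl, rfl⟩
          exact ⟨l, hl, rfl⟩
      rw [he]
      exact (isSubnormal_map_subtype_iff hsU _).mpr (isSubnormal_map_equiv _ hL.1)
    have hWK := into K hPK hs
    have hcores := fun q hq => h.core_eq_bot_of_layType hlayP ((lay_le P).trans hPH) hWn hWK hEK (q := q) hq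
    have hFK : Cfsg.fittingSubgroup K = ⊥ := fitting_eq_bot_of_cores fun q hq => by
      have h1 := h.card_core q
      rw [hcores q hq, card_bot] at h1
      exact card_eq_one.mp h1.symm
    have := h.lay_eq_bot_of_mutual hEH hEK hFK
    exact hlayP (le_bot_iff.mp (this ▸ into H hPH (subgroupOf_isSubnormal_of_normalized hn)))

end Cfsg.Agent.Recog.PointPair
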