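import Mathlib
import Cfsg.Agent.Lib.Recog.PointPair

/-! Stabilisers along the arcs of a suborbit of a primitive group. -/

set_option autoImplicit false

namespace Cfsg.Agent.Recog.ArcStabilizer

open Subgroup Cfsg.Agent.Components Cfsg.Agent.Recog.PointPair MulAction

variable {G Ω : Type*} [Group G] [Finite G] [MulAction G Ω] [FaithfulSMul G Ω] [Finite Ω]

/-- The arcs of the orbital graph of `(a, b)`. -/
def Arc (G : Type*) {Ω : Type*} [Group G] [MulAction G Ω] (a b x y : Ω) : Prop :=
  ∃ g : G, g • a = x ∧ g • b = y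

/-- The elements of `G_a` fixing the second neighbourhood along a relation. -/
def deep (R : Ω → Ω → Prop) (a : Ω) : Subgroup G where
  carrier := {h | h • a = a ∧ ∀ y, R a y → h • y = y ∧ ∀ w, R w y → h • w = w}
  one_mem' := ⟨one_smul _ a, fun y _ => ⟨one_smul _ y, fun w _ => one_smul _ w⟩⟩
  mul_mem' := fun {g h} hg hh => ⟨by rw [mul_smul, hh.1, hg.1], fun y hy =>
    ⟨by rw [mul_smul, (hh.2 y hy).1, (hg.2 y hy).1],
      fun w hw => by rw [mul_smul, (hh.2 y hy).2 w hw, (hg.2 y hy).2 w hw]⟩⟩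
  inv_mem' := fun {g} hg => ⟨by rw [inv_smul_eq_iff, hg.1], fun y hy =>
    ⟨by rw [inv_smul_eq_iff, (hg.2 y hy).1], fun w hw => by rw [inv_smul_eq_iff, (hg.2 y hy).2 w hw]⟩⟩

/-- The stabiliser of `y` fixing everything in relation to it. -/
def inKer (R : Ω → Ω → Prop) (y : Ω) : Subgroup G where
  carrier := {h | h • y = y ∧ ∀ w, R w y → h • w = w}
  one_mem' := ⟨one_smul _ y, fun w _ => one_smul _ w⟩
  mul_mem' := fun {g h} hg hh => ⟨by rw [mul_smul, hh.1, hg.1],
    fun w hw => by rw [mul_smul, hh.2 w hw, hg.2 w hw]⟩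
  inv_mem' := fun {g} hg => ⟨by rw [inv_smul_eq_iff, hg.1], fun w hw => by rw [inv_smul_eq_iff, hg.2 w hw]⟩

variable {R : Ω → Ω → Prop}

omit [Finite G] [FaithfulSMul G Ω] [Finite Ω] in
theorem deep_le (a : Ω) : deep (G := G) R a ≤ stabilizer G a := fun _ h => h.1

omit [Finite G] [FaithfulSMul G Ω] [Finite Ω] in
theorem deep_normalized (hR : ∀ (g : G) x y, R x y → R (g • x) (g • y)) (a : Ω) :
    stabilizer G a ≤ normalizer (deep (G := G) R a : Set G) := by
  have key : ∀ g : G, g • a = a → ∀ h ∈ deep (G := G) R a, g * h * g⁻¹ ∈ deep (G := G) R a := by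
    intro g hg h hh
    have hga : g⁻¹ • a = a := by rw [inv_smul_eq_iff, hg]
    refine ⟨by rw [mul_smul, mul_smul, hga, hh.1, hg], fun y hy => ?_⟩
    have hy' : R a (g⁻¹ • y) := by
      have := hR g⁻¹ a y hy
      rwa [hga] at this
    refine ⟨by rw [mul_smul, mul_smul, (hh.2 _ hy').1, smul_inv_smul], fun w hw => ?_⟩
    rw [mul_smul, mul_smul, (hh.2 _ hy').2 _ (hR g⁻¹ w y hw), smul_inv_smul]
  intro g hg
  rw [mem_normalizer_iff]
  intro h
  refine ⟨key g hg h, fun hh => ?_⟩
  have := key g⁻¹ (by rw [inv_smul_eq_iff]; exact (mem_stabilizer_iff.mp hg).symm) _ hh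
  simpa [mul_assoc] using this

omit [Finite G] [FaithfulSMul G Ω] [Finite Ω] in
theorem deep_subnormal (hR : ∀ (g : G) x y, R x y → R (g • x) (g • y)) (a y : Ω) (hy : R a y) :
    deep (G := G) R a ≤ stabilizer G y ∧
      ((deep (G := G) R a).subgroupOf (stabilizer G y)).IsSubnormal := by
  have h1 : deep (G := G) R a ≤ inKer (G := G) R y := fun h hh => ⟨(hh.2 y hy).1, (hh.2 y hy).2⟩
  have h2 : inKer (G := G) R y ≤ stabilizer G y := fun h hh => hh.1
  have key : ∀ g : G, g • y = y → ∀ h ∈ inKer (G := G) R y, g * h * g⁻¹ ∈ inKer (G := G) R y := by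
    intro g hg h hh
    have hgy : g⁻¹ • y = y := by rw [inv_smul_eq_iff, hg]
    refine ⟨by rw [mul_smul, mul_smul, hgy, hh.1, hg], fun w hw => ?_⟩
    have : R (g⁻¹ • w) y := by
      have := hR g⁻¹ w y hw
      rwa [hgy] at this
    rw [mul_smul, mul_smul, hh.2 _ this, smul_inv_smul]
  have h3 : stabilizer G y ≤ normalizer (inKer (G := G) R y : Set G) := by
    intro g hg
    rw [mem_normalizer_iff]
    intro h
    refine ⟨key g hg h, fun hh => ?_⟩
    have := key g⁻¹ (by rw [inv_smul_eq_iff]; exact (mem_stabilizer_iff.mp hg).symm) _ hh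
    simpa [mul_assoc] using this
  refine ⟨h1.trans h2, subnormal_in h1 h2 (subgroupOf_isSubnormal_of_normalized h3) ?_⟩
  exact fun g hg => deep_normalized hR a (hg.2 a hy)

omit [Finite G] [FaithfulSMul G Ω] in
/-- The index of the deep stabiliser. -/
theorem deep_index_dvd (hR : ∀ (g : G) x y, R x y → R (g • x) (g • y)) (a : Ω) (d : ℕ)
    (hout : Nat.card {y // R a y} = d) (hin : ∀ y, R a y → Nat.card {w // R w y} = d) :
    ((deep (G := G) R a).subgroupOf (stabilizer G a)).index ∣
      Nat.factorial d * (Nat.factorial (d - 1)) ^ d := by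
  classical
  set H := stabilizer G a
  have hHR : ∀ (h : H) y, R a y ↔ R a ((h : G) • y) := by
    intro h y
    constructor
    · intro hy
      have := hR (h : G) a y hy
      rwa [show (h : G) • a = a from h.2] at this
    · intro hy
      have := hR (h : G)⁻¹ a _ hy
      rwa [inv_smul_smul, show (h : G)⁻¹ • a = a by rw [inv_smul_eq_iff]; exact (mem_stabilizer_iff.mp h.2).symm] at this
  let φ : H →* Equiv.Perm {y // R a y} :=
    { toFun := fun h => (MulAction.toPerm (h : G)).subtypePerm fun y => (hHR h y).symm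
      map_one' := by ext y; simp
      map_mul' := fun g h => Equiv.ext fun y => Subtype.ext (mul_smul (g : G) (h : G) (y : Ω)) }
  let A := φ.ker
  have hA : ∀ h : A, ∀ y, R a y → ((h : H) : G) • y = y := fun h y hy => by
    have h' := DFunLike.congr_fun (MonoidHom.mem_ker.mp h.2) ⟨y, hy⟩
    exact congrArg Subtype.val h'
  have hAR : ∀ (h : A) (z : {y // R a y}) w, (R w z ∧ w ≠ a) ↔ (R (((h : H) : G) • w) z ∧ ((h : H) : G) • w ≠ a) := by
    intro h z w
    have hz := hA h z z.2
    have ha : ((h : H) : G) • a = a := (h : H).2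
    constructor
    · rintro ⟨hw, hne⟩
      have := hR ((h : H) : G) w z hw
      rw [hz] at this
      exact ⟨this, fun e => hne (MulAction.injective _ (e.trans ha.symm))⟩
    · rintro ⟨hw, hne⟩
      have := hR ((h : H) : G)⁻¹ _ _ hw
      rw [inv_smul_smul, inv_smul_eq_iff.mpr hz.symm] at this
      exact ⟨this, fun e => hne (by rw [e, ha])⟩
  let ψ : A →* ∀ z : {y // R a y}, Equiv.Perm {w // R w z ∧ w ≠ a} :=
    { toFun := fun h z => (MulAction.toPerm ((h : H) : G)).subtypePerm fun w => (hAR h z w).symm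
      map_one' := by funext z; ext w; simp
      map_mul' := fun g h => funext fun z => Equiv.ext fun w =>
        Subtype.ext (mul_smul ((g : H) : G) ((h : H) : G) (w : Ω)) }
  set P := (deep (G := G) R a).subgroupOf H with hP
  have hker : P = ψ.ker.map A.subtype := by
    ext h
    constructor
    · intro hh
      have hA' : h ∈ A := by
        refine MonoidHom.mem_ker.mpr (Equiv.ext fun y => Subtype.ext ?_)
        exact (hh.2 y y.2).1
      refine ⟨⟨h, hA'⟩, ?_, rfl⟩
      refine MonoidHom.mem_ker.mpr (funext fun z => Equiv.ext fun w => Subtype.ext ?_)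
      exact (hh.2 z z.2).2 w w.2.1
    · rintro ⟨⟨h, hA'⟩, hh, rfl⟩
      refine ⟨h.2, fun y hy => ⟨hA ⟨h, hA'⟩ y hy, fun w hw => ?_⟩⟩
      by_cases hwa : w = a
      · rw [hwa]; exact h.2
      · have := DFunLike.congr_fun (congrFun (MonoidHom.mem_ker.mp hh) ⟨y, hy⟩) ⟨w, hw, hwa⟩
        exact congrArg Subtype.val this
  have h1 : A.index ∣ d.factorial := by
    rw [show A.index = Nat.card φ.range from index_ker φ]
    refine (card_subgroup_dvd_card _).trans ?_
    rw [Nat.card_perm, hout]
  have h2 : ψ.ker.index ∣ (d - 1).factorial ^ d := by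
    rw [index_ker]
    refine (card_subgroup_dvd_card _).trans ?_
    haveI := Fintype.ofFinite {y // R a y}
    rw [Nat.card_pi]
    have hc : ∀ z : {y // R a y}, Nat.card (Equiv.Perm {w // R w z ∧ w ≠ a}) = (d - 1).factorial := by
      intro z
      rw [Nat.card_perm]
      congr 1
      haveI := Fintype.ofFinite Ω
      have h3 := hin z z.2
      rw [Nat.card_eq_fintype_card, Fintype.card_subtype] at h3 ⊢
      rw [← h3, ← Finset.filter_filter, Finset.filter_ne', Finset.card_erase_of_mem (by simpa using z.2)]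
    rw [Finset.prod_congr rfl (fun z _ => hc z), Finset.prod_const, Finset.card_univ,
      ← Nat.card_eq_fintype_card, hout]
  rw [hker, index_map_subtype]
  rw [mul_comm]
  exact Nat.mul_dvd_mul h1 h2

omit [Finite Ω] in
theorem pair_of_ne (hprim : IsPreprimitive G Ω) {x y : Ω} (hne : stabilizer G x ≠ stabilizer G y) :
    Pair (stabilizer G x) (stabilizer G y) := by
  haveI := hprim
  haveI : Nontrivial Ω := ⟨⟨x, y, fun e => hne (by rw [e])⟩⟩
  have hco : ∀ z : Ω, ∀ N : Subgroup G, N.Normal → N ≤ stabilizer G z → N = ⊥ := by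
    intro z N hN hle
    rw [eq_bot_iff]
    intro n hn
    refine mem_bot.mpr (eq_of_smul_eq_smul (α := Ω) fun w => ?_)
    obtain ⟨g, rfl⟩ := exists_smul_eq G z w
    have := hle (hN.conj_mem n hn g⁻¹)
    rw [inv_inv, mem_stabilizer_iff, mul_smul, mul_smul, inv_smul_eq_iff] at this
    rw [one_smul]
    exact this
  refine ⟨fun M hM => ?_, fun M hM => ?_, hne, hco x, hco y, ?_⟩
  · exact ((IsPreprimitive.isCoatom_stabilizer_of_isPreprimitive (G := G) (a := x)).le_iff.mp hM).symm
  · exact ((IsPreprimitive.isCoatom_stabilizer_of_isPreprimitive (G := G) (a := y)).le_iff.mp hM).symm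
  · obtain ⟨g, hg⟩ := exists_smul_eq G x y
    exact ⟨stabilizerEquivStabilizer hg.symm⟩

omit [FaithfulSMul G Ω] [Finite Ω] in
theorem lay_conj (g : G) (x : Ω) :
    lay (stabilizer G (g • x)) = (lay (stabilizer G x)).map (MulAut.conj g).toMonoidHom := by
  rw [stabilizer_smul_eq_stabilizer_map_conj]
  set U := stabilizer G x
  set f := (MulAut.conj g).toMonoidHom
  let e := U.equivMapOfInjective f (MulAut.conj g).injective
  rw [lay, lay, ← map_layer_equiv e, map_map, map_map]
  rfl

omit [FaithfulSMul G Ω] [Finite Ω] in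
theorem card_suborbits (hpre : IsPretransitive G Ω) (a b : Ω) (d : ℕ)
    (hd : Nat.card (orbit (stabilizer G a) b) = d) :
    (∀ x, Nat.card {y // Arc G a b x y} = d) ∧ ∀ y, Nat.card {w // Arc G a b w y} = d := by
  haveI := hpre
  have sm : ∀ (g : G) x y, Arc G a b x y → Arc G a b (g • x) (g • y) := by
    rintro g x y ⟨k, rfl, rfl⟩
    exact ⟨g * k, mul_smul _ _ _, mul_smul _ _ _⟩
  have eqv : ∀ (g : G) x y, Arc G a b (g • x) (g • y) ↔ Arc G a b x y := fun g x y =>
    ⟨fun h => by simpa using sm g⁻¹ _ _ h, sm g x y⟩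
  have hb : {y | Arc G a b a y} = orbit (stabilizer G a) b := by
    ext y
    constructor
    · rintro ⟨g, hga, rfl⟩; exact ⟨⟨g, hga⟩, rfl⟩
    · rintro ⟨⟨g, hga⟩, rfl⟩; exact ⟨g, hga, rfl⟩
  have ha : {w | Arc G a b w b} = orbit (stabilizer G b) a := by
    ext y
    constructor
    · rintro ⟨g, rfl, hgb⟩; exact ⟨⟨g, hgb⟩, rfl⟩
    · rintro ⟨⟨g, hgb⟩, rfl⟩; exact ⟨g, rfl, hgb⟩
  have h1 : Nat.card {y // Arc G a b a y} = d := by rw [← hd, ← hb]; rfl
  have h2 : Nat.card {w // Arc G a b w b} = d := by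
    show Nat.card ({w | Arc G a b w b} : Set Ω) = d
    rw [ha, ← hd, Nat.card_congr (orbitEquivQuotientStabilizer (stabilizer G b) a),
      Nat.card_congr (orbitEquivQuotientStabilizer (stabilizer G a) b)]
    show (stabilizer (stabilizer G b) a).index = (stabilizer (stabilizer G a) b).index
    have i1 := (stabilizer (stabilizer G b) a).card_mul_index
    have i2 := (stabilizer (stabilizer G a) b).card_mul_index
    obtain ⟨g, hg⟩ := exists_smul_eq G a b
    have c1 : Nat.card (stabilizer G a) = Nat.card (stabilizer G b) :=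
      Nat.card_congr (stabilizerEquivStabilizer hg.symm).toEquiv
    have c2 : Nat.card (stabilizer (stabilizer G b) a) = Nat.card (stabilizer (stabilizer G a) b) :=
      Nat.card_congr
        { toFun := fun h => ⟨⟨h.1.1, h.2⟩, h.1.2⟩
          invFun := fun h => ⟨⟨h.1.1, h.2⟩, h.1.2⟩
          left_inv := fun h => rfl
          right_inv := fun h => rfl }
    rw [c2, ← c1] at i1
    exact Nat.eq_of_mul_eq_mul_left Nat.card_pos (i1.trans i2.symm)
  constructor
  · intro x
    obtain ⟨g, rfl⟩ := exists_smul_eq G a x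
    rw [← h1]
    exact Nat.card_congr (Equiv.subtypeEquiv (MulAction.toPerm g⁻¹) fun y => by
      rw [MulAction.toPerm_apply, ← eqv g⁻¹, inv_smul_smul])
  · intro y
    obtain ⟨g, rfl⟩ := exists_smul_eq G b y
    rw [← h2]
    exact Nat.card_congr (Equiv.subtypeEquiv (MulAction.toPerm g⁻¹) fun w => by
      rw [MulAction.toPerm_apply, ← eqv g⁻¹, inv_smul_smul])

/-- One of the two deep stabilisers is trivial away from characteristic `p`. -/
theorem deep_eq_bot_or (hprim : IsPreprimitive G Ω) (a b : Ω) (d : ℕ)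
    (hd : Nat.card (orbit (stabilizer G a) b) = d) (h2 : 2 ≤ d)
    (hnc : ∀ p : ℕ, p.Prime →
      Cfsg.generalizedFittingSubgroup (stabilizer G a) ≠ Cfsg.pCore p (stabilizer G a)) :
    deep (G := G) (Arc G a b) a = ⊥ ∨ deep (G := G) (fun x y => Arc G a b y x) a = ⊥ := by
  haveI := hprim
  have sm : ∀ (g : G) x y, Arc G a b x y → Arc G a b (g • x) (g • y) := by
    rintro g x y ⟨k, rfl, rfl⟩
    exact ⟨g * k, mul_smul _ _ _, mul_smul _ _ _⟩
  by_contra hcon
  push Not at hcon
  obtain ⟨hP, hP2⟩ := hcon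
  have hab : stabilizer G a ≠ stabilizer G b := by
    intro he
    have hsub : Subsingleton (orbit (stabilizer G a) b) := by
      refine ⟨fun x y => Subtype.ext ?_⟩
      obtain ⟨h, hh⟩ := x.2
      obtain ⟨k, hk⟩ := y.2
      have e1 : (h : G) ∈ stabilizer G b := he ▸ h.2
      have e2 : (k : G) ∈ stabilizer G b := he ▸ k.2
      rw [← hh, ← hk]
      exact (show (h : G) • b = b from e1).trans (show (k : G) • b = b from e2).symm
    have := Finite.card_le_one_iff_subsingleton.mpr hsub
    omega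
  obtain ⟨g, hg⟩ := exists_smul_eq G b a
  set w := g • a with hw
  have hwa : Arc G a b w a := ⟨g, rfl, hg⟩
  have hne : stabilizer G a ≠ stabilizer G w := by
    intro he
    apply hab
    apply Subgroup.map_injective (f := (MulAut.conj g).toMonoidHom) (MulAut.conj g).injective
    rw [← stabilizer_smul_eq_stabilizer_map_conj, ← stabilizer_smul_eq_stabilizer_map_conj, hg, ← hw]
    exact he.symm
  obtain ⟨hw1, hw2⟩ := deep_subnormal (R := fun x y => Arc G a b y x) (fun k x y h => sm k y x h) a w hwa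
  have hEw := (pair_of_ne hprim hne).lay_le_left hP2 (deep_le a)
    (deep_normalized (fun k x y h => sm k y x h) a) hw1 hw2
  have hEH : lay (stabilizer G a) ≤ stabilizer G b := by
    rw [hw, lay_conj] at hEw
    have e : stabilizer G a = (stabilizer G b).map (MulAut.conj g).toMonoidHom := by
      rw [← stabilizer_smul_eq_stabilizer_map_conj, hg]
    exact (map_le_map_iff_of_injective (MulAut.conj g).injective).mp (hEw.trans e.le)
  obtain ⟨hb1, hb2⟩ := deep_subnormal (R := Arc G a b) sm a b ⟨1, one_smul _ _, one_smul _ _⟩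
  obtain ⟨p, hp, he⟩ := (pair_of_ne hprim hab).char_p hP (deep_le a) (deep_normalized sm a) hb1 hb2 hEH
  exact hnc p hp he


/-- Wielandt's bound away from characteristic `p`. -/
theorem card_dvd (hprim : IsPreprimitive G Ω) (a b : Ω) (d : ℕ)
    (hd : Nat.card (orbit (stabilizer G a) b) = d) (h2 : 2 ≤ d)
    (hnc : ∀ p : ℕ, p.Prime →
      Cfsg.generalizedFittingSubgroup (stabilizer G a) ≠ Cfsg.pCore p (stabilizer G a)) :
    Nat.card (stabilizer G a) ∣ Nat.factorial d * (Nat.factorial (d - 1)) ^ d := by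
  haveI := hprim
  obtain ⟨cout, cin⟩ := card_suborbits inferInstance a b d hd
  have sm : ∀ (g : G) x y, Arc G a b x y → Arc G a b (g • x) (g • y) := by
    rintro g x y ⟨k, rfl, rfl⟩
    exact ⟨g * k, mul_smul _ _ _, mul_smul _ _ _⟩
  have bound : ∀ R : Ω → Ω → Prop, (∀ (g : G) x y, R x y → R (g • x) (g • y)) →
      Nat.card {y // R a y} = d → (∀ y, Nat.card {w // R w y} = d) → deep (G := G) R a = ⊥ →
      Nat.card (stabilizer G a) ∣ Nat.factorial d * (Nat.factorial (d - 1)) ^ d := by
    intro R hR ho hi h0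
    have := deep_index_dvd hR a d ho (fun y _ => hi y)
    rwa [h0, bot_subgroupOf, index_bot] at this
  rcases deep_eq_bot_or hprim a b d hd h2 hnc with hP | hP
  · exact bound _ sm (cout a) cin hP
  · exact bound _ (fun g x y h => sm g y x h) (cin a) cout hP

end Cfsg.Agent.Recog.ArcStabilizer
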