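import Mathlib
import Cfsg.Agent.Lib.Recog.ArcStabilizer
import Cfsg.Agent.Lib.Recog.AltLocal

/-! Point stabilisers with an unfaithful alternating or symmetric suborbit. -/

set_option autoImplicit false

namespace Cfsg.Agent.Recog.AltSuborbit

open Subgroup MulAction Equiv Cfsg.Agent.Recog.PointPair Cfsg.Agent.Recog.ArcStabilizer Cfsg.Agent.Recog.AltLocal

variable {G Ω : Type*} [Group G] [MulAction G Ω]

/-- Invariance of a relation. -/
def Inv (G : Type*) {Ω : Type*} [Group G] [MulAction G Ω] (R : Ω → Ω → Prop) : Prop :=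
  ∀ (g : G) x y, R x y → R (g • x) (g • y)

theorem Inv.flip {R : Ω → Ω → Prop} (h : Inv G R) : Inv G (fun x y => R y x) := fun g x y => h g y x

theorem Inv.iff {R : Ω → Ω → Prop} (h : Inv G R) (g : G) (x y : Ω) : R (g • x) (g • y) ↔ R x y :=
  ⟨fun hh => by simpa using h g⁻¹ _ _ hh, h g x y⟩

theorem Inv.iff_left {R : Ω → Ω → Prop} (h : Inv G R) {g : G} {y : Ω} (hg : g • y = y) (w : Ω) :
    R (g • w) y ↔ R w y := by
  have := h.iff g w y
  rwa [hg] at this

variable {R : Ω → Ω → Prop}

/-- The action of `G_y` on the points related to `y`. -/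
def loc (h : Inv G R) (y : Ω) : stabilizer G y →* Perm {w // R w y} where
  toFun g := (MulAction.toPerm (g : G)).subtypePerm fun w => h.iff_left g.2 w
  map_one' := by ext w; simp
  map_mul' g k := Equiv.ext fun w => Subtype.ext (mul_smul (g : G) (k : G) (w : Ω))

theorem normalizer_le_commutator (A : Subgroup G) :
    normalizer (A : Set G) ≤ normalizer ((⁅A, A⁆ : Subgroup G) : Set G) := fun g hg => by
  refine Components.mem_normalizer_of_map_conj_eq ?_
  rw [Subgroup.map_commutator, Components.map_conj_eq_of_mem_normalizer hg]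

/-- Even permutations are products of commutators. -/
theorem even_mem_commutator {β : Type*} [Fintype β] [DecidableEq β] (h : 5 ≤ Fintype.card β) {σ : Perm β}
    (hσ : Perm.sign σ = 1) : σ ∈ _root_.commutator (Perm β) := by
  rw [alternatingGroup.commutator_perm_eq (by rwa [Nat.card_eq_fintype_card])]
  exact Perm.mem_alternatingGroup.mpr hσ

theorem loc_ker (h : Inv G R) (y : Ω) (g : stabilizer G y) :
    loc h y g = 1 ↔ (g : G) ∈ inKer (G := G) R y := by
  constructor
  · intro hg
    refine ⟨g.2, fun w hw => ?_⟩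
    exact congrArg Subtype.val (DFunLike.congr_fun hg (⟨w, hw⟩ : {w // R w y}))
  · intro hg
    exact Equiv.ext fun w => Subtype.ext (hg.2 w w.2)

theorem punct_iff (h : Inv G R) {a y : Ω} (g : G) (hga : g • a = a) (hgy : g • y = y) (w : Ω) :
    (R (g • w) y ∧ g • w ≠ a) ↔ (R w y ∧ w ≠ a) := by
  rw [h.iff_left hgy]
  refine and_congr_right fun _ => not_congr ⟨fun e => MulAction.injective g (e.trans hga.symm), fun e => by rw [e, hga]⟩

/-- The action of `G_a ∩ G_y` on the points other than `a` related to `y`. -/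
def punct (h : Inv G R) (a y : Ω) :
    ↥(stabilizer G a ⊓ stabilizer G y) →* Perm {w // R w y ∧ w ≠ a} where
  toFun g := (MulAction.toPerm (g : G)).subtypePerm fun w => punct_iff h (g : G) g.2.1 g.2.2 w
  map_one' := by ext w; simp
  map_mul' g k := Equiv.ext fun w => Subtype.ext (mul_smul (g : G) (k : G) (w : Ω))

theorem punct_ker (h : Inv G R) (a y : Ω) (g : ↥(stabilizer G a ⊓ stabilizer G y)) :
    punct h a y g = 1 ↔ (g : G) ∈ inKer (G := G) R y := by
  constructor
  · intro hg
    refine ⟨g.2.2, fun w hw => ?_⟩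
    by_cases hwa : w = a
    · rw [hwa]; exact g.2.1
    · exact congrArg Subtype.val (DFunLike.congr_fun hg ⟨w, hw, hwa⟩)
  · intro hg
    exact Equiv.ext fun w => Subtype.ext (hg.2 w w.2.1)

theorem inKer_le (y : Ω) : inKer (G := G) R y ≤ stabilizer G y := fun _ hh => hh.1

theorem inKer_le_of (a y : Ω) (h : R a y) : inKer (G := G) R y ≤ stabilizer G a ⊓ stabilizer G y :=
  fun _ hh => ⟨hh.2 a h, hh.1⟩

theorem inKer_map (h : Inv G R) (g : G) (y : Ω) :
    (inKer (G := G) R y).map (MulAut.conj g).toMonoidHom = inKer (G := G) R (g • y) := by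
  ext k
  constructor
  · rintro ⟨m, hm, rfl⟩
    refine ⟨?_, fun w hw => ?_⟩
    · show (g * m * g⁻¹) • (g • y) = g • y
      rw [mul_smul, inv_smul_smul, mul_smul, hm.1]
    · have hw' : R (g⁻¹ • w) y := by
        have := h g⁻¹ _ _ hw
        rwa [inv_smul_smul] at this
      show (g * m * g⁻¹) • w = w
      rw [mul_smul, mul_smul, hm.2 _ hw', smul_inv_smul]
  · intro hk
    refine ⟨g⁻¹ * k * g, ⟨?_, fun w hw => ?_⟩, by simp [mul_assoc]⟩
    · rw [mul_smul, mul_smul, hk.1, inv_smul_smul]
    · rw [mul_smul, mul_smul, hk.2 _ (h g w y hw), inv_smul_smul]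

theorem inKer_normalized (h : Inv G R) (y : Ω) :
    stabilizer G y ≤ normalizer (inKer (G := G) R y : Set G) := fun g hg => by
  refine Components.mem_normalizer_of_map_conj_eq ?_
  rw [inKer_map h, show g • y = y from hg]

/-- The image of a subgroup of `G_a ∩ G_y`. -/
noncomputable def im (h : Inv G R) (a y : Ω) (X : Subgroup G) : Subgroup (Perm {w // R w y ∧ w ≠ a}) :=
  (X.subgroupOf (stabilizer G a ⊓ stabilizer G y)).map (punct h a y)

theorem im_eq_bot_iff (h : Inv G R) (a y : Ω) {X : Subgroup G} (hX : X ≤ stabilizer G a ⊓ stabilizer G y) :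
    im h a y X = ⊥ ↔ X ≤ inKer (G := G) R y := by
  rw [im, Subgroup.map_eq_bot_iff]
  constructor
  · intro hh x hx
    exact (punct_ker h a y ⟨x, hX hx⟩).mp (MonoidHom.mem_ker.mp (hh (show (⟨x, hX hx⟩ : ↥(stabilizer G a ⊓ stabilizer G y)) ∈ X.subgroupOf _ from hx)))
  · intro hh x hx
    exact MonoidHom.mem_ker.mpr ((punct_ker h a y x).mpr (hh hx))

theorem im_mono (h : Inv G R) (a y : Ω) {X Y : Subgroup G} (hle : X ≤ Y) : im h a y X ≤ im h a y Y :=
  Subgroup.map_mono fun _ hx => hle hx

theorem im_commutator (h : Inv G R) (a y : Ω) {X Y : Subgroup G} (hX : X ≤ stabilizer G a ⊓ stabilizer G y)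
    (hY : Y ≤ stabilizer G a ⊓ stabilizer G y) : im h a y ⁅X, Y⁆ = ⁅im h a y X, im h a y Y⁆ := by
  unfold im
  rw [← Subgroup.map_commutator]
  congr 1
  apply Subgroup.map_injective (stabilizer G a ⊓ stabilizer G y).subtype_injective
  rw [Subgroup.map_commutator, map_subgroupOf_eq_of_le hX, map_subgroupOf_eq_of_le hY,
    map_subgroupOf_eq_of_le]
  exact (commutator_mono hX hY).trans (commutator_le_self _)

theorem im_normalized (h : Inv G R) (a y : Ω) {X Y : Subgroup G} (hX : X ≤ stabilizer G a ⊓ stabilizer G y)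
    (hY : Y ≤ stabilizer G a ⊓ stabilizer G y) (hn : Y ≤ normalizer (X : Set G)) :
    im h a y Y ≤ normalizer (im h a y X : Set (Perm {w // R w y ∧ w ≠ a})) := by
  refine (Subgroup.map_mono ?_).trans (le_normalizer_map (punct h a y))
  rw [← subgroupOf_normalizer_eq hX]
  exact fun g hg => hn hg

theorem eq_of_im_le (h : Inv G R) (a y : Ω) {X Y : Subgroup G} (hXY : X ≤ Y)
    (hY : Y ≤ stabilizer G a ⊓ stabilizer G y) (hinj : Y ⊓ inKer (G := G) R y = ⊥)
    (him : im h a y Y ≤ im h a y X) : Y ≤ X := by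
  intro g hg
  obtain ⟨k, hk, he⟩ := him ⟨⟨g, hY hg⟩, hg, rfl⟩
  have hk' : (k : G) ∈ Y := hXY hk
  have h1 : punct h a y (k⁻¹ * ⟨g, hY hg⟩) = 1 := by rw [map_mul, map_inv, he, inv_mul_cancel]
  rw [punct_ker] at h1
  have h2 : (k : G)⁻¹ * g ∈ Y ⊓ inKer (G := G) R y := ⟨Y.mul_mem (Y.inv_mem hk') hg, h1⟩
  rw [hinj, mem_bot, inv_mul_eq_one] at h2
  exact h2 ▸ hk

/-- Hypotheses on a relation whose local groups contain alternating groups. -/
structure Data (G : Type*) {Ω : Type*} [Group G] [MulAction G Ω] (R : Ω → Ω → Prop) (d : ℕ) : Prop where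
  inv : Inv G R
  six : 6 ≤ d
  out : ∀ x, Nat.card {y // R x y} = d
  inn : ∀ y, Nat.card {w // R w y} = d
  deep : ∀ x, ArcStabilizer.deep (G := G) R x = ⊥
  altOut : ∀ x, _root_.commutator (Perm {y // R x y}) ≤ (loc inv.flip x).range
  altIn : ∀ y, _root_.commutator (Perm {w // R w y}) ≤ (loc inv y).range
  kerEq : ∀ x, inKer (G := G) R x = inKer (G := G) (fun u v => R v u) x

variable {d : ℕ}

theorem Data.alt_le_im [Finite Ω] (D : Data G R d) {a y : Ω} (hay : R a y)
    [Fintype {w // R w y ∧ w ≠ a}] [DecidableEq {w // R w y ∧ w ≠ a}] :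
    alternatingGroup {w // R w y ∧ w ≠ a} ≤ im D.inv a y (stabilizer G a ⊓ stabilizer G y) := by
  classical
  intro σ hσ
  haveI := Fintype.ofFinite {w // R w y}
  let e : {w // R w y ∧ w ≠ a} ≃ {w : {w // R w y} // (w : Ω) ≠ a} :=
    { toFun := fun w => ⟨⟨w.1, w.2.1⟩, w.2.2⟩
      invFun := fun w => ⟨w.1.1, w.1.2, w.2⟩
      left_inv := fun w => rfl
      right_inv := fun w => rfl }
  let τ : Perm {w // R w y} := Perm.ofSubtype (e.permCongr σ)
  have hτ : Perm.sign τ = 1 := by
    rw [Perm.sign_ofSubtype, Perm.sign_permCongr, Perm.mem_alternatingGroup.mp hσ]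
  have hc5 : 5 ≤ Fintype.card {w // R w y} := by
    rw [← Nat.card_eq_fintype_card, D.inn y]; have := D.six; omega
  obtain ⟨g, hg⟩ := D.altIn y (even_mem_commutator hc5 hτ)
  have hga : (g : G) • a = a := by
    have := congrArg Subtype.val (DFunLike.congr_fun hg ⟨a, hay⟩)
    rw [show τ ⟨a, hay⟩ = ⟨a, hay⟩ from Perm.ofSubtype_apply_of_not_mem _ (by simp)] at this
    exact this
  refine ⟨⟨g, hga, g.2⟩, ⟨hga, g.2⟩, Equiv.ext fun w => Subtype.ext ?_⟩
  have := congrArg Subtype.val (DFunLike.congr_fun hg ⟨w.1, w.2.1⟩)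
  refine this.trans ?_
  have hmem : τ ⟨w.1, w.2.1⟩ = ((e.permCongr σ) (e w) : {w // R w y}) :=
    Perm.ofSubtype_apply_of_mem (e.permCongr σ) (a := (⟨w.1, w.2.1⟩ : {w // R w y})) w.2.2
  rw [hmem]
  simp [Equiv.permCongr_apply, e]

/-- The kernel of the action on the points following `a`. -/
abbrev outKer (G : Type*) {Ω : Type*} [Group G] [MulAction G Ω] (R : Ω → Ω → Prop) (a : Ω) : Subgroup G :=
  inKer (G := G) (fun u v => R v u) a

theorem Data.outKer_le (D : Data G R d) {a y : Ω} (hay : R a y) :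
    outKer G R a ≤ stabilizer G a ⊓ stabilizer G y := fun g hg => ⟨hg.1, hg.2 y hay⟩

theorem Data.two_transitive [Finite Ω] (D : Data G R d) {a z z' y y' : Ω} (hz : R a z) (hz' : R a z')
    (hy : R a y) (hy' : R a y') (hne : z ≠ z') (hne' : y ≠ y') :
    ∃ h : G, h • a = a ∧ h • z = y ∧ h • z' = y' := by
  classical
  haveI := Fintype.ofFinite {w // R a w}
  have hc : Fintype.card {w // R a w} = d := by rw [← Nat.card_eq_fintype_card]; exact D.out a
  have h6 := D.six
  obtain ⟨σ, hσ, h1, h2⟩ := exists_even (by omega) (x := (⟨z, hz⟩ : {w // R a w})) (x' := ⟨z', hz'⟩)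
    (y := ⟨y, hy⟩) (y' := ⟨y', hy'⟩) (fun e => hne (congrArg Subtype.val e))
    (fun e => hne' (congrArg Subtype.val e))
  obtain ⟨g, hg⟩ := D.altOut a (even_mem_commutator (by omega) (Perm.mem_alternatingGroup.mp hσ))
  refine ⟨g, g.2, ?_, ?_⟩
  · have := congrArg Subtype.val (DFunLike.congr_fun hg ⟨z, hz⟩)
    exact this.trans (congrArg Subtype.val h1)
  · have := congrArg Subtype.val (DFunLike.congr_fun hg ⟨z', hz'⟩)
    exact this.trans (congrArg Subtype.val h2)

variable [Finite G] [FaithfulSMul G Ω] [Finite Ω]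

/-- Conjugate vertices have equally large kernels. -/
theorem Data.card_ker (D : Data G R d) (hpre : IsPretransitive G Ω) (x y : Ω) :
    Nat.card (inKer (G := G) R x) = Nat.card (inKer (G := G) R y) := by
  haveI := hpre
  obtain ⟨g, rfl⟩ := exists_smul_eq G x y
  rw [← inKer_map D.inv g x]
  exact Nat.card_congr (equivMapOfInjective _ _ (MulAut.conj g).injective).toEquiv

theorem Data.ker_bot_of_le (D : Data G R d) (hprim : IsPreprimitive G Ω) {x y : Ω}
    (hne : stabilizer G x ≠ stabilizer G y) (hle : inKer (G := G) R x ≤ inKer (G := G) R y) :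
    inKer (G := G) R x = ⊥ := by
  haveI := hprim
  have he := eq_of_le_of_card_ge hle (D.card_ker inferInstance y x).le
  exact (pair_of_ne hprim hne).eq_bot_of_both (inKer_le x) (inKer_normalized D.inv x)
    (he ▸ inKer_normalized D.inv y)

/-- Every image of the kernel at `a` contains the alternating group. -/
theorem Data.alt_le_im_ker (D : Data G R d) (hprim : IsPreprimitive G Ω) {a y : Ω} (hay : R a y)
    (hne : stabilizer G a ≠ stabilizer G y) (hker : inKer (G := G) R a ≠ ⊥)
    [Fintype {w // R w y ∧ w ≠ a}] [DecidableEq {w // R w y ∧ w ≠ a}] :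
    alternatingGroup {w // R w y ∧ w ≠ a} ≤ im D.inv a y (outKer G R a) ∧
      5 ≤ Fintype.card {w // R w y ∧ w ≠ a} := by
  classical
  haveI := Fintype.ofFinite Ω
  haveI := Fintype.ofFinite {w // R w y}
  have hcard : 5 ≤ Fintype.card {w // R w y ∧ w ≠ a} := by
    have h1 := D.inn y
    have h6 := D.six
    rw [Nat.card_eq_fintype_card, Fintype.card_subtype] at h1
    rw [Fintype.card_subtype, ← Finset.filter_filter, Finset.filter_ne',
      Finset.card_erase_of_mem (by simpa using hay)]
    omega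
  refine ⟨?_, hcard⟩
  rcases bot_or_alt_le hcard ((D.alt_le_im hay).trans (im_normalized D.inv a y (D.outKer_le hay) le_rfl
    (inf_le_left.trans (inKer_normalized D.inv.flip a)))) with hb | ha
  · exfalso
    rw [im_eq_bot_iff D.inv a y (D.outKer_le hay), show outKer G R a = inKer (G := G) R a from
      (D.kerEq a).symm] at hb
    exact hker (D.ker_bot_of_le hprim hne hb)
  · exact ha

/-- A nontrivial separated factor of the kernel at `a`. -/
def fact (G : Type*) {Ω : Type*} [Group G] [MulAction G Ω] (R : Ω → Ω → Prop) (a z : Ω) : Subgroup G where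
  carrier := {g | g ∈ ⁅outKer G R a, outKer G R a⁆ ∧ ∀ y, R a y → y ≠ z → g ∈ inKer (G := G) R y}
  one_mem' := ⟨one_mem _, fun _ _ _ => one_mem _⟩
  mul_mem' := fun hg hh => ⟨mul_mem hg.1 hh.1, fun y hy hne => mul_mem (hg.2 y hy hne) (hh.2 y hy hne)⟩
  inv_mem' := fun hg => ⟨inv_mem hg.1, fun y hy hne => inv_mem (hg.2 y hy hne)⟩

theorem fact_map (h : Inv G R) {g : G} {a : Ω} (z : Ω) (hg : g • a = a) :
    (fact G R a z).map (MulAut.conj g).toMonoidHom ≤ fact G R a (g • z) := by
  rintro _ ⟨k, hk, rfl⟩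
  refine ⟨?_, fun y hy hne => ?_⟩
  · have h1 : (⁅outKer G R a, outKer G R a⁆).map (MulAut.conj g).toMonoidHom = ⁅outKer G R a, outKer G R a⁆ := by
      rw [Subgroup.map_commutator, inKer_map h.flip g a, hg]
    rw [← h1]; exact ⟨k, hk.1, rfl⟩
  · have h2 := hk.2 (g⁻¹ • y) (by
      have := h g⁻¹ _ _ hy
      rwa [show g⁻¹ • a = a by rw [inv_smul_eq_iff, hg]] at this) (fun e => hne (by rw [← e, smul_inv_smul]))
    have h3 := inKer_map h g (g⁻¹ • y)
    rw [smul_inv_smul] at h3
    rw [← h3]; exact ⟨k, h2, rfl⟩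

/-- If the factors separate, each is large. -/
theorem Data.alt_le_im_fact (D : Data G R d) (hprim : IsPreprimitive G Ω)
    (hne : ∀ {x y}, R x y → stabilizer G x ≠ stabilizer G y) (hker : ∀ x, inKer (G := G) R x ≠ ⊥)
    {a : Ω} (hsep : ∀ z y, R a z → R a y → z ≠ y →
      ⁅outKer G R a, outKer G R a⁆ ⊓ inKer (G := G) R z ≠ ⁅outKer G R a, outKer G R a⁆ ⊓ inKer (G := G) R y)
    {z : Ω} (hz : R a z) [Fintype {w // R w z ∧ w ≠ a}] [DecidableEq {w // R w z ∧ w ≠ a}] :
    alternatingGroup {w // R w z ∧ w ≠ a} ≤ im D.inv a z (fact G R a z) := by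
  classical
  set A := outKer G R a with hA
  set L := ⁅A, A⁆ with hL
  have hLA : L ≤ A := commutator_le_self A
  have hAD : ∀ y, R a y → A ≤ stabilizer G a ⊓ stabilizer G y := fun y hy => D.outKer_le hy
  obtain ⟨haA, h5⟩ := D.alt_le_im_ker hprim hz (hne hz) (hker a)
  have haL : alternatingGroup {w // R w z ∧ w ≠ a} ≤ im D.inv a z L := by
    rw [hL, im_commutator D.inv a z (hAD z hz) (hAD z hz), commutator_eq_alt h5 haA]
  have hnL : ∀ y, R a y → A ≤ normalizer ((L ⊓ inKer (G := G) R y : Subgroup G) : Set G) := by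
    intro y hy
    refine (le_inf ?_ ?_).trans inf_normalizer_le_normalizer_inf
    · exact le_normalizer.trans (normalizer_le_commutator A)
    · exact ((hAD y hy).trans inf_le_right).trans (inKer_normalized D.inv y)
  have hnM : ∀ s : Finset {y // R a y}, A ≤ normalizer ((L ⊓ ⨅ y ∈ s, inKer (G := G) R (y : Ω) : Subgroup G) : Set G) := by
    intro s
    induction s using Finset.induction_on with
    | empty =>
      simp only [Finset.notMem_empty, iInf_false, iInf_top, inf_top_eq]
      exact le_normalizer.trans (normalizer_le_commutator A)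
    | @insert j s hj ih =>
      rw [Finset.iInf_insert, inf_left_comm]
      exact (le_inf (((hAD j j.2).trans inf_le_right).trans (inKer_normalized D.inv j)) ih).trans
        inf_normalizer_le_normalizer_inf
  have hy_big : ∀ y, R a y → y ≠ z → alternatingGroup {w // R w z ∧ w ≠ a} ≤
      im D.inv a z (L ⊓ inKer (G := G) R y) := by
    intro y hy hyz
    have hN : L ⊓ inKer (G := G) R y ≤ stabilizer G a ⊓ stabilizer G z := inf_le_left.trans (hLA.trans (hAD z hz))
    rcases bot_or_alt_le h5 (haA.trans (im_normalized D.inv a z hN (hAD z hz) (hnL y hy))) with hb | hb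
    · exfalso
      rw [im_eq_bot_iff D.inv a z hN] at hb
      refine hsep y z hy hz hyz (eq_of_le_of_card_ge (le_inf inf_le_left hb) ?_)
      obtain ⟨h, ha', hzy, -⟩ := D.two_transitive hz hy hy hz (Ne.symm hyz) hyz
      have hmap : (L ⊓ inKer (G := G) R z).map (MulAut.conj h).toMonoidHom = L ⊓ inKer (G := G) R y := by
        rw [Subgroup.map_inf _ _ _ (MulAut.conj h).injective, inKer_map D.inv, hzy, hL, Subgroup.map_commutator,
          inKer_map D.inv.flip, ha']
      rw [← hmap]
      exact (Nat.card_congr (equivMapOfInjective _ _ (MulAut.conj h).injective).toEquiv).le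
    · exact hb
  have key : ∀ s : Finset {y // R a y}, (∀ y ∈ s, (y : Ω) ≠ z) →
      alternatingGroup {w // R w z ∧ w ≠ a} ≤ im D.inv a z (L ⊓ ⨅ y ∈ s, inKer (G := G) R (y : Ω)) := by
    intro s
    induction s using Finset.induction_on with
    | empty => intro _; simpa using haL
    | @insert j s hj ih =>
      intro hs
      have h1 := ih fun y hy => hs y (Finset.mem_insert_of_mem hy)
      have h2 := hy_big j j.2 (hs j (Finset.mem_insert_self _ _))
      have hsub : ∀ X : Subgroup G, L ⊓ X ≤ stabilizer G a ⊓ stabilizer G z := fun X =>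
        inf_le_left.trans (hLA.trans (hAD z hz))
      have h3 := commutator_mono h1 h2
      rw [commutator_eq_alt h5 le_rfl, ← im_commutator D.inv a z (hsub _) (hsub _)] at h3
      refine h3.trans (im_mono D.inv a z ?_)
      rw [Finset.iInf_insert]
      have e1 : ⁅L ⊓ ⨅ y ∈ s, inKer (G := G) R (y : Ω), L ⊓ inKer (G := G) R (j : Ω)⁆ ≤
          L ⊓ ⨅ y ∈ s, inKer (G := G) R (y : Ω) :=
        le_normalizer_iff_commutator_le_left.mp ((inf_le_left.trans hLA).trans (hnM s))
      have e2 : ⁅L ⊓ ⨅ y ∈ s, inKer (G := G) R (y : Ω), L ⊓ inKer (G := G) R (j : Ω)⁆ ≤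
          L ⊓ inKer (G := G) R (j : Ω) :=
        le_normalizer_iff_commutator_le_right.mp ((inf_le_left.trans hLA).trans (hnL j j.2))
      exact le_inf (e1.trans inf_le_left) (le_inf (e2.trans inf_le_right) (e1.trans inf_le_right))
  haveI := Fintype.ofFinite {y // R a y}
  refine (key (Finset.univ.filter fun y => (y : Ω) ≠ z) (fun y hy => (Finset.mem_filter.mp hy).2)).trans
    (im_mono D.inv a z fun g hg => ?_)
  show g ∈ ⁅outKer G R a, outKer G R a⁆ ∧ ∀ y, R a y → y ≠ z → g ∈ inKer (G := G) R y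
  refine ⟨hg.1, fun y hy hyz => ?_⟩
  have h9 : g ∈ ⨅ w ∈ (Finset.univ.filter fun y : {y // R a y} => (y : Ω) ≠ z), inKer (G := G) R (w : Ω) := hg.2
  rw [Subgroup.mem_iInf] at h9
  have h10 := h9 ⟨y, hy⟩
  rw [Subgroup.mem_iInf] at h10
  exact h10 (Finset.mem_filter.mpr ⟨Finset.mem_univ _, hyz⟩)

/-- The kernels of adjacent points meet trivially. -/
theorem Data.ker_inf (D : Data G R d) (hprim : IsPreprimitive G Ω)
    (hne : ∀ {x y}, R x y → stabilizer G x ≠ stabilizer G y) (hker : ∀ x, inKer (G := G) R x ≠ ⊥)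
    {a b : Ω} (hab : R a b) : outKer G R a ⊓ inKer (G := G) R b = ⊥ := by
  classical
  have deep_bot : ∀ x (X : Subgroup G), X ≤ outKer G R x → (∀ y, R x y → X ≤ inKer (G := G) R y) → X = ⊥ := by
    intro x X h1 h2
    rw [eq_bot_iff, ← D.deep x]
    exact fun g hg => ⟨(h1 hg).1, fun y hy => ⟨(h1 hg).2 y hy, fun w hw => (h2 y hy hg).2 w hw⟩⟩
  set A := outKer G R a with hA
  set B := inKer (G := G) R b with hB
  have hAD : ∀ y, R a y → A ≤ stabilizer G a ⊓ stabilizer G y := fun y hy => D.outKer_le hy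
  set X := A ⊓ B with hX
  -- either all the kernels in `⁅A, A⁆` coincide, or they separate at every point
  by_cases hall : ∀ z y, R a z → R a y →
      ⁅A, A⁆ ⊓ inKer (G := G) R z = ⁅A, A⁆ ⊓ inKer (G := G) R y
  · have hLB : ⁅A, A⁆ ⊓ B = ⊥ := deep_bot a _ (inf_le_left.trans (commutator_le_self A))
      fun y hy => by rw [hB, hall b y hab hy]; exact inf_le_right
    refine deep_bot a X inf_le_left fun y hy => ?_
    haveI := Fintype.ofFinite {w // R w y ∧ w ≠ a}
    obtain ⟨haA, h5⟩ := D.alt_le_im_ker hprim hy (hne hy) (hker a)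
    have hLn : A ≤ normalizer ((⁅A, A⁆ : Subgroup G) : Set G) :=
      le_normalizer.trans (normalizer_le_commutator A)
    have hXn : A ≤ normalizer (X : Set G) :=
      (le_inf le_normalizer (((hAD b hab).trans inf_le_right).trans (inKer_normalized D.inv b))).trans
        inf_normalizer_le_normalizer_inf
    have hcomm : ⁅X, ⁅A, A⁆⁆ = ⊥ := by
      rw [eq_bot_iff, ← hLB]
      refine le_inf ?_ ((le_normalizer_iff_commutator_le_left.mp ((commutator_le_self A).trans hXn)).trans inf_le_right)
      exact le_normalizer_iff_commutator_le_right.mp (inf_le_left.trans hLn)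
    rw [← im_eq_bot_iff D.inv a y (inf_le_left.trans (hAD y hy)), eq_bot_iff]
    intro σ hσ
    refine mem_bot.mpr (centralizer_alt_eq_bot (by omega) fun τ hτ => ?_)
    have h1 : τ ∈ im D.inv a y ⁅A, A⁆ := by
      rw [im_commutator D.inv a y (hAD y hy) (hAD y hy), commutator_eq_alt h5 haA]; exact hτ
    obtain ⟨k, hk, rfl⟩ := h1
    obtain ⟨m, hm, rfl⟩ := hσ
    rw [← map_mul, ← map_mul]
    congr 1
    exact Subtype.ext (Components.commutator_eq_bot_iff_forall.mp hcomm m hm k hk).symm
  exfalso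
  push Not at hall
  obtain ⟨z0, y0, hz0, hy0, hne0⟩ := hall
  have sep : ∀ x z y, R x z → R x y → z ≠ y →
      ⁅outKer G R x, outKer G R x⁆ ⊓ inKer (G := G) R z ≠ ⁅outKer G R x, outKer G R x⁆ ⊓ inKer (G := G) R y := by
    intro x z y hz hy hzy he
    haveI := hprim
    obtain ⟨g, hg⟩ := exists_smul_eq G x a
    have gz : R a (g • z) := hg ▸ D.inv g x z hz
    have gy : R a (g • y) := hg ▸ D.inv g x y hy
    obtain ⟨h, ha', h1, h2⟩ := D.two_transitive gz gy hz0 hy0
      (fun e => hzy (MulAction.injective g e)) (fun e => hne0 (by rw [e]))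
    have hmap : ∀ w, (⁅outKer G R x, outKer G R x⁆ ⊓ inKer (G := G) R w).map (MulAut.conj (h * g)).toMonoidHom =
        ⁅A, A⁆ ⊓ inKer (G := G) R ((h * g) • w) := fun w => by
      rw [Subgroup.map_inf _ _ _ (MulAut.conj (h * g)).injective, Subgroup.map_commutator,
        inKer_map D.inv.flip, inKer_map D.inv, mul_smul, hg, ha', mul_smul]
    have := congrArg (Subgroup.map (MulAut.conj (h * g)).toMonoidHom) he
    rw [hmap, hmap, mul_smul, mul_smul, h1, h2] at this
    exact hne0 this
  -- properties of the factors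
  have facts : ∀ {x z : Ω}, R x z → fact G R x z ≤ stabilizer G x ⊓ stabilizer G z ∧
      fact G R x z ⊓ inKer (G := G) R z = ⊥ ∧
      outKer G R x ≤ normalizer (fact G R x z : Set G) := by
    intro x z hz
    refine ⟨fun g hg => D.outKer_le hz (commutator_le_self _ hg.1), ?_, ?_⟩
    · refine deep_bot x _ (fun g hg => commutator_le_self _ hg.1.1) fun y hy g hg => ?_
      by_cases hyz : y = z
      · rw [hyz]; exact hg.2
      · exact hg.1.2 y hy hyz
    · intro k hk
      refine Components.mem_normalizer_of_map_conj_eq (eq_of_le_of_card_ge ?_ ?_)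
      · have := fact_map D.inv (g := k) (a := x) z hk.1
        rwa [hk.2 z hz] at this
      · exact (Nat.card_congr (equivMapOfInjective _ _ (MulAut.conj k).injective).toEquiv).le
  have hBout : B = outKer G R b := D.kerEq b
  have hBA : B ≤ normalizer (A : Set G) := fun g hg => inKer_normalized D.inv.flip a (hg.2 a hab)
  have hXB : B ≤ normalizer (X : Set G) :=
    (le_inf hBA le_normalizer).trans inf_normalizer_le_normalizer_inf
  have hfix : ∀ z, R a z → z ≠ b → B ≤ normalizer (fact G R a z : Set G) := by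
    intro z hz hzb
    haveI := Fintype.ofFinite {w // R w z ∧ w ≠ a}
    obtain ⟨hLD, hLinj, hLn⟩ := facts hz
    have hLX : fact G R a z ≤ X := le_inf (fun g hg => commutator_le_self _ hg.1)
      (fun g hg => hg.2 b hab (Ne.symm hzb))
    have hLbig := D.alt_le_im_fact hprim hne hker (sep a) hz
    obtain ⟨-, h5z⟩ := D.alt_le_im_ker hprim hz (hne hz) (hker a)
    have hLne : fact G R a z ≠ ⊥ := fun e => by
      rw [e] at hLbig
      exact alt_not_le_bot (by omega) (hLbig.trans ((im_eq_bot_iff D.inv a z bot_le).mpr bot_le).le)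
    by_contra hnot
    refine hLne (deep_bot b _ (hLX.trans (inf_le_right.trans hBout.le)) fun w hw => ?_)
    haveI := Fintype.ofFinite {u // R u w ∧ u ≠ b}
    obtain ⟨hMD, hMinj, hMn⟩ := facts hw
    obtain ⟨-, h5w⟩ := D.alt_le_im_ker hprim hw (hne hw) (hker b)
    have hMbig := D.alt_le_im_fact hprim hne hker (sep b) hw
    set M := fact G R b w with hM
    set L := fact G R a z with hLdef
    have hMB : M ≤ B := hBout ▸ fun g hg => commutator_le_self _ hg.1
    have hXD : X ≤ stabilizer G b ⊓ stabilizer G w := inf_le_right.trans (hBout.le.trans (D.outKer_le hw))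
    have hLw : L ≤ stabilizer G b ⊓ stabilizer G w := hLX.trans hXD
    have hMnB : B ≤ normalizer (M : Set G) := hBout.le.trans hMn
    have comm_case : ⁅L, M⁆ = ⊥ → L ≤ inKer (G := G) R w := by
      intro hc
      rw [← im_eq_bot_iff D.inv b w hLw, eq_bot_iff]
      intro σ hσ
      refine mem_bot.mpr (centralizer_alt_eq_bot (by omega) fun τ hτ => ?_)
      obtain ⟨k, hk, rfl⟩ := hMbig hτ
      obtain ⟨m, hm, rfl⟩ := hσ
      rw [← map_mul, ← map_mul]
      congr 1
      exact Subtype.ext (Components.commutator_eq_bot_iff_forall.mp hc m hm k hk).symm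
    have hMXn : B ≤ normalizer ((M ⊓ X : Subgroup G) : Set G) :=
      (le_inf hMnB hXB).trans inf_normalizer_le_normalizer_inf
    have hMimB : im D.inv b w M ≤ normalizer ((im D.inv b w (M ⊓ X)) : Set _) :=
      im_normalized D.inv b w (inf_le_left.trans hMD) hMD (hMB.trans hMXn)
    have hMle : ∀ {U : Subgroup G}, U ≤ M → alternatingGroup {u // R u w ∧ u ≠ b} ≤ im D.inv b w U → M ≤ U := by
      intro U hU hUbig
      refine eq_of_im_le D.inv b w hU hMD hMinj ?_
      refine le_trans ?_ hUbig
      refine (im_mono D.inv b w (show M ≤ ⁅outKer G R b, outKer G R b⁆ from fun g hg => hg.1)).trans ?_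
      rw [im_commutator D.inv b w (D.outKer_le hw) (D.outKer_le hw)]
      exact (commutator_eq_alt h5w (D.alt_le_im_ker hprim hw (hne hw) (hker b)).1).le
    rcases bot_or_alt_le h5w (hMbig.trans hMimB) with hb | hb
    · refine comm_case (eq_bot_iff.mpr ?_)
      have h1 : ⁅L, M⁆ ≤ M ⊓ X := le_inf (le_normalizer_iff_commutator_le_right.mp ((hLX.trans inf_le_right).trans hMnB))
        ((commutator_mono hLX le_rfl).trans (le_normalizer_iff_commutator_le_left.mp (hMB.trans hXB)))
      rw [im_eq_bot_iff D.inv b w (inf_le_left.trans hMD)] at hb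
      exact h1.trans ((le_inf inf_le_left hb).trans hMinj.le)
    · have hMX : M ≤ X := (hMle inf_le_left hb).trans inf_le_right
      have hML : M ≤ normalizer (L : Set G) := (hMX.trans inf_le_left).trans hLn
      have hLM : L ≤ normalizer (M : Set G) := (hLX.trans inf_le_right).trans hMnB
      have hIM : M ≤ normalizer ((L ⊓ M : Subgroup G) : Set G) :=
        (le_inf hML le_normalizer).trans inf_normalizer_le_normalizer_inf
      rcases bot_or_alt_le h5w (hMbig.trans (im_normalized D.inv b w (inf_le_left.trans hLw) hMD hIM)) with hb' | hb'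
      · refine comm_case (eq_bot_iff.mpr ?_)
        rw [im_eq_bot_iff D.inv b w (inf_le_left.trans hLw)] at hb'
        exact (le_inf (le_normalizer_iff_commutator_le_left.mp hML)
          (le_normalizer_iff_commutator_le_right.mp hLM)).trans
          ((le_inf inf_le_right hb').trans hMinj.le)
      · exfalso
        have hMsub : M ≤ L := (hMle inf_le_right hb').trans inf_le_left
        have hIL : L ≤ normalizer ((L ⊓ M : Subgroup G) : Set G) :=
          (le_inf le_normalizer hLM).trans inf_normalizer_le_normalizer_inf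
        rcases bot_or_alt_le h5z (hLbig.trans (im_normalized D.inv a z (inf_le_left.trans hLD) hLD hIL)) with hc | hc
        · rw [im_eq_bot_iff D.inv a z (inf_le_left.trans hLD)] at hc
          have : M ≤ L ⊓ inKer (G := G) R z := le_inf hMsub ((le_inf hMsub le_rfl).trans hc)
          rw [hLinj] at this
          exact alt_not_le_bot (by omega) ((hMbig.trans (im_mono D.inv b w this)).trans
            ((im_eq_bot_iff D.inv b w bot_le).mpr bot_le).le)
        · have hLsub : L ≤ L ⊓ M := by
            refine eq_of_im_le D.inv a z inf_le_left hLD hLinj (le_trans ?_ hc)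
            refine (im_mono D.inv a z (show L ≤ ⁅A, A⁆ from fun g hg => hg.1)).trans ?_
            rw [im_commutator D.inv a z (hAD z hz) (hAD z hz)]
            exact (commutator_eq_alt h5z (D.alt_le_im_ker hprim hz (hne hz) (hker a)).1).le
          have : L = M := le_antisymm (hLsub.trans inf_le_right) hMsub
          exact hnot (this ▸ hMnB)
  have hBle : B ≤ A := by
    intro g hg
    refine ⟨hg.2 a hab, fun z hz => ?_⟩
    by_cases hzb : z = b
    · rw [hzb]; exact hg.1
    by_contra hgz
    haveI := Fintype.ofFinite {w // R w z ∧ w ≠ a}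
    obtain ⟨hLD, hLinj, -⟩ := facts hz
    have hmap := Components.map_conj_eq_of_mem_normalizer (hfix z hz hzb hg)
    have h1 : fact G R a z ≤ inKer (G := G) R z := by
      intro k hk
      have h2 := fact_map D.inv (g := g) (a := a) z (hg.2 a hab) (hmap.ge hk)
      exact h2.2 z hz (Ne.symm hgz)
    obtain ⟨-, h5z⟩ := D.alt_le_im_ker hprim hz (hne hz) (hker a)
    exact alt_not_le_bot (by omega) ((D.alt_le_im_fact hprim hne hker (sep a) hz).trans
      ((im_eq_bot_iff D.inv a z hLD).mpr h1).le)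
  rw [hA, show outKer G R a = inKer (G := G) R a from (D.kerEq a).symm] at hBle
  exact hker b (D.ker_bot_of_le hprim (hne hab).symm hBle)

end Cfsg.Agent.Recog.AltSuborbit
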