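import Mathlib
import Cfsg.Agent.Lib.Recog.AltSuborbit

/-! The structure of a point stabiliser with an unfaithful alternating or symmetric suborbit. -/

set_option autoImplicit false

namespace Cfsg.Agent.Recog.AltSuborbit

open Subgroup MulAction Equiv Cfsg.Agent.Recog.PointPair Cfsg.Agent.Recog.ArcStabilizer Cfsg.Agent.Recog.AltLocal

variable {G Ω : Type*} [Group G] [Finite G] [MulAction G Ω] [FaithfulSMul G Ω] [Finite Ω]
variable {R : Ω → Ω → Prop} {d : ℕ}

omit [Finite G] [FaithfulSMul G Ω] [Finite Ω] in
theorem map_commutator_top {A B : Type*} [Group A] [Group B] (e : A ≃* B) :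
    (_root_.commutator A).map e.toMonoidHom = _root_.commutator B := by
  rw [commutator_def, commutator_def, Subgroup.map_commutator,
    Subgroup.map_top_of_surjective _ e.surjective]

theorem alt_eq_commutator {β : Type*} [Fintype β] [DecidableEq β] (h : 5 ≤ Fintype.card β) :
    _root_.commutator (Perm β) = alternatingGroup β :=
  alternatingGroup.commutator_perm_eq (by rwa [Nat.card_eq_fintype_card])

/-- The two homomorphisms describing the stabiliser. -/
theorem Data.structure_hom (D : Data G R d) (hprim : IsPreprimitive G Ω)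
    (hne : ∀ {x y}, R x y → stabilizer G x ≠ stabilizer G y) (hker : ∀ x, inKer (G := G) R x ≠ ⊥)
    {a b : Ω} (hab : R a b) :
    ∃ χ : stabilizer G a →* Perm {w // R w b ∧ w ≠ a},
      (loc D.inv.flip a).ker ⊓ χ.ker = ⊥ ∧
      _root_.commutator (Perm {y // R a y}) ≤ χ.ker.map (loc D.inv.flip a) ∧
      _root_.commutator (Perm {w // R w b ∧ w ≠ a}) ≤ (loc D.inv.flip a).ker.map χ ∧
      Nat.card (loc D.inv.flip a).range = d * Nat.card χ.range := by
  classical
  haveI := hprim
  haveI := Fintype.ofFinite Ω
  haveI := Fintype.ofFinite {w // R w b ∧ w ≠ a}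
  haveI := Fintype.ofFinite {y // R a y}
  set H := stabilizer G a with hH
  set φ := loc D.inv.flip a with hφ
  set A := outKer G R a with hA
  set B := inKer (G := G) R b with hB
  have hX : A ⊓ B = ⊥ := D.ker_inf hprim hne hker hab
  have hAD : A ≤ H ⊓ stabilizer G b := D.outKer_le hab
  have hBD : B ≤ H ⊓ stabilizer G b := inKer_le_of a b hab
  obtain ⟨haA, h5⟩ := D.alt_le_im_ker hprim hab (hne hab) (hker a)
  have h6 := D.six
  have hd : Fintype.card {y // R a y} = d := by rw [← Nat.card_eq_fintype_card]; exact D.out a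
  have hout : alternatingGroup {y // R a y} ≤ φ.range := by
    rw [← alt_eq_commutator (by omega)]; exact D.altOut a
  set C := H ⊓ centralizer (A : Set G) with hC
  have hCn : H ≤ normalizer (C : Set G) := centralizer_inf_normalized (inKer_normalized D.inv.flip a)
  have hBC : B ≤ C := by
    refine le_inf (hBD.trans inf_le_left) ?_
    rw [← commutator_eq_bot_iff_le_centralizer, eq_bot_iff, ← hX]
    exact le_inf (le_normalizer_iff_commutator_le_right.mp (hBD.trans (inf_le_left.trans (inKer_normalized D.inv.flip a))))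
      (le_normalizer_iff_commutator_le_left.mp ((hAD.trans inf_le_right).trans (inKer_normalized D.inv b)))
  have central : ∀ g, g ∈ C → g ∈ H ⊓ stabilizer G b → g ∈ B := by
    intro g hg hgD
    rw [← punct_ker D.inv a b ⟨g, hgD⟩]
    refine centralizer_alt_eq_bot (by omega) fun τ hτ => ?_
    obtain ⟨k, hk, rfl⟩ := haA hτ
    rw [← map_mul, ← map_mul]
    congr 1
    exact Subtype.ext (mem_centralizer_iff.mp hg.2 k hk)
  have hCA : C ⊓ A = ⊥ := by
    rw [eq_bot_iff, ← hX]
    exact fun g hg => ⟨hg.2, central g hg.1 (hAD hg.2)⟩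
  set C' := C.subgroupOf H with hC'
  haveI hC'n : C'.Normal := normal_subgroupOf_of_le_normalizer hCn
  have hCbig : alternatingGroup {y // R a y} ≤ C'.map φ := by
    have hn : alternatingGroup {y // R a y} ≤ normalizer ((C'.map φ : Subgroup _) : Set (Perm {y // R a y})) := by
      refine hout.trans ?_
      rw [MonoidHom.range_eq_map]
      exact (Subgroup.map_mono (by rw [normalizer_eq_top_iff.mpr hC'n])).trans (le_normalizer_map φ)
    refine (bot_or_alt_le (by omega) hn).resolve_left fun hb => ?_
    rw [Subgroup.map_eq_bot_iff] at hb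
    have : B ≤ C ⊓ A := le_inf hBC fun g hg =>
      (loc_ker D.inv.flip a ⟨g, (hBD hg).1⟩).mp (MonoidHom.mem_ker.mp (hb (hBC hg)))
    rw [hCA, le_bot_iff] at this
    exact hker b this
  have trans : ∀ h : H, ∃ δ : G, ∃ hδ : δ ∈ H ⊓ stabilizer G b, h⁻¹ * ⟨δ, hδ.1⟩ ∈ C' := by
    intro h
    have hhb : R a ((h : G) • b) := by
      have := D.inv (h : G) a b hab
      rwa [show (h : G) • a = a from h.2] at this
    obtain ⟨c, hc, hcb⟩ : ∃ c ∈ C', ((c : H) : G) • b = (h : G) • b := by
      by_cases he : (h : G) • b = b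
      · exact ⟨1, one_mem _, by rw [he]; exact one_smul _ _⟩
      · obtain ⟨σ, hσ, h1, -⟩ := exists_even (by omega) (x := (⟨b, hab⟩ : {y // R a y})) (x' := ⟨_, hhb⟩)
          (y := ⟨_, hhb⟩) (y' := ⟨b, hab⟩) (fun e => he (congrArg Subtype.val e).symm)
          (fun e => he (congrArg Subtype.val e))
        obtain ⟨c, hc, rfl⟩ := hCbig hσ
        exact ⟨c, hc, congrArg Subtype.val h1⟩
    refine ⟨((c⁻¹ * h : H) : G), ⟨(c⁻¹ * h : H).2, ?_⟩, ?_⟩
    · show ((c : G)⁻¹ * (h : G)) • b = b
      rw [mul_smul, ← hcb, inv_smul_smul]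
    · show h⁻¹ * (c⁻¹ * h) ∈ C'
      rw [← mul_assoc]
      exact hC'n.conj_mem' _ (C'.inv_mem hc) h
  let π : ↥(H ⊓ stabilizer G b) →* H ⧸ C' :=
    (QuotientGroup.mk' C').comp (Subgroup.inclusion inf_le_left)
  have hπ : Function.Surjective π := by
    intro q
    obtain ⟨h, rfl⟩ := QuotientGroup.mk_surjective q
    obtain ⟨δ, hδ, hc⟩ := trans h
    exact ⟨⟨δ, hδ⟩, (QuotientGroup.eq.mpr hc).symm⟩
  have hker1 : π.ker ≤ (punct D.inv a b).ker := by
    intro g hg
    rw [MonoidHom.mem_ker] at hg ⊢
    rw [punct_ker]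
    exact central g ((QuotientGroup.eq_one_iff (N := C') (Subgroup.inclusion inf_le_left g)).mp hg) g.2
  let k := π.liftOfSurjective hπ ⟨punct D.inv a b, hker1⟩
  let χ : H →* Perm {w // R w b ∧ w ≠ a} := k.comp (QuotientGroup.mk' C')
  have hk : ∀ g : ↥(H ⊓ stabilizer G b), χ (Subgroup.inclusion inf_le_left g) = punct D.inv a b g := fun g =>
    MonoidHom.liftOfRightInverse_comp_apply π _ (Function.rightInverse_surjInv hπ) ⟨punct D.inv a b, hker1⟩ g
  have hC_ker : C' ≤ χ.ker := fun c hc => by
    rw [MonoidHom.mem_ker]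
    show k (QuotientGroup.mk c) = 1
    rw [(QuotientGroup.eq_one_iff c).mpr hc, map_one]
  have hrange : χ.range = (punct D.inv a b).range := by
    ext σ
    constructor
    · rintro ⟨h, rfl⟩
      obtain ⟨δ, hδ, hc⟩ := trans h
      refine ⟨⟨δ, hδ⟩, ?_⟩
      rw [← hk]
      have h1 := MonoidHom.mem_ker.mp (hC_ker hc)
      rw [map_mul, map_inv, inv_mul_eq_one] at h1
      exact h1.symm
    · rintro ⟨g, rfl⟩
      exact ⟨_, hk g⟩
  refine ⟨χ, ?_, ?_, ?_, ?_⟩
  · rw [eq_bot_iff]
    intro g hg
    have hgA : (g : G) ∈ A := (loc_ker D.inv.flip a g).mp (MonoidHom.mem_ker.mp hg.1)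
    have h1 : punct D.inv a b ⟨g, hAD hgA⟩ = 1 := by
      rw [← hk]; exact MonoidHom.mem_ker.mp hg.2
    rw [punct_ker] at h1
    have h2 : (g : G) ∈ A ⊓ B := ⟨hgA, h1⟩
    rw [hX, mem_bot] at h2
    exact mem_bot.mpr (Subtype.ext h2)
  · rw [alt_eq_commutator (by omega)]
    exact hCbig.trans (Subgroup.map_mono hC_ker)
  · rw [alt_eq_commutator h5]
    refine haA.trans ?_
    rintro _ ⟨g, hg, rfl⟩
    exact ⟨Subgroup.inclusion inf_le_left g,
      MonoidHom.mem_ker.mpr ((loc_ker D.inv.flip a (Subgroup.inclusion inf_le_left g)).mpr hg), hk g⟩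
  · rw [hrange]
    have e1 : φ.ker = A.subgroupOf H := by
      ext g; exact (MonoidHom.mem_ker).trans (loc_ker D.inv.flip a g)
    have e2 : (punct D.inv a b).ker = B.subgroupOf (H ⊓ stabilizer G b) := by
      ext g; exact (MonoidHom.mem_ker).trans (punct_ker D.inv a b g)
    have c1 := φ.ker.index_mul_card
    have c2 := (punct D.inv a b).ker.index_mul_card
    rw [index_ker] at c1 c2
    have cA : Nat.card φ.ker = Nat.card A := by
      rw [e1]; exact Nat.card_congr (subgroupOfEquivOfLe (inKer_le a)).toEquiv
    have cB : Nat.card (punct D.inv a b).ker = Nat.card A := by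
      rw [e2, Nat.card_congr (subgroupOfEquivOfLe hBD).toEquiv, hA,
        show outKer G R a = inKer (G := G) R a from (D.kerEq a).symm]
      exact D.card_ker inferInstance b a
    rw [cA] at c1
    rw [cB] at c2
    have horb : {y | R a y} = orbit H b := by
      ext y
      constructor
      · intro hy
        by_cases he : y = b
        · rw [he]; exact mem_orbit_self b
        obtain ⟨σ, hσ, h1, -⟩ := exists_even (by omega) (x := (⟨b, hab⟩ : {y // R a y})) (x' := ⟨_, hy⟩)
          (y := ⟨_, hy⟩) (y' := ⟨b, hab⟩) (fun e => he (congrArg Subtype.val e).symm)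
          (fun e => he (congrArg Subtype.val e))
        obtain ⟨g, rfl⟩ := hout hσ
        exact ⟨g, congrArg Subtype.val h1⟩
      · rintro ⟨⟨g, hg⟩, rfl⟩
        have := D.inv g a b hab
        rwa [show g • a = a from hg] at this
    have c3 : d * Nat.card ↥(H ⊓ stabilizer G b) = Nat.card H := by
      have := (stabilizer H b).index_mul_card
      rw [index_stabilizer, ← horb] at this
      rw [← D.out a, ← this]
      congr 1
      exact Nat.card_congr
        { toFun := fun g => ⟨⟨g.1, g.2.1⟩, g.2.2⟩
          invFun := fun g => ⟨g.1.1, g.1.2, g.2⟩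
          left_inv := fun g => rfl
          right_inv := fun g => rfl }
    refine Nat.eq_of_mul_eq_mul_right (show 0 < Nat.card A from Nat.card_pos) ?_
    rw [c1, mul_assoc, c2, c3]

theorem noSec_ext {S : Type*} [Group S] [IsSimpleGroup S] {Γ Γ' : Type*} [Group Γ] [Group Γ'] (h : Γ →* Γ')
    (hk : NoSec S h.ker) (hf : NoSec S Γ') : NoSec S Γ := by
  intro U f hfs
  set M := h.ker.subgroupOf U with hM
  rcases ((inferInstance : M.Normal).map f hfs).eq_bot_or_eq_top with hb | ht
  · let g : U →* Γ' := h.comp U.subtype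
    have hle : g.rangeRestrict.ker ≤ f.ker := by
      intro x hx
      rw [MonoidHom.ker_rangeRestrict] at hx
      have : f x ∈ M.map f := ⟨x, hx, rfl⟩
      rw [hb, mem_bot] at this
      exact this
    let k := (g.rangeRestrict).liftOfSurjective (MonoidHom.rangeRestrict_surjective g) ⟨f, hle⟩
    refine hf g.range k fun y => ?_
    obtain ⟨x, rfl⟩ := hfs y
    exact ⟨g.rangeRestrict x, MonoidHom.liftOfRightInverse_comp_apply g.rangeRestrict _
      (Function.rightInverse_surjInv (MonoidHom.rangeRestrict_surjective g)) ⟨f, hle⟩ x⟩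
  · refine hk (U.subgroupOf h.ker)
      (f.comp { toFun := fun x => ⟨((x : h.ker) : Γ), x.2⟩, map_one' := rfl, map_mul' := fun _ _ => rfl }) ?_
    intro y
    obtain ⟨x, hx, rfl⟩ := ht.ge (mem_top y)
    exact ⟨⟨⟨(x : Γ), hx⟩, x.2⟩, rfl⟩

omit [Finite G] [FaithfulSMul G Ω] in
/-- No section of a two-point stabiliser is the alternating group of degree `d`. -/
theorem noSec_two_point (hR : Inv G R) (h6 : 6 ≤ d) {a b : Ω} (hab : R a b)
    (hout : Nat.card {y // R a y} = d) (hin : ∀ y, R a y → Nat.card {w // R w y} = d)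
    (hdeep : ArcStabilizer.deep (G := G) R a = ⊥) :
    NoSec (alternatingGroup (Fin d)) ↥(stabilizer G a ⊓ stabilizer G b) := by
  classical
  haveI := Fintype.ofFinite Ω
  haveI := alternatingGroup.isSimpleGroup (α := Fin d) (by rw [Nat.card_fin]; omega)
  set A := outKer G R a with hA
  refine noSec_injective (Subgroup.inclusion (le_inf inf_le_right inf_le_left :
    stabilizer G a ⊓ stabilizer G b ≤ stabilizer G b ⊓ stabilizer G a)) (Subgroup.inclusion_injective _)
    (noSec_ext (punct hR.flip b a) ?_ ?_)
  · have hAn : ∀ z, R a z → A ≤ stabilizer G a ⊓ stabilizer G z := fun z hz g hg => ⟨hg.1, hg.2 z hz⟩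
    let e : (punct hR.flip b a).ker →* A :=
      { toFun := fun g => ⟨((g : ↥(stabilizer G b ⊓ stabilizer G a)) : G), (punct_ker hR.flip b a _).mp (MonoidHom.mem_ker.mp g.2)⟩
        map_one' := rfl
        map_mul' := fun _ _ => rfl }
    refine noSec_injective e (fun x y hxy => Subtype.ext (Subtype.ext (congrArg (fun z : A => (z : G)) hxy))) ?_
    refine noSec_joint (fun z : {y // R a y} => (punct hR a (z : Ω)).comp (Subgroup.inclusion (hAn z z.2))) ?_ ?_
    · rw [eq_bot_iff]
      intro g hg
      rw [Subgroup.mem_iInf] at hg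
      have h1 : (g : G) ∈ ArcStabilizer.deep (G := G) R a := by
        refine ⟨g.2.1, fun y hy => ?_⟩
        have := (punct_ker hR a y (Subgroup.inclusion (hAn y hy) g)).mp (MonoidHom.mem_ker.mp (hg ⟨y, hy⟩))
        exact ⟨this.1, this.2⟩
      rw [hdeep, mem_bot] at h1
      exact mem_bot.mpr (Subtype.ext h1)
    · intro z
      refine noSec_perm (by omega) ?_
      have h1 := hin z z.2
      rw [Nat.card_eq_fintype_card, Fintype.card_subtype] at h1
      rw [Fintype.card_subtype, ← Finset.filter_filter, Finset.filter_ne',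
        Finset.card_erase_of_mem (by simpa using z.2)]
      omega
  · refine noSec_perm (by omega) ?_
    rw [Nat.card_eq_fintype_card, Fintype.card_subtype] at hout
    rw [Fintype.card_subtype, ← Finset.filter_filter, Finset.filter_ne',
      Finset.card_erase_of_mem (by simpa using hab)]
    have e0 : (Finset.univ.filter (R a)).card = d := by convert hout
    omega

omit [Finite G] [FaithfulSMul G Ω] [Finite Ω] in
/-- The commutator subgroup stays in the image at a conjugate point. -/
theorem loc_commutator_conj (hR : Inv G R) (g : G) (y : Ω)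
    (h : _root_.commutator (Perm {w // R w y}) ≤ (loc hR y).range) :
    _root_.commutator (Perm {w // R w (g • y)}) ≤ (loc hR (g • y)).range := by
  let e : {w // R w y} ≃ {w // R w (g • y)} :=
    (MulAction.toPerm g).subtypeEquiv fun w => (hR.iff g w y).symm
  rw [← map_commutator_top e.permCongrHom]
  refine (Subgroup.map_mono h).trans ?_
  rintro _ ⟨_, ⟨k, rfl⟩, rfl⟩
  refine ⟨⟨g * k * g⁻¹, ?_⟩, Equiv.ext fun w => Subtype.ext ?_⟩
  · show (g * k * g⁻¹) • (g • y) = g • y
    rw [mul_smul, inv_smul_smul, mul_smul, show (k : G) • y = y from k.2]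
  · show (g * k * g⁻¹) • (w : Ω) = g • ((k : G) • (g⁻¹ • (w : Ω)))
    rw [mul_smul, mul_smul]

omit [Finite G] [FaithfulSMul G Ω] in
/-- The preliminaries: the actions on predecessors also contain alternating groups, with the same kernels. -/
theorem prelims (hR : Inv G R) (h6 : 6 ≤ d) (hpre : IsPretransitive G Ω)
    (hout : ∀ x, Nat.card {y // R x y} = d) (hin : ∀ y, Nat.card {w // R w y} = d)
    {a b : Ω} (hab : R a b)
    (halt : _root_.commutator (Perm {y // R a y}) ≤ (loc hR.flip a).range)
    (hfree : NoSec (alternatingGroup (Fin d)) ↥(stabilizer G a ⊓ stabilizer G b)) :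
    (∀ x, _root_.commutator (Perm {y // R x y}) ≤ (loc hR.flip x).range) ∧
    (∀ y, _root_.commutator (Perm {w // R w y}) ≤ (loc hR y).range) ∧
    (∀ x, inKer (G := G) R x = inKer (G := G) (fun u v => R v u) x) := by
  classical
  haveI := hpre
  haveI := Fintype.ofFinite Ω
  haveI := alternatingGroup.isSimpleGroup (α := Fin d) (by rw [Nat.card_fin]; omega)
  have hAout : ∀ x, _root_.commutator (Perm {y // R x y}) ≤ (loc hR.flip x).range := fun x => by
    obtain ⟨g, rfl⟩ := exists_smul_eq G a x
    exact loc_commutator_conj hR.flip g a halt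
  -- a subgroup of a local group containing the alternating group gives a section
  have sect : ∀ {β : Type _} [Fintype β] [DecidableEq β], Fintype.card β = d →
      ∀ {Γ : Type _} [Group Γ] (f : Γ →* Perm β), alternatingGroup β ≤ f.range →
      ¬ NoSec (alternatingGroup (Fin d)) Γ := by
    intro β _ _ hc Γ _ f hf hfree'
    let e : alternatingGroup β ≃* alternatingGroup (Fin d) :=
      (Fintype.equivFinOfCardEq hc).altCongrHom
    let f0 : ↥((alternatingGroup β).comap f) →* alternatingGroup β :=
      (f.comp ((alternatingGroup β).comap f).subtype).codRestrict _ fun x => x.2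
    refine hfree' ((alternatingGroup β).comap f) (e.toMonoidHom.comp f0) (e.surjective.comp ?_)
    rintro ⟨σ, hσ⟩
    obtain ⟨γ, rfl⟩ := hf hσ
    exact ⟨⟨γ, hσ⟩, rfl⟩
  have cR : ∀ y, Fintype.card {w // R w y} = d := fun y => by rw [← Nat.card_eq_fintype_card]; exact hin y
  have cR' : ∀ x, Fintype.card {y // R x y} = d := fun x => by rw [← Nat.card_eq_fintype_card]; exact hout x
  have hBfree : NoSec (alternatingGroup (Fin d)) (inKer (G := G) R b) :=
    noSec_injective (Subgroup.inclusion (inKer_le_of a b hab)) (Subgroup.inclusion_injective _) hfree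
  have hAfree : NoSec (alternatingGroup (Fin d)) (outKer G R a) :=
    noSec_injective (Subgroup.inclusion (fun g hg => ⟨hg.1, hg.2 b hab⟩ : outKer G R a ≤ stabilizer G a ⊓ stabilizer G b))
      (Subgroup.inclusion_injective _) hfree
  obtain ⟨g, hg⟩ := exists_smul_eq G a b
  have hAbfree : NoSec (alternatingGroup (Fin d)) (outKer G R b) := by
    have hm := inKer_map (R := fun u v => R v u) hR.flip g a
    rw [hg] at hm
    have e := (Subgroup.equivMapOfInjective (outKer G R a) (MulAut.conj g).toMonoidHom (MulAut.conj g).injective).trans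
      (MulEquiv.subgroupCongr hm)
    exact noSec_injective e.symm.toMonoidHom e.symm.injective hAfree
  have hAin : _root_.commutator (Perm {w // R w b}) ≤ (loc hR b).range := by
    rw [alt_eq_commutator (by rw [cR]; omega)]
    by_contra hcon
    have hnot : NoSec (alternatingGroup (Fin d)) (stabilizer G b) := by
      refine noSec_ext (loc hR b).rangeRestrict ?_ ?_
      · let e : (loc hR b).rangeRestrict.ker →* inKer (G := G) R b :=
          { toFun := fun g => ⟨((g : stabilizer G b) : G), (loc_ker hR b _).mp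
              (MonoidHom.mem_ker.mp (((MonoidHom.ker_rangeRestrict (loc hR b)).le g.2)))⟩
            map_one' := rfl
            map_mul' := fun _ _ => rfl }
        exact noSec_injective e (fun x y hxy => Subtype.ext (Subtype.ext (congrArg (fun z : inKer (G := G) R b => (z : G)) hxy))) hBfree
      · refine noSec_of_card_lt ?_
        by_contra hge
        push Not at hge
        apply hcon
        apply Equiv.Perm.alternatingGroup_le_of_index_le_two
        haveI : Nontrivial (Fin d) := Fin.nontrivial_iff_two_le.mpr (by omega)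
        have h1 := two_mul_nat_card_alternatingGroup (α := Fin d)
        have h2 := (loc hR b).range.index_mul_card
        rw [Nat.card_perm, Nat.card_eq_fintype_card (α := {w // R w b}), cR] at h2
        rw [Nat.card_perm, Nat.card_fin] at h1
        by_contra h3
        have : 3 * Nat.card (loc hR b).range ≤ (loc hR b).range.index * Nat.card (loc hR b).range :=
          Nat.mul_le_mul_right _ (by omega)
        have := d.factorial_pos
        omega
    exact sect (cR' b) (loc hR.flip b) (by rw [← alt_eq_commutator (by rw [cR']; omega)]; exact hAout b) hnot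
  have hAin' : ∀ y, _root_.commutator (Perm {w // R w y}) ≤ (loc hR y).range := fun y => by
    obtain ⟨g, rfl⟩ := exists_smul_eq G b y
    exact loc_commutator_conj hR g b hAin
  refine ⟨hAout, hAin', ?_⟩
  -- equal kernels
  have side : ∀ (S : Ω → Ω → Prop) (hS : Inv G S) (X : Subgroup G), (Fintype.card {w // S w b} = d) →
      _root_.commutator (Perm {w // S w b}) ≤ (loc hS b).range → X ≤ stabilizer G b →
      stabilizer G b ≤ normalizer (X : Set G) → NoSec (alternatingGroup (Fin d)) X →
      X ≤ inKer (G := G) S b := by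
    intro S hS X hc halt' hXb hXn hXfree g hgX
    rw [alt_eq_commutator (by omega)] at halt'
    set f := (loc hS b).comp (Subgroup.inclusion hXb) with hf
    have hn : alternatingGroup {w // S w b} ≤ normalizer (f.range : Set (Perm {w // S w b})) := by
      intro σ hσ
      obtain ⟨k, rfl⟩ := halt' hσ
      refine Components.mem_normalizer_of_map_conj_eq ?_
      rw [hf, MonoidHom.range_comp, Subgroup.inclusion_range, Subgroup.map_map]
      have h1 : (MulAut.conj (loc hS b k)).toMonoidHom.comp (loc hS b) =
          (loc hS b).comp (MulAut.conj k).toMonoidHom := by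
        ext1 x; simp
      rw [h1, ← Subgroup.map_map]
      congr 1
      apply Components.map_conj_eq_of_mem_normalizer
      rw [← subgroupOf_normalizer_eq hXb]
      exact hXn k.2
    rcases bot_or_alt_le (by omega) hn with hb | hb
    · have h1 : f ⟨g, hgX⟩ = 1 := mem_bot.mp (hb ▸ ⟨⟨g, hgX⟩, rfl⟩)
      exact (loc_ker hS b ⟨g, hXb hgX⟩).mp h1
    · exact absurd hXfree (sect hc f hb)
  intro x
  obtain ⟨k, rfl⟩ := exists_smul_eq G b x
  have he : inKer (G := G) R b = outKer G R b :=
    le_antisymm (side _ hR.flip _ (cR' b) (hAout b) (inKer_le b) (inKer_normalized hR b) hBfree)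
      (side R hR _ (cR b) hAin (inKer_le b) (inKer_normalized hR.flip b) hAbfree)
  rw [← inKer_map hR, ← inKer_map hR.flip, he]

end Cfsg.Agent.Recog.AltSuborbit
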