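import Cfsg.Agent.Lib.Recog.AltTenData

/-!
# The group `2.S5` with one involution, inside `GL(4, 7)`

Every element is the identity, or has a power equal to `-1`, or is killed by the cyclotomic
polynomial of degree 2 or 4; so the group acts without fixed points on `F_7^4`.
-/

set_option autoImplicit false

namespace Cfsg.Agent.Recog.AltTen

open Matrix

/-- Matrices over the field with seven elements. -/
abbrev M4 := Matrix (Fin 4) (Fin 4) (ZMod 7)

/-- The matrix with a given code. -/
def toMat (n : ℕ) : M4 :=
  Matrix.of fun i j => ((n / 7 ^ (4 * i.val + j.val) % 7 : ℕ) : ZMod 7)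

/-- The matrix with a given index in the list of elements. -/
def el (i : ℕ) : M4 := toMat (elemCode.getD i 0)

/-- The first generator. -/
def genU : GL (Fin 4) (ZMod 7) :=
  ⟨toMat 14659155341926, toMat 3816339706689, by decide +kernel, by decide +kernel⟩

/-- The second generator. -/
def genV : GL (Fin 4) (ZMod 7) :=
  ⟨toMat 16274323543804, toMat 22497428787396, by decide +kernel, by decide +kernel⟩

/-- The group. -/
def K : Subgroup (GL (Fin 4) (ZMod 7)) := Subgroup.closure {genU, genV}

theorem el_zero : el 0 = 1 := by decide +kernel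

theorem left_table : ∀ i : Fin 240,
    (genU.val * el i = el (leftU.getD i 0) ∧ leftU.getD i 0 < 240) ∧
      (genV.val * el i = el (leftV.getD i 0) ∧ leftV.getD i 0 < 240) := by
  decide +kernel

theorem exists_el {g : GL (Fin 4) (ZMod 7)} (hg : g ∈ K) : ∃ i < 240, g.val = el i := by
  let S : Submonoid (GL (Fin 4) (ZMod 7)) :=
    { carrier := {g | ∀ i < 240, ∃ j < 240, g.val * el i = el j}
      one_mem' := fun i hi => ⟨i, hi, by rw [Units.val_one, one_mul]⟩
      mul_mem' := fun {a b} ha hb i hi => by
        obtain ⟨j, hj, h⟩ := hb i hi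
        obtain ⟨k, hk, h'⟩ := ha j hj
        exact ⟨k, hk, by rw [Units.val_mul, mul_assoc, h, h']⟩ }
  suffices g ∈ S by
    obtain ⟨j, hj, h⟩ := this 0 (by norm_num)
    rw [el_zero, mul_one] at h
    exact ⟨j, hj, h⟩
  induction hg using Subgroup.closure_induction with
  | mem x hx =>
    intro i hi
    obtain ⟨⟨h1, h2⟩, h3, h4⟩ := left_table ⟨i, hi⟩
    rcases hx with rfl | rfl
    · exact ⟨_, h2, h1⟩
    · exact ⟨_, h4, h3⟩
  | one => exact one_mem S
  | mul x y _ _ hx hy => exact mul_mem hx hy
  | inv x _ hx =>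
    have : x ^ (orderOf x - 1) = x⁻¹ := by
      refine eq_inv_of_mul_eq_one_left ?_
      rw [← pow_succ, Nat.sub_add_cancel (orderOf_pos x), pow_orderOf_eq_one]
    exact this ▸ pow_mem hx _

/-- The chain of powers is correct, and its last member decides the element. -/
def goodRow (i : ℕ) : Prop :=
  let l := powIdx.getD i []
  (i = 0) ∨ ((l.getD 0 0 = i ∧ l.length ≤ 6 ∧
    ∀ k : Fin 6, k.val + 1 < l.length → el i * el (l.getD k.val 0) = el (l.getD (k.val + 1) 0)) ∧
    ((1 ≤ l.length ∧ el (l.getD (l.length - 1) 0) = -1) ∨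
      (l.length = 2 ∧ el (l.getD 1 0) + el i + 1 = 0) ∨
      (l.length = 4 ∧ el (l.getD 3 0) + el (l.getD 2 0) + el (l.getD 1 0) + el i + 1 = 0)))

theorem good_rows : ∀ i : Fin 240, goodRow i.val := by
  unfold goodRow
  decide +kernel

end Cfsg.Agent.Recog.AltTen
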