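import Cfsg.Agent.Lib.Recog.PGLTwoOrders
import Cfsg.Agent.Lib.Recog.Spectrum

/-!
# `PGL(2, p)` shares its element orders with an extension of `PSL(2, p)` by a `2`-group
-/

namespace Cfsg.Agent.Recog.PGLTwo

open Matrix

/-- The left component of a power in a semidirect product with abelian kernel. -/
theorem semidirect_pow_left {V G : Type*} [CommGroup V] [Group G] (φ : G →* MulAut V)
    (x : V ⋊[φ] G) (n : ℕ) :
    (x ^ n).left = ∏ i ∈ Finset.range n, φ (x.right ^ i) x.left ∧ (x ^ n).right = x.right ^ n := by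
  induction n with
  | zero => simp
  | succ n ih =>
    rw [pow_succ, SemidirectProduct.mul_left, SemidirectProduct.mul_right, ih.1, ih.2,
      Finset.prod_range_succ, ← pow_succ]
    exact ⟨rfl, rfl⟩

/-- Translation on functions. -/
def shiftAut (G M : Type*) [Group G] [Group M] : G →* MulAut (G → M) where
  toFun g :=
    { toFun := fun v x => v (g⁻¹ * x)
      invFun := fun v x => v (g * x)
      left_inv := fun v => funext fun x => by simp
      right_inv := fun v => funext fun x => by simp
      map_mul' := fun v w => rfl }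
  map_one' := MulEquiv.ext fun v => funext fun x => by simp
  map_mul' g h := MulEquiv.ext fun v => funext fun x => by
    show v ((g * h)⁻¹ * x) = v (h⁻¹ * (g⁻¹ * x))
    rw [_root_.mul_inv_rev, mul_assoc]

/-- Restriction of an action to an invariant subgroup. -/
def restrictAut {G V : Type*} [Group G] [Group V] (φ : G →* MulAut V) (W : Subgroup V)
    (h : ∀ g, ∀ v ∈ W, φ g v ∈ W) : G →* MulAut W where
  toFun g :=
    { toFun := fun v => ⟨φ g v, h g v v.2⟩
      invFun := fun v => ⟨φ g⁻¹ v, h g⁻¹ v v.2⟩
      left_inv := fun v => Subtype.ext (by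
        show φ g⁻¹ (φ g v) = v
        rw [← MulAut.mul_apply, ← map_mul, inv_mul_cancel, map_one]; rfl)
      right_inv := fun v => Subtype.ext (by
        show φ g (φ g⁻¹ v) = v
        rw [← MulAut.mul_apply, ← map_mul, mul_inv_cancel, map_one]; rfl)
      map_mul' := fun v w => Subtype.ext (map_mul (φ g) (v : V) w) }
  map_one' := MulEquiv.ext fun v => Subtype.ext (by show φ 1 (v : V) = v; rw [map_one]; rfl)
  map_mul' g g' := MulEquiv.ext fun v => Subtype.ext (by
    show φ (g * g') (v : V) = φ g (φ g' v); rw [map_mul]; rfl)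

theorem dvd_mul_two_of_orders {a b n : ℕ} (h : n ∣ a) (hb : b = a * 2) :
    n ∣ b ∧ 2 * n ∣ b :=
  ⟨hb ▸ dvd_mul_of_dvd_left h 2, hb ▸ mul_comm a 2 ▸ mul_dvd_mul_left 2 h⟩

variable {F : Type} [Field F] [Fintype F]

/-- For a prime `p ≥ 5` there is a non-trivial `2`-group `V` acted on by `PSL(2, p)` such that the
semidirect product has the element orders of `PGL(2, p)`. -/
theorem exists_module (hp : (Fintype.card F).Prime) (h5 : 4 < Fintype.card F) :
    ∃ (V : Type) (_ : CommGroup V) (_ : Finite V) (_ : Nontrivial V)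
      (φ : Matrix.ProjectiveSpecialLinearGroup (Fin 2) F →* MulAut V),
      (∀ v : V, v ^ 2 = 1) ∧
      Set.range (orderOf : V ⋊[φ] Matrix.ProjectiveSpecialLinearGroup (Fin 2) F → ℕ) =
        Set.range (orderOf : PGL F → ℕ) := by
  classical
  set p := Fintype.card F with hpdef
  have hpF : Fact p.Prime := ⟨hp⟩
  have hchar : CharP F p := charP_of_card_eq_prime hpdef.symm
  have hodd : Odd p := hp.odd_of_ne_two (by omega)
  let PSL := Matrix.ProjectiveSpecialLinearGroup (Fin 2) F
  obtain ⟨se, hseo, hse10, hset0, hsens⟩ := exists_psl_elliptic (F := F) hodd h5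
  set t₀ := (se : Matrix (Fin 2) (Fin 2) F).trace with ht₀
  have h2 : (2 : F) ≠ 0 := by
    intro h2
    have h2' : ((2 : ℕ) : F) = 0 := by exact_mod_cast h2
    have := (CharP.cast_eq_zero_iff F p 2).1 h2'
    have := Nat.le_of_dvd two_pos this
    omega
  -- the indicator of the trace `± t₀`
  let φ₀ : F → Multiplicative (ZMod 2) := fun t =>
    if t = t₀ ∨ t = -t₀ then Multiplicative.ofAdd 1 else 1
  have hφneg : ∀ t, φ₀ (-t) = φ₀ t := fun t => by
    simp only [φ₀, neg_eq_iff_eq_neg, neg_neg, or_comm]
  have hφsq : ∀ t, φ₀ t ≠ 1 → ¬ IsSquare (t ^ 2 - 4) := by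
    intro t ht
    have : t = t₀ ∨ t = -t₀ := by
      by_contra hne
      exact ht (if_neg hne)
    rcases this with rfl | rfl
    · exact hsens
    · rw [neg_sq]; exact hsens
  let f : PSL → Multiplicative (ZMod 2) := fun x =>
    φ₀ ((Quotient.out x : SpecialLinearGroup (Fin 2) F) : Matrix (Fin 2) (Fin 2) F).trace
  have hf : ∀ s : SpecialLinearGroup (Fin 2) F,
      f (QuotientGroup.mk s) = φ₀ (s : Matrix (Fin 2) (Fin 2) F).trace := by
    intro s
    set u : SpecialLinearGroup (Fin 2) F := Quotient.out (QuotientGroup.mk s : PSL) with hu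
    have h1 : (QuotientGroup.mk (s⁻¹ * u) : PSL) = 1 := by
      rw [QuotientGroup.mk_mul, QuotientGroup.mk_inv, inv_mul_eq_one]
      exact (Quotient.out_eq (QuotientGroup.mk s : PSL)).symm
    obtain ⟨c, hc⟩ := (sl_mk_eq_one_iff _).1 h1
    have hu' : (u : Matrix (Fin 2) (Fin 2) F) = c • (s : Matrix (Fin 2) (Fin 2) F) := by
      calc (u : Matrix (Fin 2) (Fin 2) F)
          = ((s * (s⁻¹ * u) : SpecialLinearGroup (Fin 2) F) : Matrix (Fin 2) (Fin 2) F) := by
            rw [mul_inv_cancel_left]
        _ = c • (s : Matrix (Fin 2) (Fin 2) F) := by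
            rw [Matrix.SpecialLinearGroup.coe_mul, hc, mul_smul_comm, mul_one]
    have hcd := congrArg Matrix.det hc
    rw [Matrix.SpecialLinearGroup.det_coe, Matrix.det_smul, Matrix.det_one, mul_one, Fintype.card_fin,
      eq_comm, sq_eq_one_iff] at hcd
    show φ₀ (u : Matrix (Fin 2) (Fin 2) F).trace = _
    rw [hu', Matrix.trace_smul, smul_eq_mul]
    rcases hcd with rfl | rfl
    · rw [one_mul]
    · rw [neg_one_mul, hφneg]
  -- the module
  let gen : PSL × PSL → (PSL → Multiplicative (ZMod 2)) := fun ab x => f (ab.1 * x * ab.2)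
  let W : Subgroup (PSL → Multiplicative (ZMod 2)) := Subgroup.closure (Set.range gen)
  have hW : ∀ g : PSL, ∀ v ∈ W, shiftAut PSL (Multiplicative (ZMod 2)) g v ∈ W := by
    intro g v hv
    induction hv using Subgroup.closure_induction with
    | mem v hv =>
      obtain ⟨⟨a, b⟩, rfl⟩ := hv
      refine Subgroup.subset_closure ⟨(a * g⁻¹, b), funext fun x => ?_⟩
      show f (a * g⁻¹ * x * b) = f (a * (g⁻¹ * x) * b)
      rw [← mul_assoc a]
    | one => rw [map_one]; exact one_mem W
    | mul v w _ _ hv hw => rw [map_mul]; exact mul_mem hv hw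
    | inv v _ hv => rw [map_inv]; exact inv_mem hv
  let φ : PSL →* MulAut W := restrictAut (shiftAut PSL (Multiplicative (ZMod 2))) W hW
  have hexp : ∀ v : W, v ^ 2 = 1 := fun v => Subtype.ext (funext fun x => by
    show ((v : PSL → Multiplicative (ZMod 2)) x) ^ 2 = 1
    generalize (v : PSL → Multiplicative (ZMod 2)) x = m
    revert m
    decide)
  have hval : ∀ (g : PSL) (v : W) (n : ℕ) (y : PSL),
      (((⟨v, g⟩ : W ⋊[φ] PSL) ^ n).left : PSL → Multiplicative (ZMod 2)) y =
        ∏ i ∈ Finset.range n, (v : PSL → Multiplicative (ZMod 2)) ((g ^ i)⁻¹ * y) := by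
    intro g v n y
    rw [(semidirect_pow_left φ _ n).1, Subgroup.val_finsetProd, Finset.prod_apply]
    rfl
  have hker : ∀ z ∈ (SemidirectProduct.rightHom : W ⋊[φ] PSL →* PSL).ker, z ^ 2 = 1 := by
    intro z hz
    rw [MonoidHom.mem_ker, SemidirectProduct.rightHom_eq_right] at hz
    have : z = SemidirectProduct.inl z.left := by ext <;> simp [hz]
    rw [this, ← map_pow, hexp, map_one]
  have : Finite (W ⋊[φ] PSL) := Finite.of_equiv _ SemidirectProduct.equivProd.symm
  -- elements of order `p` centralise nothing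
  have hunip : ∀ g : PSL, orderOf g = p → ∀ (v : W) (y : PSL),
      ∏ i ∈ Finset.range p, (v : PSL → Multiplicative (ZMod 2)) ((g ^ i)⁻¹ * y) = 1 := by
    intro g hg
    obtain ⟨s, hs, hst⟩ : ∃ s : SpecialLinearGroup (Fin 2) F,
        (QuotientGroup.mk s : PSL) = g⁻¹ ∧ (s : Matrix (Fin 2) (Fin 2) F).trace = 2 := by
      rcases psl_orders (p := p) hodd g⁻¹ with ⟨-, h⟩ | h | h
      · exact h
      all_goals
        exfalso
        rw [orderOf_inv, hg] at h
        have := Nat.le_of_dvd (by omega) h
        omega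
    set N : Matrix (Fin 2) (Fin 2) F := (s : Matrix (Fin 2) (Fin 2) F) - 1 with hN
    have hNN : N * N = 0 := by
      have h := cayley (s : Matrix (Fin 2) (Fin 2) F)
      rw [hst, s.det_coe, one_smul] at h
      rw [hN, sub_mul, one_mul, mul_sub, mul_one, h, two_smul]
      abel
    have hpowN : ∀ i : ℕ, (s : Matrix (Fin 2) (Fin 2) F) ^ i = 1 + (i : F) • N := by
      intro i
      induction i with
      | zero => simp
      | succ i ih =>
        rw [pow_succ, ih, show (s : Matrix (Fin 2) (Fin 2) F) = 1 + N by rw [hN]; abel, add_mul,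
          one_mul, smul_mul_assoc, mul_add, mul_one, hNN, add_zero, Nat.cast_succ, add_smul, one_smul]
        abel
    intro v
    induction v using Subtype.recOn with
    | mk v hv =>
    induction hv using Subgroup.closure_induction with
    | mem v hv =>
      obtain ⟨⟨a, b⟩, rfl⟩ := hv
      intro y
      obtain ⟨A, rfl⟩ := QuotientGroup.mk_surjective a
      obtain ⟨B, rfl⟩ := QuotientGroup.mk_surjective b
      obtain ⟨Y, rfl⟩ := QuotientGroup.mk_surjective y
      set Z : SpecialLinearGroup (Fin 2) F := Y * B * A with hZ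
      have heach : ∀ i : ℕ, gen (QuotientGroup.mk A, QuotientGroup.mk B) ((g ^ i)⁻¹ * QuotientGroup.mk Y) =
          φ₀ ((Z : Matrix (Fin 2) (Fin 2) F).trace + (i : F) * (N * (Z : Matrix (Fin 2) (Fin 2) F)).trace) := by
        intro i
        show f (QuotientGroup.mk A * ((g ^ i)⁻¹ * QuotientGroup.mk Y) * QuotientGroup.mk B) = _
        rw [← inv_pow, ← hs, ← QuotientGroup.mk_pow, ← QuotientGroup.mk_mul, ← QuotientGroup.mk_mul,
          ← QuotientGroup.mk_mul, hf]
        congr 1
        rw [hZ]
        simp only [Matrix.SpecialLinearGroup.coe_mul, Matrix.SpecialLinearGroup.coe_pow]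
        rw [mul_assoc, Matrix.trace_mul_comm, hpowN, add_mul, add_mul, one_mul, add_mul,
          Matrix.trace_add, smul_mul_assoc, smul_mul_assoc, smul_mul_assoc, Matrix.trace_smul,
          smul_eq_mul]
        simp only [mul_assoc]
      simp only [heach]
      set α := (Z : Matrix (Fin 2) (Fin 2) F).trace with hα
      set β := (N * (Z : Matrix (Fin 2) (Fin 2) F)).trace with hβ
      by_cases hβ0 : β = 0
      · have hα1 : φ₀ α = 1 := by
          by_contra hne
          apply hφsq _ hne
          have hd := Z.det_coe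
          rw [Matrix.det_fin_two] at hd
          have hN0 : N ≠ 0 := by
            intro h0
            rw [hN, sub_eq_zero] at h0
            have hg1 : g⁻¹ = 1 := by
              rw [← hs, sl_mk_eq_one_iff]
              exact ⟨1, by rw [h0, one_smul]⟩
            rw [inv_eq_one.1 hg1, orderOf_one] at hg
            omega
          have hNtr : N 0 0 + N 1 1 = 0 := by
            have : N.trace = 0 := by
              rw [hN, Matrix.trace_sub, hst, Matrix.trace_one, Fintype.card_fin]; norm_num
            rwa [Matrix.trace_fin_two] at this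
          have hN11 : N 1 1 = -N 0 0 := by linear_combination hNtr
          have hsq : N 0 0 * N 0 0 + N 0 1 * N 1 0 = 0 := by
            have := congrFun (congrFun hNN 0) 0
            simpa [Matrix.mul_apply, Fin.sum_univ_two] using this
          rw [hβ, Matrix.trace_fin_two, Matrix.mul_apply, Matrix.mul_apply, Fin.sum_univ_two,
            Fin.sum_univ_two, hN11] at hβ0
          rw [hα, Matrix.trace_fin_two]
          by_cases hb : N 0 1 = 0
          · have ha : N 0 0 = 0 := by
              rw [hb, zero_mul, add_zero] at hsq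
              exact mul_self_eq_zero.1 hsq
            have hc : N 1 0 ≠ 0 := by
              intro hc
              apply hN0
              ext i j
              fin_cases i <;> fin_cases j <;> simp [ha, hb, hc, hN11]
            rw [ha, hb] at hβ0
            have h01 : (Z : Matrix (Fin 2) (Fin 2) F) 0 1 = 0 := by
              have : N 1 0 * (Z : Matrix (Fin 2) (Fin 2) F) 0 1 = 0 := by linear_combination hβ0
              exact (mul_eq_zero.1 this).resolve_left hc
            refine ⟨(Z : Matrix (Fin 2) (Fin 2) F) 0 0 - (Z : Matrix (Fin 2) (Fin 2) F) 1 1, ?_⟩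
            linear_combination 4 * hd + 4 * (Z : Matrix (Fin 2) (Fin 2) F) 1 0 * h01
          · refine ⟨((Z : Matrix (Fin 2) (Fin 2) F) 0 0 - (Z : Matrix (Fin 2) (Fin 2) F) 1 1) -
              2 * N 0 0 * (Z : Matrix (Fin 2) (Fin 2) F) 0 1 / N 0 1, ?_⟩
            field_simp
            linear_combination 4 * (N 0 1) ^ 2 * hd +
              4 * (Z : Matrix (Fin 2) (Fin 2) F) 0 1 * N 0 1 * hβ0 -
              4 * (Z : Matrix (Fin 2) (Fin 2) F) 0 1 ^ 2 * hsq
        exact Finset.prod_eq_one fun i _ => by rw [hβ0, mul_zero, add_zero, hα1]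
      · -- the affine map `i ↦ α + i β` is a bijection onto `F`
        have hbij : ∏ i ∈ Finset.range p, φ₀ (α + (i : F) * β) = ∏ t : F, φ₀ t := by
          have hinj : Set.InjOn (fun i : ℕ => α + (i : F) * β) (Finset.range p : Set ℕ) := by
            intro i hi j hj hij
            have h' : (i : F) = j := mul_right_cancel₀ hβ0 (add_left_cancel hij)
            exact CharP.natCast_injOn_Iio F p (by simpa using hi) (by simpa using hj) h'
          rw [← Finset.prod_image (g := fun i : ℕ => α + (i : F) * β) hinj]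
          refine Finset.prod_congr (Finset.eq_univ_of_card _ ?_) fun _ _ => rfl
          rw [Finset.card_image_of_injOn hinj, Finset.card_range]
        rw [hbij]
        have : ∏ t : F, φ₀ t = ∏ t ∈ ({t₀, -t₀} : Finset F), φ₀ t := by
          refine (Finset.prod_subset (Finset.subset_univ _) fun t _ ht => ?_).symm
          simp only [Finset.mem_insert, Finset.mem_singleton] at ht
          exact if_neg ht
        have hne : t₀ ≠ -t₀ := fun h => hset0 (mul_left_cancel₀ h2
          (show 2 * t₀ = 2 * 0 by linear_combination h))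
        rw [this, Finset.prod_pair hne, hφneg]
        generalize φ₀ t₀ = m
        revert m
        decide
    | one => intro y; simp
    | mul v w _ _ hv hw =>
      intro y
      simp only [Pi.mul_apply, Finset.prod_mul_distrib]
      rw [hv, hw, one_mul]
    | inv v _ hv =>
      intro y
      simp only [Pi.inv_apply, Finset.prod_inv_distrib]
      rw [hv, inv_one]
  -- torus elements centralise something
  have htorus : ∀ s : SpecialLinearGroup (Fin 2) F, (s : Matrix (Fin 2) (Fin 2) F) 1 0 ≠ 0 →
      (s : Matrix (Fin 2) (Fin 2) F).trace ^ 2 ≠ 4 →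
      ∃ x : W ⋊[φ] PSL, orderOf x = 2 * orderOf (QuotientGroup.mk s : PSL) := by
    intro s hc hdisc
    set M := (s : Matrix (Fin 2) (Fin 2) F) with hM
    set g : PSL := QuotientGroup.mk s with hg
    set ε := (M.trace / 2) ^ 2 - 1 with hε
    have h4 : (4 : F) ≠ 0 := by
      rw [show (4 : F) = 2 * 2 by norm_num]; exact mul_ne_zero h2 h2
    have hε0 : ε ≠ 0 := by
      intro h
      apply hdisc
      rw [hε, sub_eq_zero, div_pow, div_eq_iff (pow_ne_zero 2 h2), one_mul] at h
      rw [h]; norm_num
    set a := (M 0 0 - M 1 1) / 2 with ha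
    obtain ⟨X, w, hXw⟩ := FiniteField.exists_root_sum_quadratic (R := F)
      (f := Polynomial.X ^ 2 + Polynomial.C (M 1 0 ^ 2 * (1 - (t₀ / 2) ^ 2)))
      (g := Polynomial.C (-ε) * Polynomial.X ^ 2)
      (by compute_degree!) (Polynomial.degree_C_mul_X_pow 2 (neg_ne_zero.2 hε0))
      (Nat.odd_iff.1 hodd)
    simp only [Polynomial.eval_add, Polynomial.eval_pow, Polynomial.eval_X, Polynomial.eval_C,
      Polynomial.eval_mul] at hXw
    set u := (X + a * w) / M 1 0 with hu
    set v := -(2 * a * u + M 0 1 * w) / M 1 0 with hv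
    have hdet0 : M 0 0 * M 1 1 - M 0 1 * M 1 0 = 1 := by
      have := s.det_coe
      rwa [Matrix.det_fin_two] at this
    have hdet : (!![t₀ / 2 + u, v; w, t₀ / 2 - u] : Matrix (Fin 2) (Fin 2) F).det = 1 := by
      rw [Matrix.det_fin_two]
      simp only [Matrix.of_apply, Matrix.cons_val', Matrix.cons_val_zero, Matrix.cons_val_one,
        Matrix.cons_val_fin_one]
      rw [hε, Matrix.trace_fin_two] at hXw
      have hu' : M 1 0 * u = X + a * w := by rw [hu, mul_div_cancel₀ _ hc]
      have hv' : M 1 0 * v = -(2 * a * u + M 0 1 * w) := by rw [hv, mul_div_cancel₀ _ hc]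
      have h22 : (2 : F) * 2⁻¹ = 1 := mul_inv_cancel₀ h2
      refine sub_eq_zero.1 ((mul_eq_zero.1 (?_ : M 1 0 ^ 2 * _ = 0)).resolve_left (pow_ne_zero 2 hc))
      rw [ha] at hu' hv'
      linear_combination -hXw - w ^ 2 * hdet0 - w ^ 2 * M 0 0 * M 1 1 * (2 * 2⁻¹ + 1) * h22 -
        (X + M 1 0 * u - (M 0 0 - M 1 1) / 2 * w) * hu' - M 1 0 * w * hv'
    set g₀ : SpecialLinearGroup (Fin 2) F := ⟨!![t₀ / 2 + u, v; w, t₀ / 2 - u], hdet⟩ with hg₀
    have hsg : (M * (g₀ : Matrix (Fin 2) (Fin 2) F)).trace = M.trace * t₀ / 2 := by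
      show (M * !![t₀ / 2 + u, v; w, t₀ / 2 - u]).trace = _
      rw [Matrix.trace_fin_two, Matrix.trace_fin_two, Matrix.mul_apply, Matrix.mul_apply,
        Fin.sum_univ_two, Fin.sum_univ_two]
      simp only [Matrix.of_apply, Matrix.cons_val', Matrix.cons_val_zero, Matrix.cons_val_one,
        Matrix.cons_val_fin_one]
      rw [hv, ha, mul_div_cancel₀ _ hc, mul_div_cancel₀ _ h2]
      ring
    have htr0 : (g₀ : Matrix (Fin 2) (Fin 2) F).trace = t₀ := by
      show (!![t₀ / 2 + u, v; w, t₀ / 2 - u] : Matrix (Fin 2) (Fin 2) F).trace = t₀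
      rw [Matrix.trace_fin_two]
      simp only [Matrix.of_apply, Matrix.cons_val', Matrix.cons_val_zero, Matrix.cons_val_one,
        Matrix.cons_val_fin_one]
      rw [add_add_sub_cancel, ← two_mul, mul_div_cancel₀ _ h2]
    have hlin : ∀ i : ℕ, ∃ x y : F, M ^ i = x • 1 + y • M := by
      intro i
      induction i with
      | zero => exact ⟨1, 0, by simp⟩
      | succ i ih =>
        obtain ⟨x, y, h⟩ := ih
        refine ⟨-y, x + y * M.trace, ?_⟩
        rw [pow_succ, h, add_mul, smul_mul_assoc, smul_mul_assoc, one_mul, cayley, hM, s.det_coe,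
          smul_sub, smul_smul, one_smul, add_smul, neg_smul]
        abel
    set m := orderOf g with hm
    let vW : W := ⟨gen (1, QuotientGroup.mk g₀), Subgroup.subset_closure ⟨_, rfl⟩⟩
    let x : W ⋊[φ] PSL := ⟨vW, g⁻¹⟩
    have hone : ∀ i, i < m →
        (vW : PSL → Multiplicative (ZMod 2)) (((g⁻¹) ^ i)⁻¹ * 1) =
          if i = 0 then Multiplicative.ofAdd 1 else 1 := by
      intro i hi
      show f (1 * (((g⁻¹) ^ i)⁻¹ * 1) * QuotientGroup.mk g₀) = _
      rw [inv_pow, inv_inv, one_mul, mul_one, hg, ← QuotientGroup.mk_pow, ← QuotientGroup.mk_mul, hf,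
        Matrix.SpecialLinearGroup.coe_mul, Matrix.SpecialLinearGroup.coe_pow, ← hM]
      obtain ⟨x, y, hxy⟩ := hlin i
      have hd := congrArg Matrix.det hxy
      rw [Matrix.det_pow, hM, s.det_coe, one_pow, Matrix.det_fin_two] at hd
      simp only [Matrix.add_apply, Matrix.smul_apply, Matrix.one_apply, smul_eq_mul] at hd
      simp only [Fin.zero_eta, Fin.mk_one, ite_true, zero_ne_one, one_ne_zero, ite_false, mul_one,
        mul_zero, zero_add, if_true, if_false] at hd
      have htri : (M ^ i * (g₀ : Matrix (Fin 2) (Fin 2) F)).trace =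
          t₀ * ((2 * x + y * M.trace) / 2) := by
        rw [hxy, add_mul, smul_mul_assoc, smul_mul_assoc, one_mul, Matrix.trace_add, Matrix.trace_smul,
          Matrix.trace_smul, htr0, hsg, smul_eq_mul, smul_eq_mul]
        field_simp
      rw [htri]
      by_cases hy : y = 0
      · -- a scalar power
        have hi0 : i = 0 := by
          by_contra hi0
          have : g ^ i = 1 := (sl_mk_pow_eq_one_iff s i).2 ⟨x, by rw [← hM, hxy, hy, zero_smul, add_zero]⟩
          have := Nat.le_of_dvd (Nat.pos_of_ne_zero hi0) (orderOf_dvd_of_pow_eq_one this)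
          omega
        rw [if_pos hi0]
        rw [hy] at hd ⊢
        have hx2 : x ^ 2 = 1 := by linear_combination -hd
        rw [zero_mul, add_zero, mul_div_cancel_left₀ _ h2]
        rcases sq_eq_one_iff.1 hx2 with rfl | rfl
        · rw [mul_one]; exact if_pos (Or.inl rfl)
        · rw [mul_neg_one]; exact if_pos (Or.inr rfl)
      · have hi0 : i ≠ 0 := by
          rintro rfl
          rw [pow_zero] at hxy
          have := congrFun (congrFun hxy 1) 0
          simp only [Matrix.add_apply, Matrix.smul_apply, Matrix.one_apply_ne one_ne_zero, smul_eq_mul,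
            mul_zero, zero_add] at this
          exact hy ((mul_eq_zero.1 this.symm).resolve_right hc)
        rw [if_neg hi0]
        refine if_neg ?_
        intro hor
        apply hdisc
        have h1 : ((2 * x + y * M.trace) / 2) ^ 2 = 1 := by
          rcases hor with h | h
          · rw [mul_right_eq_self₀] at h; rcases h with h | h
            · rw [h, one_pow]
            · exact absurd h hset0
          · have : t₀ * ((2 * x + y * M.trace) / 2 + 1) = 0 := by linear_combination h
            rw [eq_neg_of_add_eq_zero_left ((mul_eq_zero.1 this).resolve_left hset0)]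
            norm_num
        rw [div_pow, div_eq_iff (pow_ne_zero 2 h2), Matrix.trace_fin_two] at h1
        rw [Matrix.trace_fin_two]
        have : y ^ 2 * ((M 0 0 + M 1 1) ^ 2 - 4) = 0 := by
          linear_combination h1 + 4 * hd + 4 * y ^ 2 * hdet0
        exact sub_eq_zero.1 ((mul_eq_zero.1 this).resolve_left (pow_ne_zero 2 hy))
    have hxm : x ^ m ≠ 1 := by
      intro h
      have h1 := congrArg (fun z : W ⋊[φ] PSL => (z.left : PSL → Multiplicative (ZMod 2)) 1) h
      rw [hval] at h1
      rw [Finset.prod_congr rfl fun i hi => hone i (Finset.mem_range.1 hi)] at h1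
      rw [Finset.prod_ite_eq' (Finset.range m) 0 (fun _ => Multiplicative.ofAdd (1 : ZMod 2)),
        if_pos (Finset.mem_range.2 (orderOf_pos g))] at h1
      simp [SemidirectProduct.one_left] at h1
    obtain ⟨-, h4'⟩ := orderOf_of_hom SemidirectProduct.rightHom hker x (isOfFinOrder_of_finite _)
    refine ⟨x, ?_⟩
    have hr : orderOf (SemidirectProduct.rightHom x) = m := by
      show orderOf g⁻¹ = m
      rw [orderOf_inv]
    rw [hr] at h4'
    exact h4' hxm
  -- assembly
  obtain ⟨ss, hsso, hss10, hssd⟩ := exists_psl_split (F := F) hodd h5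
  obtain ⟨k, hk⟩ := id hodd
  have hmin : (p - 1) / 2 * 2 = p - 1 := by omega
  have hpl : (p + 1) / 2 * 2 = p + 1 := by omega
  obtain ⟨xm, hxm⟩ := htorus ss hss10 hssd
  obtain ⟨xp, hxp⟩ := htorus se hse10 (fun h => hsens ⟨0, by rw [h]; ring⟩)
  rw [hsso, mul_comm, hmin] at hxm
  rw [hseo, mul_comm, hpl] at hxp
  have : Nontrivial W := by
    by_contra hnt
    rw [not_nontrivial_iff_subsingleton] at hnt
    have h1 : xp ^ ((p + 1) / 2) = 1 := by
      refine SemidirectProduct.ext (Subsingleton.elim _ _) ?_
      have h2 : SemidirectProduct.rightHom (xp ^ ((p + 1) / 2)) = 1 := by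
        rcases psl_orders (p := p) hodd (SemidirectProduct.rightHom xp) with ⟨h, -⟩ | h | h
        · exfalso
          have h' := orderOf_map_dvd (SemidirectProduct.rightHom : W ⋊[φ] PSL →* PSL) xp
          rw [h, hxp] at h'
          have := (Nat.dvd_add_right (dvd_refl p)).1 h'
          have := Nat.le_of_dvd one_pos this
          omega
        · exfalso
          have h' : xp ^ ((p - 1) / 2) = 1 := SemidirectProduct.ext (Subsingleton.elim _ _)
            (show SemidirectProduct.rightHom (xp ^ ((p - 1) / 2)) = 1 by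
              rw [map_pow]; exact orderOf_dvd_iff_pow_eq_one.1 h)
          have := Nat.le_of_dvd (by omega) (orderOf_dvd_of_pow_eq_one h')
          omega
        · rw [map_pow]; exact orderOf_dvd_iff_pow_eq_one.1 h
      exact h2
    have := Nat.le_of_dvd (by omega) (orderOf_dvd_of_pow_eq_one h1)
    omega
  refine ⟨W, inferInstance, inferInstance, inferInstance, φ, hexp, Set.Subset.antisymm ?_ ?_⟩
  · rintro _ ⟨x, rfl⟩
    obtain ⟨h1, h2'⟩ := orderOf_of_hom SemidirectProduct.rightHom hker x (isOfFinOrder_of_finite _)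
    obtain ⟨gp, hgp⟩ := exists_pgl_order_char (F := F) (p := p)
    obtain ⟨gm, hgm⟩ := exists_pgl_order_sub_one (F := F)
    obtain ⟨gl, hgl⟩ := exists_pgl_order_add_one (F := F)
    have hdiv : ∀ (y : PGL F) (d : ℕ), d ∣ orderOf y → d ∈ Set.range (orderOf : PGL F → ℕ) := by
      intro y d hd
      refine ⟨y ^ (orderOf y / d), ?_⟩
      rw [orderOf_pow_of_dvd (Nat.div_pos (Nat.le_of_dvd (orderOf_pos y) hd)
        (Nat.pos_of_dvd_of_pos hd (orderOf_pos y))).ne' (Nat.div_dvd_of_dvd hd),
        Nat.div_div_self hd (orderOf_pos y).ne']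
    rcases psl_orders (p := p) hodd (SemidirectProduct.rightHom x) with ⟨ho, -⟩ | ho | ho
    · refine ⟨gp, hgp.trans ((h1 ?_).trans ho).symm⟩
      rw [ho]
      refine SemidirectProduct.ext (Subtype.ext (funext fun y => ?_)) ?_
      · rw [show x = (⟨x.left, x.right⟩ : W ⋊[φ] PSL) from rfl, hval]
        exact hunip x.right ho x.left y
      · show SemidirectProduct.rightHom (x ^ p) = 1
        rw [map_pow, ← ho, pow_orderOf_eq_one]
    · obtain ⟨e1, e2⟩ := dvd_mul_two_of_orders ho hmin.symm
      by_cases hx : x ^ orderOf (SemidirectProduct.rightHom x) = 1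
      · rw [h1 hx]; exact hdiv gm _ (hgm ▸ e1)
      · rw [h2' hx]; exact hdiv gm _ (hgm ▸ e2)
    · obtain ⟨e1, e2⟩ := dvd_mul_two_of_orders ho hpl.symm
      by_cases hx : x ^ orderOf (SemidirectProduct.rightHom x) = 1
      · rw [h1 hx]; exact hdiv gl _ (hgl ▸ e1)
      · rw [h2' hx]; exact hdiv gl _ (hgl ▸ e2)
  · rintro _ ⟨y, rfl⟩
    have hdiv : ∀ (z : W ⋊[φ] PSL) (d : ℕ), d ∣ orderOf z →
        d ∈ Set.range (orderOf : W ⋊[φ] PSL → ℕ) := by
      intro z d hd
      refine ⟨z ^ (orderOf z / d), ?_⟩
      rw [orderOf_pow_of_dvd (Nat.div_pos (Nat.le_of_dvd (orderOf_pos z) hd)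
        (Nat.pos_of_dvd_of_pos hd (orderOf_pos z))).ne' (Nat.div_dvd_of_dvd hd),
        Nat.div_div_self hd (orderOf_pos z).ne']
    rcases pgl_orders (p := p) y with h | h | h
    · obtain ⟨g, hg⟩ := exists_psl_order_char (F := F) (p := p)
      exact ⟨SemidirectProduct.inr g,
        (orderOf_injective _ SemidirectProduct.inr_injective g).trans (hg.trans h.symm)⟩
    · exact hdiv xm _ (hxm.symm ▸ h)
    · exact hdiv xp _ (hxp.symm ▸ h)

end Cfsg.Agent.Recog.PGLTwo
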