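import Cfsg.Agent.Lib.Recog.Spectrum
import Cfsg.Agent.Lib.Recog.PGLTwoOrders

/-!
# Groups with a prescribed prime graph

If `L` acts on a non-trivial group `V` of prime exponent `p` dividing `|L|` and every element of prime
order `r ≠ p` with a non-trivial fixed point already has order `r` with `p` joined to `r` in `L`, then
`V ^ k ⋊ L` has the prime graph of `L`.
-/

namespace Cfsg.Agent.Recog.PrimeGraph

open Matrix PGLTwo

/-- The workhorse. -/
theorem exists_primeGraph {V L : Type*} [Group V] [Group L] [Finite V] [Nontrivial V] [Finite L]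
    (φ : L →* MulAut V) {p : ℕ} [hp : Fact p.Prime] (hexp : ∀ v : V, v ^ p = 1)
    (hcomm : ∀ u v : V, u * v = v * u) (hdvd : p ∣ Nat.card L)
    (hfix : ∀ g : L, (orderOf g).Prime → orderOf g ≠ p → ∀ v : V, v ≠ 1 → φ g v = v →
      ∃ x : L, orderOf x = p * orderOf g)
    (N : ℕ) :
    ∃ (H : Type) (_ : Group H) (_ : Fintype H), N < Fintype.card H ∧
      ((∀ r : ℕ, r.Prime → (r ∣ Nat.card L ↔ r ∣ Nat.card H)) ∧
        ∀ r s : ℕ, r.Prime → s.Prime → r ≠ s →
          ((∃ x : L, orderOf x = r * s) ↔ ∃ y : H, orderOf y = r * s)) := by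
  obtain ⟨H, i1, i2, hN, hr⟩ := exists_large φ hexp N
  have : Finite (V ⋊[φ] L) := Finite.of_equiv _ SemidirectProduct.equivProd.symm
  have hker : ∀ y ∈ (SemidirectProduct.rightHom : V ⋊[φ] L →* L).ker, y ^ p = 1 := by
    intro y hy
    rw [MonoidHom.mem_ker, SemidirectProduct.rightHom_eq_right] at hy
    have : y = SemidirectProduct.inl y.left := by
      ext <;> simp [hy]
    rw [this, ← map_pow, hexp, map_one]
  have hfwd : ∀ x : L, ∃ y : H, orderOf y = orderOf x := by
    intro x
    have : orderOf x ∈ Set.range (orderOf : H → ℕ) := by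
      rw [hr]
      exact ⟨SemidirectProduct.inr x, orderOf_injective _ SemidirectProduct.inr_injective x⟩
    exact this
  refine ⟨H, i1, i2, hN, fun r hr' => ⟨fun h => ?_, fun h => ?_⟩, fun r s hr' hs hrs => ⟨?_, ?_⟩⟩
  · have := Fact.mk hr'
    obtain ⟨x, hx⟩ := exists_prime_orderOf_dvd_card' r h
    obtain ⟨y, hy⟩ := hfwd x
    rw [← hx, ← hy]
    exact orderOf_dvd_natCard y
  · have := Fact.mk hr'
    obtain ⟨y, hy⟩ := exists_prime_orderOf_dvd_card' r h
    have : r ∈ Set.range (orderOf : V ⋊[φ] L → ℕ) := hr ▸ ⟨y, hy⟩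
    obtain ⟨z, hz⟩ := this
    obtain ⟨h1, h2⟩ := orderOf_of_hom SemidirectProduct.rightHom hker z (isOfFinOrder_of_finite _)
    by_cases h0 : z ^ orderOf (SemidirectProduct.rightHom z) = 1
    · rw [← hz, h1 h0]
      exact orderOf_dvd_natCard _
    · have hpr : p ∣ r := ⟨_, hz ▸ h2 h0⟩
      rwa [← (Nat.prime_dvd_prime_iff_eq hp.out hr').1 hpr]
  · rintro ⟨x, hx⟩
    obtain ⟨y, hy⟩ := hfwd x
    exact ⟨y, hy.trans hx⟩
  · rintro ⟨y, hy⟩
    have : r * s ∈ Set.range (orderOf : V ⋊[φ] L → ℕ) := hr ▸ ⟨y, hy⟩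
    obtain ⟨z, hz⟩ := this
    obtain ⟨h1, h2⟩ := orderOf_of_hom SemidirectProduct.rightHom hker z (isOfFinOrder_of_finite _)
    set g := SemidirectProduct.rightHom z with hg
    by_cases h0 : z ^ orderOf g = 1
    · exact ⟨g, (h1 h0).symm.trans hz⟩
    have h3 : p * orderOf g = r * s := (h2 h0).symm.trans hz
    rw [← h3]
    have hgprime : (orderOf g).Prime ∧ orderOf g ≠ p := by
      rcases (Nat.Prime.dvd_mul hp.out).1 (h3 ▸ dvd_mul_right p _) with h | h
      · have e := (Nat.prime_dvd_prime_iff_eq hp.out hr').1 h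
        have : orderOf g = s := Nat.eq_of_mul_eq_mul_left hp.out.pos (h3.trans (by rw [e]))
        exact ⟨this ▸ hs, fun hh => hrs (e.symm.trans (hh.symm.trans this))⟩
      · have e := (Nat.prime_dvd_prime_iff_eq hp.out hs).1 h
        have : orderOf g = r :=
          Nat.eq_of_mul_eq_mul_left hp.out.pos (h3.trans (by rw [e, mul_comm]))
        exact ⟨this ▸ hr', fun hh => hrs (this.symm.trans (hh.trans e))⟩
    have hright : (z ^ orderOf g).right = 1 := by
      show SemidirectProduct.rightHom (z ^ orderOf g) = 1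
      rw [map_pow, hg, pow_orderOf_eq_one]
    refine hfix g hgprime.1 hgprime.2 (z ^ orderOf g).left
      (fun h => h0 (SemidirectProduct.ext h hright)) ?_
    have := congrArg SemidirectProduct.left (Commute.self_pow z (orderOf g)).eq
    rw [SemidirectProduct.mul_left, SemidirectProduct.mul_left, hright, map_one, MulAut.one_apply,
      hcomm (z ^ orderOf g).left] at this
    exact mul_left_cancel this

variable {F : Type*} [Field F] {n : Type*} [Fintype n] [DecidableEq n]

/-- A representation by invertible matrices, as an action on the column vectors. -/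
def vecAct {L : Type*} [Group L] (ρ : L →* GL n F) : L →* MulAut (Multiplicative (n → F)) where
  toFun g :=
    { toFun := fun v => Multiplicative.ofAdd ((ρ g : Matrix n n F) *ᵥ v.toAdd)
      invFun := fun v => Multiplicative.ofAdd ((ρ g⁻¹ : Matrix n n F) *ᵥ v.toAdd)
      left_inv := fun v => by
        simp [Matrix.mulVec_mulVec]
      right_inv := fun v => by
        simp [Matrix.mulVec_mulVec]
      map_mul' := fun v w => by
        simp [Matrix.mulVec_add] }
  map_one' := MulEquiv.ext fun v => by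
    show Multiplicative.ofAdd ((ρ 1 : Matrix n n F) *ᵥ v.toAdd) = v
    simp
  map_mul' g h := MulEquiv.ext fun v => by
    show Multiplicative.ofAdd ((ρ (g * h) : Matrix n n F) *ᵥ v.toAdd) =
      Multiplicative.ofAdd ((ρ g : Matrix n n F) *ᵥ ((ρ h : Matrix n n F) *ᵥ v.toAdd))
    rw [Matrix.mulVec_mulVec, map_mul, Units.val_mul]

omit [Fintype n] [DecidableEq n] in
theorem vecAct_exp (p : ℕ) [CharP F p] (v : Multiplicative (n → F)) : v ^ p = 1 := by
  apply Multiplicative.toAdd.injective
  funext i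
  show p • v.toAdd i = 0
  rw [nsmul_eq_mul, CharP.cast_eq_zero, zero_mul]

theorem vecAct_fix {L : Type*} [Group L] (ρ : L →* GL n F) {g : L} {v : Multiplicative (n → F)}
    (hv : v ≠ 1) (h : vecAct ρ g v = v) :
    v.toAdd ≠ 0 ∧ (ρ g : Matrix n n F) *ᵥ v.toAdd = v.toAdd :=
  ⟨fun h0 => hv (Multiplicative.toAdd.injective h0), congrArg Multiplicative.toAdd h⟩

section SL2

variable [CharP F 2]

/-- In characteristic two an element of `SL(2)` with a fixed non-zero vector is an involution. -/
theorem sl2_sq_eq_one (s : SpecialLinearGroup (Fin 2) F) {v : Fin 2 → F} (hv : v ≠ 0)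
    (h : (s : Matrix (Fin 2) (Fin 2) F) *ᵥ v = v) : s ^ 2 = 1 := by
  set M := (s : Matrix (Fin 2) (Fin 2) F) with hM
  have hd : (M - 1).det = 0 := by
    rw [← Matrix.exists_mulVec_eq_zero_iff]
    exact ⟨v, hv, by rw [Matrix.sub_mulVec, h, Matrix.one_mulVec, sub_self]⟩
  have h1 : M.det = 1 := s.det_coe
  have ht : M.trace = 0 := by
    rw [Matrix.det_fin_two] at hd h1
    rw [Matrix.trace_fin_two]
    simp at hd
    linear_combination h1 - hd + CharTwo.two_eq_zero (R := F)
  apply Subtype.ext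
  rw [Matrix.SpecialLinearGroup.coe_pow, pow_two, ← hM, cayley, ht, h1, zero_smul, one_smul,
    zero_sub, Matrix.SpecialLinearGroup.coe_one]
  ext i j
  simp [CharTwo.neg_eq]

/-- In characteristic two `SL(2)` has trivial centre. -/
theorem sl2_center : Subgroup.center (SpecialLinearGroup (Fin 2) F) = ⊥ := by
  rw [Subgroup.eq_bot_iff_forall]
  intro s hs
  obtain ⟨c, hc, hcs⟩ := Matrix.SpecialLinearGroup.mem_center_iff.1 hs
  have : c = 1 := by
    simp only [Fintype.card_fin] at hc
    have : (c + 1) ^ 2 = 0 := by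
      rw [CharTwo.add_sq, hc]
      simp [CharTwo.add_self_eq_zero]
    exact CharTwo.add_eq_zero.1 (pow_eq_zero_iff two_ne_zero |>.1 this)
  apply Subtype.ext
  rw [← hcs, this]
  simp

/-- `SL(2, q)` for even `q` acting on its natural module. -/
theorem exists_sl2 [Fintype F] (N : ℕ) :
    ∃ (H : Type) (_ : Group H) (_ : Fintype H), N < Fintype.card H ∧
      ((∀ r : ℕ, r.Prime → (r ∣ Nat.card (SpecialLinearGroup (Fin 2) F) ↔ r ∣ Nat.card H)) ∧
        ∀ r s : ℕ, r.Prime → s.Prime → r ≠ s →
          ((∃ x : SpecialLinearGroup (Fin 2) F, orderOf x = r * s) ↔ ∃ y : H, orderOf y = r * s)) := by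
  refine exists_primeGraph (vecAct (Matrix.SpecialLinearGroup.toGL)) (p := 2) (vecAct_exp 2)
    (fun u v => mul_comm u v) ?_ ?_ N
  · obtain ⟨x, hx⟩ : ∃ x : SpecialLinearGroup (Fin 2) F, orderOf x = 2 := by
      refine ⟨⟨!![1, 1; 0, 1], by simp [Matrix.det_fin_two]⟩, orderOf_eq_prime ?_ ?_⟩
      · refine sl2_sq_eq_one _ (v := ![1, 0]) (fun h => by simpa using congrFun h 0) ?_
        funext i
        fin_cases i <;> simp [Matrix.mulVec, dotProduct]
      · intro h
        have := congrFun (congrFun (congrArg Subtype.val h) 0) 1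
        simp at this
    exact (dvd_of_eq hx.symm).trans (orderOf_dvd_natCard x)
  · intro g hg h2 v hv hfix
    obtain ⟨h0, h1⟩ := vecAct_fix _ hv hfix
    exact absurd ((Nat.prime_dvd_prime_iff_eq hg Nat.prime_two).1
      (orderOf_dvd_of_pow_eq_one (sl2_sq_eq_one g h0 h1))) h2

/-- The natural map to `PGL(2)`. -/
def slToPGL : SpecialLinearGroup (Fin 2) F →* PGL F :=
  (QuotientGroup.mk' _).comp Matrix.SpecialLinearGroup.toGL

/-- In characteristic two over a finite field every class of `PGL(2)` has a representative of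
determinant one. -/
theorem sl2_to_pgl_surjective [Fintype F] : Function.Surjective (slToPGL (F := F)) := by
  intro x
  obtain ⟨g, rfl⟩ := QuotientGroup.mk_surjective x
  obtain ⟨c, hc⟩ := FiniteField.isSquare_of_char_two (ringChar.eq F 2)
    (g : Matrix (Fin 2) (Fin 2) F).det
  have hd : (g : Matrix (Fin 2) (Fin 2) F).det ≠ 0 :=
    (g.isUnit.map Matrix.detMonoidHom).ne_zero
  have hc0 : c ≠ 0 := fun h => hd (by rw [hc, h, mul_zero])
  have hs : (c⁻¹ • (g : Matrix (Fin 2) (Fin 2) F)).det = 1 := by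
    rw [Matrix.det_smul, hc, Fintype.card_fin, pow_two, mul_mul_mul_comm, inv_mul_cancel₀ hc0,
      one_mul]
  let s : SpecialLinearGroup (Fin 2) F := ⟨_, hs⟩
  refine ⟨s, ?_⟩
  show (QuotientGroup.mk _ : PGL F) = QuotientGroup.mk g
  rw [QuotientGroup.eq, Matrix.GeneralLinearGroup.mem_center_iff_val_mem_range_scalar]
  refine ⟨c, ?_⟩
  have hg : (g : Matrix (Fin 2) (Fin 2) F) =
      (Matrix.SpecialLinearGroup.toGL s : Matrix (Fin 2) (Fin 2) F) * Matrix.scalar (Fin 2) c := by
    show _ = (c⁻¹ • (g : Matrix (Fin 2) (Fin 2) F)) * _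
    rw [Matrix.scalar_apply, ← Matrix.smul_one_eq_diagonal, Matrix.mul_smul, mul_one, smul_smul,
      mul_inv_cancel₀ hc0, one_smul]
  rw [Units.val_mul, hg, ← mul_assoc, Units.inv_mul, one_mul]

/-- In characteristic two the element orders of `SL(2, q)` divide `2`, `q - 1` or `q + 1`. -/
theorem sl2_orders [Fintype F] (x : SpecialLinearGroup (Fin 2) F) :
    orderOf x = 2 ∨ orderOf x ∣ Fintype.card F - 1 ∨ orderOf x ∣ Fintype.card F + 1 := by
  let f : SpecialLinearGroup (Fin 2) F →* PGL F :=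
    (QuotientGroup.mk' _).comp Matrix.SpecialLinearGroup.toGL
  have hf : Function.Injective f := by
    rw [injective_iff_map_eq_one]
    intro s hs
    have := (gl_mk_eq_one_iff _).1 hs
    obtain ⟨c, hc⟩ := this
    rw [← Subgroup.mem_bot, ← sl2_center, Matrix.SpecialLinearGroup.mem_center_iff]
    refine ⟨c, ?_, ?_⟩
    · have := s.det_coe
      rw [show (s : Matrix (Fin 2) (Fin 2) F) = c • 1 from hc] at this
      simpa [Matrix.det_smul] using this
    · rw [show (s : Matrix (Fin 2) (Fin 2) F) = c • 1 from hc]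
      simp [Matrix.smul_one_eq_diagonal]
  rw [← orderOf_injective f hf x]
  exact pgl_orders _

end SL2

end Cfsg.Agent.Recog.PrimeGraph
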