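import Cfsg.Agent.Lib.Recog.AltTenGroup
import Cfsg.Agent.Lib.Recog.AltSpectrum
import Cfsg.Agent.Lib.Recog.PGLTwoSpectrum
import Cfsg.Agent.Lib.Recog.PrimeGraph

/-!
# A group with the element orders of `A_10`

`W ⋊ (7^4 ⋊ 2.S5)` where `W` is the `F_3`-module of functions on `2.S5` negated by the central
involution, on which `7^4` acts trivially.
-/

set_option autoImplicit false

namespace Cfsg.Agent.Recog.AltTen

open Matrix

instance factPrimeSeven : Fact (Nat.Prime 7) := ⟨by norm_num⟩

/-- The module of exponent seven. -/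
abbrev V7 := Multiplicative (Fin 4 → ZMod 7)

/-- The natural action. -/
def natAct : ↥K →* MulAut V7 := PrimeGraph.vecAct K.subtype

/-- The extension `7^4 ⋊ 2.S5`. -/
abbrev G := V7 ⋊[natAct] ↥K

/-- The central involution. -/
def zK : K :=
  ⟨genU ^ 6, pow_mem (Subgroup.subset_closure (Set.mem_insert _ _)) 6⟩

theorem zK_val : (zK : GL (Fin 4) (ZMod 7)).val = -1 := by
  show (genU ^ 6).val = -1
  rw [Units.val_pow_eq_pow_val]
  decide +kernel

theorem zK_comm (k : K) : k * zK = zK * k := by
  apply Subtype.ext; apply Units.ext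
  rw [Subgroup.coe_mul, Subgroup.coe_mul, Units.val_mul, Units.val_mul, zK_val]
  simp

theorem zK_sq : zK * zK = 1 := by
  apply Subtype.ext; apply Units.ext
  rw [Subgroup.coe_mul, Units.val_mul, zK_val, Subgroup.coe_one, Units.val_one, neg_mul_neg,
    one_mul]

/-- The kinds of elements. -/
theorem kinds (k : K) : k = 1 ∨ (∃ m, 1 ≤ m ∧ m ≤ 6 ∧ k ^ m = zK) ∨
    ((k : GL (Fin 4) (ZMod 7)).val ^ 2 + (k : GL (Fin 4) (ZMod 7)).val + 1 = 0) ∨
    ((k : GL (Fin 4) (ZMod 7)).val ^ 4 + (k : GL (Fin 4) (ZMod 7)).val ^ 3 +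
      (k : GL (Fin 4) (ZMod 7)).val ^ 2 + (k : GL (Fin 4) (ZMod 7)).val + 1 = 0) := by
  obtain ⟨i, hi, hk⟩ := exists_el k.2
  set M := (k : GL (Fin 4) (ZMod 7)).val with hM
  rcases good_rows ⟨i, hi⟩ with h0 | ⟨⟨hl0, hlen, hch⟩, hcase⟩
  · left
    apply Subtype.ext; apply Units.ext
    simp only at h0
    rw [← hM, hk, h0, el_zero]
    simp
  · simp only at hl0 hlen hch hcase
    have hpw : ∀ j, j < (powIdx.getD i []).length →
        el ((powIdx.getD i []).getD j 0) = M ^ (j + 1) := by
      intro j
      induction j with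
      | zero => intro _; rw [hl0, pow_one, hk]
      | succ j ih =>
        intro hj
        rw [← hch ⟨j, by omega⟩ hj, ih (by omega), pow_succ' M (j + 1), hk]
    rcases hcase with ⟨hl, he⟩ | ⟨hl, he⟩ | ⟨hl, he⟩
    · right; left
      refine ⟨(powIdx.getD i []).length, hl, hlen, ?_⟩
      apply Subtype.ext; apply Units.ext
      rw [SubgroupClass.coe_pow, Units.val_pow_eq_pow_val, zK_val, ← he, hpw _ (by omega),
        Nat.sub_add_cancel hl]
    · right; right; left
      rw [hpw 1 (by omega), ← hk] at he
      exact he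
    · right; right; right
      rw [hpw 3 (by omega), hpw 2 (by omega), hpw 1 (by omega), ← hk] at he
      exact he

theorem fixed_point_free {k : K} (hk : k ≠ 1) {v : V7} (h : natAct k v = v) : v = 1 := by
  by_contra hv
  obtain ⟨h0, h1⟩ := PrimeGraph.vecAct_fix K.subtype hv h
  set M := (k : GL (Fin 4) (ZMod 7)).val with hM
  change M *ᵥ v.toAdd = v.toAdd at h1
  have hp : ∀ m, M ^ m *ᵥ v.toAdd = v.toAdd := by
    intro m
    induction m with
    | zero => rw [pow_zero, one_mulVec]
    | succ m ih => rw [pow_succ, ← mulVec_mulVec, h1, ih]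
  rcases kinds k with h | ⟨m, -, -, h⟩ | h | h
  · exact hk h
  · have := hp m
    rw [hM, ← Units.val_pow_eq_pow_val, ← SubgroupClass.coe_pow, h, zK_val, neg_mulVec,
      one_mulVec] at this
    apply h0
    funext i
    have h2 := congrFun this i
    simp only [Pi.neg_apply, Pi.zero_apply] at h2 ⊢
    revert h2
    generalize v.toAdd i = a
    revert a; decide
  · have := congrArg (· *ᵥ v.toAdd) h
    simp only [← hM, add_mulVec, hp, h1, one_mulVec, zero_mulVec] at this
    apply h0
    funext i
    have h2 := congrFun this i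
    simp only [Pi.add_apply, Pi.zero_apply] at h2 ⊢
    revert h2
    generalize v.toAdd i = a
    revert a; decide
  · have := congrArg (· *ᵥ v.toAdd) h
    simp only [← hM, add_mulVec, hp, h1, one_mulVec, zero_mulVec] at this
    apply h0
    funext i
    have h2 := congrFun this i
    simp only [Pi.add_apply, Pi.zero_apply] at h2 ⊢
    revert h2
    generalize v.toAdd i = a
    revert a; decide

/-- Functions on the group negated by the central involution. -/
def oddFun : Subgroup (↥K → Multiplicative (ZMod 3)) where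
  carrier := {f | ∀ k, f (zK * k) = (f k)⁻¹}
  one_mem' k := by simp
  mul_mem' {f g} hf hg k := by
    show f (zK * k) * g (zK * k) = (f k * g k)⁻¹
    rw [hf k, hg k, _root_.mul_inv]
  inv_mem' {f} hf k := by
    show (f (zK * k))⁻¹ = ((f k)⁻¹)⁻¹
    rw [hf k]

theorem oddFun_inv (k : K) : ∀ f ∈ oddFun,
    PGLTwo.shiftAut ↥K (Multiplicative (ZMod 3)) k f ∈ oddFun := fun f hf x => by
  show f (k⁻¹ * (zK * x)) = (f (k⁻¹ * x))⁻¹
  rw [← mul_assoc, zK_comm, mul_assoc, hf]

/-- The action on the module of exponent three. -/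
def oddAct : G →* MulAut oddFun :=
  (PGLTwo.restrictAut (PGLTwo.shiftAut ↥K (Multiplicative (ZMod 3))) oddFun oddFun_inv).comp
    SemidirectProduct.rightHom

theorem oddAct_apply (g : G) (f : oddFun) (x : K) :
    (oddAct g f : ↥K → Multiplicative (ZMod 3)) x =
      (f : ↥K → Multiplicative (ZMod 3)) (g.right⁻¹ * x) := rfl

theorem oddFun_exp (f : oddFun) : f ^ 3 = 1 := by
  apply Subtype.ext
  funext k
  show ((f : ↥K → Multiplicative (ZMod 3)) k) ^ 3 = 1
  generalize (f : ↥K → Multiplicative (ZMod 3)) k = a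
  revert a; decide

open scoped Classical in
/-- The function supported on the central subgroup. -/
noncomputable def delta : oddFun :=
  ⟨fun x => if x = 1 then Multiplicative.ofAdd 1 else
      if x = zK then (Multiplicative.ofAdd 1)⁻¹ else 1, by
    have hz : zK ≠ 1 := fun h => by
      have := congrArg (fun y : K => (y : GL (Fin 4) (ZMod 7)).val) h
      simp only [zK_val, Subgroup.coe_one, Units.val_one] at this
      exact absurd this (by decide +kernel)
    intro k
    dsimp only
    have e1 : zK * k = 1 ↔ k = zK :=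
      ⟨fun h => by rw [← one_mul k, ← zK_sq, mul_assoc, h, mul_one], fun h => by rw [h, zK_sq]⟩
    have e2 : zK * k = zK ↔ k = 1 := mul_eq_left
    by_cases h1 : k = 1
    · subst h1; simp [hz]
    by_cases h2 : k = zK
    · subst h2; simp [zK_sq, hz]
    · simp [e1, e2, h1, h2]⟩

theorem zK_ne_one : zK ≠ 1 := fun h => by
  have := congrArg (fun y : K => (y : GL (Fin 4) (ZMod 7)).val) h
  simp only [zK_val, Subgroup.coe_one, Units.val_one] at this
  exact absurd this (by decide +kernel)

theorem delta_ne_one : delta ≠ 1 := by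
  classical
  intro h
  have := congrFun (congrArg Subtype.val h) 1
  simp [delta] at this

theorem three_inv : ∀ a : Multiplicative (ZMod 3), a⁻¹ = a → a = 1 := by decide

theorem orderOf_of_sum {k : K} :
    ((k : GL (Fin 4) (ZMod 7)).val ^ 2 + (k : GL (Fin 4) (ZMod 7)).val + 1 = 0 → k ^ 3 = 1) ∧
    ((k : GL (Fin 4) (ZMod 7)).val ^ 4 + (k : GL (Fin 4) (ZMod 7)).val ^ 3 +
      (k : GL (Fin 4) (ZMod 7)).val ^ 2 + (k : GL (Fin 4) (ZMod 7)).val + 1 = 0 → k ^ 5 = 1) := by
  set M := (k : GL (Fin 4) (ZMod 7)).val with hM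
  constructor <;> intro h <;> apply Subtype.ext <;> apply Units.ext <;>
    rw [SubgroupClass.coe_pow, Units.val_pow_eq_pow_val, ← hM, Subgroup.coe_one, Units.val_one,
      ← sub_eq_zero]
  · rw [show M ^ 3 - 1 = (M - 1) * (M ^ 2 + M + 1) by noncomm_ring, h, mul_zero]
  · rw [show M ^ 5 - 1 = (M - 1) * (M ^ 4 + M ^ 3 + M ^ 2 + M + 1) by noncomm_ring, h, mul_zero]

instance : Finite G := Finite.of_equiv _ SemidirectProduct.equivProd.symm

instance : Finite (oddFun ⋊[oddAct] G) := Finite.of_equiv _ SemidirectProduct.equivProd.symm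

theorem inr_mem_range (k : K) :
    orderOf k ∈ Set.range (orderOf : oddFun ⋊[oddAct] G → ℕ) :=
  ⟨SemidirectProduct.inr (SemidirectProduct.inr k),
    (orderOf_injective _ SemidirectProduct.inr_injective _).trans
      (orderOf_injective _ SemidirectProduct.inr_injective _)⟩

/-- An element of odd order `r` lifts to one of order `3 r`. -/
theorem triple_mem_range {k : K} {r : ℕ} [Fact r.Prime] (hk : orderOf k = r) (h2 : r ≠ 2) :
    3 * r ∈ Set.range (orderOf : oddFun ⋊[oddAct] G → ℕ) := by
  classical
  set h : G := SemidirectProduct.inr k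
  have ho : orderOf h = r := (orderOf_injective _ SemidirectProduct.inr_injective _).trans hk
  let x : oddFun ⋊[oddAct] G := ⟨delta, h⟩
  refine ⟨x, ?_⟩
  have : Fact (Nat.Prime 3) := ⟨Nat.prime_three⟩
  obtain ⟨-, hx⟩ := orderOf_of_hom SemidirectProduct.rightHom (p := 3) (fun y hy => by
    rw [MonoidHom.mem_ker, SemidirectProduct.rightHom_eq_right] at hy
    have : y = SemidirectProduct.inl y.left := by ext <;> simp [hy]
    rw [this, ← map_pow, oddFun_exp, map_one]) x (isOfFinOrder_of_finite _)
  rw [show SemidirectProduct.rightHom x = h from rfl, ho] at hx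
  refine hx ?_
  intro hc
  have h1 := congrFun (congrArg Subtype.val (congrArg SemidirectProduct.left hc)) 1
  rw [(PGLTwo.semidirect_pow_left oddAct x r).1, SemidirectProduct.one_left,
    Subgroup.coe_one, Pi.one_apply, SubmonoidClass.coe_finsetProd, Finset.prod_apply,
    Finset.prod_eq_single 0] at h1
  · simp [x, delta] at h1
  · intro i hi hi0
    have hir : i < r := Finset.mem_range.1 hi
    rw [oddAct_apply, show (x.right ^ i).right = k ^ i from
      map_pow (SemidirectProduct.rightHom : G →* K) h i, mul_one]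
    have n1 : (k ^ i)⁻¹ ≠ 1 := by
      intro e
      have : r ∣ i := hk ▸ orderOf_dvd_of_pow_eq_one (inv_eq_one.1 e)
      have := Nat.le_of_dvd (Nat.pos_of_ne_zero hi0) this
      omega
    have n2 : (k ^ i)⁻¹ ≠ zK := by
      intro e
      have e2 : orderOf (k ^ i)⁻¹ = 2 := e ▸ orderOf_eq_prime (by rw [pow_two, zK_sq]) zK_ne_one
      rw [orderOf_inv] at e2
      have : 2 ∣ r := hk ▸ e2 ▸ orderOf_pow_dvd i
      exact h2 ((Nat.prime_dvd_prime_iff_eq Nat.prime_two Fact.out).1 this).symm
    show (if (k ^ i)⁻¹ = 1 then _ else if (k ^ i)⁻¹ = zK then _ else (1 : Multiplicative (ZMod 3))) = 1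
    rw [if_neg n1, if_neg n2]
  · intro h
    exact absurd (Finset.mem_range.2 (Fact.out : r.Prime).pos) h

theorem kernel_mem_range {h : G} {n : ℕ} (hr : h.right = 1) (hn : orderOf h = n) (h3 : n % 3 = 1) :
    3 * n ∈ Set.range (orderOf : oddFun ⋊[oddAct] G → ℕ) := by
  have : Fact (Nat.Prime 3) := ⟨Nat.prime_three⟩
  let x : oddFun ⋊[oddAct] G := ⟨delta, h⟩
  refine ⟨x, ?_⟩
  obtain ⟨-, hx⟩ := orderOf_of_hom SemidirectProduct.rightHom (p := 3) (fun y hy => by
    rw [MonoidHom.mem_ker, SemidirectProduct.rightHom_eq_right] at hy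
    have : y = SemidirectProduct.inl y.left := by ext <;> simp [hy]
    rw [this, ← map_pow, oddFun_exp, map_one]) x (isOfFinOrder_of_finite _)
  rw [show SemidirectProduct.rightHom x = h from rfl, hn] at hx
  refine hx fun hc => delta_ne_one ?_
  have h1 := congrArg SemidirectProduct.left hc
  rw [(PGLTwo.semidirect_pow_left oddAct x n).1, Finset.prod_eq_pow_card (b := delta)] at h1
  · rw [Finset.card_range, show n = 3 * (n / 3) + 1 by omega, pow_succ, pow_mul, oddFun_exp,
      one_pow, one_mul] at h1
    exact h1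
  · intro i _
    apply Subtype.ext
    funext t
    rw [oddAct_apply, show (x.right ^ i).right = 1 by
      rw [show (x.right ^ i).right = h.right ^ i from
        map_pow (SemidirectProduct.rightHom : G →* K) h i, hr, one_pow], inv_one, one_mul]

theorem gen_orders :
    ((genU.val ^ 12 = 1 ∧ ∀ j < 12, 0 < j → genU.val ^ j ≠ 1) ∧
      ((genV * genU).val ^ 8 = 1 ∧ ∀ j < 8, 0 < j → (genV * genU).val ^ j ≠ 1)) ∧
    (((genV * genU * genV * genU ^ 3).val ^ 10 = 1 ∧
        ∀ j < 10, 0 < j → (genV * genU * genV * genU ^ 3).val ^ j ≠ 1) ∧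
      ((genU ^ 4).val ^ 3 = 1 ∧ ∀ j < 3, 0 < j → (genU ^ 4).val ^ j ≠ 1)) := by
  decide +kernel

/-- The element orders. -/
theorem range_orders : Set.range (orderOf : oddFun ⋊[oddAct] G → ℕ) =
    {1, 2, 3, 4, 5, 6, 7, 8, 9, 10, 12, 15, 21} := by
  classical
  have : Fact (Nat.Prime 3) := ⟨Nat.prime_three⟩
  have hker : ∀ y ∈ (SemidirectProduct.rightHom : oddFun ⋊[oddAct] G →* G).ker, y ^ 3 = 1 := by
    intro y hy
    rw [MonoidHom.mem_ker, SemidirectProduct.rightHom_eq_right] at hy
    have : y = SemidirectProduct.inl y.left := by ext <;> simp [hy]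
    rw [this, ← map_pow, oddFun_exp, map_one]
  apply Set.Subset.antisymm
  · rintro _ ⟨x, rfl⟩
    obtain ⟨h1, h2⟩ := orderOf_of_hom SemidirectProduct.rightHom hker x (isOfFinOrder_of_finite _)
    set h : G := SemidirectProduct.rightHom x with hh
    by_cases hk1 : h.right = 1
    · have h7 : h ^ 7 = 1 := by
        rw [show h = SemidirectProduct.inl h.left by ext <;> simp [hk1], ← map_pow]
        rw [show h.left ^ 7 = 1 from PrimeGraph.vecAct_exp 7 h.left, map_one]
      rcases (Nat.dvd_prime (Fact.out : Nat.Prime 7)).1 (orderOf_dvd_of_pow_eq_one h7) with e | e <;>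
        rw [e] at h1 h2 <;> by_cases hx : x ^ orderOf h = 1 <;> rw [e] at hx
      · rw [h1 hx]; simp
      · rw [h2 hx]; simp
      · rw [h1 hx]; simp
      · rw [h2 hx]; simp
    have hho : orderOf h = orderOf h.right := by
      apply Nat.dvd_antisymm _ (orderOf_map_dvd SemidirectProduct.rightHom h)
      apply orderOf_dvd_of_pow_eq_one
      set y := h ^ orderOf h.right with hy
      have hyr : y.right = 1 := by
        show SemidirectProduct.rightHom y = 1
        rw [hy, map_pow]; exact pow_orderOf_eq_one _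
      refine SemidirectProduct.ext (fixed_point_free hk1 ?_) hyr
      have hc : h * y = y * h := (Commute.self_pow h _).eq
      have := congrArg SemidirectProduct.left hc
      rw [SemidirectProduct.mul_left, SemidirectProduct.mul_left, hyr, map_one, MulAut.one_apply,
        mul_comm y.left] at this
      exact mul_left_cancel this
    rcases kinds h.right with hc | ⟨m, hm1, hm6, hc⟩ | hc | hc
    · exact absurd hc hk1
    · have hx : x ^ orderOf h = 1 := by
        set y := x ^ orderOf h with hy
        have hyr : y.right = 1 := by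
          show SemidirectProduct.rightHom y = 1
          rw [hy, map_pow, ← hh, pow_orderOf_eq_one]
        refine SemidirectProduct.ext ?_ hyr
        have hcc := congrArg SemidirectProduct.left (Commute.self_pow (x ^ m) (orderOf h)).eq
        rw [show (x ^ m) ^ orderOf h = y ^ m by rw [hy, ← pow_mul, ← pow_mul, mul_comm]] at hcc
        have hfix : oddAct h y.left = y.left := by
          have := congrArg SemidirectProduct.left (Commute.self_pow x (orderOf h)).eq
          rw [SemidirectProduct.mul_left, SemidirectProduct.mul_left, ← hy, hyr, map_one,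
            MulAut.one_apply, mul_comm y.left] at this
          exact mul_left_cancel this
        have hfixm : ∀ j, oddAct (h ^ j) y.left = y.left := by
          intro j
          induction j with
          | zero => rw [pow_zero, map_one, MulAut.one_apply]
          | succ j ih => rw [pow_succ, map_mul, MulAut.mul_apply, hfix, ih]
        apply Subtype.ext
        funext t
        have e := congrFun (congrArg Subtype.val (hfixm m)) t
        rw [oddAct_apply, show (h ^ m).right = zK from
          (map_pow (SemidirectProduct.rightHom : G →* K) h m).trans hc,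
          inv_eq_of_mul_eq_one_right zK_sq, y.left.2 t] at e
        show (y.left : ↥K → Multiplicative (ZMod 3)) t = 1
        exact three_inv _ e
      rw [h1 hx, hho]
      have hd : orderOf h.right ∣ 2 * m := orderOf_dvd_of_pow_eq_one (by
        rw [mul_comm, pow_mul, hc, pow_two, zK_sq])
      have hle := Nat.le_of_dvd (by omega) hd
      generalize orderOf h.right = n at hd hle
      interval_cases m <;> interval_cases n <;> simp at hd ⊢
    · rcases (Nat.dvd_prime Nat.prime_three).1
        (orderOf_dvd_of_pow_eq_one (orderOf_of_sum.1 hc)) with e | e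
      · exact absurd (orderOf_eq_one_iff.1 e) hk1
      · rw [← hho] at e
        rw [e] at h1 h2
        by_cases hx : x ^ 3 = 1
        · rw [h1 hx]; simp
        · rw [h2 hx]; simp
    · rcases (Nat.dvd_prime (by norm_num)).1
        (orderOf_dvd_of_pow_eq_one (orderOf_of_sum.2 hc)) with e | e
      · exact absurd (orderOf_eq_one_iff.1 e) hk1
      · rw [← hho] at e
        rw [e] at h1 h2
        by_cases hx : x ^ 5 = 1
        · rw [h1 hx]; simp
        · rw [h2 hx]; simp
  · intro n hn
    have mU : genU ∈ K := Subgroup.subset_closure (Set.mem_insert _ _)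
    have mV : genV ∈ K := Subgroup.subset_closure (Set.mem_insert_of_mem _ rfl)
    have key : ∀ (g : GL (Fin 4) (ZMod 7)) (hg : g ∈ K) (r : ℕ), 0 < r → g.val ^ r = 1 →
        (∀ j < r, 0 < j → g.val ^ j ≠ 1) → orderOf (⟨g, hg⟩ : K) = r := by
      intro g hg r hr h1 h2
      rw [← Subgroup.orderOf_coe]
      exact (orderOf_eq_iff hr).2 ⟨Units.ext (by rw [Units.val_pow_eq_pow_val, h1]; rfl),
        fun j hj hj0 he => h2 j hj hj0 (by
          rw [← Units.val_pow_eq_pow_val, he, Units.val_one])⟩
    obtain ⟨⟨⟨a1, a2⟩, b1, b2⟩, ⟨c1, c2⟩, d1, d2⟩ := gen_orders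
    have o12 := key genU mU 12 (by norm_num) a1 a2
    have o8 := key (genV * genU) (mul_mem mV mU) 8 (by norm_num) b1 b2
    have o10 := key (genV * genU * genV * genU ^ 3)
      (mul_mem (mul_mem (mul_mem mV mU) mV) (pow_mem mU 3)) 10 (by norm_num) c1 c2
    have o3 := key (genU ^ 4) (pow_mem mU 4) 3 (by norm_num) d1 d2
    have : Fact (Nat.Prime 5) := ⟨by norm_num⟩
    have o5 : orderOf ((⟨_, mul_mem (mul_mem (mul_mem mV mU) mV) (pow_mem mU 3)⟩ : K) ^ 2) = 5 := by
      rw [orderOf_pow_of_dvd (by norm_num) (by rw [o10]; norm_num), o10]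
    have up : ∀ d z, z ∈ Set.range (orderOf : oddFun ⋊[oddAct] G → ℕ) → d ∣ z →
        d ∈ Set.range (orderOf : oddFun ⋊[oddAct] G → ℕ) := by
      rintro d z ⟨w, rfl⟩ hd; exact AltSpectrum.mem_range_of_dvd hd
    have h12 := o12 ▸ inr_mem_range ⟨genU, mU⟩
    have h8 := o8 ▸ inr_mem_range ⟨genV * genU, mul_mem mV mU⟩
    have h10 := o10 ▸ inr_mem_range
      ⟨genV * genU * genV * genU ^ 3, mul_mem (mul_mem (mul_mem mV mU) mV) (pow_mem mU 3)⟩
    have h9 := triple_mem_range o3 (by norm_num)
    have h15 := triple_mem_range o5 (by norm_num)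
    have h21 : 21 ∈ Set.range (orderOf : oddFun ⋊[oddAct] G → ℕ) := by
      let v : V7 := Multiplicative.ofAdd (Pi.single 0 1)
      have hv : orderOf v = 7 := orderOf_eq_prime (PrimeGraph.vecAct_exp 7 v) (fun e => by
        have := congrFun (congrArg Multiplicative.toAdd e) 0
        simp [v] at this)
      exact kernel_mem_range (h := SemidirectProduct.inl v) rfl
        ((orderOf_injective _ SemidirectProduct.inl_injective v).trans hv) (by norm_num)
    simp only [Set.mem_insert_iff, Set.mem_singleton_iff] at hn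
    rcases hn with rfl | rfl | rfl | rfl | rfl | rfl | rfl | rfl | rfl | rfl | rfl | rfl | rfl
    · exact ⟨1, orderOf_one⟩
    · exact up _ _ h8 (by norm_num)
    · exact up _ _ h9 (by norm_num)
    · exact up _ _ h8 (by norm_num)
    · exact up _ _ h10 (by norm_num)
    · exact up _ _ h12 (by norm_num)
    · exact up _ _ h21 (by norm_num)
    · exact h8
    · exact h9
    · exact h10
    · exact h12
    · exact h15
    · exact h21

end Cfsg.Agent.Recog.AltTen
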