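import Mathlib

/-! Coset table of the (2,3,5) triangle group on the cosets of the cyclic subgroup of order five. -/

set_option autoImplicit false

namespace Cfsg.Agent.Recog.T235

theorem table {G X : Type*} [Group G] [MulAction G X] (x y : G) (p0 : X)
    (hr0 : ∀ q : X, x • x • x • q = q)
    (hr1 : ∀ q : X, y • y • y • y • y • q = q)
    (hr2 : ∀ q : X, x • y • x • y • q = q)
    (hs0 : y • p0 = p0)
    : ∃ S : List X, S.length = 12 ∧ p0 ∈ S ∧
      (∀ q ∈ S, x • q ∈ S) ∧ (∀ q ∈ S, y • q ∈ S) := by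
  have e1_0 : y • p0 = p0 := hs0
  obtain ⟨p1, e0_0⟩ : ∃ z, x • p0 = z := ⟨_, rfl⟩
  obtain ⟨p2, e0_1⟩ : ∃ z, x • p1 = z := ⟨_, rfl⟩
  have e0_2 : x • p2 = p0 := (((congrArg (x • ·) ((congrArg (x • ·) e0_0).trans e0_1))).symm.trans (hr0 p0))
  have e1_1 : y • p1 = p2 := (smul_left_cancel x ((((congrArg (x • ·) (congrArg (y • ·) ((congrArg (x • ·) e1_0).trans e0_0)))).symm.trans (hr2 p0)).trans e0_2.symm))
  obtain ⟨p3, e1_2⟩ : ∃ z, y • p2 = z := ⟨_, rfl⟩
  obtain ⟨p4, e0_3⟩ : ∃ z, x • p3 = z := ⟨_, rfl⟩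
  have e1_4 : y • p4 = p1 := (smul_left_cancel x ((((congrArg (x • ·) (congrArg (y • ·) ((congrArg (x • ·) e1_2).trans e0_3)))).symm.trans (hr2 p2)).trans e0_1.symm))
  obtain ⟨p5, e1_3⟩ : ∃ z, y • p3 = z := ⟨_, rfl⟩
  have e1_5 : y • p5 = p4 := (smul_left_cancel y ((((congrArg (y • ·) (congrArg (y • ·) ((congrArg (y • ·) ((congrArg (y • ·) e1_1).trans e1_2)).trans e1_3)))).symm.trans (hr1 p1)).trans e1_4.symm))
  obtain ⟨p6, e0_4⟩ : ∃ z, x • p4 = z := ⟨_, rfl⟩
  have e0_6 : x • p6 = p3 := (((congrArg (x • ·) ((congrArg (x • ·) e0_3).trans e0_4))).symm.trans (hr0 p3))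
  obtain ⟨p7, e0_5⟩ : ∃ z, x • p5 = z := ⟨_, rfl⟩
  have e1_7 : y • p7 = p6 := (smul_left_cancel x ((((congrArg (x • ·) (congrArg (y • ·) ((congrArg (x • ·) e1_3).trans e0_5)))).symm.trans (hr2 p3)).trans e0_6.symm))
  obtain ⟨p8, e1_6⟩ : ∃ z, y • p6 = z := ⟨_, rfl⟩
  have e0_8 : x • p8 = p5 := (((congrArg (x • ·) ((congrArg (y • ·) ((congrArg (x • ·) e1_5).trans e0_4)).trans e1_6))).symm.trans (hr2 p5))
  have e0_7 : x • p7 = p8 := (smul_left_cancel x (smul_left_cancel x ((hr0 p7).trans (e0_5.symm.trans (congrArg (x • ·) e0_8.symm)))))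
  obtain ⟨p9, e1_8⟩ : ∃ z, y • p8 = z := ⟨_, rfl⟩
  obtain ⟨p10, e0_9⟩ : ∃ z, x • p9 = z := ⟨_, rfl⟩
  have e1_10 : y • p10 = p7 := (smul_left_cancel x ((((congrArg (x • ·) (congrArg (y • ·) ((congrArg (x • ·) e1_8).trans e0_9)))).symm.trans (hr2 p8)).trans e0_7.symm))
  have e1_9 : y • p9 = p10 := (smul_left_cancel y (smul_left_cancel y (smul_left_cancel y (smul_left_cancel y ((hr1 p9).trans (e1_8.symm.trans (congrArg (y • ·) (e1_6.symm.trans (congrArg (y • ·) (e1_7.symm.trans (congrArg (y • ·) e1_10.symm)))))))))))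
  obtain ⟨p11, e0_10⟩ : ∃ z, x • p10 = z := ⟨_, rfl⟩
  have e0_11 : x • p11 = p9 := (((congrArg (x • ·) ((congrArg (x • ·) e0_9).trans e0_10))).symm.trans (hr0 p9))
  have e1_11 : y • p11 = p11 := (smul_left_cancel x ((((congrArg (x • ·) (congrArg (y • ·) ((congrArg (x • ·) e1_9).trans e0_10)))).symm.trans (hr2 p9)).trans e0_11.symm))
  refine ⟨[p0, p1, p2, p3, p4, p5, p6, p7, p8, p9, p10, p11], rfl, List.mem_cons_self, ?_, ?_⟩
  · intro q hq
    simp only [List.mem_cons, List.not_mem_nil, or_false] at hq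
    rcases hq with rfl | rfl | rfl | rfl | rfl | rfl | rfl | rfl | rfl | rfl | rfl | rfl
    · rw [e0_0]; simp
    · rw [e0_1]; simp
    · rw [e0_2]; simp
    · rw [e0_3]; simp
    · rw [e0_4]; simp
    · rw [e0_5]; simp
    · rw [e0_6]; simp
    · rw [e0_7]; simp
    · rw [e0_8]; simp
    · rw [e0_9]; simp
    · rw [e0_10]; simp
    · rw [e0_11]; simp
  · intro q hq
    simp only [List.mem_cons, List.not_mem_nil, or_false] at hq
    rcases hq with rfl | rfl | rfl | rfl | rfl | rfl | rfl | rfl | rfl | rfl | rfl | rfl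
    · rw [e1_0]; simp
    · rw [e1_1]; simp
    · rw [e1_2]; simp
    · rw [e1_3]; simp
    · rw [e1_4]; simp
    · rw [e1_5]; simp
    · rw [e1_6]; simp
    · rw [e1_7]; simp
    · rw [e1_8]; simp
    · rw [e1_9]; simp
    · rw [e1_10]; simp
    · rw [e1_11]; simp

/-- closure bound -/
theorem card_le {G : Type*} [Group G] (x y : G) (hgen : Subgroup.closure {x, y} = ⊤)
    (hx : x ^ 3 = 1) (hy : y ^ 5 = 1) (hxy : (x * y) ^ 2 = 1) : Finite G ∧ Nat.card G ≤ 60 := by
  classical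
  set H := Subgroup.zpowers y
  obtain ⟨S, hlen, h0, hX, hY⟩ := table x y (QuotientGroup.mk (s := H) (1 : G))
    (fun q => by rw [← mul_smul, ← mul_smul, show x * x * x = 1 by simpa [pow_succ, mul_assoc] using hx, one_smul])
    (fun q => by rw [← mul_smul, ← mul_smul, ← mul_smul, ← mul_smul, show y * y * y * y * y = 1 by simpa [pow_succ, mul_assoc] using hy, one_smul])
    (fun q => by rw [← mul_smul, ← mul_smul, ← mul_smul, show x * y * x * y = 1 by rw [← hxy]; simp [pow_two, mul_assoc], one_smul])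
    (by
      show QuotientGroup.mk (y * 1) = _
      rw [mul_one, QuotientGroup.eq, mul_one]
      exact H.inv_mem (Subgroup.mem_zpowers y))
  have hpowS : ∀ g : G, (∀ q ∈ S, g • q ∈ S) → ∀ k : ℕ, ∀ q ∈ S, g ^ k • q ∈ S := by
    intro g hg k
    induction k with
    | zero => intro q hq; simpa using hq
    | succ k ih => intro q hq; rw [pow_succ', mul_smul]; exact hg _ (ih q hq)
  have hall : ∀ g : G, ∀ q ∈ S, g • q ∈ S := by
    intro g
    have hg : g ∈ Subgroup.closure ({x, y} : Set G) := hgen ▸ Subgroup.mem_top g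
    induction hg using Subgroup.closure_induction_left with
    | one => intro q hq; simpa using hq
    | mul_left a ha b _ ih =>
      intro q hq
      rw [mul_smul]
      rcases ha with rfl | ha
      · exact hX _ (ih q hq)
      · rw [Set.mem_singleton_iff] at ha; subst ha; exact hY _ (ih q hq)
    | inv_mul_cancel a ha b _ ih =>
      intro q hq
      rw [mul_smul]
      rcases ha with rfl | ha
      · rw [show a⁻¹ = a ^ 2 from inv_eq_of_mul_eq_one_right (by rw [← pow_succ', hx])]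
        exact hpowS a hX 2 _ (ih q hq)
      · rw [Set.mem_singleton_iff] at ha; subst ha
        rw [show a⁻¹ = a ^ 4 from inv_eq_of_mul_eq_one_right (by rw [← pow_succ', hy])]
        exact hpowS a hY 4 _ (ih q hq)
  have hsurj : Function.Surjective (fun i : Fin S.length => S[i]) := fun q => by
    obtain ⟨g, rfl⟩ := QuotientGroup.mk_surjective q
    have := hall g _ h0
    rw [show g • (QuotientGroup.mk (1 : G) : G ⧸ H) = QuotientGroup.mk (g * 1) from rfl, mul_one] at this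
    obtain ⟨i, hi, he⟩ := List.getElem_of_mem this
    exact ⟨⟨i, hi⟩, he⟩
  have hQf : Finite (G ⧸ H) := Finite.of_surjective _ hsurj
  have hQ : Nat.card (G ⧸ H) ≤ 12 := (Nat.card_le_card_of_surjective _ hsurj).trans (by simp [hlen])
  have hHf : Finite H := (isOfFinOrder_iff_pow_eq_one.2 ⟨5, by norm_num, hy⟩).finite_zpowers
  have hHc : Nat.card H ≤ 5 := by
    rw [Nat.card_zpowers]
    exact Nat.le_of_dvd (by norm_num) (orderOf_dvd_of_pow_eq_one hy)
  have hGf : Finite G := Finite.of_equiv _ (Subgroup.groupEquivQuotientProdSubgroup (s := H)).symm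
  refine ⟨hGf, ?_⟩
  rw [Subgroup.card_eq_card_quotient_mul_card_subgroup H]
  exact (Nat.mul_le_mul hQ hHc).trans (by norm_num)

end Cfsg.Agent.Recog.T235
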