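import Mathlib
import Cfsg.Agent.Lib.Recog.TriangleTwoThreeFive

/-! The binary icosahedral presentation. -/

set_option autoImplicit false

namespace Cfsg.Agent.Recog.BinIco

abbrev SL25 := Matrix.SpecialLinearGroup (Fin 2) (ZMod 5)

theorem card_SL25 : Nat.card SL25 = 120 := by
  rw [Nat.card_eq_fintype_card]
  decide +kernel

theorem count : ((Finset.univ : Finset SL25).filter
    fun g => g ^ 3 = 1 ∨ g ^ 5 = 1 ∨ (-g) ^ 3 = 1 ∨ (-g) ^ 5 = 1).card = 90 := by decide +kernel

def gx : SL25 := ⟨!![0, -1; 1, -1], by decide⟩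
def gy : SL25 := ⟨!![1, 1; 0, 1], by decide⟩

theorem gx_gy : gx ^ 3 = 1 ∧ gy ^ 5 = 1 ∧ (gx * gy) ^ 2 = -1 ∧ gx ≠ 1 ∧ gy ≠ 1 ∧ (gx * gy) ^ 4 = 1 ∧ (-1 : SL25) ≠ 1 := by
  decide +kernel

theorem closure_gen : Subgroup.closure ({gx, gy} : Set SL25) = ⊤ := by
  obtain ⟨hx, hy, hxy, hx1, hy1, hxy4, hm1⟩ := gx_gy
  set K := Subgroup.closure ({gx, gy} : Set SL25) with hK
  have hxK : gx ∈ K := Subgroup.subset_closure (Or.inl rfl)
  have hyK : gy ∈ K := Subgroup.subset_closure (Or.inr rfl)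
  have hdvd : ∀ g ∈ K, orderOf g ∣ Nat.card K := fun g hg => by
    have h2 := orderOf_dvd_natCard (⟨g, hg⟩ : K)
    rwa [Subgroup.orderOf_mk] at h2
  have h3 : 3 ∣ Nat.card K := by
    have : Fact (Nat.Prime 3) := ⟨Nat.prime_three⟩
    exact (Eq.symm (orderOf_eq_prime (p := 3) hx hx1)).dvd.trans (hdvd _ hxK)
  have h5 : 5 ∣ Nat.card K := by
    have : Fact (Nat.Prime 5) := ⟨by norm_num⟩
    exact (Eq.symm (orderOf_eq_prime (p := 5) hy hy1)).dvd.trans (hdvd _ hyK)
  have h4 : 4 ∣ Nat.card K := by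
    have : Fact (Nat.Prime 2) := ⟨Nat.prime_two⟩
    have h := orderOf_eq_prime_pow (p := 2) (n := 1) (x := gx * gy) (by rw [pow_one, hxy]; exact hm1) hxy4
    exact (Eq.symm h).dvd.trans (hdvd _ (mul_mem hxK hyK))
  by_contra hne
  have hidx := Subgroup.card_mul_index K
  rw [card_SL25] at hidx
  obtain ⟨k, hk⟩ : 60 ∣ Nat.card K := by omega
  have hk2 : K.index = 2 := by
    have h1 : K.index ≠ 1 := fun e => hne (Subgroup.index_eq_one.1 e)
    rw [hk, mul_assoc] at hidx
    have hle : K.index ∣ 2 := ⟨k, by rw [mul_comm]; omega⟩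
    exact ((Nat.dvd_prime Nat.prime_two).1 hle).resolve_left h1
  have hsq : ∀ g : SL25, g ^ 2 ∈ K := fun g => by
    rw [pow_two]; exact Subgroup.mul_self_mem_of_index_two hk2 g
  have hodd : ∀ g : SL25, (g ^ 3 = 1 ∨ g ^ 5 = 1) → g ∈ K := by
    rintro g (h | h)
    · have e : g = (g ^ 2) ^ 2 := by rw [← pow_mul, show 2 * 2 = 3 + 1 by rfl, pow_succ, h, one_mul]
      rw [e]; exact hsq _
    · have e : g = (g ^ 3) ^ 2 := by rw [← pow_mul, show 3 * 2 = 5 + 1 by rfl, pow_succ, h, one_mul]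
      rw [e]; exact hsq _
  have hneg : (-1 : SL25) ∈ K := hxy ▸ pow_mem (mul_mem hxK hyK) 2
  have hle : ((Finset.univ : Finset SL25).filter
      fun g => g ^ 3 = 1 ∨ g ^ 5 = 1 ∨ (-g) ^ 3 = 1 ∨ (-g) ^ 5 = 1).card ≤ Nat.card K := by
    rw [← Set.ncard_coe_finset, ← SetLike.coe_sort_coe, Nat.card_coe_set_eq]
    refine Set.ncard_le_ncard ?_
    intro g hg
    simp only [Finset.coe_filter, Finset.mem_univ, true_and, Set.mem_setOf_eq] at hg
    rcases hg with h | h | h | h
    · exact hodd g (Or.inl h)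
    · exact hodd g (Or.inr h)
    · have := mul_mem hneg (hodd (-g) (Or.inl h))
      rwa [neg_one_mul, neg_neg] at this
    · have := mul_mem hneg (hodd (-g) (Or.inr h))
      rwa [neg_one_mul, neg_neg] at this
  rw [count] at hle
  rw [hk2] at hidx
  omega

/-- A group with such generators has at most 120 elements. -/
theorem card_le {G : Type*} [Group G] (x y z : G) (hgen : Subgroup.closure {x, y, z} = ⊤)
    (hx : x ^ 3 = 1) (hy : y ^ 5 = 1) (hz : z ^ 2 = 1) (hzx : z * x = x * z) (hzy : z * y = y * z)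
    (hxy : (x * y) ^ 2 = z) : Finite G ∧ Nat.card G ≤ 120 := by
  have hzc : z ∈ Subgroup.center G := by
    rw [Subgroup.mem_center_iff]
    intro g
    have hle : Subgroup.closure {x, y, z} ≤ Subgroup.centralizer {z} := by
      rw [Subgroup.closure_le]
      intro u hu
      rw [SetLike.mem_coe, Subgroup.mem_centralizer_singleton_iff]
      rcases hu with rfl | rfl | hu
      · exact hzx.symm
      · exact hzy.symm
      · rw [Set.mem_singleton_iff] at hu; subst hu; rfl
    exact Subgroup.mem_centralizer_singleton_iff.1 (hle (hgen ▸ Subgroup.mem_top g))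
  set Z := Subgroup.zpowers z
  have : Z.Normal := ⟨fun u hu g => by
    rw [Subgroup.mem_center_iff.1 (Subgroup.zpowers_le.2 hzc hu) g, mul_inv_cancel_right]; exact hu⟩
  set π := QuotientGroup.mk' Z
  have hπz : π z = 1 := (QuotientGroup.eq_one_iff z).2 (Subgroup.mem_zpowers z)
  obtain ⟨hf, hle⟩ := T235.card_le (π x) (π y) (by
    refine eq_top_iff.2 ?_
    rw [← Subgroup.map_top_of_surjective π (QuotientGroup.mk'_surjective Z), ← hgen, MonoidHom.map_closure,
      Subgroup.closure_le]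
    rintro _ ⟨u, hu, rfl⟩
    rcases hu with rfl | rfl | hu
    · exact Subgroup.subset_closure (Or.inl rfl)
    · exact Subgroup.subset_closure (Or.inr rfl)
    · rw [Set.mem_singleton_iff] at hu; subst hu; rw [hπz]; exact one_mem _)
    (by rw [← map_pow, hx, map_one]) (by rw [← map_pow, hy, map_one]) (by rw [← map_mul, ← map_pow, hxy, hπz])
  have hZf : Finite Z := (isOfFinOrder_iff_pow_eq_one.2 ⟨2, by norm_num, hz⟩).finite_zpowers
  have hZc : Nat.card Z ≤ 2 := by
    rw [Nat.card_zpowers]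
    exact Nat.le_of_dvd (by norm_num) (orderOf_dvd_of_pow_eq_one hz)
  refine ⟨Finite.of_equiv _ (Subgroup.groupEquivQuotientProdSubgroup (s := Z)).symm, ?_⟩
  rw [Subgroup.card_eq_card_quotient_mul_card_subgroup Z]
  exact (Nat.mul_le_mul hle hZc).trans (by norm_num)

end Cfsg.Agent.Recog.BinIco
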