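import Mathlib.GroupTheory.Subgroup.Simple
import Cfsg.Agent.Lib.CT.Basic

/-!
# Blichfeldt: eigenvalues within sixty degrees of one of them

An element of a simple group cannot act, in a faithful irreducible representation and up to a
scalar, with all eigenvalues at distance less than `1` from the eigenvalue `1` unless it acts as a
scalar.
-/

set_option autoImplicit false
set_option linter.unusedSectionVars false

namespace Cfsg.Agent.SmallArc

open Module
open scoped ComplexConjugate

universe u

variable {G : Type u} [Group G] [Fintype G] {n : ℕ} (ρ : Representation ℂ G (Fin n → ℂ))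

/-- The averaged inner product. -/
noncomputable def form (x w : Fin n → ℂ) : ℂ := ∑ g : G, ∑ i, conj (ρ g x i) * ρ g w i

/-- The averaged squared norm. -/
noncomputable def nsq (x : Fin n → ℂ) : ℝ := ∑ g : G, ∑ i, ‖ρ g x i‖ ^ 2

theorem form_self (x : Fin n → ℂ) : form ρ x x = (nsq ρ x : ℂ) := by
  simp only [form, nsq, Complex.ofReal_sum, Complex.ofReal_pow]
  exact Finset.sum_congr rfl fun g _ => Finset.sum_congr rfl fun i _ => Complex.conj_mul' _

theorem form_rho (h : G) (x w : Fin n → ℂ) : form ρ (ρ h x) (ρ h w) = form ρ x w := by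
  simp only [form, ← Module.End.mul_apply, ← map_mul]
  exact Fintype.sum_equiv (Equiv.mulRight h) _ _ fun g => rfl

theorem form_add_left (x y w : Fin n → ℂ) : form ρ (x + y) w = form ρ x w + form ρ y w := by
  simp only [form, map_add, Pi.add_apply, add_mul, Finset.sum_add_distrib]

theorem form_add_right (x y w : Fin n → ℂ) : form ρ x (y + w) = form ρ x y + form ρ x w := by
  simp only [form, map_add, Pi.add_apply, mul_add, Finset.sum_add_distrib]

theorem form_smul_left (a : ℂ) (x w : Fin n → ℂ) : form ρ (a • x) w = conj a * form ρ x w := by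
  simp only [form, map_smul, Pi.smul_apply, smul_eq_mul, map_mul, Finset.mul_sum, mul_assoc]

theorem form_smul_right (a : ℂ) (x w : Fin n → ℂ) : form ρ x (a • w) = a * form ρ x w := by
  simp only [form, map_smul, Pi.smul_apply, smul_eq_mul, Finset.mul_sum]
  exact Finset.sum_congr rfl fun g _ => Finset.sum_congr rfl fun i _ => by ring

theorem form_conj (x w : Fin n → ℂ) : conj (form ρ x w) = form ρ w x := by
  simp only [form, map_sum, map_mul, Complex.conj_conj]
  exact Finset.sum_congr rfl fun g _ => Finset.sum_congr rfl fun i _ => mul_comm _ _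

theorem form_sum_right {ι : Type} (s : Finset ι) (x : Fin n → ℂ) (v : ι → Fin n → ℂ) :
    form ρ x (∑ i ∈ s, v i) = ∑ i ∈ s, form ρ x (v i) := by
  classical
  induction s using Finset.induction_on with
  | empty => simp [form]
  | insert a s ha ih => rw [Finset.sum_insert ha, Finset.sum_insert ha, form_add_right, ih]

theorem nsq_pos {x : Fin n → ℂ} (hx : x ≠ 0) : 0 < nsq ρ x := by
  obtain ⟨i, hi⟩ := Function.ne_iff.mp hx
  refine Finset.sum_pos' (fun g _ => Finset.sum_nonneg fun j _ => by positivity)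
    ⟨1, Finset.mem_univ _, Finset.sum_pos' (fun j _ => by positivity) ⟨i, Finset.mem_univ _, ?_⟩⟩
  simp only [map_one, Module.End.one_apply]
  exact pow_pos (norm_pos_iff.mpr hi) 2

theorem nsq_nonneg (x : Fin n → ℂ) : 0 ≤ nsq ρ x :=
  Finset.sum_nonneg fun _ _ => Finset.sum_nonneg fun _ _ => by positivity

theorem nsq_rho (h : G) (x : Fin n → ℂ) : nsq ρ (ρ h x) = nsq ρ x := by
  have := form_rho ρ h x x
  rwa [form_self, form_self, Complex.ofReal_inj] at this

theorem nsq_smul (a : ℂ) (x : Fin n → ℂ) : nsq ρ (a • x) = ‖a‖ ^ 2 * nsq ρ x := by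
  simp only [nsq, map_smul, Pi.smul_apply, smul_eq_mul, norm_mul, mul_pow, Finset.mul_sum]

theorem nsq_neg (x : Fin n → ℂ) : nsq ρ (-x) = nsq ρ x := by
  simp [nsq]

theorem nsq_add_of_orth {x w : Fin n → ℂ} (h : form ρ x w = 0) :
    nsq ρ (x + w) = nsq ρ x + nsq ρ w := by
  have h' : form ρ w x = 0 := by rw [← form_conj, h, map_zero]
  have h1 := form_self ρ (x + w)
  rw [form_add_left, form_add_right, form_add_right, h, h', add_zero, zero_add, form_self,
    form_self, ← Complex.ofReal_add, Complex.ofReal_inj] at h1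
  exact h1.symm

theorem nsq_sum {ι : Type} (s : Finset ι) (v : ι → Fin n → ℂ)
    (h : ∀ i ∈ s, ∀ j ∈ s, i ≠ j → form ρ (v i) (v j) = 0) :
    nsq ρ (∑ i ∈ s, v i) = ∑ i ∈ s, nsq ρ (v i) := by
  classical
  induction s using Finset.induction_on with
  | empty => simp [nsq]
  | insert a s ha ih =>
    rw [Finset.sum_insert ha, Finset.sum_insert ha, nsq_add_of_orth,
      ih fun i hi j hj => h i (Finset.mem_insert_of_mem hi) j (Finset.mem_insert_of_mem hj)]
    rw [form_sum_right]
    exact Finset.sum_eq_zero fun i hi => h a (Finset.mem_insert_self a s) i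
      (Finset.mem_insert_of_mem hi) fun e => ha (e ▸ hi)

variable {z : G} {c : ℂ}

/-- The scaled operator. -/
noncomputable def op (c : ℂ) (g : G) : Module.End ℂ (Fin n → ℂ) := c • ρ g

theorem op_apply (c : ℂ) (g : G) (x : Fin n → ℂ) : op ρ c g x = c • ρ g x := rfl

theorem nsq_op (hc : ‖c‖ = 1) (g : G) (x : Fin n → ℂ) : nsq ρ (op ρ c g x) = nsq ρ x := by
  rw [op_apply, nsq_smul, nsq_rho, hc, one_pow, one_mul]

theorem conj_mul_self (hc : ‖c‖ = 1) : conj c * c = 1 := by
  rw [Complex.conj_mul', hc]; norm_num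

theorem form_op (hc : ‖c‖ = 1) (g : G) (x w : Fin n → ℂ) :
    form ρ (op ρ c g x) (op ρ c g w) = form ρ x w := by
  rw [op_apply, op_apply, form_smul_left, form_smul_right, form_rho, ← mul_assoc,
    conj_mul_self hc, one_mul]

theorem form_eigen_zero (hc : ‖c‖ = 1) {g : G} {x w : Fin n → ℂ} {a b : ℂ}
    (hx : op ρ c g x = a • x) (hw : op ρ c g w = b • w) (ha : ‖a‖ = 1) (hab : a ≠ b) :
    form ρ x w = 0 := by
  have h := form_op ρ hc g x w
  rw [hx, hw, form_smul_left, form_smul_right] at h
  have h1 : (conj a * b - 1) * form ρ x w = 0 := by linear_combination h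
  rcases mul_eq_zero.mp h1 with h2 | h2
  · refine absurd ?_ hab
    calc a = a * (conj a * b) := by rw [sub_eq_zero.mp h2, mul_one]
      _ = (conj a * a) * b := by ring
      _ = b := by rw [conj_mul_self ha, one_mul]
  · exact h2

/-- Splitting a vector along the eigenvalues. -/
theorem exists_split (hz : ∀ (μ : ℂ) (v : Fin n → ℂ), v ≠ 0 → op ρ c z v = μ • v →
    ‖μ - 1‖ < 1) (hc : ‖c‖ = 1) (w : Fin n → ℂ) :
    ∃ (S : Finset ℂ) (v : ℂ → Fin n → ℂ), w = ∑ μ ∈ S, v μ ∧
      (∀ μ ∈ S, op ρ c z (v μ) = μ • v μ) ∧ (∀ μ ∈ S, ‖μ‖ = 1) ∧ (∀ μ ∈ S, ‖μ - 1‖ < 1) := by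
  classical
  obtain ⟨b, ω, hb, hω⟩ := CT.exists_eigenbasis (ρ z) (orderOf_pos z)
    (by rw [← map_pow, pow_orderOf_eq_one, map_one])
  refine ⟨Finset.univ.image fun i => c * ω i,
    fun μ => ∑ i ∈ Finset.univ.filter (fun i => c * ω i = μ), b.repr w i • b i, ?_, ?_, ?_, ?_⟩
  · rw [Finset.sum_fiberwise_of_maps_to (fun i _ => Finset.mem_image_of_mem _ (Finset.mem_univ i)),
      b.sum_repr]
  · intro μ _
    rw [map_sum, Finset.smul_sum]
    refine Finset.sum_congr rfl fun i hi => ?_
    rw [map_smul, op_apply, hb, smul_smul c, (Finset.mem_filter.mp hi).2, smul_comm]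
  · intro μ hμ
    obtain ⟨i, -, rfl⟩ := Finset.mem_image.mp hμ
    rw [norm_mul, hc, Complex.norm_eq_one_of_pow_eq_one (hω i) (orderOf_pos z).ne', mul_one]
  · intro μ hμ
    obtain ⟨i, -, rfl⟩ := Finset.mem_image.mp hμ
    exact hz _ (b i) (b.ne_zero i) (by rw [op_apply, hb, smul_smul])

/-- The scaled operator minus one is a strict contraction. -/
theorem contraction (hz : ∀ (μ : ℂ) (v : Fin n → ℂ), v ≠ 0 → op ρ c z v = μ • v → ‖μ - 1‖ < 1)
    (hc : ‖c‖ = 1) {w : Fin n → ℂ} (hw : w ≠ 0) : nsq ρ (op ρ c z w - w) < nsq ρ w := by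
  obtain ⟨S, v, hsum, hv, hn, hlt⟩ := exists_split ρ hz hc w
  have horth : ∀ i ∈ S, ∀ j ∈ S, i ≠ j → form ρ (v i) (v j) = 0 := fun i hi j hj hij =>
    form_eigen_zero ρ hc (hv i hi) (hv j hj) (hn i hi) hij
  have hd : op ρ c z w - w = ∑ μ ∈ S, (μ - 1) • v μ := by
    rw [hsum, map_sum, ← Finset.sum_sub_distrib]
    exact Finset.sum_congr rfl fun μ hμ => by rw [hv μ hμ, sub_smul, one_smul]
  rw [hd, nsq_sum ρ S (fun μ => (μ - 1) • v μ) fun i hi j hj hij => by
      rw [form_smul_left, form_smul_right, horth i hi j hj hij, mul_zero, mul_zero]]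
  conv_rhs => rw [hsum, nsq_sum ρ S v horth]
  obtain ⟨μ0, hμ0, hv0⟩ : ∃ μ ∈ S, v μ ≠ 0 := by
    by_contra hcon
    push Not at hcon
    exact hw (by rw [hsum]; exact Finset.sum_eq_zero hcon)
  refine Finset.sum_lt_sum (fun μ hμ => ?_) ⟨μ0, hμ0, ?_⟩
  · rw [nsq_smul]
    exact mul_le_of_le_one_left (nsq_nonneg ρ _) (pow_le_one₀ (norm_nonneg _) (hlt μ hμ).le)
  · rw [nsq_smul]
    exact mul_lt_of_lt_one_left (nsq_pos ρ hv0)
      (pow_lt_one₀ (norm_nonneg _) (hlt μ0 hμ0) two_ne_zero)

/-- Blichfeldt's theorem. -/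
theorem absurd_of_small_arc [IsSimpleGroup G] [ρ.IsIrreducible] (hc : ‖c‖ = 1)
    (hz : ∀ (μ : ℂ) (v : Fin n → ℂ), v ≠ 0 → op ρ c z v = μ • v → ‖μ - 1‖ < 1)
    (hone : ∃ v, v ≠ 0 ∧ op ρ c z v = v) (hne : op ρ c z ≠ 1) : False := by
  classical
  set Y := op ρ c z with hY
  let E : Submodule ℂ (Fin n → ℂ) := LinearMap.ker (Y - 1)
  have hE : ∀ v, v ∈ E ↔ Y v = v := fun v => by
    simp [E, LinearMap.mem_ker, sub_eq_zero]
  let U : G → Module.End ℂ (Fin n → ℂ) := fun g => op ρ c (g * z * g⁻¹)
  have hUconj : ∀ g x, U g x = ρ g (Y (ρ g⁻¹ x)) := fun g x => by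
    simp only [U, hY, op_apply, map_smul]
    rw [← Module.End.mul_apply, ← Module.End.mul_apply, ← map_mul, ← map_mul, mul_assoc]
  -- the conjugates are contractions too
  have hcon : ∀ g x, x ≠ 0 → nsq ρ (U g x - x) < nsq ρ x := by
    intro g x hx
    have hinv : ρ g (ρ g⁻¹ x) = x := by
      rw [← Module.End.mul_apply, ← map_mul, mul_inv_cancel, map_one, Module.End.one_apply]
    have hx' : ρ g⁻¹ x ≠ 0 := fun h => hx (by rw [← hinv, h, map_zero])
    have h1 : U g x - x = ρ g (Y (ρ g⁻¹ x) - ρ g⁻¹ x) := by rw [map_sub, hinv, hUconj]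
    rw [h1, nsq_rho]
    calc _ < nsq ρ (ρ g⁻¹ x) := contraction ρ hz hc hx'
      _ = nsq ρ x := nsq_rho ρ _ _
  have hUinj : ∀ g, Function.Injective (U g) := fun g => by
    intro a b hab
    have h1 : U g (a - b) = 0 := by rw [map_sub, hab, sub_self]
    by_contra hne'
    have := nsq_pos ρ (sub_ne_zero.mpr hne')
    rw [← nsq_op ρ hc (g * z * g⁻¹) (a - b)] at this
    rw [show op ρ c (g * z * g⁻¹) (a - b) = U g (a - b) from rfl, h1] at this
    simp [nsq] at this
  obtain ⟨b, -⟩ : ∃ b : Basis (Fin (finrank ℂ E)) ℂ E, True := ⟨Module.finBasis ℂ E, trivial⟩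
  let f : G → ℝ := fun g => ∑ i, nsq ρ (U g (b i : Fin n → ℂ) - (b i : Fin n → ℂ))
  -- every conjugate preserves the eigenspace
  have hall : ∀ g, ∀ e ∈ E, U g e ∈ E := by
    by_contra hcon'
    push Not at hcon'
    obtain ⟨g1, hg1⟩ := hcon'
    obtain ⟨g, hg, hmin⟩ := Finset.exists_min_image
      (Finset.univ.filter fun g => ¬ ∀ e ∈ E, U g e ∈ E) f
      ⟨g1, Finset.mem_filter.mpr ⟨Finset.mem_univ _, by push Not; exact hg1⟩⟩
    have hgE := (Finset.mem_filter.mp hg).2
    set g' := g * z * g⁻¹ with hg'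
    -- the next conjugate is the conjugate of `Y` by `U g`
    have hnext : ∀ x, U g' (U g x) = U g (Y x) := fun x => by
      simp only [U, hY, op_apply, map_smul, smul_smul]
      rw [← Module.End.mul_apply, ← Module.End.mul_apply, ← map_mul, ← map_mul, hg']
      congr 3
      group
    have hsurj : ∀ x, ∃ w, U g w = x := fun x =>
      LinearMap.surjective_of_injective (hUinj g) x
    choose pre hpre using hsurj
    have hdiff : ∀ e ∈ E, U g' e - e = U g (Y (pre e - e) - (pre e - e)) := by
      intro e he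
      rw [map_sub Y, (hE e).mp he, show Y (pre e) - e - (pre e - e) = Y (pre e) - pre e by abel,
        map_sub, ← hnext, hpre]
    have hnum : ∀ e, nsq ρ (pre e - e) = nsq ρ (U g e - e) := fun e => by
      rw [← nsq_op ρ hc (g * z * g⁻¹) (pre e - e)]
      show nsq ρ (U g (pre e - e)) = _
      rw [map_sub, hpre, ← nsq_neg, neg_sub]
    by_cases hg'E : ∀ e ∈ E, U g' e ∈ E
    · -- then the original conjugate preserves the eigenspace
      apply hgE
      let E' : Submodule ℂ (Fin n → ℂ) := E.comap (U g)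
      have hstab : ∀ x ∈ E', Y x ∈ E' := fun x hx => by
        show U g (Y x) ∈ E
        rw [← hnext]
        exact hg'E _ hx
      have hle : E' ≤ E := by
        intro x hx
        rw [hE]
        set u := Y x - x with hu
        by_contra hne'
        have hu0 : u ≠ 0 := sub_ne_zero.mpr hne'
        have huE : U g u ∈ E := by
          rw [hu, map_sub]
          exact E.sub_mem (hstab x hx) hx
        have horth : form ρ (U g u) u = 0 := by
          obtain ⟨S, v, hsum, hv, hn, -⟩ := exists_split ρ hz hc x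
          have hu' : u = ∑ μ ∈ S, (μ - 1) • v μ := by
            rw [hu, hsum, map_sum, ← Finset.sum_sub_distrib]
            exact Finset.sum_congr rfl fun μ hμ => by rw [hv μ hμ, sub_smul, one_smul]
          conv_lhs => arg 3; rw [hu']
          rw [form_sum_right]
          refine Finset.sum_eq_zero fun μ hμ => ?_
          rw [form_smul_right]
          rcases eq_or_ne μ 1 with rfl | hμ1
          · rw [sub_self, zero_mul]
          · rw [form_eigen_zero ρ hc (a := 1) (b := μ) (g := z)
              (by rw [one_smul]; exact (hE _).mp huE) (hv μ hμ) norm_one (Ne.symm hμ1), mul_zero]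
        have h1 := hcon g u hu0
        rw [sub_eq_add_neg, nsq_add_of_orth, nsq_neg,
          show nsq ρ (U g u) = nsq ρ u from nsq_op ρ hc _ u] at h1
        · linarith [nsq_pos ρ hu0]
        · rw [← neg_one_smul ℂ u, form_smul_right, horth, mul_zero]
      have heq : E' = E := by
        refine Submodule.eq_of_le_of_finrank_le hle ?_
        have h2 : E'.map (U g) = E :=
          Submodule.map_comap_eq_of_surjective (LinearMap.surjective_of_injective (hUinj g)) E
        calc finrank ℂ E = finrank ℂ (E'.map (U g)) := by rw [h2]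
          _ ≤ finrank ℂ E' := Submodule.finrank_map_le _ _
      intro e he
      have : e ∈ E' := by rw [heq]; exact he
      exact this
    · refine absurd (hmin g' (Finset.mem_filter.mpr ⟨Finset.mem_univ _, hg'E⟩)) (not_le.mpr ?_)
      refine Finset.sum_lt_sum (fun i _ => ?_) ?_
      · rw [hdiff _ (b i).2, show nsq ρ (U g _) = _ from nsq_op ρ hc _ _, ← hnum]
        rcases eq_or_ne (pre (b i : Fin n → ℂ) - (b i : Fin n → ℂ)) 0 with h0 | h0
        · rw [h0, map_zero, sub_zero]
        · exact (contraction ρ hz hc h0).le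
      · by_contra hfix
        push Not at hfix
        apply hgE
        have hfix' : ∀ i, U g (b i : Fin n → ℂ) = (b i : Fin n → ℂ) := by
          intro i
          rcases eq_or_ne (pre (b i : Fin n → ℂ) - (b i : Fin n → ℂ)) 0 with h0 | h0
          · conv_lhs => rw [← sub_eq_zero.mp h0]
            exact hpre _
          · refine absurd (hfix i (Finset.mem_univ i)) (not_le.mpr ?_)
            rw [hdiff _ (b i).2, show nsq ρ (U g _) = _ from nsq_op ρ hc _ _, ← hnum]
            exact contraction ρ hz hc h0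
        have hext : (U g).comp E.subtype = E.subtype :=
          b.ext fun i => hfix' i
        intro e he
        have := LinearMap.congr_fun hext ⟨e, he⟩
        simp only [LinearMap.comp_apply, Submodule.coe_subtype] at this
        rw [this]
        exact he
  -- the normal closure preserves the eigenspace
  have hstab : ∀ g, ∀ e ∈ E, ρ (g * z * g⁻¹) e ∈ E := fun g e he => by
    have h := E.smul_mem (conj c) (hall g e he)
    rwa [show conj c • U g e = ρ (g * z * g⁻¹) e by
      simp only [U, op_apply, smul_smul, conj_mul_self hc, one_smul]] at h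
  let K : Subgroup G :=
    { carrier := {h | E.map (ρ h) = E}
      one_mem' := by simp [Module.End.one_eq_id]
      mul_mem' := fun {a b} ha hb => by
        show E.map (ρ (a * b)) = E
        rw [map_mul, Module.End.mul_eq_comp, Submodule.map_comp, hb, ha]
      inv_mem' := fun {a} ha => by
        show E.map (ρ a⁻¹) = E
        conv_lhs => rw [← ha]
        rw [← Submodule.map_comp, ← Module.End.mul_eq_comp, ← map_mul, inv_mul_cancel, map_one,
          Module.End.one_eq_id, Submodule.map_id] }
  have hz1 : z ≠ 1 := by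
    rintro rfl
    obtain ⟨v, hv, hv1⟩ := hone
    apply hne
    have hc1 : c = 1 := by
      rw [hY, op_apply, map_one, Module.End.one_apply] at hv1
      exact smul_left_injective ℂ hv (hv1.trans (one_smul ℂ v).symm)
    rw [hY, op, map_one, hc1, one_smul]
  have hK : K = ⊤ := by
    refine top_le_iff.mp ?_
    rw [← (Subgroup.normalClosure_normal.eq_bot_or_eq_top (H := Subgroup.normalClosure {z})).resolve_left
      fun h => hz1 (by
        have hm := Subgroup.subset_normalClosure (Set.mem_singleton z)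
        rw [h] at hm
        exact Subgroup.mem_bot.mp hm)]
    refine (Subgroup.closure_le K).mpr fun x hx => ?_
    obtain ⟨a, rfl, hax⟩ := Group.mem_conjugatesOfSet_iff.mp hx
    obtain ⟨g, rfl⟩ := isConj_iff.mp hax
    show E.map (ρ (g * a * g⁻¹)) = E
    refine Submodule.eq_of_le_of_finrank_eq ?_ ?_
    · rintro _ ⟨e, he, rfl⟩
      exact hstab g e he
    · exact LinearEquiv.finrank_eq (Submodule.equivMapOfInjective _
        (fun x y hxy => by
          have := congrArg (ρ (g * a * g⁻¹)⁻¹) hxy
          simpa only [← Module.End.mul_apply, ← map_mul, inv_mul_cancel, map_one,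
            Module.End.one_apply] using this) E).symm
  have hinvE : ∀ g, ∀ v ∈ E, ρ g v ∈ E := fun g v hv => by
    have hg : g ∈ K := hK ▸ Subgroup.mem_top g
    have : ρ g v ∈ E.map (ρ g) := ⟨v, hv, rfl⟩
    rwa [show E.map (ρ g) = E from hg] at this
  rcases ((CT.isIrreducible_iff ρ).mp ‹_›).2 E hinvE with h | h
  · obtain ⟨v, hv, hv1⟩ := hone
    exact hv (by simpa [h] using (hE v).mpr hv1)
  · refine hne (LinearMap.ext fun v => ?_)
    exact (hE v).mp (h ▸ Submodule.mem_top)

end Cfsg.Agent.SmallArc
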