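import Mathlib.FieldTheory.Perfect
import Mathlib.RingTheory.RootsOfUnity.Complex
import Mathlib.Analysis.SpecialFunctions.Trigonometric.Bounds
import Cfsg.Agent.Lib.Recog.SmallArc
import Cfsg.Agent.Lib.CT.Integral
import Cfsg.Agent.Lib.CT.Kernel
import Cfsg.Agent.Lib.Blocks.Orthogonality
import Cfsg.Agent.Lib.Blocks.Knorr
import Cfsg.Agent.Lib.Blocks.DefectOnePrincipal

/-!
# Brauer's bound for simple groups of order `p ^ a * q ^ b * g₀`
-/

set_option autoImplicit false
set_option linter.unusedSectionVars false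
set_option linter.style.haveILetI false

namespace Cfsg.Agent.BrauerGZero

open Module Blocks
open scoped ComplexConjugate

universe u

theorem norm_root_sub_one_lt {p : ℕ} (hp : 0 < p) {D : ℤ} (hD : 6 * |D| < p) :
    ‖Complex.exp (2 * Real.pi * Complex.I / p) ^ D - 1‖ < 1 := by
  set θ : ℝ := 2 * Real.pi * D / p with hθ
  have hpp : (0 : ℝ) < p := by exact_mod_cast hp
  have he : Complex.exp (2 * Real.pi * Complex.I / p) ^ D = Complex.exp ((θ : ℂ) * Complex.I) := by
    rw [← Complex.exp_int_mul, hθ]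
    congr 1
    push_cast
    ring
  have habs : |θ| < Real.pi / 3 := by
    have h1 : (6 : ℝ) * |(D : ℝ)| < p := by exact_mod_cast hD
    rw [hθ, abs_div, abs_mul, abs_of_pos hpp, abs_of_pos (by positivity : (0 : ℝ) < 2 * Real.pi),
      div_lt_iff₀ hpp]
    nlinarith [Real.pi_pos]
  have hcos : 1 / 2 < Real.cos θ := by
    rw [← Real.cos_abs, ← Real.cos_pi_div_three]
    exact Real.cos_lt_cos_of_nonneg_of_le_pi (abs_nonneg _) (by linarith [Real.pi_pos]) habs
  rw [he]
  have h2 : ‖Complex.exp ((θ : ℂ) * Complex.I) - 1‖ ^ 2 < 1 := by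
    rw [Complex.sq_norm, Complex.normSq_apply]
    simp only [Complex.sub_re, Complex.sub_im, Complex.exp_ofReal_mul_I_re,
      Complex.exp_ofReal_mul_I_im, Complex.one_re, Complex.one_im, sub_zero]
    nlinarith [Real.sin_sq_add_cos_sq θ]
  nlinarith [norm_nonneg (Complex.exp ((θ : ℂ) * Complex.I) - 1)]

/-- Simultaneous approximation by pigeonholes. -/
theorem exists_small {p : ℕ} (hp : 0 < p) (T : Finset ℕ) (a : ℕ → ℤ) (hT : 6 ^ T.card < p) :
    ∃ d : ℤ, ¬ (p : ℤ) ∣ d ∧ ∀ j ∈ T, ∃ D : ℤ, 6 * |D| < p ∧ (p : ℤ) ∣ d * a j - D := by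
  classical
  have hp' : (0 : ℤ) < p := by exact_mod_cast hp
  let r : Fin p → ℕ → ℕ := fun k j => (((k : ℕ) * a j) % (p : ℤ)).toNat
  have hr : ∀ k j, r k j < p := fun k j => by
    have h1 := Int.emod_nonneg ((k : ℕ) * a j) hp'.ne'
    have h2 := Int.emod_lt_of_pos ((k : ℕ) * a j) hp'
    simp only [r]
    omega
  let f : Fin p → T → Fin 6 := fun k j =>
    ⟨6 * r k j / p, (Nat.div_lt_iff_lt_mul hp).mpr (Nat.mul_lt_mul_of_pos_left (hr k j) (by norm_num))⟩
  obtain ⟨k, l, hkl, hf⟩ := Fintype.exists_ne_map_eq_of_card_lt f (by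
    rw [Fintype.card_fun, Fintype.card_fin, Fintype.card_fin, Fintype.card_coe]; exact hT)
  refine ⟨(k : ℤ) - (l : ℤ), fun hd => hkl (Fin.ext ?_), fun j hj => ?_⟩
  · have := Int.eq_zero_of_abs_lt_dvd hd (abs_lt.mpr ⟨by have := l.2; omega, by have := k.2; omega⟩)
    omega
  · refine ⟨(r k j : ℤ) - (r l j : ℤ), ?_, ?_⟩
    · have h := congrArg Fin.val (congrFun hf ⟨j, hj⟩)
      simp only [f] at h
      have h1 := Nat.div_add_mod (6 * r k j) p
      have h2 := Nat.div_add_mod (6 * r l j) p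
      have h3 := Nat.mod_lt (6 * r k j) hp
      have h4 := Nat.mod_lt (6 * r l j) hp
      rw [h] at h1
      rw [← abs_of_pos (show (0 : ℤ) < 6 by norm_num), ← abs_mul, abs_lt]
      constructor <;> omega
    · have e : ∀ k : Fin p, (p : ℤ) ∣ (k : ℕ) * a j - (r k j : ℤ) := fun k => by
        simp only [r]
        rw [Int.toNat_of_nonneg (Int.emod_nonneg _ hp'.ne')]
        exact Int.dvd_self_sub_emod
      have := dvd_sub (e k) (e l)
      rwa [show ((k : ℕ) : ℤ) * a j - (r k j : ℤ) - (((l : ℕ) : ℤ) * a j - (r l j : ℤ)) =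
        (((k : ℕ) : ℤ) - ((l : ℕ) : ℤ)) * a j - ((r k j : ℤ) - (r l j : ℤ)) by ring] at this

variable {G : Type u} [Group G] [Fintype G]

/-- The multiplicities of the eigenvalues of a central element of order `p` of a Sylow subgroup, in
a character of the principal block. -/
theorem pow_dvd_mult {p : ℕ} (hp : p.Prime) {M : Ideal AlgInt} (hM : IsPModular p M) {n : ℕ}
    (ρ : Representation ℂ G (Fin n → ℂ)) [ρ.IsIrreducible]
    (hB : ∀ g : G, MemLocalIdeal M (centralChar ρ.character g - centralChar (fun _ : G => (1 : ℂ)) g))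
    {y : G} (hK : ∀ k, 0 < k → k < p → ¬ p ∣ (Subgroup.centralizer ({y ^ k} : Set G)).index)
    {e h : ℕ} (hn : n = p ^ e * h) (hh : 0 < h) {ζ : ℂ} (hζ : IsPrimitiveRoot ζ p)
    {ι : Type} [Fintype ι] (jdx : ι → ℕ) (hj : ∀ i, jdx i < p)
    (htr : ∀ k : ℕ, ρ.character (y ^ k) = ∑ i, ζ ^ (jdx i * k)) (j : ℕ) (hjp : j < p) :
    p ^ e ∣ (Finset.univ.filter fun i => jdx i = j).card := by
  classical
  haveI := Fact.mk hp
  haveI := isPrime_of_modular hM
  haveI := charP_res hM
  set m := (Finset.univ.filter fun i => jdx i = j).card with hm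
  have hζp : ζ ^ p = 1 := hζ.pow_eq_one
  have hζint : IsIntegral ℤ ζ := IsIntegral.of_pow hp.pos (by rw [hζp]; exact isIntegral_one)
  have hpe : ((p ^ e : ℕ) : ℂ) ≠ 0 := by exact_mod_cast (pow_ne_zero e hp.ne_zero)
  have hfin : finrank ℂ (Fin n → ℂ) = n := by simp
  -- the scaled values are integral and congruent to `h`
  have hβ : ∀ k, k < p → ∃ hi : IsIntegral ℤ (ρ.character (y ^ k) / (p ^ e : ℕ)),
      red M (locInt hi) = (h : Res M) := by
    intro k hk
    rcases Nat.eq_zero_or_pos k with rfl | hk0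
    · have h0 : ρ.character (y ^ 0) / (p ^ e : ℕ) = (h : ℂ) := by
        rw [pow_zero, Representation.char_one, hfin, hn, Nat.cast_mul, mul_div_assoc, mul_comm,
          div_mul_cancel₀ _ hpe]
      refine ⟨by rw [h0]; exact CT.isIntegral_natCast h, ?_⟩
      rw [show locInt (M := M) _ = (h : Loc M) from Subtype.ext (by rw [coe_locInt, h0]; norm_cast), map_natCast]
    · set K := (Subgroup.centralizer ({y ^ k} : Set G)).index with hKdef
      set β := ρ.character (y ^ k) / (p ^ e : ℕ) with hβdef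
      set ω : ℂ := (K : ℂ) * ρ.character (y ^ k) / (finrank ℂ (Fin n → ℂ) : ℂ) with hωdef
      have hω : IsIntegral ℤ ω := CT.isIntegral_omega ρ (y ^ k)
      have h1 : (h : ℂ) * ω = (K : ℂ) * β := by
        have hnC : (n : ℂ) = ((p ^ e : ℕ) : ℂ) * h := by exact_mod_cast hn
        rw [hωdef, hβdef, hfin, hnC]
        have : (h : ℂ) ≠ 0 := Nat.cast_ne_zero.mpr hh.ne'
        field_simp
      have hKβ : IsIntegral ℤ ((K : ℂ) * β) := h1 ▸ (CT.isIntegral_natCast h).mul hω
      have hpβ : IsIntegral ℤ (((p ^ e : ℕ) : ℂ) * β) := by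
        rw [hβdef, mul_div_cancel₀ _ hpe]
        exact CT.isIntegral_isCharacter (CT.isCharacter_character ρ) _
      have hcop : Nat.Coprime K (p ^ e) :=
        ((hp.coprime_iff_not_dvd.mpr (hK k hk0 hk)).symm).pow_right e
      obtain ⟨a, b, hab⟩ := Int.isCoprime_iff_gcd_eq_one.mpr (show Int.gcd K (p ^ e : ℕ) = 1 from
        hcop)
      have hint : IsIntegral ℤ β := by
        have : β = (a : ℂ) * ((K : ℂ) * β) + (b : ℂ) * (((p ^ e : ℕ) : ℂ) * β) := by
          have h2 := congrArg (fun z : ℤ => (z : ℂ)) hab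
          simp only [Int.cast_add, Int.cast_mul, Int.cast_natCast, Int.cast_one] at h2
          linear_combination (-β) * h2
        rw [this]
        exact ((CT.isIntegral_intCast a).mul hKβ).add ((CT.isIntegral_intCast b).mul hpβ)
      refine ⟨hint, ?_⟩
      have hred : red M (locInt hω) = (K : Res M) := by
        rw [← map_natCast (red M) K, red_eq_iff]
        have := hB (y ^ k)
        simp only [centralChar, Representation.char_one, mul_one, div_one] at this
        simpa [hωdef, hfin] using this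
      have h3 : red M ((h : Loc M) * locInt hω) = red M ((K : Loc M) * locInt hint) :=
        congrArg _ (Subtype.ext (by simpa using h1))
      rw [map_mul, map_mul, map_natCast, map_natCast, hred] at h3
      have hK0 : (K : Res M) ≠ 0 := by
        rw [Ne, CharP.cast_eq_zero_iff (Res M) p]
        exact hK k hk0 hk
      exact mul_left_cancel₀ hK0 (h3.symm.trans (mul_comm _ _))
  choose hint hred using hβ
  -- the multiplicity
  have hgeom : (p : ℂ) * m = ∑ k ∈ Finset.range p, ρ.character (y ^ k) * ζ ^ ((p - j) * k) := by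
    simp only [htr, Finset.sum_mul, ← pow_add, ← Nat.add_mul]
    rw [Finset.sum_comm, hm, Finset.card_filter, Nat.cast_sum, Finset.mul_sum]
    refine Finset.sum_congr rfl fun i _ => ?_
    simp only [pow_mul]
    split_ifs with hij
    · rw [hij, show j + (p - j) = p by omega, hζp]
      simp
    · have hne : ζ ^ (jdx i + (p - j)) ≠ 1 := by
        intro h1
        obtain ⟨c, hc⟩ := hζ.dvd_of_pow_eq_one _ h1
        have := hj i
        rcases c with _ | _ | c
        · omega
        · omega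
        · have : p * 2 ≤ p * (c + 1 + 1) := Nat.mul_le_mul_left _ (by omega)
          omega
      have h0 : (ζ ^ (jdx i + (p - j))) ^ p = 1 := by rw [← pow_mul, mul_comm, pow_mul, hζp, one_pow]
      rw [Nat.cast_zero, mul_zero]
      refine ((mul_eq_zero.mp ?_).resolve_right (sub_ne_zero.mpr hne)).symm
      rw [geom_sum_mul, h0, sub_self]
  set R := ((p * m : ℕ) : ℂ) / (p ^ e : ℕ) with hR
  have hRsum : R = ∑ k ∈ (Finset.range p).attach,
      ρ.character (y ^ (k : ℕ)) / (p ^ e : ℕ) * ζ ^ ((p - j) * (k : ℕ)) := by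
    rw [hR, Nat.cast_mul, hgeom, Finset.sum_div,
      ← Finset.sum_attach (Finset.range p)]
    exact Finset.sum_congr rfl fun k _ => by rw [div_mul_eq_mul_div]
  have hRint : IsIntegral ℤ R := by
    rw [hRsum]
    exact IsIntegral.sum _ fun k _ =>
      (hint k (Finset.mem_range.mp k.2)).mul (hζint.pow _)
  obtain ⟨r, hr⟩ := CT.dvd_of_isIntegral_div (pow_ne_zero e hp.ne_zero) hRint
  have hRr : R = (r : ℂ) := by
    rw [hR, hr, Nat.cast_mul, mul_div_assoc, mul_comm, div_mul_cancel₀ _ hpe]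
  have hζred : red M (locInt hζint) = 1 := by
    have h1 : (red M (locInt hζint)) ^ p = 1 := by
      rw [← map_pow, show (locInt (M := M) hζint) ^ p = 1 from Subtype.ext (by simpa using hζp),
        map_one]
    have h2 : (red M (locInt hζint) - 1) ^ p = 0 := by rw [sub_pow_char, h1, one_pow, sub_self]
    exact sub_eq_zero.mp (pow_eq_zero_iff hp.ne_zero |>.mp h2)
  have hrp : p ∣ r := by
    rw [← CharP.cast_eq_zero_iff (Res M) p, ← map_natCast (red M) r]
    have : (r : Loc M) = ∑ k ∈ (Finset.range p).attach,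
        locInt (hint k (Finset.mem_range.mp k.2)) * locInt hζint ^ ((p - j) * (k : ℕ)) := by
      refine Subtype.ext ?_
      push_cast [coe_locInt]
      rw [← hRr, hRsum]
      simp
    rw [this, map_sum]
    rw [Finset.sum_congr rfl fun (k : {x // x ∈ Finset.range p}) _ =>
      show red M (locInt (hint k (Finset.mem_range.mp k.2)) *
          locInt hζint ^ ((p - j) * (k : ℕ))) = (h : Res M) by
        rw [map_mul, map_pow, hred k (Finset.mem_range.mp k.2), hζred, one_pow, mul_one]]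
    simp
  obtain ⟨r', rfl⟩ := hrp
  exact ⟨r', Nat.eq_of_mul_eq_mul_left hp.pos (by rw [hr]; ring)⟩

/-- Brauer's bound. -/
theorem main [IsSimpleGroup G] {p q a b g₀ : ℕ} (hp : p.Prime) (hq : q.Prime)
    (ha : 0 < a) (hg : Nat.card G = p ^ a * q ^ b * g₀) (hne : Nat.card G ≠ p) :
    p < 6 ^ (g₀ - 1) := by
  classical
  haveI := Fact.mk hp
  by_contra hge
  push Not at hge
  have hg0 : 0 < g₀ := Nat.pos_of_ne_zero fun h => by
    rw [h, mul_zero] at hg
    exact Nat.card_pos.ne' hg
  have hpG : p ∣ Nat.card G := by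
    rw [hg, mul_assoc]; exact (dvd_pow_self p ha.ne').mul_right _
  -- the group is not commutative
  have hnab : Subgroup.center G = ⊥ := by
    refine (Subgroup.Normal.eq_bot_or_eq_top (H := Subgroup.center G) inferInstance).resolve_right
      fun h => hne ?_
    letI : CommGroup G := Group.commGroupOfCenterEqTop h
    exact ((Nat.prime_dvd_prime_iff_eq hp (IsSimpleGroup.prime_card (α := G))).mp hpG).symm
  -- a central element of order `p` of a Sylow subgroup
  obtain ⟨P⟩ : Nonempty (Sylow p G) := Sylow.nonempty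
  haveI : Nontrivial (P : Subgroup G) := by
    rw [← Finite.one_lt_card_iff_nontrivial, P.card_eq_multiplicity]
    exact Nat.one_lt_pow (hp.factorization_pos_of_dvd Nat.card_pos.ne' hpG).ne' hp.one_lt
  have hPc : p ∣ Nat.card (Subgroup.center (P : Subgroup G)) := by
    haveI := P.isPGroup'.center_nontrivial
    obtain ⟨m, hm0, hm⟩ := (P.isPGroup'.to_subgroup _).nontrivial_iff_card.mp
      (inferInstance : Nontrivial (Subgroup.center (P : Subgroup G)))
    rw [hm]
    exact dvd_pow_self p hm0.ne'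
  obtain ⟨y0, hy0⟩ := exists_prime_orderOf_dvd_card' p hPc
  set y : G := ((y0 : (P : Subgroup G)) : G) with hydef
  have hy : orderOf y = p := by rw [hydef, Subgroup.orderOf_coe, Subgroup.orderOf_coe, hy0]
  have hyP : ∀ s ∈ (P : Subgroup G), s * y = y * s := fun s hs =>
    congrArg Subtype.val (Subgroup.mem_center_iff.mp y0.2 ⟨s, hs⟩)
  have hK : ∀ k, 0 < k → k < p → ¬ p ∣ (Subgroup.centralizer ({y ^ k} : Set G)).index := by
    intro k _ _ hd
    refine P.not_dvd_index (hd.trans (Subgroup.index_dvd_of_le fun s hs => ?_))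
    rw [Subgroup.mem_centralizer_singleton_iff]
    exact ((Commute.pow_right (hyP s hs) k).eq).symm ▸ rfl
  obtain ⟨M, hM⟩ := exists_isPModular hp
  haveI := isPrime_of_modular hM
  -- a character of the principal block of degree prime to `q`
  obtain ⟨χ, hχB, hχ1, hχq⟩ : ∃ χ ∈ principalBlock M G, χ ≠ CT.trivIrr G ∧
      ¬ q ∣ CT.deg (χ : G → ℂ) := by
    by_contra hcon
    push Not at hcon
    have hB := isPBlock_principalBlock (M := M) (G := G)
    have h0 := weak_orthogonality hM (blockCoeff_mem_loc hB) (g := (1 : G)) (h := y)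
      (by rw [orderOf_one]; exact hp.not_dvd_one) (by rw [hy])
    rw [finsum_mem_irr, ← Finset.add_sum_erase _ _ (Finset.mem_univ (CT.trivIrr G)),
      if_pos trivIrr_mem_principalBlock] at h0
    simp only [CT.trivIrr_apply, map_one, mul_one] at h0
    have hint : IsIntegral ℤ (((1 : ℕ) : ℂ) / q) := by
      have h1 : ((1 : ℕ) : ℂ) / q = -∑ x ∈ (Finset.univ : Finset (IrrCharacter G)).erase
          (CT.trivIrr G), (if x ∈ principalBlock M G then
            (x : G → ℂ) 1 * conj ((x : G → ℂ) y) else 0) / q := by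
        rw [← Finset.sum_div, ← neg_div, ← eq_neg_of_add_eq_zero_left h0, Nat.cast_one]
      rw [h1]
      refine (IsIntegral.sum _ fun x hx => ?_).neg
      split_ifs with hxB
      · obtain ⟨d, hd⟩ := hcon x hxB (Finset.ne_of_mem_erase hx)
        rw [CT.deg_eq (CT.isCharacter_of_isIrr x.2), hd, Nat.cast_mul, mul_assoc, mul_div_assoc,
          mul_comm, div_mul_cancel₀ _ (Nat.cast_ne_zero.mpr hq.ne_zero)]
        exact (CT.isIntegral_natCast d).mul (CT.isIntegral_conj
          (CT.isIntegral_isCharacter (CT.isCharacter_of_isIrr x.2) y))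
      · rw [zero_div]; exact isIntegral_zero
    exact hq.not_dvd_one (CT.dvd_of_isIntegral_div hq.ne_zero hint)
  obtain ⟨n, ρ, hρ, hρχ⟩ := χ.2
  haveI := hρ
  have hfin : finrank ℂ (Fin n → ℂ) = n := by simp
  have hdeg : CT.deg (χ : G → ℂ) = n := by rw [← hρχ, CT.deg_eq_finrank, hfin]
  -- faithfulness
  have hker : ρ.ker = ⊥ := by
    refine (Subgroup.Normal.eq_bot_or_eq_top (H := ρ.ker) inferInstance).resolve_right fun h => hχ1 ?_
    have hone : ∀ g, ρ g = 1 := fun g => MonoidHom.mem_ker.mp (h ▸ Subgroup.mem_top g)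
    obtain ⟨hnt, hsub⟩ := (CT.isIrreducible_iff ρ).mp hρ
    obtain ⟨v, hv⟩ := exists_ne (0 : Fin n → ℂ)
    have htop : (Submodule.span ℂ {v}) = ⊤ := by
      refine (hsub _ fun g w hw => by rw [hone]; exact hw).resolve_left ?_
      simpa [Submodule.span_singleton_eq_bot] using hv
    have h1 : n = 1 := by
      rw [← hfin, ← finrank_top ℂ (Fin n → ℂ), ← htop, finrank_span_singleton hv]
    refine Subtype.ext (funext fun g => ?_)
    rw [← hρχ, CT.trivIrr_apply, Representation.character, hone, LinearMap.trace_one, hfin, h1,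
      Nat.cast_one]
  have hinj : Function.Injective ρ := (MonoidHom.ker_eq_bot_iff ρ).mp hker
  -- the degree
  have hn0 : n ≠ 0 := by
    have := CT.finrank_pos_of_irreducible ρ
    omega
  obtain ⟨e, h, hph, hnh⟩ := Nat.exists_eq_pow_mul_and_not_dvd hn0 p hp.ne_one
  have hh : 0 < h := Nat.pos_of_ne_zero fun hh => hn0 (by rw [hnh, hh, mul_zero])
  have hhg : h ≤ g₀ := by
    have hd : h ∣ p ^ a * q ^ b * g₀ := by
      rw [← hg]
      refine dvd_trans ⟨p ^ e, by rw [mul_comm]⟩ (hnh ▸ hfin ▸ CT.finrank_dvd_card ρ)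
    have hcop : Nat.Coprime h (p ^ a * q ^ b) := by
      refine Nat.Coprime.mul_right ((hp.coprime_iff_not_dvd.mpr hph).symm.pow_right a)
        ((hq.coprime_iff_not_dvd.mpr fun hqh => ?_).symm.pow_right b)
      exact hχq (by rw [hdeg, hnh]; exact hqh.mul_left _)
    exact Nat.le_of_dvd hg0 (hcop.dvd_of_dvd_mul_left hd)
  -- eigenvalues
  set ζ := Complex.exp (2 * Real.pi * Complex.I / p) with hζdef
  have hζ : IsPrimitiveRoot ζ p := Complex.isPrimitiveRoot_exp p hp.ne_zero
  obtain ⟨bb, ω, hb, hω⟩ := CT.exists_eigenbasis (ρ y) hp.pos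
    (by rw [← map_pow, ← hy, pow_orderOf_eq_one, map_one])
  haveI : NeZero p := ⟨hp.ne_zero⟩
  choose jdx hjlt hjdx using fun i => hζ.eq_pow_of_pow_eq_one (hω i)
  have hbk : ∀ (k : ℕ) (i), ρ (y ^ k) (bb i) = ζ ^ (jdx i * k) • bb i := fun k i => by
    rw [map_pow]
    induction k with
    | zero => simp
    | succ k ih =>
      rw [pow_succ', Module.End.mul_apply, ih, map_smul, hb, ← hjdx, smul_smul, ← pow_add,
        mul_add, mul_one]
  have htr : ∀ k : ℕ, ρ.character (y ^ k) = ∑ i, ζ ^ (jdx i * k) := fun k =>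
    CT.trace_eq_sum_of_eigenbasis _ bb _ fun i => hbk k i
  have hmult := pow_dvd_mult hp hM ρ (fun g => by
      have := Blocks.memLocalIdeal_neg (hχB g)
      rw [neg_sub, ← hρχ] at this
      exact this) hK hnh hh hζ jdx hjlt htr
  -- at most `h` eigenvalues
  let J := Finset.univ.image jdx
  have hJ : J.card ≤ h := by
    have h1 : J.card * p ^ e ≤ ∑ j ∈ J, (Finset.univ.filter fun i => jdx i = j).card := by
      rw [← smul_eq_mul]
      refine Finset.card_nsmul_le_sum _ _ _ fun j hj => ?_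
      obtain ⟨i, -, rfl⟩ := Finset.mem_image.mp hj
      exact Nat.le_of_dvd (Finset.card_pos.mpr ⟨i, by simp⟩) (hmult _ (hjlt i))
    rw [← Finset.card_eq_sum_card_image, Finset.card_univ, Fintype.card_fin, hfin, hnh,
      mul_comm (p ^ e) h] at h1
    exact Nat.le_of_mul_le_mul_right h1 (pow_pos hp.pos e)
  obtain ⟨i0⟩ : Nonempty (Fin (finrank ℂ (Fin n → ℂ))) := ⟨⟨0, by omega⟩⟩
  set j0 := jdx i0
  -- two eigenvalues
  obtain ⟨i1, hi1⟩ : ∃ i, jdx i ≠ j0 := by
    by_contra hcon
    push Not at hcon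
    have hscal : ∀ v, ρ y v = ζ ^ j0 • v := by
      intro v
      have : ρ y = ζ ^ j0 • (1 : Module.End ℂ (Fin n → ℂ)) := bb.ext fun i => by
        rw [hb, ← hjdx, hcon i]; simp
      rw [this]; simp
    have hyc : y ∈ Subgroup.center G := Subgroup.mem_center_iff.mpr fun g => hinj (by
      refine LinearMap.ext fun v => ?_
      rw [map_mul, map_mul, Module.End.mul_apply, Module.End.mul_apply, hscal, hscal, map_smul])
    rw [hnab, Subgroup.mem_bot] at hyc
    rw [hyc, orderOf_one] at hy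
    exact hp.ne_one hy.symm
  -- approximation
  let T := J.erase j0
  have hT : 6 ^ T.card < p := by
    have hTc : T.card ≤ g₀ - 1 := by
      rw [Finset.card_erase_of_mem (Finset.mem_image_of_mem _ (Finset.mem_univ i0))]
      show J.card - 1 ≤ g₀ - 1
      omega
    rcases eq_or_lt_of_le ((Nat.pow_le_pow_right (by norm_num) hTc).trans hge) with he | hl
    · exfalso
      have hpos : T.card ≠ 0 := Finset.card_ne_zero.mpr ⟨jdx i1, Finset.mem_erase.mpr
        ⟨hi1, Finset.mem_image_of_mem _ (Finset.mem_univ _)⟩⟩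
      have h2 : 2 ∣ p := he ▸ Dvd.dvd.trans (by norm_num : 2 ∣ 6) (dvd_pow_self 6 hpos)
      have h3 : 3 ∣ p := he ▸ Dvd.dvd.trans (by norm_num : 3 ∣ 6) (dvd_pow_self 6 hpos)
      have := (Nat.prime_dvd_prime_iff_eq Nat.prime_two hp).mp h2
      have := (Nat.prime_dvd_prime_iff_eq Nat.prime_three hp).mp h3
      omega
    · exact hl
  obtain ⟨d, hd, hD⟩ := exists_small hp.pos T (fun j => (j : ℤ) - j0) hT
  set d' : ℕ := (d % (p : ℤ)).toNat with hd'def
  have hd' : (d' : ℤ) = d % p :=
    Int.toNat_of_nonneg (Int.emod_nonneg _ (by exact_mod_cast hp.ne_zero))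
  have hζ0 : ζ ≠ 0 := hζ.ne_zero hp.ne_zero
  set c : ℂ := ζ ^ (-((d' * j0 : ℕ) : ℤ)) with hc
  have hop : ∀ i, SmallArc.op ρ c (y ^ d') (bb i) =
      ζ ^ ((d' : ℤ) * ((jdx i : ℤ) - j0)) • bb i := fun i => by
    rw [SmallArc.op_apply, hbk, smul_smul, hc, ← zpow_natCast, ← zpow_add₀ hζ0]
    congr 2
    push_cast
    ring
  have hcongr : ∀ (A B : ℤ), (p : ℤ) ∣ A - B → ζ ^ A = ζ ^ B := fun A B hAB => by
    rw [← div_eq_one_iff_eq (zpow_ne_zero _ hζ0), ← zpow_sub₀ hζ0,
      hζ.zpow_eq_one_iff_dvd]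
    exact hAB
  have hlt : ∀ i, ‖ζ ^ ((d' : ℤ) * ((jdx i : ℤ) - j0)) - 1‖ < 1 := by
    intro i
    rcases eq_or_ne (jdx i) j0 with he | he
    · simp [he]
    · obtain ⟨D, hD1, hD2⟩ := hD (jdx i)
        (Finset.mem_erase.mpr ⟨he, Finset.mem_image_of_mem _ (Finset.mem_univ _)⟩)
      rw [hcongr _ D ?_]
      · exact norm_root_sub_one_lt hp.pos hD1
      · have h1 : (p : ℤ) ∣ (d' : ℤ) - d := by
          rw [hd', ← dvd_neg, neg_sub]; exact Int.dvd_self_sub_emod
        have h2 := dvd_add (h1.mul_right ((jdx i : ℤ) - j0)) hD2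
        rwa [show ((d' : ℤ) - d) * ((jdx i : ℤ) - j0) + (d * ((jdx i : ℤ) - j0) - D) =
          (d' : ℤ) * ((jdx i : ℤ) - j0) - D by ring] at h2
  refine SmallArc.absurd_of_small_arc ρ (z := y ^ d') (c := c) ?_ ?_ ?_ ?_
  · rw [hc, norm_zpow, Complex.norm_eq_one_of_pow_eq_one hζ.pow_eq_one hp.ne_zero, one_zpow]
  · intro μ v hv hμ
    obtain ⟨i, hi⟩ : ∃ i, bb.repr v i ≠ 0 := by
      by_contra hcon
      push Not at hcon
      exact hv (bb.repr.map_eq_zero_iff.mp (Finsupp.ext hcon))
    have h1 : SmallArc.op ρ c (y ^ d') v =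
        ∑ j, (bb.repr v j * ζ ^ ((d' : ℤ) * ((jdx j : ℤ) - j0))) • bb j := by
      conv_lhs => rw [← bb.sum_repr v]
      rw [map_sum]
      exact Finset.sum_congr rfl fun j _ => by rw [map_smul, hop, smul_smul]
    have h2 := congrArg (fun w => bb.repr w i) (h1.symm.trans hμ)
    simp only [bb.repr_sum_self, map_smul, Finsupp.smul_apply, smul_eq_mul] at h2
    rw [mul_comm (bb.repr v i)] at h2
    rw [← mul_right_cancel₀ hi h2]
    exact hlt i
  · exact ⟨bb i0, bb.ne_zero i0, by rw [hop]; simp [j0]⟩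
  · intro hY
    have h1 := hop i1
    rw [hY, Module.End.one_apply] at h1
    have h2 : ζ ^ ((d' : ℤ) * ((jdx i1 : ℤ) - j0)) = 1 :=
      (smul_left_injective ℂ (bb.ne_zero i1) (h1.symm.trans (one_smul ℂ (bb i1)).symm))
    rw [hζ.zpow_eq_one_iff_dvd] at h2
    rcases (Nat.prime_iff_prime_int.mp hp).dvd_mul.mp h2 with h3 | h3
    · rw [hd'] at h3
      exact hd (by simpa using dvd_add (Int.dvd_self_sub_emod (x := d) (m := (p : ℤ))) h3)
    · refine hi1 ?_
      have := Int.eq_zero_of_abs_lt_dvd h3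
        (abs_lt.mpr ⟨by have := hjlt i0; omega, by have := hjlt i1; omega⟩)
      omega

end Cfsg.Agent.BrauerGZero
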