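import Cfsg.Agent.Lib.GLOrders.PSLOrders

/-!
A group of order `2 p³` with bricks of unbounded dimension.
-/

set_option autoImplicit false

namespace Cfsg.Agent.Recog.Brick

open Matrix
open Fin.NatCast

variable (p : ℕ)

/-- The scalar action of `±1`. -/
def sgn : ℤˣ →* MulAut (Multiplicative (Fin 3 → ZMod p)) where
  toFun e := AddEquiv.toMultiplicative
    { toFun := fun X => (e : ℤ) • X
      invFun := fun X => (e : ℤ) • X
      left_inv := fun X => by
        show (e : ℤ) • ((e : ℤ) • X) = X
        rw [smul_smul, ← Units.val_mul, Int.units_mul_self, Units.val_one, one_smul]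
      right_inv := fun X => by
        show (e : ℤ) • ((e : ℤ) • X) = X
        rw [smul_smul, ← Units.val_mul, Int.units_mul_self, Units.val_one, one_smul]
      map_add' := fun X Y => smul_add _ _ _ }
  map_one' := MulEquiv.ext fun X => congrArg Multiplicative.ofAdd (one_smul ℤ X.toAdd)
  map_mul' e f := MulEquiv.ext fun X => congrArg Multiplicative.ofAdd (mul_smul (e : ℤ) (f : ℤ) X.toAdd)

/-- The generalised dihedral group of order `2 p³`. -/
abbrev H : Type := Multiplicative (Fin 3 → ZMod p) ⋊[sgn p] ℤˣ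

theorem card_H [Fact p.Prime] : Nat.card (H p) = 2 * p ^ 3 := by
  rw [Nat.card_congr SemidirectProduct.equivProd, Nat.card_prod, Nat.card_congr Multiplicative.toAdd,
    Nat.card_fun, Nat.card_eq_fintype_card (α := ℤˣ)]
  simp [Fintype.card_units_int, mul_comm]

variable {p} {m : ℕ} [NeZero m]

/-- The cyclic shift. -/
def shiftMat : Matrix (Fin m) (Fin m) (ZMod p) := Matrix.of fun i j => if j = i + 1 then 1 else 0

/-- The bottom left block. -/
def blk (v : Fin 3 → ZMod p) : Matrix (Fin m) (Fin m) (ZMod p) :=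
  v 0 • (1 : Matrix (Fin m) (Fin m) (ZMod p)) + v 1 • shiftMat + v 2 • Matrix.single 0 0 1

theorem blk_add (v w : Fin 3 → ZMod p) : blk (m := m) (v + w) = blk v + blk w := by
  simp only [blk, Pi.add_apply, add_smul]; abel

theorem blk_zero : blk (m := m) (0 : Fin 3 → ZMod p) = 0 := by
  simp [blk]

theorem blk_zsmul (k : ℤ) (v : Fin 3 → ZMod p) : blk (m := m) (k • v) = k • blk v := by
  simp only [blk, Pi.smul_apply, smul_add, smul_assoc]

/-- The matrices of the representation. -/
def mat (x : H p) : Matrix (Fin m ⊕ Fin m) (Fin m ⊕ Fin m) (ZMod p) :=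
  fromBlocks 1 0 (blk x.left.toAdd) ((((x.right : ℤ)) : ZMod p) • 1)

theorem mat_mul (x y : H p) : mat (m := m) (x * y) = mat x * mat y := by
  rw [mat, mat, mat, fromBlocks_multiply]
  simp only [SemidirectProduct.mul_left, SemidirectProduct.mul_right, Matrix.mul_one, Matrix.one_mul,
    Matrix.zero_mul, Matrix.mul_zero, add_zero, zero_add, Units.val_mul, Int.cast_mul, smul_mul_assoc,
    mul_smul_comm, smul_smul]
  congr 1
  case e_C =>
    show blk (x.left.toAdd + (x.right : ℤ) • y.left.toAdd) = _
    rw [blk_add, blk_zsmul, Int.cast_smul_eq_zsmul]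
  case e_D => rw [mul_comm]
  case e_B => rw [smul_zero]

theorem mat_one : mat (m := m) (1 : H p) = 1 := by
  rw [mat]
  simp [blk_zero (m := m), fromBlocks_one]

theorem det_mat (hm : Even m) (x : H p) : (mat (m := m) x).det = 1 := by
  rw [mat, det_fromBlocks_zero₁₂, det_one, one_mul, det_smul, det_one, mul_one, Fintype.card_fin]
  rcases Int.units_eq_one_or x.right with h | h <;> rw [h]
  · simp
  · simp [hm.neg_one_pow]

/-- The enlarged index set. -/
def idx (m : ℕ) : Fin m ⊕ Fin m ≃ Fin (m + m) := finSumFinEquiv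

/-- The representation in `SL`. -/
def rep (hm : Even m) : H p →* Matrix.SpecialLinearGroup (Fin (m + m)) (ZMod p) where
  toFun x := ⟨Matrix.reindexAlgEquiv (ZMod p) (ZMod p) (idx m) (mat x), by
    rw [Matrix.det_reindexAlgEquiv, det_mat hm]⟩
  map_one' := Subtype.ext (by show Matrix.reindexAlgEquiv _ _ _ _ = _; rw [mat_one, map_one]; rfl)
  map_mul' x y := Subtype.ext (by show Matrix.reindexAlgEquiv _ _ _ _ = _; rw [mat_mul, map_mul]; rfl)

/-- The representation in `PSL`. -/
def prep (hm : Even m) : H p →* Matrix.ProjectiveSpecialLinearGroup (Fin (m + m)) (ZMod p) :=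
  (QuotientGroup.mk' _).comp (rep hm)

theorem eq_of_sum (c : ZMod p) :
    Matrix.reindexAlgEquiv (ZMod p) (ZMod p) (idx m) (c • 1) = scalar (Fin (m + m)) c := by
  rw [map_smul, map_one, ← Algebra.algebraMap_eq_smul_one]
  rfl

theorem shift_zero_one (hm : 2 ≤ m) : shiftMat (p := p) (m := m) 0 1 = 1 := by
  simp [shiftMat]

theorem prep_injective [Fact p.Prime] (hp : p ≠ 2) (hm : Even m) (hm2 : 2 ≤ m) :
    Function.Injective (prep (p := p) hm) := by
  rw [injective_iff_map_eq_one]
  intro x hx
  obtain ⟨c, hc⟩ := (GLOrders.mk_eq_one_iff _).1 hx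
  have h1 : mat (m := m) x = c • 1 := (Matrix.reindexAlgEquiv (ZMod p) (ZMod p) (idx m)).injective
    ((show Matrix.reindexAlgEquiv _ _ _ (mat x) = _ from hc).trans (eq_of_sum c).symm)
  rw [mat, ← fromBlocks_one, fromBlocks_smul, smul_zero, fromBlocks_inj] at h1
  obtain ⟨h11, -, h21, h22⟩ := h1
  have hc1 : c = 1 := by
    have := congrFun (congrFun h11 0) 0
    simpa using this.symm
  have he : x.right = 1 := by
    rcases Int.units_eq_one_or x.right with h | h
    · exact h
    · exfalso
      have := congrFun (congrFun h22 0) 0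
      rw [hc1, h] at this
      simp at this
      have h2 : ((2 : ℕ) : ZMod p) = 0 := by push_cast; linear_combination -this
      rw [ZMod.natCast_eq_zero_iff] at h2
      exact hp ((Nat.prime_dvd_prime_iff_eq Fact.out Nat.prime_two).1 h2)
  have h01 : (0 : Fin m) ≠ 1 := by
    intro h
    have := congrArg Fin.val h
    rw [Fin.val_zero, Fin.val_one', Nat.mod_eq_of_lt (by omega)] at this
    omega
  have h12 : (1 : Fin m) ≠ 1 + 1 := fun h => h01 (by simpa using h.symm)
  have hv1 : x.left.toAdd 1 = 0 := by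
    have := congrFun (congrFun h21 0) 1
    simpa [blk, shiftMat, h01, h01.symm] using this
  have hv0 : x.left.toAdd 0 = 0 := by
    have := congrFun (congrFun h21 1) 1
    simpa [blk, shiftMat, h01, h01.symm, h12] using this
  have hv2 : x.left.toAdd 2 = 0 := by
    have := congrFun (congrFun h21 0) 0
    simpa [blk, shiftMat, h01, hv0] using this
  refine SemidirectProduct.ext (toAdd_eq_zero.1 (funext fun i => ?_)) he
  fin_cases i <;> assumption

theorem commutant_scalar (a : Matrix (Fin m) (Fin m) (ZMod p)) (hP : a * shiftMat = shiftMat * a)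
    (hT : a * Matrix.single 0 0 1 = Matrix.single 0 0 1 * a) : a = a 0 0 • 1 := by
  have hshift : ∀ i j : Fin m, a (i + 1) (j + 1) = a i j := by
    intro i j
    have := congrFun (congrFun hP i) (j + 1)
    simp only [mul_apply, shiftMat, of_apply] at this
    rw [Finset.sum_eq_single j (fun k _ hk => by rw [if_neg (fun h => hk (add_right_cancel h).symm), mul_zero]) (by simp),
      if_pos rfl, mul_one, Finset.sum_eq_single (i + 1) (fun k _ hk => by rw [if_neg hk, zero_mul]) (by simp),
      if_pos rfl, one_mul] at this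
    exact this.symm
  have hrow : ∀ j, j ≠ 0 → a 0 j = 0 := fun j hj => by
    have := congrFun (congrFun hT 0) j
    simpa [mul_apply, Matrix.single, hj.symm] using this.symm
  have hk : ∀ (k : ℕ) (i j : Fin m), a (i + (k : Fin m)) (j + (k : Fin m)) = a i j := by
    intro k
    induction k with
    | zero => intro i j; simp
    | succ k ih => intro i j; rw [Nat.cast_succ, ← add_assoc, ← add_assoc, hshift, ih]
  ext i j
  have := hk i.val 0 (j - i)
  rw [Fin.cast_val_eq_self, zero_add, sub_add_cancel] at this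
  rw [this]
  by_cases h : i = j
  · subst h; simp
  · rw [hrow _ (sub_ne_zero.2 (Ne.symm h))]; simp [h]

theorem centralizer_eq_bot [Fact p.Prime] (hp : p ≠ 2) (hm : Even m) :
    Subgroup.centralizer ((prep (p := p) hm).range :
      Set (Matrix.ProjectiveSpecialLinearGroup (Fin (m + m)) (ZMod p))) = ⊥ := by
  rw [eq_bot_iff]
  intro z hz
  obtain ⟨g, rfl⟩ := QuotientGroup.mk_surjective z
  rw [Subgroup.mem_bot]
  refine (GLOrders.mk_eq_one_iff g).2 ?_
  set R := Matrix.reindexAlgEquiv (ZMod p) (ZMod p) (idx m)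
  set G := R.symm g.1 with hG
  set a := G.toBlocks₁₁ with ha
  set b := G.toBlocks₁₂ with hb
  set d := G.toBlocks₂₁ with hd
  set e := G.toBlocks₂₂ with he
  have hGb : G = fromBlocks a b d e := (fromBlocks_toBlocks G).symm
  have hdetG : G.det = 1 := by
    have : (R G).det = g.1.det := by rw [hG, AlgEquiv.apply_symm_apply]
    rw [Matrix.det_reindexAlgEquiv] at this
    exact this.trans g.2
  have hcomm : ∀ x : H p, ∃ c : ZMod p, G * mat x = c • (mat x * G) := by
    intro x
    have h1 := Subgroup.mem_centralizer_iff.1 hz (prep hm x) ⟨x, rfl⟩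
    change QuotientGroup.mk (rep hm x) * QuotientGroup.mk g = QuotientGroup.mk g * QuotientGroup.mk (rep hm x) at h1
    rw [← QuotientGroup.mk_mul, ← QuotientGroup.mk_mul, QuotientGroup.eq] at h1
    obtain ⟨c, -, hc⟩ := Matrix.SpecialLinearGroup.mem_center_iff.1 h1
    refine ⟨c, R.injective ?_⟩
    rw [map_smul, map_mul, map_mul, hG, AlgEquiv.apply_symm_apply]
    show g.1 * (rep hm x).1 = c • ((rep hm x).1 * g.1)
    have h2 : g * rep hm x = rep hm x * g * ((rep hm x * g)⁻¹ * (g * rep hm x)) := by group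
    have h3 := congrArg Subtype.val h2
    simp only [Matrix.SpecialLinearGroup.coe_mul] at h3 hc
    rw [h3, ← hc]
    simp [← Matrix.smul_one_eq_diagonal]
  obtain ⟨c', hc'⟩ := hcomm ⟨1, -1⟩
  obtain ⟨c, hc⟩ := hcomm ⟨Multiplicative.ofAdd ![1, 0, 0], 1⟩
  have hblk1 : blk (m := m) (![1, 0, 0] : Fin 3 → ZMod p) = 1 := by simp [blk]
  rw [hGb] at hc hc'
  simp only [mat, toAdd_ofAdd, toAdd_one, hblk1, blk_zero, fromBlocks_multiply, fromBlocks_smul, fromBlocks_inj,
    Matrix.mul_one, Matrix.one_mul, Matrix.zero_mul, Matrix.mul_zero, add_zero, zero_add, Units.val_one,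
    Units.val_neg, Int.cast_one, Int.cast_neg, one_smul, mul_smul_comm, smul_mul_assoc, neg_smul, one_smul,
    mul_neg, neg_mul, smul_neg] at hc hc'
  obtain ⟨h11, h12, h21, h22⟩ := hc
  obtain ⟨k11, k12, k21, k22⟩ := hc'
  have h2 : (2 : ZMod p) ≠ 0 := fun h => by
    have h2 : ((2 : ℕ) : ZMod p) = 0 := by exact_mod_cast h
    rw [ZMod.natCast_eq_zero_iff] at h2
    exact hp ((Nat.prime_dvd_prime_iff_eq Fact.out Nat.prime_two).1 h2)
  have hm0 : 0 < m := Nat.pos_of_ne_zero (NeZero.ne m)
  have hc'1 : c' = 1 := by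
    by_contra hne
    have ha0 : a = 0 := by
      have : (1 - c') • a = 0 := by rw [sub_smul, one_smul, ← k11, sub_self]
      exact (smul_eq_zero.1 this).resolve_left (sub_ne_zero.2 (Ne.symm hne))
    rw [ha0, zero_add, smul_zero] at h11
    have hfalse : G.det = 0 := by
      refine Matrix.det_eq_zero_of_row_eq_zero (Sum.inl ⟨0, hm0⟩) fun j => ?_
      rw [hGb, ha0, h11]
      rcases j with j | j <;> rfl
    rw [hdetG] at hfalse
    exact one_ne_zero hfalse
  subst hc'1
  simp only [one_smul] at k12 k21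
  have hb0 : b = 0 := by
    have : (2 : ZMod p) • b = 0 := by
      rw [two_smul]
      nth_rewrite 1 [← k12]
      exact neg_add_cancel b
    exact (smul_eq_zero.1 this).resolve_left h2
  have hd0 : d = 0 := by
    have : (2 : ZMod p) • d = 0 := by
      rw [two_smul]
      nth_rewrite 1 [k21]
      exact neg_add_cancel d
    exact (smul_eq_zero.1 this).resolve_left h2
  have ha0 : a ≠ 0 := by
    intro ha0
    have hfalse : G.det = 0 := by
      refine Matrix.det_eq_zero_of_row_eq_zero (Sum.inl ⟨0, hm0⟩) fun j => ?_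
      rw [hGb, ha0, hb0]
      rcases j with j | j <;> rfl
    rw [hdetG] at hfalse
    exact one_ne_zero hfalse
  have hc1 : c = 1 := by
    rw [hb0, add_zero] at h11
    have : (1 - c) • a = 0 := by rw [sub_smul, one_smul, ← h11, sub_self]
    exact (sub_eq_zero.1 ((smul_eq_zero.1 this).resolve_right ha0)).symm
  subst hc1
  have hea : e = a := by
    rw [one_smul, hd0, zero_add, add_zero] at h21
    exact h21
  have key : ∀ v : Fin 3 → ZMod p, a * blk v = blk v * a := by
    intro v
    obtain ⟨u, hu⟩ := hcomm ⟨Multiplicative.ofAdd v, 1⟩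
    rw [hGb] at hu
    simp only [mat, toAdd_ofAdd, fromBlocks_multiply, fromBlocks_smul, fromBlocks_inj, Matrix.mul_one,
      Matrix.one_mul, Matrix.zero_mul, Matrix.mul_zero, add_zero, zero_add, Units.val_one, Int.cast_one, one_smul,
      hb0, hd0, hea] at hu
    obtain ⟨u11, -, u21, -⟩ := hu
    have hu1 : u = 1 := by
      have : (1 - u) • a = 0 := by rw [sub_smul, one_smul, ← u11, sub_self]
      exact (sub_eq_zero.1 ((smul_eq_zero.1 this).resolve_right ha0)).symm
    rw [hu1, one_smul] at u21
    exact u21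
  have hP := key ![0, 1, 0]
  have hT := key ![0, 0, 1]
  simp [blk] at hP hT
  have hs := commutant_scalar a hP hT
  refine ⟨a 0 0, ?_⟩
  have : G = a 0 0 • 1 := by
    rw [hGb, hb0, hd0, hea, ← fromBlocks_one, fromBlocks_smul, smul_zero, ← hs]
  rw [← eq_of_sum, ← this, hG, AlgEquiv.apply_symm_apply]

end Cfsg.Agent.Recog.Brick
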