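import Cfsg.Agent.Lib.Recog.AltSpectrum
import Cfsg.Agent.Lib.Recog.Spectrum

/-!
# Minimal Frobenius groups of order `p ^ e * r`

`F_p[ζ] ⋊ ⟨ζ⟩` with `ζ` a primitive `r`-th root of unity in characteristic `p`.
-/

set_option autoImplicit false

namespace Cfsg.Agent.Recog.Critical

/-- The properties of a minimal Frobenius group for a pair of primes. -/
structure IsFactorGroup (F : Type) [Group F] (p r : ℕ) : Prop where
  orders : Set.range (orderOf : F → ℕ) = {1, p, r}
  card_eq : ∃ e, 0 < e ∧ Nat.card F = p ^ e * r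
  comm_p : ∀ x y : F, orderOf x = p → orderOf y = p → x * y = y * x
  not_comm_r : ∃ x y : F, orderOf x = r ∧ orderOf y = r ∧ x * y ≠ y * x
  normal_dvd : ∀ M : Subgroup F, M.Normal → M ≠ ⊥ → ¬ p ∣ M.index
  eq_top : ∀ H : Subgroup F, p ∣ Nat.card H → r ∣ Nat.card H → H = ⊤

section Model

variable {K : Type} [Field K] (ζ : Kˣ)

/-- The subring generated by the root of unity. -/
abbrev Ring' : Subring K := Subring.closure {(ζ : K)}

lemma coe_mem (hζ : IsOfFinOrder ζ) (c : Subgroup.zpowers ζ) : ((c : Kˣ) : K) ∈ Ring' ζ := by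
  obtain ⟨c, hc⟩ := c
  rw [← hζ.mem_powers_iff_mem_zpowers] at hc
  obtain ⟨i, rfl⟩ := hc
  show ((ζ ^ i : Kˣ) : K) ∈ Ring' ζ
  rw [Units.val_pow_eq_pow_val]
  exact pow_mem (Subring.subset_closure (Set.mem_singleton _)) i

/-- Multiplication by the powers of the root. -/
def act (hζ : IsOfFinOrder ζ) : Subgroup.zpowers ζ →* MulAut (Multiplicative (Ring' ζ)) where
  toFun c :=
    { toFun := fun v => Multiplicative.ofAdd ⟨((c : Kˣ) : K) * (v.toAdd : K),
        (Ring' ζ).mul_mem (coe_mem ζ hζ c) v.toAdd.2⟩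
      invFun := fun v => Multiplicative.ofAdd ⟨((c⁻¹ : Subgroup.zpowers ζ) : Kˣ) * (v.toAdd : K),
        (Ring' ζ).mul_mem (coe_mem ζ hζ c⁻¹) v.toAdd.2⟩
      left_inv := fun v => by
        apply Multiplicative.toAdd.injective; apply Subtype.ext
        simp
      right_inv := fun v => by
        apply Multiplicative.toAdd.injective; apply Subtype.ext
        simp
      map_mul' := fun v w => by
        apply Multiplicative.toAdd.injective; apply Subtype.ext
        simp [mul_add] }
  map_one' := MulEquiv.ext fun v => by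
    apply Multiplicative.toAdd.injective; apply Subtype.ext
    simp
  map_mul' c d := MulEquiv.ext fun v => by
    apply Multiplicative.toAdd.injective; apply Subtype.ext
    simp [mul_assoc]

variable (hζ : IsOfFinOrder ζ)

lemma act_apply (c : Subgroup.zpowers ζ) (v : Multiplicative (Ring' ζ)) :
    ((act ζ hζ c v).toAdd : K) = ((c : Kˣ) : K) * (v.toAdd : K) := rfl

lemma act_free (c : Subgroup.zpowers ζ) (hc : c ≠ 1) (v : Multiplicative (Ring' ζ))
    (hv : act ζ hζ c v = v) : v = 1 := by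
  have h1 : ((act ζ hζ c v).toAdd : K) = (v.toAdd : K) := by rw [hv]
  rw [act_apply] at h1
  by_contra hv1
  have h2 : (v.toAdd : K) ≠ 0 := fun h => hv1 (Multiplicative.toAdd.injective (Subtype.ext h))
  exact hc (Subtype.ext (Units.ext ((mul_eq_right₀ h2).1 h1)))

lemma pow_p {p : ℕ} [CharP K p] (v : Multiplicative (Ring' ζ)) : v ^ p = 1 := by
  apply Multiplicative.toAdd.injective; apply Subtype.ext
  simp [CharP.cast_eq_zero]

/-- The group. -/
abbrev Grp : Type := Multiplicative (Ring' ζ) ⋊[act ζ hζ] Subgroup.zpowers ζ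

lemma inl_left (x : Grp ζ hζ) (hx : x.right = 1) : SemidirectProduct.inl x.left = x := by
  refine SemidirectProduct.ext rfl ?_
  rw [hx]; rfl

variable [Finite K]

lemma hfull (hprime : (orderOf ζ).Prime) (H : Subgroup (Grp ζ hζ)) (c : Subgroup.zpowers ζ)
    (hc : c ≠ 1)
    (hinv : ∀ v, SemidirectProduct.inl v ∈ H → SemidirectProduct.inl (act ζ hζ c v) ∈ H)
    (hne : ∃ v, v ≠ 1 ∧ (SemidirectProduct.inl v : Grp ζ hζ) ∈ H) :
    ∀ v, (SemidirectProduct.inl v : Grp ζ hζ) ∈ H := by
  obtain ⟨w, hw1, hw⟩ := hne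
  have := Fact.mk hprime
  have hgen : ∀ i : ℕ, ∀ v, SemidirectProduct.inl v ∈ H →
      SemidirectProduct.inl (act ζ hζ (c ^ i) v) ∈ H := by
    intro i
    induction i with
    | zero => intro v hv; rw [pow_zero, map_one]; exact hv
    | succ i ih => intro v hv; rw [pow_succ', map_mul]; exact hinv _ (ih v hv)
  have hζc : ∀ v, SemidirectProduct.inl v ∈ H →
      SemidirectProduct.inl (act ζ hζ ⟨ζ, Subgroup.mem_zpowers ζ⟩ v) ∈ H := by
    intro v hv
    obtain ⟨i, hi⟩ := mem_powers_of_prime_card (g' := (⟨ζ, Subgroup.mem_zpowers ζ⟩ : Subgroup.zpowers ζ))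
      (Nat.card_zpowers ζ) hc
    have hi' : c ^ i = ⟨ζ, Subgroup.mem_zpowers ζ⟩ := hi
    rw [← hi']; exact hgen i v hv
  let W : AddSubgroup (Ring' ζ) :=
    { carrier := {x | (SemidirectProduct.inl (Multiplicative.ofAdd x) : Grp ζ hζ) ∈ H}
      zero_mem' := by
        show (SemidirectProduct.inl (1 : Multiplicative (Ring' ζ)) : Grp ζ hζ) ∈ H
        rw [map_one]; exact one_mem H
      add_mem' := fun {a b} ha hb => by
        show (SemidirectProduct.inl (Multiplicative.ofAdd (a + b)) : Grp ζ hζ) ∈ H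
        rw [ofAdd_add, map_mul]; exact mul_mem ha hb
      neg_mem' := fun {a} ha => by
        show (SemidirectProduct.inl (Multiplicative.ofAdd (-a)) : Grp ζ hζ) ∈ H
        rw [ofAdd_neg, map_inv]; exact inv_mem ha }
  have hmul : ∀ z, z ∈ Subring.closure {(ζ : K)} → ∀ (x : Ring' ζ), (x : K) = z →
      ∀ y ∈ W, x * y ∈ W := by
    intro z hz
    induction hz using Subring.closure_induction with
    | mem a ha =>
      intro x hx y hy
      obtain rfl : a = (ζ : K) := ha
      obtain rfl : x = ⟨(ζ : K), Subring.subset_closure (Set.mem_singleton _)⟩ := Subtype.ext hx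
      exact hζc _ hy
    | zero =>
      intro x hx y _
      obtain rfl : x = 0 := Subtype.ext hx
      rw [zero_mul]; exact W.zero_mem
    | one =>
      intro x hx y hy
      obtain rfl : x = 1 := Subtype.ext hx
      rw [one_mul]; exact hy
    | add a b ha hb iha ihb =>
      intro x hx y hy
      obtain rfl : x = ⟨a, ha⟩ + ⟨b, hb⟩ := Subtype.ext hx
      rw [add_mul]; exact W.add_mem (iha _ rfl y hy) (ihb _ rfl y hy)
    | neg a ha iha =>
      intro x hx y hy
      obtain rfl : x = -⟨a, ha⟩ := Subtype.ext hx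
      rw [neg_mul]; exact W.neg_mem (iha _ rfl y hy)
    | mul a b ha hb iha ihb =>
      intro x hx y hy
      obtain rfl : x = ⟨a, ha⟩ * ⟨b, hb⟩ := Subtype.ext hx
      rw [mul_assoc]; exact iha _ rfl _ (ihb _ rfl y hy)
  intro v
  have hw0 : w.toAdd ≠ 0 := fun h => hw1 (Multiplicative.toAdd.injective h)
  obtain ⟨x, hx⟩ := (Finite.injective_iff_surjective (f := fun x : Ring' ζ => x * w.toAdd)).1
    (fun a b hab => mul_right_cancel₀ hw0 hab) v.toAdd
  have h1 : x * w.toAdd ∈ W := hmul _ x.2 x rfl w.toAdd hw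
  rw [show x * w.toAdd = v.toAdd from hx] at h1
  exact h1

end Model

/-- Existence. -/
theorem exists_factorGroup {p r : ℕ} (hp : p.Prime) (hr : r.Prime) (hpr : p ≠ r) :
    ∃ (F : Type) (_ : Group F) (_ : Finite F), IsFactorGroup F p r := by
  classical
  have := Fact.mk hp
  have := Fact.mk hr
  have hr1 : r - 1 ≠ 0 := by have := hr.two_le; omega
  let K := GaloisField p (r - 1)
  have : Fintype K := Fintype.ofFinite K
  have hdvd : r ∣ Nat.card Kˣ := by
    rw [Nat.card_units, GaloisField.card p (r - 1) hr1]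
    have h0 : ((p : ℕ) : ZMod r) ≠ 0 := fun h => hpr
      ((Nat.prime_dvd_prime_iff_eq hr hp).1 ((ZMod.natCast_eq_zero_iff p r).1 h)).symm
    have h1 := ZMod.pow_card_sub_one_eq_one h0
    rw [← ZMod.natCast_eq_zero_iff, Nat.cast_sub (Nat.one_le_pow _ _ hp.pos), Nat.cast_pow, h1,
      Nat.cast_one, sub_self]
  obtain ⟨ζ, hζ⟩ := exists_prime_orderOf_dvd_card' r hdvd
  have hfin : IsOfFinOrder ζ := isOfFinOrder_of_finite ζ
  have hC : Nat.card (Subgroup.zpowers ζ) = r := by rw [Nat.card_zpowers, hζ]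
  have hprime : (orderOf ζ).Prime := by rw [hζ]; exact hr
  have hRnt : Nontrivial (Multiplicative (Ring' ζ)) := inferInstance
  have hexp : ∀ v : Multiplicative (Ring' ζ), v ^ p = 1 := pow_p ζ
  have hVp : IsPGroup p (Multiplicative (Ring' ζ)) := fun v => ⟨1, by rw [pow_one, hexp]⟩
  obtain ⟨e, he⟩ := IsPGroup.iff_card.1 hVp
  have he0 : 0 < e := Nat.pos_of_ne_zero fun h => by
    have := Finite.one_lt_card (α := Multiplicative (Ring' ζ))
    rw [he, h, pow_zero] at this
    exact lt_irrefl _ this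
  have : Finite (Grp ζ hfin) := Finite.of_equiv _ SemidirectProduct.equivProd.symm
  have hcard : Nat.card (Grp ζ hfin) = p ^ e * r := by rw [SemidirectProduct.card, he, hC]
  have hc : orderOf (⟨ζ, Subgroup.mem_zpowers ζ⟩ : Subgroup.zpowers ζ) = r := by
    rw [← Subgroup.orderOf_coe]; exact hζ
  have hc1 : (⟨ζ, Subgroup.mem_zpowers ζ⟩ : Subgroup.zpowers ζ) ≠ 1 := fun h => by
    rw [h, orderOf_one] at hc; exact hr.one_lt.ne hc
  have horders : Set.range (orderOf : (Grp ζ hfin) → ℕ) = {1, p, r} := by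
    rw [range_orderOf_fpf (act ζ hfin) hexp (fun u v => mul_comm u v) (act_free ζ hfin)]
    have : Set.range (orderOf : Subgroup.zpowers ζ → ℕ) = {1, r} := by
      apply Set.Subset.antisymm
      · rintro _ ⟨c, rfl⟩
        rcases (Nat.dvd_prime hr).1 ((orderOf_dvd_natCard c).trans (dvd_of_eq hC)) with h | h <;>
          simp [h]
      · rintro d (rfl | rfl)
        · exact ⟨1, orderOf_one⟩
        · exact ⟨_, hc⟩
    rw [this, Set.insert_comm]
  have hright : ∀ x : (Grp ζ hfin), ¬ r ∣ orderOf x → x.right = 1 := by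
    intro x hx
    have h1 : orderOf x.right ∣ orderOf x :=
      orderOf_map_dvd (SemidirectProduct.rightHom : (Grp ζ hfin) →* Subgroup.zpowers ζ) x
    rcases (Nat.dvd_prime hr).1 ((orderOf_dvd_natCard x.right).trans (dvd_of_eq hC)) with h | h
    · exact orderOf_eq_one_iff.1 h
    · rw [h] at h1; exact absurd h1 hx
  have hrp : ¬ r ∣ p := fun h => hpr ((Nat.prime_dvd_prime_iff_eq hr hp).1 h).symm
  refine ⟨(Grp ζ hfin), inferInstance, inferInstance, horders, ⟨e, he0, hcard⟩, ?_, ?_, ?_, ?_⟩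
  · intro x y hx hy
    have h : ∀ z : (Grp ζ hfin), orderOf z = p → z.right = 1 := fun z hz => hright z (by rw [hz]; exact hrp)
    rw [← inl_left ζ hfin x (h x hx), ← inl_left ζ hfin y (h y hy), ← map_mul, ← map_mul, mul_comm]
  · obtain ⟨v, hv⟩ := exists_ne (1 : Multiplicative (Ring' ζ))
    refine ⟨SemidirectProduct.inr ⟨ζ, Subgroup.mem_zpowers ζ⟩, MulAut.conj (SemidirectProduct.inl v)
      (SemidirectProduct.inr ⟨ζ, Subgroup.mem_zpowers ζ⟩), ?_, ?_, fun h => ?_⟩
    · rw [orderOf_injective _ SemidirectProduct.inr_injective, hc]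
    · rw [MulEquiv.orderOf_eq, orderOf_injective _ SemidirectProduct.inr_injective, hc]
    · have hl := congrArg SemidirectProduct.left h
      simp only [MulAut.conj_apply, SemidirectProduct.mul_left, SemidirectProduct.mul_right,
        SemidirectProduct.left_inl, SemidirectProduct.right_inl, SemidirectProduct.left_inr,
        SemidirectProduct.right_inr, SemidirectProduct.inv_left, SemidirectProduct.inv_right, map_one,
        MulAut.one_apply, one_mul, mul_one, inv_one, map_inv] at hl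
      have hz : act ζ hfin ⟨ζ, Subgroup.mem_zpowers ζ⟩ (v * (act ζ hfin ⟨ζ, Subgroup.mem_zpowers ζ⟩ v)⁻¹) =
          v * (act ζ hfin ⟨ζ, Subgroup.mem_zpowers ζ⟩ v)⁻¹ := by
        exact hl
      have h2 := act_free ζ hfin _ hc1 _ hz
      exact hv (act_free ζ hfin _ hc1 v (mul_inv_eq_one.1 h2).symm)
  · intro M hM hM1 hpM
    have hV : ∀ v, (SemidirectProduct.inl v : (Grp ζ hfin)) ∈ M := by
      obtain ⟨m, hm, hm1⟩ := (Subgroup.bot_or_exists_ne_one M).resolve_left hM1
      refine hfull ζ hfin hprime M _ hc1 (fun v hv => ?_) ?_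
      · rw [SemidirectProduct.inl_aut, map_inv]
        exact hM.conj_mem _ hv _
      · by_cases hmr : m.right = 1
        · refine ⟨m.left, fun h => hm1 (by rw [← inl_left ζ hfin m hmr, h, map_one]), ?_⟩
          rw [inl_left ζ hfin m hmr]; exact hm
        · obtain ⟨v, hv⟩ := exists_ne (1 : Multiplicative (Ring' ζ))
          refine ⟨v * (act ζ hfin m.right v)⁻¹,
            fun h => hv (act_free ζ hfin _ hmr v (mul_inv_eq_one.1 h).symm), ?_⟩
          have h1 : SemidirectProduct.inl v * m * (SemidirectProduct.inl v)⁻¹ * m⁻¹ ∈ M :=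
            mul_mem (hM.conj_mem m hm _) (inv_mem hm)
          convert h1 using 1
          refine SemidirectProduct.ext ?_ (by simp)
          simp only [SemidirectProduct.mul_left, SemidirectProduct.mul_right, SemidirectProduct.left_inl,
            SemidirectProduct.right_inl, SemidirectProduct.inv_left, SemidirectProduct.inv_right,
            map_one, MulAut.one_apply, one_mul, mul_one, inv_one, map_inv, MulAut.apply_inv_self,
            mul_right_comm v m.left, mul_inv_cancel_right]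
    have hle : p ^ e ∣ Nat.card M := by
      have := Subgroup.card_dvd_of_injective
        ((SemidirectProduct.inl : _ →* (Grp ζ hfin)).codRestrict M hV)
        (fun a b h => SemidirectProduct.inl_injective (congrArg Subtype.val h))
      rwa [he] at this
    obtain ⟨k, hk⟩ := hle
    have h1 := M.card_mul_index
    rw [hcard, hk, mul_assoc] at h1
    have h2 := Nat.eq_of_mul_eq_mul_left (pow_pos hp.pos e) h1
    have h3 : p ∣ k * M.index := dvd_mul_of_dvd_right hpM k
    rw [h2] at h3
    exact hpr ((Nat.prime_dvd_prime_iff_eq hp hr).1 h3)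
  · intro H hpH hrH
    obtain ⟨x, hx⟩ := exists_prime_orderOf_dvd_card' r hrH
    obtain ⟨y, hy⟩ := exists_prime_orderOf_dvd_card' p hpH
    rw [← Subgroup.orderOf_coe] at hx hy
    have hy0 : (y : (Grp ζ hfin)).right = 1 := hright _ (by rw [hy]; exact hrp)
    have hx0 : (x : (Grp ζ hfin)).right ≠ 1 := fun h => by
      have h1 : (x : (Grp ζ hfin)) ^ p = 1 := by rw [← inl_left ζ hfin _ h, ← map_pow, hexp, map_one]
      have h2 := orderOf_dvd_of_pow_eq_one h1
      rw [hx] at h2
      exact hrp h2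
    have hV : ∀ v, (SemidirectProduct.inl v : (Grp ζ hfin)) ∈ H := by
      refine hfull ζ hfin hprime H (x : (Grp ζ hfin)).right hx0 (fun v hv => ?_) ⟨(y : (Grp ζ hfin)).left, fun h => ?_, ?_⟩
      · have h1 := mul_mem (mul_mem x.2 hv) (inv_mem x.2)
        convert h1 using 1
        refine SemidirectProduct.ext ?_ (by simp)
        simp only [SemidirectProduct.mul_left, SemidirectProduct.mul_right, SemidirectProduct.left_inl,
          SemidirectProduct.right_inl, SemidirectProduct.inv_left, SemidirectProduct.inv_right,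
          map_one, MulAut.one_apply, one_mul, mul_one, inv_one, map_inv, MulAut.apply_inv_self,
          mul_comm (x : (Grp ζ hfin)).left, mul_inv_cancel_right]
      · rw [← inl_left ζ hfin _ hy0, h, map_one, orderOf_one] at hy
        exact hp.one_lt.ne hy
      · rw [inl_left ζ hfin _ hy0]; exact y.2
    rw [eq_top_iff]
    intro z _
    rw [← SemidirectProduct.inl_left_mul_inr_right z]
    refine mul_mem (hV _) ?_
    obtain ⟨i, hi⟩ := mem_powers_of_prime_card (g' := z.right) hC hx0
    have hi' : (x : (Grp ζ hfin)).right ^ i = z.right := hi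
    rw [← hi', map_pow]
    refine pow_mem ?_ i
    have : (SemidirectProduct.inr (x : (Grp ζ hfin)).right : (Grp ζ hfin)) = (SemidirectProduct.inl (x : (Grp ζ hfin)).left)⁻¹ * (x : Grp ζ hfin) := by
      rw [eq_inv_mul_iff_mul_eq, SemidirectProduct.inl_left_mul_inr_right]
    rw [this]
    exact mul_mem (inv_mem (hV _)) x.2

end Cfsg.Agent.Recog.Critical

namespace Cfsg.Agent.Recog.Critical

lemma prod_dvd_of_pairwise_coprime {ι : Type} [DecidableEq ι] (t : Finset ι) (c : ι → ℕ) {n : ℕ}
    (hc : Pairwise fun i j => (c i).Coprime (c j)) (h : ∀ i, c i ∣ n) : ∏ i ∈ t, c i ∣ n := by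
  induction t using Finset.induction with
  | empty => simp
  | insert a t ha ih =>
    rw [Finset.prod_insert ha]
    refine Nat.Coprime.mul_dvd_of_dvd_of_dvd ?_ (h a) ih
    exact Nat.coprime_prod_right_iff.2 fun i hi => hc fun e => ha (e ▸ hi)

section Product

variable {s : ℕ} {p : Fin s → Fin 2 → ℕ} {F : Fin s → Type} [∀ j, Group (F j)]
  (hp : ∀ j i, (p j i).Prime) (hinj : ∀ j i j' i', p j i = p j' i' → j = j' ∧ i = i')
  (hF : ∀ j, Set.range (orderOf : F j → ℕ) = {1, p j 0, p j 1})

include hF in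
lemma order_mem (j : Fin s) (x : F j) : orderOf x = 1 ∨ orderOf x = p j 0 ∨ orderOf x = p j 1 := by
  have : orderOf x ∈ Set.range (orderOf : F j → ℕ) := ⟨x, rfl⟩
  rw [hF] at this
  simpa using this

include hp hinj hF in
lemma coprime_orders (x : ∀ j, F j) :
    Pairwise fun i j => (orderOf (x i)).Coprime (orderOf (x j)) := by
  intro i j hij
  rcases order_mem hF i (x i) with a | a | a <;> rcases order_mem hF j (x j) with b | b | b <;>
    simp only [a, b, Nat.coprime_one_left_iff, Nat.coprime_one_right_iff] <;>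
    exact (Nat.coprime_primes (hp _ _) (hp _ _)).2 fun e => hij (hinj _ _ _ _ e).1

include hp hinj hF in
lemma orderOf_eq_prod (x : ∀ j, F j) : orderOf x = ∏ j, orderOf (x j) := by
  refine Nat.dvd_antisymm ?_ ?_
  · rw [Pi.orderOf]
    exact Finset.lcm_dvd fun j hj => Finset.dvd_prod_of_mem _ hj
  · exact prod_dvd_of_pairwise_coprime _ _ (coprime_orders hp hinj hF x)
      fun j => orderOf_map_dvd (Pi.evalMonoidHom F j) x

include hp hinj hF in
lemma range_orders :
    Set.range (orderOf : (∀ j, F j) → ℕ) =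
      {m : ℕ | ∃ c : Fin s → ℕ, (∀ j, c j = 1 ∨ c j = p j 0 ∨ c j = p j 1) ∧ m = ∏ j, c j} := by
  ext m
  constructor
  · rintro ⟨x, rfl⟩
    exact ⟨fun j => orderOf (x j), fun j => order_mem hF j (x j), orderOf_eq_prod hp hinj hF x⟩
  · rintro ⟨c, hc, rfl⟩
    have : ∀ j, ∃ y : F j, orderOf y = c j := fun j => by
      have : c j ∈ Set.range (orderOf : F j → ℕ) := by rw [hF]; simpa using hc j
      exact this
    choose x hx using this
    exact ⟨x, by rw [orderOf_eq_prod hp hinj hF x]; simp only [hx]⟩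

include hp hinj hF in
lemma eq_mulSingle (x : ∀ j, F j) (j : Fin s) (i : Fin 2) (hx : orderOf x = p j i) :
    Pi.mulSingle j (x j) = x := by
  funext k
  by_cases hk : k = j
  · subst hk; rw [Pi.mulSingle_eq_same]
  · rw [Pi.mulSingle_eq_of_ne hk]
    have h1 : orderOf (x k) ∣ p j i := hx ▸ orderOf_map_dvd (Pi.evalMonoidHom F k) x
    rcases order_mem hF k (x k) with a | a | a
    · exact (orderOf_eq_one_iff.1 a).symm
    · rw [a] at h1
      exact absurd (hinj _ _ _ _ ((Nat.prime_dvd_prime_iff_eq (hp _ _) (hp _ _)).1 h1)).1 hk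
    · rw [a] at h1
      exact absurd (hinj _ _ _ _ ((Nat.prime_dvd_prime_iff_eq (hp _ _) (hp _ _)).1 h1)).1 hk

lemma prime_mem_spec (p : Fin s → Fin 2 → ℕ) (j : Fin s) (i : Fin 2) :
    ∃ c : Fin s → ℕ, (∀ k, c k = 1 ∨ c k = p k 0 ∨ c k = p k 1) ∧ p j i = ∏ k, c k := by
  refine ⟨fun k => if k = j then p j i else 1, fun k => ?_, by simp⟩
  by_cases hk : k = j
  · subst hk
    fin_cases i <;> simp
  · simp [hk]

include hp hinj hF in
/-- No proper section has the same orders. -/
lemma critical [∀ j, Finite (F j)] (f : Fin s → Fin 2)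
    (hfac : ∀ j, IsFactorGroup (F j) (p j (f j)) (p j (f j).rev))
    (H : Subgroup (∀ j, F j)) (N : Subgroup ↥H) [N.Normal] (hne : H ≠ ⊤ ∨ N ≠ ⊥) :
    Set.range (orderOf : (↥H ⧸ N) → ℕ) ≠
      {m : ℕ | ∃ c : Fin s → ℕ, (∀ j, c j = 1 ∨ c j = p j 0 ∨ c j = p j 1) ∧ m = ∏ j, c j} := by
  classical
  intro heq
  have hq : ∀ j i, p j i ∣ N.index := by
    intro j i
    obtain ⟨z, hz⟩ : p j i ∈ Set.range (orderOf : (↥H ⧸ N) → ℕ) := by
      rw [heq]; exact prime_mem_spec p j i
    rw [← hz]
    exact orderOf_dvd_natCard z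
  have hdvdH : ∀ j i, p j i ∣ Nat.card ↥H := fun j i =>
    (hq j i).trans (Subgroup.index_dvd_card N)
  have hcomap : ∀ j i, p j i ∣ Nat.card (H.comap (MonoidHom.mulSingle F j)) := by
    intro j i
    have := Fact.mk (hp j i)
    obtain ⟨x, hx⟩ := exists_prime_orderOf_dvd_card' (p j i) (hdvdH j i)
    rw [← Subgroup.orderOf_coe] at hx
    have h1 := eq_mulSingle hp hinj hF _ j i hx
    have hmem : (x : ∀ j, F j) j ∈ H.comap (MonoidHom.mulSingle F j) := by
      rw [Subgroup.mem_comap, MonoidHom.mulSingle_apply, h1]; exact x.2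
    have h2 : orderOf ((x : ∀ j, F j) j) = p j i := by
      rw [← orderOf_piMulSingle j, h1, hx]
    have h3 := orderOf_dvd_natCard (⟨_, hmem⟩ : H.comap (MonoidHom.mulSingle F j))
    rw [← Subgroup.orderOf_coe] at h3
    rwa [h2] at h3
  have hH : H = ⊤ := by
    rw [eq_top_iff]
    intro x _
    refine Subgroup.pi_mem_of_mulSingle_mem x fun j => ?_
    have h := (hfac j).eq_top _ (hcomap j _) (hcomap j _)
    have : x j ∈ H.comap (MonoidHom.mulSingle F j) := h ▸ Subgroup.mem_top _
    exact this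
  subst hH
  have hN : N ≠ ⊥ := hne.resolve_left fun h => h rfl
  let N' : Subgroup (∀ j, F j) := N.map (⊤ : Subgroup (∀ j, F j)).subtype
  have hN'n : N'.Normal := Subgroup.Normal.map inferInstance _ fun y => ⟨⟨y, trivial⟩, rfl⟩
  have hindex : N'.index = N.index := by
    show (N.map _).index = _
    rw [Subgroup.index_map_subtype, Subgroup.index_top, mul_one]
  obtain ⟨n, hn, hn1⟩ := (Subgroup.bot_or_exists_ne_one N).resolve_left hN
  have hn' : (n : ∀ j, F j) ∈ N' := ⟨n, hn, rfl⟩
  obtain ⟨j, hj⟩ : ∃ j, (n : ∀ j, F j) j ≠ 1 := by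
    by_contra h
    push_neg at h
    exact hn1 (Subtype.ext (funext h))
  let k := ∏ i ∈ Finset.univ.erase j, orderOf ((n : ∀ j, F j) i)
  have hpow : (n : ∀ j, F j) ^ k = Pi.mulSingle j ((n : ∀ j, F j) j ^ k) := by
    funext i
    by_cases hi : i = j
    · subst hi; rw [Pi.mulSingle_eq_same, Pi.pow_apply]
    · rw [Pi.mulSingle_eq_of_ne hi, Pi.pow_apply, ← orderOf_dvd_iff_pow_eq_one]
      exact Finset.dvd_prod_of_mem (fun i => orderOf ((n : ∀ j, F j) i))
        (Finset.mem_erase.2 ⟨hi, Finset.mem_univ _⟩)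
  have hcop : (orderOf ((n : ∀ j, F j) j)).Coprime k :=
    Nat.coprime_prod_right_iff.2 fun i hi =>
      coprime_orders hp hinj hF (n : ∀ j, F j) (Finset.ne_of_mem_erase hi).symm
  let M : Subgroup (F j) := N'.comap (MonoidHom.mulSingle F j)
  have hM : M ≠ ⊥ := by
    refine fun h => hj ?_
    have h1 : (n : ∀ j, F j) j ^ k ∈ M := by
      show Pi.mulSingle j _ ∈ N'
      rw [← hpow]; exact pow_mem hn' k
    rw [h, Subgroup.mem_bot] at h1
    exact orderOf_eq_one_iff.1 (Nat.Coprime.eq_one_of_dvd hcop (orderOf_dvd_of_pow_eq_one h1))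
  have hMn : M.Normal := hN'n.comap _
  have hndvd := (hfac j).normal_dvd M hMn hM
  obtain ⟨t, ht⟩ : Nat.card M ∣ Nat.card N' :=
    Subgroup.card_dvd_of_injective
      (((MonoidHom.mulSingle F j).comp M.subtype).codRestrict N' fun m => m.2)
      (fun a b h => Subtype.ext (Pi.mulSingle_injective j (congrArg Subtype.val h)))
  have hcard : Nat.card (∀ j, F j) = Nat.card (F j) * ∏ i ∈ Finset.univ.erase j, Nat.card (F i) := by
    rw [Nat.card_pi, Finset.mul_prod_erase _ (fun i => Nat.card (F i)) (Finset.mem_univ j)]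
  rw [← N'.card_mul_index, ← M.card_mul_index, ht, mul_assoc, mul_assoc] at hcard
  have h1 := Nat.eq_of_mul_eq_mul_left Nat.card_pos hcard
  have h2 : p j (f j) ∣ M.index * ∏ i ∈ Finset.univ.erase j, Nat.card (F i) := by
    rw [← h1, hindex]; exact dvd_mul_of_dvd_right (hq j (f j)) t
  rcases (hp j (f j)).dvd_mul.1 h2 with h | h
  · exact hndvd h
  · obtain ⟨i, hi, h⟩ := (hp j (f j)).prime.exists_mem_finset_dvd h
    obtain ⟨e, -, he⟩ := (hfac i).card_eq
    rw [he] at h
    rcases (hp j (f j)).dvd_mul.1 h with h | h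
    · exact Finset.ne_of_mem_erase hi (hinj _ _ _ _ ((Nat.prime_dvd_prime_iff_eq (hp _ _) (hp _ _)).1
        ((hp j (f j)).dvd_of_dvd_pow h))).1.symm
    · exact Finset.ne_of_mem_erase hi (hinj _ _ _ _
        ((Nat.prime_dvd_prime_iff_eq (hp _ _) (hp _ _)).1 h)).1.symm

end Product

end Cfsg.Agent.Recog.Critical
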