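import Cfsg.Agent.Lib.Recog.MinNormal

/-!
# Derangements in finite transitive and primitive groups
-/

namespace Cfsg.Agent.Recog

open MulAction

variable {G Ω : Type*} [Group G] [MulAction G Ω]

/-- `g` has no fixed point on `Ω`. -/
def IsDerangement (Ω : Type*) {G : Type*} [Group G] [MulAction G Ω] (g : G) : Prop :=
  ∀ ω : Ω, g • ω ≠ ω

theorem IsDerangement.ne_one [Nonempty Ω] {g : G} (h : IsDerangement Ω g) : g ≠ 1 := by
  rintro rfl
  obtain ⟨ω⟩ := ‹Nonempty Ω›
  exact h ω (one_smul G ω)

theorem IsDerangement.conj {g : G} (h : IsDerangement Ω g) (a : G) :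
    IsDerangement Ω (a * g * a⁻¹) := by
  intro ω hω
  apply h (a⁻¹ • ω)
  have := congrArg (a⁻¹ • ·) hω
  simpa [mul_smul] using this

theorem IsDerangement.of_pow {g : G} {n : ℕ} (h : IsDerangement Ω (g ^ n)) :
    IsDerangement Ω g := by
  intro ω hω
  exact h ω (pow_mem (mem_stabilizer_iff.2 hω : g ∈ stabilizer G ω) n)

/-- If two commuting elements have coprime orders and one of them is a derangement, so is their product. -/
theorem IsDerangement.mul_of_coprime {x y : G} (hx : IsDerangement Ω x) (hc : Commute x y)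
    (hco : (orderOf y).Coprime (orderOf x)) : IsDerangement Ω (x * y) := by
  refine IsDerangement.of_pow (n := orderOf y) ?_
  rw [hc.mul_pow, pow_orderOf_eq_one, mul_one]
  intro ω hω
  apply hx ω
  obtain ⟨m, hm⟩ := exists_pow_eq_self_of_coprime hco
  have := pow_mem (mem_stabilizer_iff.2 hω : x ^ orderOf y ∈ stabilizer G ω) m
  rwa [hm] at this

/-- Jordan: a transitive finite group on more than one point contains a derangement. -/
theorem exists_isDerangement [Finite G] [IsPretransitive G Ω] (h : 1 < Nat.card Ω) :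
    ∃ g : G, IsDerangement Ω g := by
  classical
  have : Finite Ω := Nat.finite_of_card_ne_zero (by omega)
  have := Fintype.ofFinite G
  have := Fintype.ofFinite Ω
  by_contra hne
  simp only [IsDerangement, not_exists, not_forall, not_not] at hne
  have hsum := sum_card_fixedBy_eq_card_orbits_mul_card_group G Ω
  have h1 : Fintype.card (orbitRel.Quotient G Ω) = 1 := by
    have : Subsingleton (orbitRel.Quotient G Ω) :=
      (pretransitive_iff_subsingleton_quotient G Ω).1 inferInstance
    have : Nonempty Ω := (Nat.card_pos_iff.1 (by omega)).1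
    exact Fintype.card_eq_one_iff.2
      ⟨Quotient.mk'' (Classical.arbitrary Ω), fun y => Subsingleton.elim _ _⟩
  rw [h1, one_mul] at hsum
  have hlt : (∑ g : G, 1) < ∑ g : G, Fintype.card (fixedBy Ω g) := by
    apply Finset.sum_lt_sum
    · intro g _
      obtain ⟨ω, hω⟩ := hne g
      exact Fintype.card_pos_iff.2 ⟨⟨ω, hω⟩⟩
    · refine ⟨1, Finset.mem_univ _, ?_⟩
      rw [← Nat.card_eq_fintype_card]
      have : Nat.card (fixedBy Ω (1 : G)) = Nat.card Ω :=
        Nat.card_congr (Equiv.subtypeUnivEquiv fun ω => one_smul G ω)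
      omega
  simp only [Finset.sum_const, Finset.card_univ, smul_eq_mul, mul_one] at hlt
  omega

/-- The number of classes of derangements (the expression used in the statements) is at least `k`
when `k` pairwise non-conjugate derangements are given. -/
theorem card_derangementClasses_ge [Finite G] {k : ℕ} (d : Fin k → G)
    (hd : ∀ i, IsDerangement Ω (d i)) (hinj : ∀ i j, IsConj (d i) (d j) → i = j) :
    k ≤ Nat.card {c : ConjClasses G // ∃ g : G, ConjClasses.mk g = c ∧ ∀ ω : Ω, g • ω ≠ ω} := by
  let f : Fin k → {c : ConjClasses G // ∃ g : G, ConjClasses.mk g = c ∧ ∀ ω : Ω, g • ω ≠ ω} :=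
    fun i => ⟨ConjClasses.mk (d i), d i, rfl, hd i⟩
  have hf : Function.Injective f := fun i j hij =>
    hinj i j (ConjClasses.mk_eq_mk_iff_isConj.1 (congrArg Subtype.val hij))
  have := Nat.card_le_card_of_injective f hf
  simpa using this

theorem orderOf_eq_of_isConj {a b : G} (h : IsConj a b) : orderOf a = orderOf b := by
  obtain ⟨c, rfl⟩ := isConj_iff.1 h
  exact (MulEquiv.orderOf_eq (MulAut.conj c) a).symm

/-- A normal subgroup commuting elementwise with a transitive one acts semiregularly. -/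
theorem isDerangement_of_centralizes {C : Subgroup G} [IsPretransitive C Ω] [FaithfulSMul G Ω]
    {x : G} (hx : x ≠ 1) (hc : ∀ c ∈ C, Commute c x) : IsDerangement Ω x := by
  intro ω hω
  apply hx
  apply eq_of_smul_eq_smul (α := Ω)
  intro a
  obtain ⟨c, rfl⟩ := exists_smul_eq C ω a
  rw [one_smul, Subgroup.smul_def, ← mul_smul, ← (hc c c.2).eq, mul_smul, hω]

/-- In a quasiprimitive faithful action nontrivial normal subgroups are transitive. -/
theorem isPretransitive_of_normal [IsQuasiPreprimitive G Ω] [FaithfulSMul G Ω] {N : Subgroup G}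
    (hN : N.Normal) (hne : N ≠ ⊥) : IsPretransitive N Ω := by
  refine IsQuasiPreprimitive.isPretransitive_of_normal fun h => hne ?_
  rw [eq_bot_iff]
  intro x hx
  rw [Subgroup.mem_bot]
  apply eq_of_smul_eq_smul (α := Ω)
  intro a
  have : a ∈ fixedPoints N Ω := h ▸ Set.mem_univ a
  simpa [Subgroup.smul_def] using this ⟨x, hx⟩

/-- A transitive abelian subgroup of a faithful action is regular. -/
theorem eq_one_of_abelian [FaithfulSMul G Ω] {N : Subgroup G} [IsPretransitive N Ω]
    (hN : IsMulCommutative N) {x : G} (hx : x ∈ N) {ω : Ω} (hω : x • ω = ω) : x = 1 := by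
  by_contra hne
  exact isDerangement_of_centralizes (C := N) hne
    (fun c hc => congrArg Subtype.val (hN.is_comm.comm ⟨c, hc⟩ ⟨x, hx⟩)) ω hω

theorem stabilizer_eq_bot_of_abelian [FaithfulSMul G Ω] {N : Subgroup G} [IsPretransitive N Ω]
    (hN : IsMulCommutative N) (ω : Ω) : stabilizer N ω = ⊥ := by
  rw [eq_bot_iff]
  intro x hx
  rw [Subgroup.mem_bot]
  exact Subtype.ext (eq_one_of_abelian hN x.2 (mem_stabilizer_iff.1 hx : x • ω = ω))

/-- For a factor `T` of a transitive minimal normal subgroup either `T` is semiregular, or `T` has an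
element `x` whose product with every element of `N` centralising `T` is a derangement. -/
theorem semiregular_or_exists_derangement [Finite G] [FaithfulSMul G Ω] {N T : Subgroup G}
    (h : IsMinNormal N) (hT : IsFactor N T) [IsPretransitive N Ω] [Nonempty Ω] :
    (∀ a ∈ T, a ≠ 1 → IsDerangement Ω a) ∨
      ∃ x ∈ T, ∀ c ∈ N, c ∈ Subgroup.centralizer (T : Set G) → IsDerangement Ω (x * c) := by
  classical
  obtain ⟨α⟩ := ‹Nonempty Ω›
  have hcomm : ∀ c ∈ Subgroup.centralizer (T : Set G), ∀ t ∈ T, Commute t c :=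
    fun c hc t ht => Subgroup.mem_centralizer_iff.1 hc t ht
  -- the projection of the stabilizer to the factor `T`
  let R : Subgroup T :=
    { carrier := {t | ∃ c ∈ N ⊓ Subgroup.centralizer (T : Set G), ((t : G) * c) • α = α}
      one_mem' := ⟨1, one_mem _, by simp⟩
      mul_mem' := by
        rintro a b ⟨c, hc, ha⟩ ⟨d, hd, hb⟩
        refine ⟨c * d, mul_mem hc hd, ?_⟩
        have he : ((a * b : T) : G) * (c * d) = (a : G) * c * ((b : G) * d) := by
          rw [Subgroup.coe_mul, mul_assoc, mul_assoc, ← mul_assoc (b : G),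
            (hcomm c (Subgroup.mem_inf.1 hc).2 b b.2).eq, mul_assoc]
        rw [he, mul_smul, hb, ha]
      inv_mem' := by
        rintro a ⟨c, hc, ha⟩
        refine ⟨c⁻¹, inv_mem hc, ?_⟩
        have he : ((a⁻¹ : T) : G) * c⁻¹ = ((a : G) * c)⁻¹ := by
          rw [(hcomm c (Subgroup.mem_inf.1 hc).2 a a.2).eq, mul_inv_rev, Subgroup.coe_inv]
        rw [he, inv_smul_eq_iff, ha] }
  by_cases hR : R = ⊤
  · left
    -- the stabilizer in `T` is normal in `T`
    let S : Subgroup T := (stabilizer G α).subgroupOf T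
    have hS : S.Normal := by
      refine ⟨fun s hs t => ?_⟩
      obtain ⟨c, hc, htc⟩ := (hR ▸ Subgroup.mem_top t : t ∈ R)
      have hs' : (s : G) ∈ stabilizer G α := hs
      have hm : (t : G) * c ∈ stabilizer G α := htc
      show (((t * s * t⁻¹ : T)) : G) ∈ stabilizer G α
      have he : ((t * s * t⁻¹ : T) : G) = (t : G) * c * s * ((t : G) * c)⁻¹ := by
        have hsc := (hcomm c (Subgroup.mem_inf.1 hc).2 s s.2).eq
        calc ((t * s * t⁻¹ : T) : G) = (t : G) * ((s : G) * c) * c⁻¹ * (t : G)⁻¹ := by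
              simp [mul_assoc]
          _ = _ := by rw [hsc]; group
      rw [he]
      exact mul_mem (mul_mem hm hs') (inv_mem hm)
    have hsimple := h.isSimpleGroup_factor hT
    rcases hsimple.eq_bot_or_eq_top_of_normal S hS with hb | ht
    · intro a ha ha1 ω hω
      obtain ⟨n, rfl⟩ := exists_smul_eq N α ω
      have hx' : (n : G)⁻¹ * a * n ∈ T := by
        simpa using hT.conj_mem (n : G)⁻¹ (inv_mem n.2) a ha
      have hfix : (⟨_, hx'⟩ : T) ∈ S := by
        show (n : G)⁻¹ * a * n ∈ stabilizer G α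
        rw [mem_stabilizer_iff, mul_smul, mul_smul, inv_smul_eq_iff]
        exact hω
      rw [hb, Subgroup.mem_bot] at hfix
      have h0 : (n : G)⁻¹ * a * n = 1 := congrArg Subtype.val hfix
      exact ha1 (calc a = (n : G) * ((n : G)⁻¹ * a * n) * (n : G)⁻¹ := by group
        _ = 1 := by rw [h0]; group)
    · exfalso
      apply hT.ne_bot
      rw [eq_bot_iff]
      intro x hx
      rw [Subgroup.mem_bot]
      apply eq_of_smul_eq_smul (α := Ω)
      intro a
      obtain ⟨n, rfl⟩ := exists_smul_eq N α a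
      have hx' : (n : G)⁻¹ * x * n ∈ T := by
        simpa using hT.conj_mem (n : G)⁻¹ (inv_mem n.2) x hx
      have hfix : ((n : G)⁻¹ * x * n) • α = α :=
        mem_stabilizer_iff.1 (show (⟨_, hx'⟩ : T) ∈ S from ht ▸ Subgroup.mem_top _)
      rw [Subgroup.smul_def, one_smul]
      calc x • ((n : G) • α) = ((n : G) * ((n : G)⁻¹ * x * n)) • α := by
            rw [← mul_smul]; group
        _ = (n : G) • α := by rw [mul_smul, hfix]
  · right
    have hcard : 1 < Nat.card (T ⧸ R) := by
      rw [← Subgroup.index_eq_card]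
      exact Subgroup.one_lt_index_of_ne_top hR
    obtain ⟨x, hx⟩ := exists_isDerangement (G := T) (Ω := T ⧸ R) hcard
    refine ⟨x, x.2, fun c hcN hc ω hω => ?_⟩
    obtain ⟨n, rfl⟩ := exists_smul_eq N α ω
    obtain ⟨t, ht, d, hd, hn⟩ := h.exists_eq_mul hT n.2
    have hdN : d ∈ N := by
      have := mul_mem (inv_mem (hT.le ht)) n.2
      simpa [hn] using this
    apply hx (QuotientGroup.mk (⟨t, ht⟩ : T))
    rw [MulAction.Quotient.smul_mk]
    refine (QuotientGroup.eq.2 ?_).symm
    refine ⟨d⁻¹ * c * d,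
      Subgroup.mem_inf.2 ⟨mul_mem (mul_mem (inv_mem hdN) hcN) hdN,
        mul_mem (mul_mem (inv_mem hd) hc) hd⟩, ?_⟩
    rw [Subgroup.smul_def, hn] at hω
    have h3 : ((t * d)⁻¹ * ((x : G) * c) * (t * d)) • α = α := by
      rw [mul_smul, mul_smul, inv_smul_eq_iff]
      exact hω
    have hy : t⁻¹ * ((x : G) * t) ∈ T := mul_mem (inv_mem ht) (mul_mem x.2 ht)
    have hct := (hcomm c hc t ht).eq
    have hyd := (hcomm d⁻¹ (inv_mem hd) _ hy).eq
    have he : (t * d)⁻¹ * ((x : G) * c) * (t * d) = t⁻¹ * ((x : G) * t) * (d⁻¹ * c * d) := by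
      calc (t * d)⁻¹ * ((x : G) * c) * (t * d)
          = d⁻¹ * t⁻¹ * (x : G) * (c * t) * d := by group
        _ = d⁻¹ * t⁻¹ * (x : G) * (t * c) * d := by rw [hct]
        _ = d⁻¹ * (t⁻¹ * ((x : G) * t)) * c * d := by group
        _ = t⁻¹ * ((x : G) * t) * d⁻¹ * c * d := by rw [hyd]
        _ = _ := by group
    rw [he] at h3
    simpa using h3

end Cfsg.Agent.Recog
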