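import Mathlib

/-! The subgroup generated by the derangements of a transitive group. -/

set_option autoImplicit false

namespace Cfsg.Agent.Recog.DerClosure

open MulAction

variable (G : Type*) [Group G] (Ω : Type*) [MulAction G Ω]

/-- the subgroup generated by the derangements -/
def D : Subgroup G := Subgroup.closure {g : G | ∀ ω : Ω, g • ω ≠ ω}

variable {G Ω} [Finite G] [Finite Ω]

theorem fix_pos_of_not_mem {g : G} (hg : g ∉ D G Ω) : 1 ≤ Nat.card (fixedBy Ω g) := by
  by_contra h
  refine hg (Subgroup.subset_closure fun ω hω => h ?_)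
  exact Nat.card_pos_iff.2 ⟨⟨⟨ω, hω⟩⟩, inferInstance⟩

theorem sum_fix (H : Subgroup G) [Fintype H] :
    ∑ h : H, Nat.card (fixedBy Ω (h : G)) = Nat.card (orbitRel.Quotient H Ω) * Nat.card H := by
  classical
  haveI := Fintype.ofFinite Ω
  have h := sum_card_fixedBy_eq_card_orbits_mul_card_group H Ω
  rw [Nat.card_eq_fintype_card, Nat.card_eq_fintype_card]
  refine Eq.trans (Finset.sum_congr rfl fun x _ => ?_) h
  rw [Nat.card_eq_fintype_card]
  exact Fintype.card_congr (Equiv.setCongr (by ext; rfl))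

theorem sum_all [IsPretransitive G Ω] [Nonempty Ω] [Fintype G] :
    ∑ g : G, Nat.card (fixedBy Ω g) = Fintype.card G := by
  classical
  haveI := Fintype.ofFinite Ω
  have h := sum_card_fixedBy_eq_card_orbits_mul_card_group G Ω
  have h1 : Fintype.card (Quotient (orbitRel G Ω)) = 1 := by
    rw [Fintype.card_eq_one_iff]
    refine ⟨Quotient.mk _ (Classical.arbitrary Ω), fun q => ?_⟩
    induction q using Quotient.inductionOn with
    | h a => exact Quotient.sound (exists_smul_eq G (Classical.arbitrary Ω) a)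
  rw [h1, one_mul] at h
  simpa [Nat.card_eq_fintype_card] using h

theorem key [IsPretransitive G Ω] [Nonempty Ω] :
    Nat.card (orbitRel.Quotient (D G Ω) Ω) = 1 ∧ ∀ g : G, g ∉ D G Ω → Nat.card (fixedBy Ω g) = 1 := by
  classical
  haveI := Fintype.ofFinite G
  set H := D G Ω
  have hsplit := Finset.sum_filter_add_sum_filter_not Finset.univ (fun g : G => g ∈ H) (fun g => Nat.card (fixedBy Ω g))
  have hin : ∑ g ∈ Finset.univ.filter (fun g : G => g ∈ H), Nat.card (fixedBy Ω g) =
      Nat.card (orbitRel.Quotient H Ω) * Nat.card H := by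
    rw [← sum_fix H]
    exact Finset.sum_subtype _ (by simp) _
  rw [sum_all, hin] at hsplit
  have hout : ∀ g ∈ Finset.univ.filter (fun g : G => g ∉ H), 1 ≤ Nat.card (fixedBy Ω g) := fun g hg =>
    fix_pos_of_not_mem (Finset.mem_filter.1 hg).2
  have hle := Finset.sum_le_sum hout
  rw [Finset.sum_const, smul_eq_mul, mul_one] at hle
  have hc := Finset.card_filter_add_card_filter_not (s := (Finset.univ : Finset G)) (fun g => g ∈ H)
  rw [Finset.card_univ] at hc
  have hcH : (Finset.univ.filter (fun g : G => g ∈ H)).card = Nat.card H := by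
    rw [Nat.card_eq_fintype_card, Fintype.card_subtype]
  have hpos : 0 < Nat.card H := Nat.card_pos
  have horb : 1 ≤ Nat.card (orbitRel.Quotient H Ω) := by
    have : Nonempty (orbitRel.Quotient H Ω) := ⟨Quotient.mk _ (Classical.arbitrary Ω)⟩
    exact Nat.card_pos
  have hone : Nat.card (orbitRel.Quotient H Ω) = 1 := by
    by_contra hne
    have : 2 * Nat.card H ≤ Nat.card (orbitRel.Quotient H Ω) * Nat.card H := Nat.mul_le_mul_right _ (by omega)
    omega
  refine ⟨hone, fun g hg => ?_⟩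
  rw [hone, one_mul] at hsplit
  by_contra hne
  have hlt : ∑ g ∈ Finset.univ.filter (fun g : G => g ∉ H), 1 <
      ∑ g ∈ Finset.univ.filter (fun g : G => g ∉ H), Nat.card (fixedBy Ω g) :=
    Finset.sum_lt_sum hout ⟨g, by simp [hg], lt_of_le_of_ne (fix_pos_of_not_mem hg) (Ne.symm hne)⟩
  rw [Finset.sum_const, smul_eq_mul, mul_one] at hlt
  omega

theorem isPretransitive [IsPretransitive G Ω] : IsPretransitive (D G Ω) Ω := by
  refine ⟨fun a b => ?_⟩
  have : Nonempty Ω := ⟨a⟩
  obtain ⟨hsub, -⟩ := Nat.card_eq_one_iff_unique.1 (key (G := G) (Ω := Ω)).1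
  exact Quotient.exact (s := orbitRel (D G Ω) Ω) (hsub.elim ⟦b⟧ ⟦a⟧)

theorem mem_of_fix_ne_one [IsPretransitive G Ω] [Nonempty Ω] {g : G} (h : Nat.card (fixedBy Ω g) ≠ 1) :
    g ∈ D G Ω := by
  by_contra hg
  exact h ((key (G := G) (Ω := Ω)).2 g hg)

theorem fixedBy_prod_card (g : G) : Nat.card (fixedBy (Ω × Ω) g) = Nat.card (fixedBy Ω g) ^ 2 := by
  rw [pow_two, ← Nat.card_prod]
  refine Nat.card_congr
    { toFun := fun p => (⟨p.1.1, (Prod.ext_iff.1 p.2).1⟩, ⟨p.1.2, (Prod.ext_iff.1 p.2).2⟩)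
      invFun := fun p => ⟨(p.1.1, p.2.1), Prod.ext p.1.2 p.2.2⟩
      left_inv := fun p => rfl
      right_inv := fun p => rfl }

theorem rank_eq [IsPretransitive G Ω] :
    Nat.card (orbitRel.Quotient (D G Ω) (Ω × Ω)) - 1 =
      (Nat.card (orbitRel.Quotient G (Ω × Ω)) - 1) * (D G Ω).index := by
  classical
  rcases isEmpty_or_nonempty Ω with he | hne
  · simp
  haveI := Fintype.ofFinite G
  haveI := Fintype.ofFinite Ω
  set H := D G Ω
  have hG := sum_card_fixedBy_eq_card_orbits_mul_card_group G (Ω × Ω)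
  have hH := sum_fix (Ω := Ω × Ω) H
  have hin : ∑ g ∈ Finset.univ.filter (fun g : G => g ∈ H), Nat.card (fixedBy (Ω × Ω) g) =
      Nat.card (orbitRel.Quotient H (Ω × Ω)) * Nat.card H := by
    rw [← hH]
    exact Finset.sum_subtype _ (by simp) _
  have hout : ∑ g ∈ Finset.univ.filter (fun g : G => g ∉ H), Nat.card (fixedBy (Ω × Ω) g) =
      (Finset.univ.filter (fun g : G => g ∉ H)).card := by
    rw [Finset.card_eq_sum_ones]
    refine Finset.sum_congr rfl fun g hg => ?_
    rw [fixedBy_prod_card, (key (G := G) (Ω := Ω)).2 g (Finset.mem_filter.1 hg).2, one_pow]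
  have hsplit := Finset.sum_filter_add_sum_filter_not Finset.univ (fun g : G => g ∈ H) (fun g => Nat.card (fixedBy (Ω × Ω) g))
  rw [hin, hout] at hsplit
  have hG' : ∑ g : G, Nat.card (fixedBy (Ω × Ω) g) = Nat.card (orbitRel.Quotient G (Ω × Ω)) * Fintype.card G := by
    rw [Nat.card_eq_fintype_card]
    exact (Finset.sum_congr rfl fun x _ => Nat.card_eq_fintype_card).trans hG
  rw [hG'] at hsplit
  have hc := Finset.card_filter_add_card_filter_not (s := (Finset.univ : Finset G)) (fun g => g ∈ H)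
  rw [Finset.card_univ] at hc
  have hcH : (Finset.univ.filter (fun g : G => g ∈ H)).card = Nat.card H := by
    rw [Nat.card_eq_fintype_card, Fintype.card_subtype]
  have hidx : Nat.card H * H.index = Fintype.card G := by
    rw [Subgroup.card_mul_index, Nat.card_eq_fintype_card]
  have hA : 1 ≤ Nat.card (orbitRel.Quotient H (Ω × Ω)) := by
    have : Nonempty (orbitRel.Quotient H (Ω × Ω)) := ⟨Quotient.mk _ (Classical.arbitrary Ω, Classical.arbitrary Ω)⟩
    exact Nat.card_pos
  have hB : 1 ≤ Nat.card (orbitRel.Quotient G (Ω × Ω)) := by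
    have : Nonempty (orbitRel.Quotient G (Ω × Ω)) := ⟨Quotient.mk _ (Classical.arbitrary Ω, Classical.arbitrary Ω)⟩
    exact Nat.card_pos
  obtain ⟨a, ha⟩ := Nat.exists_eq_add_of_le hA
  obtain ⟨b, hb⟩ := Nat.exists_eq_add_of_le hB
  rw [ha, hb] at hsplit ⊢
  simp only [Nat.add_sub_cancel_left]
  have hpos : 0 < Nat.card H := Nat.card_pos
  refine Nat.eq_of_mul_eq_mul_left hpos ?_
  rw [mul_comm b, ← mul_assoc, hidx]
  nlinarith

end Cfsg.Agent.Recog.DerClosure
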