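import Mathlib.GroupTheory.GroupAction.Quotient
import Mathlib.GroupTheory.GroupAction.Blocks
import Mathlib.GroupTheory.GroupAction.Primitive
import Mathlib.GroupTheory.Perm.Cycle.Type
import Mathlib.GroupTheory.PGroup
import Mathlib.Algebra.IsPrimePow

/-!
# The subgroup generated by the derangements
-/

set_option autoImplicit false

open scoped Pointwise

namespace Cfsg.Agent.Recog.DerIndex

variable {G Ω : Type*} [Group G] [MulAction G Ω]

variable (G Ω) in
/-- The subgroup generated by the fixed-point-free elements. -/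
def derSub : Subgroup G := Subgroup.closure {g : G | ∀ ω : Ω, g • ω ≠ ω}

lemma derSub_normal : (derSub G Ω).Normal := by
  refine ⟨fun n hn g => ?_⟩
  induction hn using Subgroup.closure_induction with
  | mem y hy =>
    refine Subgroup.subset_closure fun ω h => hy (g⁻¹ • ω) ?_
    simp only [mul_smul] at h
    exact eq_inv_smul_iff.2 h
  | one => simp [one_mem]
  | mul x y _ _ hx hy => rw [show g * (x * y) * g⁻¹ = (g * x * g⁻¹) * (g * y * g⁻¹) by group]; exact mul_mem hx hy
  | inv x _ hx => rw [show g * x⁻¹ * g⁻¹ = (g * x * g⁻¹)⁻¹ by group]; exact inv_mem hx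

variable [Finite G] [Finite Ω]

lemma transitive_and_unique [Nonempty Ω] (ht : MulAction.IsPretransitive G Ω) :
    MulAction.IsPretransitive (derSub G Ω) Ω ∧
      ∀ g : G, g ∉ derSub G Ω → ∀ x y : Ω, g • x = x → g • y = y → x = y := by
  classical
  have := Fintype.ofFinite G
  have := Fintype.ofFinite Ω
  have hone : Fintype.card (MulAction.orbitRel.Quotient G Ω) = 1 := by
    rw [Fintype.card_eq_one_iff]
    refine ⟨⟦Classical.arbitrary Ω⟧, fun o => ?_⟩
    induction o using Quotient.inductionOn with
    | h z => exact Quotient.sound (ht.exists_smul_eq _ z)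
  have hG := MulAction.sum_card_fixedBy_eq_card_orbits_mul_card_group G Ω
  rw [hone, one_mul] at hG
  have hD := MulAction.sum_card_fixedBy_eq_card_orbits_mul_card_group (derSub G Ω) Ω
  set m := Fintype.card (MulAction.orbitRel.Quotient (derSub G Ω) Ω) with hm
  have hm1 : 1 ≤ m := Fintype.card_pos_iff.2 ⟨⟦Classical.arbitrary Ω⟧⟩
  have hsplit : ∑ g : G, Fintype.card (MulAction.fixedBy Ω g) =
      (∑ g : derSub G Ω, Fintype.card (MulAction.fixedBy Ω g)) +
        ∑ g ∈ Finset.univ.filter (fun g => g ∉ derSub G Ω), Fintype.card (MulAction.fixedBy Ω g) := by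
    rw [← Finset.sum_filter_add_sum_filter_not Finset.univ (fun g => g ∈ derSub G Ω)]
    congr 1
    exact Finset.sum_subtype (p := fun g => g ∈ derSub G Ω) _ (fun g => by simp) (fun g => Fintype.card (MulAction.fixedBy Ω g))
  rw [hD] at hsplit
  have hout : ∀ g ∈ Finset.univ.filter (fun g => g ∉ derSub G Ω), 1 ≤ Fintype.card (MulAction.fixedBy Ω g) := by
    intro g hg
    rw [Finset.mem_filter] at hg
    by_contra h
    refine hg.2 (Subgroup.subset_closure fun ω hω => h ?_)
    exact Fintype.card_pos_iff.2 ⟨⟨ω, hω⟩⟩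
  have hsum := Finset.sum_le_sum hout
  rw [Finset.sum_const, smul_eq_mul, mul_one] at hsum
  have hcard : Fintype.card (derSub G Ω) + (Finset.univ.filter (fun g => g ∉ derSub G Ω)).card =
      Fintype.card G := by
    rw [Fintype.card_subtype, Finset.card_filter_add_card_filter_not, Finset.card_univ]
  rw [hG] at hsplit
  have hDpos : 0 < Fintype.card (derSub G Ω) := Fintype.card_pos
  have hm2 : m = 1 := by
    by_contra hne
    have : 2 * Fintype.card (derSub G Ω) ≤ m * Fintype.card (derSub G Ω) :=
      Nat.mul_le_mul_right _ (by omega)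
    omega
  constructor
  · obtain ⟨o, ho⟩ := Fintype.card_eq_one_iff.1 hm2
    refine ⟨fun x y => ?_⟩
    have hxy : (⟦y⟧ : MulAction.orbitRel.Quotient (derSub G Ω) Ω) = ⟦x⟧ := (ho _).trans (ho _).symm
    exact Quotient.exact hxy
  · intro g hg x y hx hy
    rw [hm2, one_mul] at hsplit
    have hle : Fintype.card (MulAction.fixedBy Ω g) ≤ 1 := by
      by_contra hlt
      have hlt' := Finset.sum_lt_sum hout ⟨g, by simp [hg], not_le.1 hlt⟩
      rw [Finset.sum_const, smul_eq_mul, mul_one] at hlt'
      omega
    exact congrArg Subtype.val (Fintype.card_le_one_iff.1 hle ⟨x, hx⟩ ⟨y, hy⟩)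

lemma relIndex_stabilizer (ht : MulAction.IsPretransitive G Ω) (a : Ω) :
    (derSub G Ω).relIndex (MulAction.stabilizer G a) = (derSub G Ω).index := by
  have : Nonempty Ω := ⟨a⟩
  obtain ⟨hD, -⟩ := transitive_and_unique (G := G) ht
  refine Nat.card_eq_of_bijective
    (fun c : MulAction.stabilizer G a ⧸ (derSub G Ω).subgroupOf (MulAction.stabilizer G a) =>
      Quotient.liftOn' c (fun g => ((g : G) : G ⧸ derSub G Ω)) ?_) ⟨?_, ?_⟩
  · intro x y hxy
    rw [QuotientGroup.leftRel_apply, Subgroup.mem_subgroupOf] at hxy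
    exact QuotientGroup.eq.2 (by simpa using hxy)
  · intro x y h
    induction x using Quotient.inductionOn' with
    | h x =>
      induction y using Quotient.inductionOn' with
      | h y =>
        refine Quotient.sound' ?_
        rw [QuotientGroup.leftRel_apply, Subgroup.mem_subgroupOf]
        simpa using QuotientGroup.eq.1 h
  · intro c
    obtain ⟨g, rfl⟩ := QuotientGroup.mk_surjective c
    obtain ⟨⟨d, hd⟩, hdd⟩ := hD.exists_smul_eq a (g⁻¹ • a)
    refine ⟨Quotient.mk'' ⟨g * d, ?_⟩, QuotientGroup.eq.2 ?_⟩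
    · show (g * d) • a = a
      rw [mul_smul, show d • a = g⁻¹ • a from hdd, smul_inv_smul]
    · simpa [mul_assoc] using inv_mem hd

/-- The index divides the lengths of the suborbits. -/
lemma index_dvd_orbit (ht : MulAction.IsPretransitive G Ω) (a b : Ω) (hab : b ≠ a) :
    (derSub G Ω).index ∣ Nat.card (MulAction.orbit (MulAction.stabilizer G a) b) := by
  have : Nonempty Ω := ⟨a⟩
  obtain ⟨hD, huniq⟩ := transitive_and_unique (G := G) ht
  have hle : MulAction.stabilizer (MulAction.stabilizer G a) b ≤
      (derSub G Ω).subgroupOf (MulAction.stabilizer G a) := by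
    intro g hg
    rw [Subgroup.mem_subgroupOf]
    by_contra hgD
    exact hab (huniq g hgD b a hg g.2)
  have hsup := relIndex_stabilizer (G := G) ht a
  rw [Nat.card_congr (MulAction.orbitEquivQuotientStabilizer (MulAction.stabilizer G a) b), ← hsup]
  exact Subgroup.index_dvd_of_le hle

/-- The index divides the size of a point set invariant under a stabilizer, away from the point. -/
lemma index_dvd_invariant (ht : MulAction.IsPretransitive G Ω) (a : Ω) (S : Set Ω) (haS : a ∉ S)
    (hS : ∀ g ∈ MulAction.stabilizer G a, ∀ x ∈ S, g • x ∈ S) :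
    (derSub G Ω).index ∣ Nat.card S := by
  classical
  let T : SubMulAction (MulAction.stabilizer G a) Ω := ⟨S, fun g x hx => hS g g.2 x hx⟩
  let π : T → MulAction.orbitRel.Quotient (MulAction.stabilizer G a) T := fun x => ⟦x⟧
  show (derSub G Ω).index ∣ Nat.card T
  have : Fintype (MulAction.orbitRel.Quotient (MulAction.stabilizer G a) T) := Fintype.ofFinite _
  rw [Nat.card_congr (MulAction.selfEquivSigmaOrbits (MulAction.stabilizer G a) T), Nat.card_sigma]
  refine Finset.dvd_sum fun o _ => ?_
  have hb : ((Quotient.out o : T) : Ω) ≠ a := fun h => haS (h ▸ (Quotient.out o : T).2)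
  have h := index_dvd_orbit ht a _ hb
  rw [← SubMulAction.val_image_orbit, Nat.card_image_of_injective Subtype.val_injective] at h
  exact h

lemma index_dvd_sub_one (ht : MulAction.IsPretransitive G Ω) (a : Ω) :
    (derSub G Ω).index ∣ Nat.card Ω - 1 := by
  have h := index_dvd_invariant ht a {a}ᶜ (by simp) (fun g hg x hx h => hx (by
    rw [Set.mem_singleton_iff] at h ⊢
    have : g⁻¹ • a = a := inv_mem hg
    rw [← this, ← h, inv_smul_smul]))
  rwa [Nat.card_coe_set_eq, Set.ncard_compl, Set.ncard_singleton] at h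

/-- Extreme index. -/
lemma isPrimePow_of_index_eq [FaithfulSMul G Ω] (ht : MulAction.IsPretransitive G Ω)
    (h2 : 2 ≤ Nat.card Ω) (hidx : (derSub G Ω).index = Nat.card Ω - 1) : IsPrimePow (Nat.card Ω) := by
  classical
  have : Nonempty Ω := (Nat.card_pos_iff.1 (by omega)).1
  obtain ⟨a⟩ := ‹Nonempty Ω›
  obtain ⟨hD, -⟩ := transitive_and_unique (G := G) ht
  obtain ⟨b, hb⟩ : ∃ b, b ≠ a := by
    have : Nontrivial Ω := Finite.one_lt_card_iff_nontrivial.1 (by omega)
    exact exists_ne a
  have horb : ∀ x : Ω, x ≠ a → ∀ y : Ω, y ≠ a → y ∈ MulAction.orbit (MulAction.stabilizer G a) x := by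
    intro x hx y hy
    have hsub : MulAction.orbit (MulAction.stabilizer G a) x ⊆ {a}ᶜ := by
      rintro _ ⟨g, rfl⟩ h
      rw [Set.mem_singleton_iff] at h
      apply hx
      have := g.2
      exact MulAction.injective g (h.trans (show a = g • a from this.symm))
    have heq : MulAction.orbit (MulAction.stabilizer G a) x = {a}ᶜ := by
      refine Set.eq_of_subset_of_ncard_le hsub ?_
      rw [Set.ncard_compl, Set.ncard_singleton, ← hidx, ← Nat.card_coe_set_eq]
      have : Nonempty (MulAction.orbit (MulAction.stabilizer G a) x) := ⟨⟨x, MulAction.mem_orbit_self x⟩⟩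
      refine Nat.le_of_dvd Nat.card_pos ?_
      exact index_dvd_orbit ht a x hx
    rw [heq]; exact hy
  -- the point stabilizer in the derangement subgroup is trivial
  have hcardS : Nat.card (MulAction.stabilizer G a) * Nat.card Ω = Nat.card G := by
    rw [mul_comm, ← MulAction.index_stabilizer_of_transitive G a, Subgroup.index_mul_card]
  have hreg : ∀ d : derSub G Ω, d • a = a → d = 1 := by
    intro d hd
    have hN := (derSub_normal (G := G) (Ω := Ω))
    suffices h : ∀ g : G, g ∈ derSub G Ω → g ∈ MulAction.stabilizer G a → ∀ x, g • x = x by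
      refine Subtype.ext (eq_of_smul_eq_smul (α := Ω) fun x => ?_)
      rw [h d d.2 hd x]; simp
    intro g hgD hga x
    by_cases hx : x = a
    · rw [hx]; exact hga
    -- the stabilizer of two points has index `n - 1` in the stabilizer, and lies in the derangement subgroup
    have h1 : MulAction.stabilizer (MulAction.stabilizer G a) x =
        (derSub G Ω).subgroupOf (MulAction.stabilizer G a) := by
      obtain ⟨-, huniq⟩ := transitive_and_unique (G := G) ht
      have hle : MulAction.stabilizer (MulAction.stabilizer G a) x ≤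
          (derSub G Ω).subgroupOf (MulAction.stabilizer G a) := by
        intro k hk
        rw [Subgroup.mem_subgroupOf]
        by_contra hkD
        exact hx (huniq k hkD x a hk k.2)
      refine Subgroup.eq_of_le_of_card_ge hle ?_
      have hi1 : (MulAction.stabilizer (MulAction.stabilizer G a) x).index = Nat.card Ω - 1 := by
        rw [MulAction.index_stabilizer, show MulAction.orbit (MulAction.stabilizer G a) x = {a}ᶜ from ?_,
          Set.ncard_compl, Set.ncard_singleton]
        refine Set.Subset.antisymm ?_ (fun y hy => horb x hx y hy)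
        rintro _ ⟨k, rfl⟩ h
        rw [Set.mem_singleton_iff] at h
        exact hx (MulAction.injective k (h.trans (show a = k • a from k.2.symm)))
      have hi2 : ((derSub G Ω).subgroupOf (MulAction.stabilizer G a)).index = Nat.card Ω - 1 := by
        rw [← hidx]; exact relIndex_stabilizer (G := G) ht a
      have h3 := Subgroup.card_mul_index (MulAction.stabilizer (MulAction.stabilizer G a) x)
      have h4 := Subgroup.card_mul_index ((derSub G Ω).subgroupOf (MulAction.stabilizer G a))
      rw [hi1] at h3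
      rw [hi2, ← h3] at h4
      have h5 := le_of_eq h4
      exact Nat.le_of_mul_le_mul_right h5 (show 0 < Nat.card Ω - 1 by omega)
    have : (⟨g, hga⟩ : MulAction.stabilizer G a) ∈ MulAction.stabilizer (MulAction.stabilizer G a) x := by
      rw [h1]; exact hgD
    exact this
  have hbij : Function.Bijective fun d : derSub G Ω => d • a := by
    refine ⟨fun d e h => ?_, fun y => hD.exists_smul_eq a y⟩
    have := hreg (e⁻¹ * d) (by rw [mul_smul]; exact inv_smul_eq_iff.2 h)
    exact (inv_mul_eq_one.1 this).symm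
  have hcardD : Nat.card (derSub G Ω) = Nat.card Ω := Nat.card_congr (Equiv.ofBijective _ hbij)
  -- all non-identity elements are conjugate
  obtain ⟨d, hdne⟩ : ∃ d : derSub G Ω, d ≠ 1 := by
    have : Nontrivial (derSub G Ω) := Finite.one_lt_card_iff_nontrivial.1 (by rw [hcardD]; omega)
    exact exists_ne 1
  have hord : ∀ e : derSub G Ω, e ≠ 1 → orderOf e = orderOf d := by
    intro e he
    have hd' : d • a ≠ a := fun h => hdne (hreg d h)
    have he' : e • a ≠ a := fun h => he (hreg e h)
    obtain ⟨⟨k, hk⟩, hke⟩ := horb _ hd' _ he'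
    have hN := (derSub_normal (G := G) (Ω := Ω))
    have : (⟨k * d * k⁻¹, hN.conj_mem _ d.2 k⟩ : derSub G Ω) = e := by
      refine hbij.1 ?_
      show (k * d * k⁻¹) • a = e • a
      have hk' : k⁻¹ • a = a := inv_mem hk
      rw [mul_smul, mul_smul, hk']
      exact hke
    rw [← this, ← Subgroup.orderOf_coe, ← Subgroup.orderOf_coe]
    exact orderOf_injective (MulAut.conj k).toMonoidHom (MulAut.conj k).injective (d : G)
  obtain ⟨p, hp, hpd⟩ := Nat.exists_prime_and_dvd (n := orderOf d) (fun h => hdne (orderOf_eq_one_iff.1 h))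
  have := Fact.mk hp
  have hP : IsPGroup p (derSub G Ω) := by
    rw [IsPGroup.iff_orderOf]
    intro e
    by_cases he : e = 1
    · exact ⟨0, by simp [he]⟩
    refine ⟨1, ?_⟩
    rw [hord e he, pow_one]
    have hne : d ^ (orderOf d / p) ≠ 1 := pow_ne_one_of_lt_orderOf
      (Nat.div_pos (Nat.le_of_dvd (orderOf_pos d) hpd) hp.pos).ne' (Nat.div_lt_self (orderOf_pos d) hp.one_lt)
    have h := hord _ hne
    rw [orderOf_pow_orderOf_div (orderOf_pos d).ne' hpd] at h
    exact h.symm
  obtain ⟨k, hk⟩ := IsPGroup.iff_card.1 hP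
  rw [hcardD] at hk
  exact (isPrimePow_nat_iff _).2 ⟨p, k, hp, Nat.pos_of_ne_zero (by rintro rfl; simp at hk; omega), hk.symm⟩

/-- Imprimitive groups. -/
lemma index_le_sqrt (ht : MulAction.IsPretransitive G Ω) (himp : ¬ MulAction.IsPreprimitive G Ω) :
    ((derSub G Ω).index + 1) ^ 2 ≤ Nat.card Ω := by
  classical
  obtain ⟨B, hB, hBt⟩ : ∃ B : Set Ω, MulAction.IsBlock G B ∧ ¬ MulAction.IsTrivialBlock B := by
    by_contra h
    push Not at h
    exact himp { isTrivialBlock_of_isBlock := fun {B} hB => h B hB }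
  simp only [MulAction.IsTrivialBlock, not_or] at hBt
  obtain ⟨a, ha, b, hb, hab⟩ := Set.not_subsingleton_iff.1 hBt.1
  have hk := index_dvd_invariant (G := G) ht a (B \ {a}) (by simp) (by
    rintro g hg x ⟨hxB, hxa⟩
    refine ⟨?_, fun h => hxa ?_⟩
    · rw [← hB.smul_eq_of_mem (g := g) ha (by rw [show g • a = a from hg]; exact ha)]
      exact Set.smul_mem_smul_set hxB
    · rw [Set.mem_singleton_iff] at h ⊢
      exact MulAction.injective g (h.trans (show a = g • a from hg.symm)))
  have hn := index_dvd_sub_one (G := G) ht a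
  have hk2 : 2 ≤ B.ncard := (Set.one_lt_ncard (Set.toFinite B)).2 ⟨a, ha, b, hb, hab⟩
  have hmul := hB.ncard_block_mul_ncard_orbit_eq ⟨a, ha⟩
  set m := (MulAction.orbit G B).ncard
  have hcard : B.ncard * m = Nat.card Ω := hmul
  have hlt : B.ncard < Nat.card Ω := by
    rw [← Set.ncard_univ]
    exact Set.ncard_lt_ncard (Set.ssubset_univ_iff.2 hBt.2)
  have hm2 : 2 ≤ m := by
    by_contra hm
    have := Nat.mul_le_mul_left B.ncard (show m ≤ 1 by omega)
    omega
  rw [Nat.card_coe_set_eq, Set.ncard_diff_singleton_of_mem ha] at hk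
  have hkd : (derSub G Ω).index + 1 ≤ B.ncard := by have := Nat.le_of_dvd (by omega) hk; omega
  obtain ⟨k, hk'⟩ : ∃ k, B.ncard = k + 1 := ⟨B.ncard - 1, by omega⟩
  obtain ⟨j, hj⟩ : ∃ j, m = j + 1 := ⟨m - 1, by omega⟩
  have hsum : Nat.card Ω - 1 = k * m + j := by
    rw [← hcard, hk', hj]
    have : (k + 1) * (j + 1) = k * (j + 1) + j + 1 := by ring
    omega
  rw [hsum] at hn
  rw [hk', Nat.add_sub_cancel] at hk
  have hjd := Nat.le_of_dvd (by omega) ((Nat.dvd_add_right (dvd_mul_of_dvd_left hk m)).1 hn)
  rw [← hcard, pow_two]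
  exact Nat.mul_le_mul hkd (by omega)

end Cfsg.Agent.Recog.DerIndex
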