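import Mathlib

/-! A solvable Frobenius group with kernel `7 ^ 4` and complement `3 : 8`. -/

set_option autoImplicit false
set_option maxRecDepth 20000

namespace Cfsg.Agent.Recog.DicyclicFrobenius

abbrev R := QuadraticAlgebra (ZMod 7) 6 0

instance instFintypeR : Fintype R := Fintype.ofEquiv _ (QuadraticAlgebra.equivProd (6 : ZMod 7) 0).symm

abbrev M := Matrix (Fin 2) (Fin 2) R

@[ext]
structure K where
  i : ZMod 3
  j : ZMod 8
deriving DecidableEq, Fintype

namespace K

instance : One K := ⟨⟨0, 0⟩⟩
instance : Mul K := ⟨fun a b => ⟨a.i + (-1 : ZMod 3) ^ a.j.val * b.i, a.j + b.j⟩⟩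
instance : Inv K := ⟨fun a => ⟨-((-1 : ZMod 3) ^ (-a.j).val * a.i), -a.j⟩⟩

instance : Group K := Group.ofLeftAxioms (by decide +kernel) (by decide +kernel) (by decide +kernel)

end K

def xMat : M := !![0, ⟨0, 1⟩; 1, 0]

def powMat (m : M) : ℕ → M
  | 0 => 1
  | n + 1 => powMat m n * m

def cMat : M := !![⟨2, 0⟩, 0; 0, ⟨4, 0⟩]

def rep : K →* M where
  toFun k := powMat cMat k.i.val * powMat xMat k.j.val
  map_one' := by decide +kernel
  map_mul' := by decide +kernel

theorem rep_free : ∀ k : K, k ≠ 1 → ∃ c : R, c * (rep k - 1).det = 1 := by decide +kernel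

theorem fixed_zero {k : K} (hk : k ≠ 1) {v : Fin 2 → R} (hv : (rep k).mulVec v = v) : v = 0 := by
  obtain ⟨c, hc⟩ := rep_free k hk
  have h0 : (rep k - 1).mulVec v = 0 := by rw [Matrix.sub_mulVec, hv, Matrix.one_mulVec, sub_self]
  have h1 := congrArg (fun w => c • (rep k - 1).adjugate.mulVec w) h0
  simp only [Matrix.mulVec_mulVec, Matrix.adjugate_mul, Matrix.smul_mulVec, Matrix.one_mulVec, smul_smul, hc,
    one_smul, Matrix.mulVec_zero, smul_zero] at h1
  exact h1

def act : K →* MulAut (Multiplicative (Fin 2 → R)) where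
  toFun k :=
    { toFun := fun v => Multiplicative.ofAdd ((rep k).mulVec v.toAdd)
      invFun := fun v => Multiplicative.ofAdd ((rep k⁻¹).mulVec v.toAdd)
      left_inv := fun v => Multiplicative.toAdd.injective (by
        simp only [toAdd_ofAdd]
        rw [Matrix.mulVec_mulVec, ← map_mul, inv_mul_cancel, map_one, Matrix.one_mulVec])
      right_inv := fun v => Multiplicative.toAdd.injective (by
        simp only [toAdd_ofAdd]
        rw [Matrix.mulVec_mulVec, ← map_mul, mul_inv_cancel, map_one, Matrix.one_mulVec])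
      map_mul' := fun v w => congrArg Multiplicative.ofAdd (Matrix.mulVec_add (rep k) v.toAdd w.toAdd) }
  map_one' := MulEquiv.ext fun v => Multiplicative.toAdd.injective
    (show (rep 1).mulVec v.toAdd = v.toAdd by rw [map_one, Matrix.one_mulVec])
  map_mul' k k' := MulEquiv.ext fun v => Multiplicative.toAdd.injective
    (show (rep (k * k')).mulVec v.toAdd = (rep k).mulVec ((rep k').mulVec v.toAdd) by
      rw [map_mul, Matrix.mulVec_mulVec])

abbrev H := Multiplicative (Fin 2 → R) ⋊[act] K

instance : Finite H := Finite.of_injective (fun h => (h.left, h.right))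
  fun a b h => by simp only [Prod.mk.injEq] at h; exact SemidirectProduct.ext h.1 h.2

theorem seven (v : Multiplicative (Fin 2 → R)) : v ^ 7 = 1 := by
  refine Multiplicative.toAdd.injective ?_
  rw [toAdd_pow, toAdd_one, ← Nat.cast_smul_eq_nsmul (ZMod 7), show ((7 : ℕ) : ZMod 7) = 0 from ZMod.natCast_self 7,
    zero_smul]

theorem orderOf_eq (g : H) (hg : g.right ≠ 1) : orderOf g = orderOf g.right := by
  refine Nat.dvd_antisymm ?_ (orderOf_map_dvd SemidirectProduct.rightHom g)
  rw [orderOf_dvd_iff_pow_eq_one]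
  set n := orderOf g.right
  have hr : (g ^ n).right = 1 := by
    show SemidirectProduct.rightHom (g ^ n) = 1
    rw [map_pow]; exact pow_orderOf_eq_one g.right
  have hc : g * g ^ n = g ^ n * g := (Commute.self_pow g n).eq
  have hl := congrArg SemidirectProduct.left hc
  rw [SemidirectProduct.mul_left, SemidirectProduct.mul_left, hr, map_one, MulAut.one_apply, mul_comm (g ^ n).left,
    mul_right_inj] at hl
  have h0 := fixed_zero hg (v := (g ^ n).left.toAdd) (congrArg Multiplicative.toAdd hl)
  refine SemidirectProduct.ext ?_ (by rw [hr]; rfl)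
  exact Multiplicative.toAdd.injective h0

theorem K_order : ∀ k : K, k ^ 8 = 1 ∨ k ^ 12 = 1 := by
  simp only [pow_succ, pow_zero, one_mul]
  decide +kernel

theorem spectrum : Set.range (orderOf : H → ℕ) = {1, 2, 3, 4, 6, 7, 8, 12} := by
  refine Set.Subset.antisymm ?_ ?_
  · rintro _ ⟨g, rfl⟩
    by_cases hg : g.right = 1
    · have h7 : g ^ 7 = 1 := by
        rw [← SemidirectProduct.inl_left_mul_inr_right g, hg, map_one, mul_one, ← map_pow, seven, map_one]
      rcases (Nat.dvd_prime (by norm_num : Nat.Prime 7)).1 (orderOf_dvd_of_pow_eq_one h7) with h | h <;> rw [h] <;> simp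
    · rw [orderOf_eq g hg]
      rcases K_order g.right with h | h <;>
      · have h' := Nat.mem_divisors.2 ⟨orderOf_dvd_of_pow_eq_one h, by norm_num⟩
        revert h'
        generalize orderOf g.right = n
        intro h'
        have hlt := Nat.divisor_le h'
        interval_cases n <;> first | (simp; done) | exact absurd h' (by decide)
  · have o8 : orderOf (SemidirectProduct.inr ⟨0, 1⟩ : H) = 8 := by
      rw [orderOf_injective _ SemidirectProduct.inr_injective, orderOf_eq_iff (by norm_num)]
      exact ⟨by decide +kernel, fun m hm hm0 => by interval_cases m <;> decide +kernel⟩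
    have o12 : orderOf (SemidirectProduct.inr ⟨1, 2⟩ : H) = 12 := by
      rw [orderOf_injective _ SemidirectProduct.inr_injective, orderOf_eq_iff (by norm_num)]
      exact ⟨by decide +kernel, fun m hm hm0 => by interval_cases m <;> decide +kernel⟩
    intro k hk
    simp only [Set.mem_insert_iff, Set.mem_singleton_iff] at hk
    rcases hk with rfl | rfl | rfl | rfl | rfl | rfl | rfl | rfl
    · exact ⟨1, orderOf_one⟩
    · exact ⟨_ ^ 6, by rw [orderOf_pow, o12]; rfl⟩
    · exact ⟨_ ^ 4, by rw [orderOf_pow, o12]; rfl⟩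
    · exact ⟨_ ^ 3, by rw [orderOf_pow, o12]; rfl⟩
    · exact ⟨_ ^ 2, by rw [orderOf_pow, o12]; rfl⟩
    · refine ⟨SemidirectProduct.inl (Multiplicative.ofAdd (fun _ => 1)), ?_⟩
      rw [orderOf_injective _ SemidirectProduct.inl_injective]
      have : Fact (Nat.Prime 7) := ⟨by norm_num⟩
      exact orderOf_eq_prime (seven _) fun h => one_ne_zero (congrFun (congrArg Multiplicative.toAdd h) 0)
    · exact ⟨_, o8⟩
    · exact ⟨_, o12⟩

theorem solvable : Group.IsSolvable H := by
  let f : Multiplicative (ZMod 3) →* K :=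
    { toFun := fun i => ⟨i.toAdd, 0⟩, map_one' := rfl, map_mul' := by decide +kernel }
  let g : K →* Multiplicative (ZMod 8) :=
    { toFun := fun k => Multiplicative.ofAdd k.j, map_one' := rfl, map_mul' := fun _ _ => rfl }
  have : Group.IsSolvable K := Group.isSolvable_of_ker_le_range f g fun k hk =>
    ⟨Multiplicative.ofAdd k.i, K.ext rfl (congrArg Multiplicative.toAdd hk).symm⟩
  exact Group.isSolvable_of_ker_le_range (G' := Multiplicative (Fin 2 → R)) (G'' := K) SemidirectProduct.inl
    SemidirectProduct.rightHom (by rw [SemidirectProduct.range_inl_eq_ker_rightHom])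

end Cfsg.Agent.Recog.DicyclicFrobenius
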