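import Cfsg.Agent.Lib.Recog.CentralizerPartition

/-!
# Extremely primitive groups
-/

namespace Cfsg.Agent.Recog

open MulAction
open scoped Pointwise

variable {G Ω : Type*} [Group G] [MulAction G Ω]

/-- The stabiliser of a point acts primitively on each of its orbits. -/
def IsExtremelyPrim (G Ω : Type*) [Group G] [MulAction G Ω] : Prop :=
  ∀ α ω : Ω, IsPreprimitive (stabilizer G α) (orbit (stabilizer G α) ω)

/-- A subset of a primitive space invariant under two different point stabilisers is trivial. -/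
theorem eq_univ_of_invariant_two [IsPreprimitive G Ω] [FaithfulSMul G Ω] {α β : Ω}
    (hne : stabilizer G α ≠ stabilizer G β) [Nontrivial Ω] {S : Set Ω} (hS : S.Nonempty)
    (hα : ∀ g ∈ stabilizer G α, ∀ x ∈ S, g • x ∈ S)
    (hβ : ∀ g ∈ stabilizer G β, ∀ x ∈ S, g • x ∈ S) : S = Set.univ := by
  have hmax := IsPreprimitive.isCoatom_stabilizer_of_isPreprimitive G α
  have hmaxβ := IsPreprimitive.isCoatom_stabilizer_of_isPreprimitive G β
  have htop : stabilizer G α ⊔ stabilizer G β = ⊤ := by
    refine hmax.2 _ (lt_of_le_of_ne le_sup_left fun h => ?_)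
    have hle : stabilizer G β ≤ stabilizer G α := h ▸ le_sup_right
    rcases hle.lt_or_eq with hlt | heq
    · exact hmax.1 (hmaxβ.2 _ hlt)
    · exact hne heq.symm
  have hinv : ∀ g : G, ∀ x ∈ S, g • x ∈ S := by
    intro g
    have hg : g ∈ Subgroup.closure ((stabilizer G α : Set G) ∪ stabilizer G β) := by
      rw [Subgroup.closure_union, Subgroup.closure_eq, Subgroup.closure_eq, htop]
      trivial
    induction hg using Subgroup.closure_induction'' with
    | one => simp
    | mem x hx => exact hx.elim (hα x) (hβ x)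
    | inv_mem x hx =>
      exact hx.elim (fun h => hα _ (inv_mem h)) (fun h => hβ _ (inv_mem h))
    | mul x y _ _ ihx ihy => exact fun z hz => by rw [mul_smul]; exact ihx _ (ihy z hz)
  obtain ⟨s, hs⟩ := hS
  ext y
  obtain ⟨g, rfl⟩ := exists_smul_eq G s y
  simp [hinv g s hs]

/-- A non-trivial point stabiliser of a primitive group fixes only that point. -/
theorem stabilizer_ne_of_ne [Finite Ω] [IsPreprimitive G Ω] [FaithfulSMul G Ω] {α β : Ω}
    (hα : stabilizer G α ≠ ⊥) (hne : β ≠ α) : stabilizer G α ≠ stabilizer G β := by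
  intro h
  apply hα
  have : Nontrivial Ω := ⟨⟨β, α, hne⟩⟩
  -- the points with the same stabiliser form a block
  have hB : IsBlock G {x : Ω | stabilizer G x = stabilizer G α} := by
    refine isBlock_iff_smul_eq_of_mem.2 fun g a ha hga => ?_
    have key : ∀ x : Ω, stabilizer G (g • x) =
        (stabilizer G x).map (MulAut.conj g).toMonoidHom := fun x =>
      stabilizer_smul_eq_stabilizer_map_conj g x
    have hmap : (stabilizer G α).map (MulAut.conj g).toMonoidHom = stabilizer G α := by
      have := key a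
      rw [(ha : stabilizer G a = _)] at this
      exact this.symm.trans hga
    ext x
    rw [Set.mem_smul_set_iff_inv_smul_mem]
    show stabilizer G (g⁻¹ • x) = _ ↔ stabilizer G x = _
    have hk := key (g⁻¹ • x)
    rw [smul_inv_smul] at hk
    constructor
    · intro hx
      rw [hk, hx, hmap]
    · intro hx
      apply Subgroup.map_injective (f := (MulAut.conj g).toMonoidHom) (MulAut.conj g).injective
      rw [← hk, hx, hmap]
  rcases IsPreprimitive.isTrivialBlock_of_isBlock hB with hs | hu
  · exact absurd (hs (show stabilizer G β = _ from h.symm) (show stabilizer G α = _ from rfl)) hne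
  · rw [eq_bot_iff]
    intro g hg
    rw [Subgroup.mem_bot]
    refine eq_of_smul_eq_smul (α := Ω) fun x => ?_
    have : stabilizer G x = stabilizer G α := (Set.ext_iff.1 hu x).2 trivial
    rw [one_smul, ← mem_stabilizer_iff, this]
    exact hg

/-- In an extremely primitive group a non-trivial normal subgroup `M` of `G_α` fixes only `α` and has
the orbits of `G_α`. -/
theorem IsExtremelyPrim.orbit_eq [Finite Ω] [IsPreprimitive G Ω] [FaithfulSMul G Ω]
    (hep : IsExtremelyPrim G Ω) {α : Ω} {M : Subgroup G} (hM : M ≠ ⊥)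
    (hMle : M ≤ stabilizer G α)
    (hMn : ∀ g ∈ stabilizer G α, ∀ m ∈ M, g * m * g⁻¹ ∈ M) :
    ∀ x : Ω, x ≠ α → (∃ m ∈ M, m • x ≠ x) ∧
      ∀ g ∈ stabilizer G α, ∃ m ∈ M, m • x = g • x := by
  classical
  have hα : stabilizer G α ≠ ⊥ := fun h => hM (eq_bot_iff.2 (h ▸ hMle))
  -- transitivity on every orbit that is moved
  have trans : ∀ (b : Ω) (K : Subgroup G), K ≤ stabilizer G b →
      (∀ g ∈ stabilizer G b, ∀ m ∈ K, g * m * g⁻¹ ∈ K) → ∀ x : Ω, (∃ m ∈ K, m • x ≠ x) →
      ∀ g ∈ stabilizer G b, ∃ m ∈ K, m • x = g • x := by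
    intro b K hKle hKn x hx g hg
    have := hep b x
    have : (K.subgroupOf (stabilizer G b)).Normal :=
      ⟨fun m hm h => Subgroup.mem_subgroupOf.2 (hKn h h.2 m (Subgroup.mem_subgroupOf.1 hm))⟩
    let a : orbit (stabilizer G b) x := ⟨x, mem_orbit_self x⟩
    have hblock : IsBlock (stabilizer G b) (orbit (K.subgroupOf (stabilizer G b)) a) :=
      IsBlock.orbit_of_normal a
    rcases IsPreprimitive.isTrivialBlock_of_isBlock hblock with hs | hu
    · obtain ⟨m, hm, hmx⟩ := hx
      have hmem : (⟨⟨m, hKle hm⟩, Subgroup.mem_subgroupOf.2 hm⟩ :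
          K.subgroupOf (stabilizer G b)) • a ∈ orbit (K.subgroupOf (stabilizer G b)) a :=
        mem_orbit _ _
      exact absurd (congrArg Subtype.val (hs hmem (mem_orbit_self a))) hmx
    · have hmem : (⟨g, hg⟩ : stabilizer G b) • a ∈ orbit (K.subgroupOf (stabilizer G b)) a :=
        hu ▸ Set.mem_univ _
      obtain ⟨m, hm⟩ := hmem
      exact ⟨m.1.1, Subgroup.mem_subgroupOf.1 m.2, congrArg Subtype.val hm⟩
  suffices hfix : ∀ x : Ω, x ≠ α → ∃ m ∈ M, m • x ≠ x from
    fun x hx => ⟨hfix x hx, trans α M hMle hMn x (hfix x hx)⟩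
  by_contra hcon
  push Not at hcon
  obtain ⟨β, hβα, hβ⟩ := hcon
  have : Nontrivial Ω := ⟨⟨β, α, hβα⟩⟩
  -- translates `K x` of `M` and their fixed points
  choose gt hgt using fun x : Ω => exists_smul_eq G α x
  let K : Ω → Subgroup G := fun x => M.map (MulAut.conj (gt x)).toMonoidHom
  have hmemK : ∀ x k, k ∈ K x ↔ (gt x)⁻¹ * k * gt x ∈ M := by
    intro x k
    constructor
    · rintro ⟨m, hm, rfl⟩
      simpa [mul_assoc] using hm
    · intro h
      exact ⟨_, h, by simp [mul_assoc]⟩
  have hKeq : ∀ (g : G) k, k ∈ K (g • α) ↔ g⁻¹ * k * g ∈ M := by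
    intro g k
    rw [hmemK]
    have hd : g⁻¹ * gt (g • α) ∈ stabilizer G α := by
      rw [mem_stabilizer_iff, mul_smul, hgt, inv_smul_smul]
    constructor
    · intro h
      simpa [mul_assoc] using hMn _ hd _ h
    · intro h
      simpa [mul_assoc] using hMn _ (inv_mem hd) _ h
  have hKn : ∀ x, ∀ g ∈ stabilizer G x, ∀ m ∈ K x, g * m * g⁻¹ ∈ K x := by
    intro x g hg m hm
    obtain ⟨a, rfl⟩ := exists_smul_eq G α x
    rw [hKeq] at hm ⊢
    have hd : a⁻¹ * g * a ∈ stabilizer G α := by
      rw [mem_stabilizer_iff, mul_smul, mul_smul, mem_stabilizer_iff.1 hg, inv_smul_smul]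
    simpa [mul_assoc] using hMn _ hd _ hm
  have hKle : ∀ x, K x ≤ stabilizer G x := by
    intro x k hk
    obtain ⟨a, rfl⟩ := exists_smul_eq G α x
    have := mem_stabilizer_iff.1 (hMle ((hKeq a k).1 hk))
    rw [mem_stabilizer_iff]
    simpa [mul_smul, inv_smul_eq_iff] using this
  have hKne : ∀ x, K x ≠ ⊥ := fun x h =>
    hM ((Subgroup.map_eq_bot_iff_of_injective _ (MulAut.conj (gt x)).injective).1 h)
  let F : Ω → Set Ω := fun x => {y | ∀ k ∈ K x, k • y = y}
  have hFself : ∀ x, x ∈ F x := fun x k hk => mem_stabilizer_iff.1 (hKle x hk)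
  have hFinv : ∀ x, ∀ g ∈ stabilizer G x, ∀ y ∈ F x, g • y ∈ F x := by
    intro x g hg y hy k hk
    have := hy _ (hKn x g⁻¹ (inv_mem hg) k hk)
    rw [inv_inv, mul_smul, mul_smul, inv_smul_eq_iff] at this
    exact this
  have hFsmul : ∀ (g : G) x, F (g • x) = (g • ·) '' F x := by
    intro g x
    obtain ⟨a, rfl⟩ := exists_smul_eq G α x
    rw [← mul_smul]
    ext y
    constructor
    · intro hy
      refine ⟨g⁻¹ • y, fun k hk => ?_, smul_inv_smul g y⟩
      have := hy (g * k * g⁻¹) ((hKeq _ _).2 (by simpa [mul_assoc] using (hKeq a k).1 hk))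
      rw [mul_smul, mul_smul, ← eq_inv_smul_iff] at this
      exact this
    · rintro ⟨z, hz, rfl⟩ k hk
      have := hz (g⁻¹ * k * g) ((hKeq _ _).2 (by simpa [mul_assoc] using (hKeq _ k).1 hk))
      rw [mul_smul, mul_smul, inv_smul_eq_iff] at this
      exact this
  have hcard : ∀ x y, (F x).ncard = (F y).ncard := by
    intro x y
    obtain ⟨g, rfl⟩ := exists_smul_eq G x y
    rw [hFsmul, Set.ncard_image_of_injective _ (MulAction.injective g)]
  have hst : ∀ {a b : Ω}, a ≠ b → stabilizer G b ≠ stabilizer G a := by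
    intro a b hab
    refine stabilizer_ne_of_ne ?_ hab
    intro h
    exact hKne b (eq_bot_iff.2 (h ▸ hKle b))
  -- the orbit under `G_b` of a point moved by `K a`, where `K a` fixes `b`
  have horb : ∀ a x, x ∉ F a → ∀ g ∈ stabilizer G a, ∃ m ∈ K a, m • x = g • x := by
    intro a x hx
    refine trans a (K a) (hKle a) (hKn a) x ?_
    by_contra h
    push Not at h
    exact hx h
  -- symmetry
  have hsymm : ∀ a b, b ∈ F a → a ∈ F b := by
    intro a b hb
    by_contra hab
    have hne : a ≠ b := fun h => hab (h ▸ hFself b)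
    have hsub : F b ⊆ F a := by
      intro y hy
      by_contra hya
      -- the orbit of `y` under `G_b` is contained in its orbit under `G_a`
      have h1 : ∀ g ∈ stabilizer G b, ∃ h ∈ stabilizer G a, h • y = g • y := by
        intro g hg
        obtain ⟨k, hk, hka⟩ := horb b a hab g hg
        refine ⟨k⁻¹ * g, ?_, ?_⟩
        · rw [mem_stabilizer_iff, mul_smul, ← hka, inv_smul_smul]
        · rw [mul_smul, inv_smul_eq_iff, hFinv b g hg y hy k hk]
      let S : Set Ω := {z | ∃ m ∈ K a, m • y = z}
      have hKab : ∀ m ∈ K a, m ∈ stabilizer G b := fun m hm => hb m hm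
      have hSeq : S = Set.univ := by
        refine eq_univ_of_invariant_two (hst hne).symm ⟨y, 1, one_mem _, one_smul _ _⟩ ?_ ?_
        · rintro g hg _ ⟨m, hm, rfl⟩
          rw [← mul_smul]
          exact horb a y hya _ (mul_mem hg (hKle a hm))
        · rintro g hg _ ⟨m, hm, rfl⟩
          obtain ⟨h, hh, he⟩ := h1 _ (mul_mem hg (hKab m hm))
          rw [← mul_smul, ← he]
          exact horb a y hya _ hh
      have hbS : b ∈ S := hSeq ▸ Set.mem_univ b
      obtain ⟨m, hm, hmy⟩ := hbS
      have : y = b := MulAction.injective m (hmy.trans (hb m hm).symm)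
      exact hya (this ▸ hb)
    have := Set.eq_of_subset_of_ncard_le hsub (hcard a b).le (Set.toFinite _)
    exact hab (this ▸ hFself a)
  -- disjoint supports
  have hdisj : ∀ a b, a ≠ b → b ∈ F a → ∀ x, x ∈ F a ∨ x ∈ F b := by
    intro a b hne hb x
    by_contra hx
    push Not at hx
    obtain ⟨hxa, hxb⟩ := hx
    have ha := hsymm a b hb
    let S : Set Ω := {z | ∃ g ∈ stabilizer G a, g • x = z}
    have hSeq : S = Set.univ := by
      refine eq_univ_of_invariant_two (hst hne).symm ⟨x, 1, one_mem _, one_smul _ _⟩ ?_ ?_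
      · rintro g hg _ ⟨m, hm, rfl⟩
        exact ⟨g * m, mul_mem hg hm, mul_smul _ _ _⟩
      · rintro g hg _ ⟨m, hm, rfl⟩
        obtain ⟨k, hk, hkx⟩ := horb a x hxa m hm
        obtain ⟨l, hl, hlx⟩ := horb b x hxb (g * k) (mul_mem hg (hb k hk))
        exact ⟨l, ha l hl, by rw [hlx, mul_smul, hkx]⟩
    obtain ⟨g, hg, hgx⟩ := (hSeq ▸ Set.mem_univ a : a ∈ S)
    have : x = a := MulAction.injective g (hgx.trans (mem_stabilizer_iff.1 hg).symm)
    exact hxa (this ▸ hFself a)
  -- the classes of "equal or not related" form a block system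
  let B : Ω → Set Ω := fun x => {y | y = x ∨ y ∉ F x}
  have hBeq : ∀ a b, b ∈ B a → B a ⊆ B b := by
    intro a b hb y hy
    rcases hb with rfl | hb
    · exact hy
    by_cases hyb : y = b
    · exact Or.inl hyb
    right
    intro hyFb
    rcases hy with rfl | hy
    · exact hb (hsymm b y hyFb)
    · rcases hdisj b y (Ne.symm hyb) hyFb a with h | h
      · exact hb (hsymm b a h)
      · exact hy (hsymm y a h)
  have hBmem : ∀ a b, b ∈ B a → a ∈ B b := fun a b hb =>
    hb.elim (fun h => Or.inl h.symm) fun h => Or.inr fun h' => h (hsymm b a h')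
  have hblock : IsBlock G (B α) := by
    refine isBlock_iff_smul_eq_of_mem.2 fun g a ha hga => ?_
    have hs : ∀ x, (g • B x : Set Ω) = B (g • x) := by
      intro x
      ext y
      rw [Set.mem_smul_set_iff_inv_smul_mem]
      show (g⁻¹ • y = x ∨ g⁻¹ • y ∉ F x) ↔ (y = g • x ∨ y ∉ F (g • x))
      rw [inv_smul_eq_iff, hFsmul g x]
      refine or_congr Iff.rfl (not_congr ⟨fun h => ⟨_, h, smul_inv_smul g y⟩, ?_⟩)
      rintro ⟨z, hz, rfl⟩
      rwa [inv_smul_smul]
    have e1 : B a = B α := (hBeq _ _ (hBmem _ _ ha)).antisymm (hBeq _ _ ha)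
    have e2 : B (g • a) = B α := (hBeq _ _ (hBmem _ _ hga)).antisymm (hBeq _ _ hga)
    calc (g • B α : Set Ω) = g • B a := by rw [e1]
      _ = B (g • a) := hs a
      _ = B α := e2
  have hβF : β ∈ F α := by
    intro k hk
    refine hβ k ?_
    have := (hKeq 1 k).1 (by rwa [one_smul])
    simpa using this
  rcases IsPreprimitive.isTrivialBlock_of_isBlock hblock with hs | hu
  · refine hKne α (eq_bot_iff.2 fun k hk => Subgroup.mem_bot.2 (eq_of_smul_eq_smul (α := Ω) fun x => ?_))
    rw [one_smul]
    by_contra hkx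
    have hxF : x ∉ F α := fun h => hkx (h k hk)
    have := hs (Or.inr hxF : x ∈ B α) (Or.inl rfl : α ∈ B α)
    exact hxF (this ▸ hFself α)
  · have := (Set.ext_iff.1 hu β).2 trivial
    exact this.elim hβα fun h => h hβF

/-- The stabiliser in `G_α` of a point other than `α` is maximal in `G_α`. -/
theorem IsExtremelyPrim.isCoatom [Finite Ω] [IsPreprimitive G Ω] [FaithfulSMul G Ω]
    (hep : IsExtremelyPrim G Ω) {α : Ω} (hα : stabilizer G α ≠ ⊥) {x : Ω} (hx : x ≠ α) :
    IsCoatom (stabilizer (stabilizer G α) x) := by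
  have := hep α x
  let a : orbit (stabilizer G α) x := ⟨x, mem_orbit_self x⟩
  have : Nontrivial (orbit (stabilizer G α) x) := by
    obtain ⟨m, hm, hmx⟩ := (hep.orbit_eq hα le_rfl
      (fun g hg m hm => mul_mem (mul_mem hg hm) (inv_mem hg)) x hx).1
    exact ⟨⟨⟨(⟨m, hm⟩ : stabilizer G α) • x, mem_orbit _ _⟩, a, fun h => hmx (congrArg Subtype.val h)⟩⟩
  have h := IsPreprimitive.isCoatom_stabilizer_of_isPreprimitive (stabilizer G α) a
  have heq : stabilizer (stabilizer G α) a = stabilizer (stabilizer G α) x := by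
    ext g
    rw [mem_stabilizer_iff, mem_stabilizer_iff, Subtype.ext_iff, orbit.coe_smul]
  rwa [heq] at h

/-- A non-abelian simple group cannot be identified with a point set on which a group acts by maps
multiplicative on commuting pairs, inducing all inner automorphisms, with maximal stabilisers. -/
theorem false_of_regular_simple {H T X : Type*} [Group H] [MulAction H X] [Group T] [Finite T]
    (hs : IsSimpleGroup T) (hnc : ¬ IsMulCommutative T) (e : T ≃ X)
    (hcomm : ∀ (h : H) a b, Commute a b →
      h • e (a * b) = e (e.symm (h • e a) * e.symm (h • e b)))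
    (hinn : ∀ t, ∃ h : H, ∀ u, h • e u = e (t * u * t⁻¹))
    (hmax : ∀ t : T, t ≠ 1 → IsCoatom (stabilizer H (e t))) : False := by
  let f : H → T → T := fun h a => e.symm (h • e a)
  have fe : ∀ h a, e (f h a) = h • e a := fun h a => e.apply_symm_apply _
  have fmul : ∀ h a b, Commute a b → f h (a * b) = f h a * f h b := fun h a b hab => by
    show e.symm (h • e (a * b)) = _
    rw [hcomm h a b hab, e.symm_apply_apply]
  have fcomm : ∀ h a b, Commute a b → Commute (f h a) (f h b) := fun h a b hab => by
    show f h a * f h b = f h b * f h a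
    rw [← fmul h a b hab, ← fmul h b a hab.symm, hab.eq]
  have finv : ∀ h a, f h⁻¹ (f h a) = a := fun h a => by
    show e.symm (h⁻¹ • e (f h a)) = a
    rw [fe, inv_smul_smul, e.symm_apply_apply]
  have fone : ∀ h, f h 1 = 1 := fun h => by
    have := fmul h 1 1 (Commute.one_left 1)
    rw [one_mul] at this
    exact left_eq_mul.1 this
  have fpow : ∀ h a (j : ℕ), f h (a ^ j) = f h a ^ j := fun h a j => by
    induction j with
    | zero => simp [fone]
    | succ j ih => rw [pow_succ, fmul h _ _ (Commute.pow_self a j), ih, pow_succ]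
  have hstab : ∀ h a, h ∈ stabilizer H (e a) ↔ f h a = a := fun h a => by
    rw [mem_stabilizer_iff, ← fe]
    exact e.injective.eq_iff
  have hconj : ∀ t h, (∀ u, h • e u = e (t * u * t⁻¹)) → ∀ u, f h u = t * u * t⁻¹ :=
    fun t h hh u => by
      show e.symm (h • e u) = _
      rw [hh, e.symm_apply_apply]
  have hmem : ∀ x y : T, y ∈ Subgroup.centralizer ({x} : Set T) ↔ y * x = x * y := fun x y =>
    Subgroup.mem_centralizer_singleton_iff
  refine false_of_centralizer_powers hs hnc ?_ ?_
  · intro x j hj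
    have hx : x ≠ 1 := fun h => hj (by rw [h, one_pow])
    have hle : stabilizer H (e x) ≤ stabilizer H (e (x ^ j)) := fun h hh => by
      rw [hstab] at hh ⊢
      rw [fpow, hh]
    have heq : stabilizer H (e (x ^ j)) = stabilizer H (e x) :=
      hle.lt_or_eq.elim (fun h => absurd ((hmax x hx).2 _ h) (hmax _ hj).1) Eq.symm
    ext t
    obtain ⟨h, hh⟩ := hinn t
    have : ∀ a, t ∈ Subgroup.centralizer ({a} : Set T) ↔ h ∈ stabilizer H (e a) := fun a => by
      rw [hstab, hconj t h hh, hmem, mul_inv_eq_iff_eq_mul]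
    rw [this, this, heq]
  · intro x hx n hn
    let A : Set T := {a | a * x = x * a ∧ ∀ d : T, d * x = x * d → a * d = d * a}
    have hxA : x ∈ A := ⟨rfl, fun d hd => hd.symm⟩
    let K : Subgroup H :=
      { carrier := {h | ∀ a, a ∈ A ↔ f h a ∈ A}
        one_mem' := fun a => by
          show a ∈ A ↔ e.symm ((1 : H) • e a) ∈ A
          rw [one_smul, e.symm_apply_apply]
        mul_mem' := fun {g h} hg hh a => by
          show a ∈ A ↔ e.symm ((g * h) • e a) ∈ A
          rw [mul_smul, ← fe h a]
          exact (hh a).trans (hg _)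
        inv_mem' := fun {g} hg a => by
          have := hg (f g⁻¹ a)
          rwa [show f g (f g⁻¹ a) = a by
            show e.symm (g • e (f g⁻¹ a)) = a
            rw [fe, smul_inv_smul, e.symm_apply_apply], iff_comm] at this }
    have hle : stabilizer H (e x) ≤ K := by
      have hmap : ∀ h, f h x = x → ∀ a ∈ A, f h a ∈ A := by
        intro h hh a ha
        have hh' : f h⁻¹ x = x := by
          conv_lhs => rw [← hh]
          exact finv h x
        refine ⟨?_, fun d hd => ?_⟩
        · have := fcomm h a x ha.1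
          rwa [hh] at this
        · have h1 := fcomm h⁻¹ d x hd
          rw [hh'] at h1
          have h2 := fcomm h a _ (ha.2 _ h1)
          have h3 : f h (f h⁻¹ d) = d := by
            simpa using finv h⁻¹ d
          rwa [h3] at h2
      intro h hh a
      rw [hstab] at hh
      refine ⟨hmap h hh a, fun ha => ?_⟩
      have hh' : f h⁻¹ x = x := by
        conv_lhs => rw [← hh]
        exact finv h x
      have := hmap h⁻¹ hh' _ ha
      rwa [finv] at this
    rcases hle.lt_or_eq with hlt | heq
    · exfalso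
      have htop := (hmax x hx).2 _ hlt
      apply hx
      have hconjA : ∀ t : T, t * x * t⁻¹ ∈ A := fun t => by
        obtain ⟨h, hh⟩ := hinn t
        have hK : h ∈ K := htop ▸ Subgroup.mem_top h
        rw [← hconj t h hh]
        exact (hK x).1 hxA
      have hN : Subgroup.normalClosure ({x} : Set T) ≤ Subgroup.centralizer ({x} : Set T) := by
        rw [Subgroup.normalClosure, Subgroup.closure_le]
        intro y hy
        obtain ⟨a, ha, hay⟩ := Group.mem_conjugatesOfSet_iff.1 hy
        rw [Set.mem_singleton_iff] at ha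
        subst ha
        obtain ⟨c, rfl⟩ := isConj_iff.1 hay
        exact (hmem _ _).2 (hconjA c).1
      rcases IsSimpleGroup.eq_bot_or_eq_top_of_normal (Subgroup.normalClosure ({x} : Set T))
        inferInstance with h | h
      · have := Subgroup.subset_normalClosure (Set.mem_singleton x) (G := T)
        rw [h] at this
        exact Subgroup.mem_bot.1 this
      · rw [h] at hN
        have : x ∈ Subgroup.center T := Subgroup.mem_center_iff.2 fun g =>
          (hmem _ _).1 (hN (Subgroup.mem_top g))
        rwa [center_eq_bot_of_simple hs hnc, Subgroup.mem_bot] at this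
    · obtain ⟨h, hh⟩ := hinn n
      have hnA : ∀ m ∈ Subgroup.normalizer ((Subgroup.centralizer {x} : Subgroup T) : Set T),
          ∀ a ∈ A, m * a * m⁻¹ ∈ A := by
        intro m hm a ha
        have hm1 := Subgroup.mem_normalizer_iff.1 hm
        refine ⟨(hmem _ _).1 ((hm1 a).1 ((hmem _ _).2 ha.1)), fun d hd => ?_⟩
        have hd' : m⁻¹ * d * m ∈ Subgroup.centralizer ({x} : Set T) :=
          (hm1 _).2 (by simpa [mul_assoc] using (hmem _ _).2 hd)
        have := ha.2 _ ((hmem _ _).1 hd')
        calc m * a * m⁻¹ * d = m * (a * (m⁻¹ * d * m)) * m⁻¹ := by group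
          _ = m * (m⁻¹ * d * m * a) * m⁻¹ := by rw [this]
          _ = d * (m * a * m⁻¹) := by group
      have hK : h ∈ K := fun a => by
        rw [hconj n h hh]
        refine ⟨hnA n hn a, fun ha => ?_⟩
        simpa [mul_assoc] using hnA _ (inv_mem hn) _ ha
      rw [← heq, hstab, hconj n h hh, mul_inv_eq_iff_eq_mul] at hK
      exact (hmem _ _).2 hK

end Cfsg.Agent.Recog
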