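import Cfsg.Agent.Lib.Recog.ExtremelyPrimitive

/-!
# Abelian normal subgroups of stabilisers in extremely primitive groups; linear representations
-/

namespace Cfsg.Agent.Recog

open MulAction

variable {G Ω : Type*} [Group G] [MulAction G Ω]

/-- A group acting without fixed points divides the number of points. -/
theorem card_dvd_of_free {M X : Type*} [Group M] [MulAction M X] [Finite X]
    (h : ∀ (m : M) (x : X), m • x = x → m = 1) : Nat.card M ∣ Nat.card X := by
  classical
  have e := selfEquivSigmaOrbitsQuotientStabilizer M X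
  have hcard : ∀ ω : Quotient (orbitRel M X), Nat.card (M ⧸ stabilizer M ω.out) = Nat.card M := fun ω => by
    have hb : stabilizer M ω.out = ⊥ := eq_bot_iff.2 fun m hm => Subgroup.mem_bot.2 (h m _ hm)
    rw [hb, ← Subgroup.index_eq_card, Subgroup.index_bot]
  rcases isEmpty_or_nonempty X with hX | ⟨⟨x⟩⟩
  · simp
  have : Finite M := Finite.of_injective (fun m : M => m • x) fun a b hab => by
    have := h (b⁻¹ * a) x (by rw [mul_smul, show a • x = b • x from hab, inv_smul_smul])
    exact (inv_mul_eq_one.1 this).symm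
  have : Fintype (Quotient (orbitRel M X)) := Fintype.ofFinite _
  refine ⟨Fintype.card (Quotient (orbitRel M X)), ?_⟩
  rw [Nat.card_congr e, Nat.card_sigma, Finset.sum_congr rfl fun ω _ => hcard ω, Finset.sum_const,
    Finset.card_univ, smul_eq_mul, mul_comm]

variable [Finite Ω] [IsPreprimitive G Ω] [FaithfulSMul G Ω]

/-- `G_α` is faithful on each of its orbits other than `{α}`. -/
theorem IsExtremelyPrim.faithful (hep : IsExtremelyPrim G Ω) {α : Ω} {g : G}
    (hg : g ∈ stabilizer G α) {x : Ω} (hx : x ≠ α)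
    (hfix : ∀ k ∈ stabilizer G α, g • k • x = k • x) : g = 1 := by
  by_contra hne
  let K : Subgroup G :=
    { carrier := {g | g ∈ stabilizer G α ∧ ∀ k ∈ stabilizer G α, g • k • x = k • x}
      one_mem' := ⟨one_mem _, fun k _ => one_smul _ _⟩
      mul_mem' := fun {a b} ha hb => ⟨mul_mem ha.1 hb.1, fun k hk => by
        rw [mul_smul, hb.2 k hk, ha.2 k hk]⟩
      inv_mem' := fun {a} ha => ⟨inv_mem ha.1, fun k hk => by
        rw [inv_smul_eq_iff, ha.2 k hk]⟩ }
  have hK : K ≠ ⊥ := fun hb => hne (Subgroup.mem_bot.1 (hb ▸ (⟨hg, hfix⟩ : g ∈ K)))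
  have hKn : ∀ a ∈ stabilizer G α, ∀ m ∈ K, a * m * a⁻¹ ∈ K := fun a ha m hm =>
    ⟨mul_mem (mul_mem ha hm.1) (inv_mem ha), fun k hk => by
      rw [mul_smul, mul_smul, ← mul_smul a⁻¹ k, hm.2 _ (mul_mem (inv_mem ha) hk), ← mul_smul a,
        mul_inv_cancel_left]⟩
  obtain ⟨m, hm, hmx⟩ := (hep.orbit_eq hK (fun a ha => ha.1) hKn x hx).1
  exact hmx (by simpa using hm.2 1 (one_mem _))

/-- A non-trivial abelian normal subgroup `A` of `G_α` is regular on every orbit of `G_α` other than
`{α}`, and is its own centraliser in `G_α`. -/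
theorem IsExtremelyPrim.abelian_normal (hep : IsExtremelyPrim G Ω) {α : Ω} {A : Subgroup G}
    (hA : A ≠ ⊥) (hAle : A ≤ stabilizer G α)
    (hAn : ∀ g ∈ stabilizer G α, ∀ a ∈ A, g * a * g⁻¹ ∈ A)
    (hAc : ∀ a ∈ A, ∀ b ∈ A, a * b = b * a) :
    (∀ x : Ω, x ≠ α → ∀ a ∈ A, a • x = x → a = 1) ∧
    (∀ x : Ω, x ≠ α → Nat.card (orbit (stabilizer G α) x) = Nat.card A) ∧
    (∀ h ∈ stabilizer G α, (∀ a ∈ A, h * a = a * h) → h ∈ A) := by
  have horb := hep.orbit_eq hA hAle hAn
  have key : ∀ h ∈ stabilizer G α, (∀ a ∈ A, h * a = a * h) → ∀ x : Ω, x ≠ α → h • x = x → h = 1 := by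
    intro h hh hc x hx hhx
    refine hep.faithful hh hx fun k hk => ?_
    obtain ⟨a, ha, hak⟩ := (horb x hx).2 k hk
    rw [← hak, ← mul_smul, hc a ha, mul_smul, hhx]
  have hfree : ∀ x : Ω, x ≠ α → ∀ a ∈ A, a • x = x → a = 1 := fun x hx a ha hax =>
    key a (hAle ha) (hAc a ha) x hx hax
  refine ⟨hfree, fun x hx => ?_, fun h hh hc => ?_⟩
  · refine (Nat.card_eq_of_bijective
      (fun a : A => (⟨(a : G) • x, ⟨⟨a, hAle a.2⟩, rfl⟩⟩ : orbit (stabilizer G α) x))
      ⟨fun a b hab => ?_, fun y => ?_⟩).symm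
    · have hab' : (a : G) • x = (b : G) • x := congrArg Subtype.val hab
      have := hfree x hx _ (mul_mem (inv_mem b.2) a.2) (by rw [mul_smul, hab', inv_smul_smul])
      exact Subtype.ext (inv_mul_eq_one.1 this).symm
    · obtain ⟨k, hk⟩ := y.2
      obtain ⟨a, ha, hak⟩ := (horb x hx).2 k k.2
      exact ⟨⟨a, ha⟩, Subtype.ext (hak.trans hk)⟩
  · obtain ⟨⟨a₀, ha₀⟩, ha₀1⟩ := Subgroup.ne_bot_iff_exists_ne_one.1 hA
    obtain ⟨x, hx⟩ : ∃ x : Ω, a₀ • x ≠ x := by
      by_contra hall
      push Not at hall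
      exact ha₀1 (Subtype.ext (eq_of_smul_eq_smul (α := Ω) fun x => by simpa using hall x))
    have hxα : x ≠ α := fun he => hx (he ▸ mem_stabilizer_iff.1 (hAle ha₀))
    obtain ⟨a, ha, hax⟩ := (horb x hxα).2 h hh
    have := key (a⁻¹ * h) (mul_mem (inv_mem (hAle ha)) hh) (fun b hb => by
      rw [mul_assoc, hc b hb, ← mul_assoc, hAc a⁻¹ (inv_mem ha) b hb, mul_assoc]) x hxα
      (by rw [mul_smul, ← hax, inv_smul_smul])
    exact (inv_mul_eq_one.1 this) ▸ ha

open scoped IsMulCommutative in
theorem exists_hom_gl_aux {H : Type*} [Group H] (F : Subgroup H) [F.Normal] [Finite F]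
    [IsMulCommutative F] {p e : ℕ} [Fact p.Prime] [Module (ZMod p) (Additive F)]
    (hcard : Nat.card F = p ^ e) :
    ∃ φ : H →* GL (Fin e) (ZMod p), φ.ker = Subgroup.centralizer (F : Set H) := by
  let c : H → Module.End (ZMod p) (Additive F) := fun h =>
    AddMonoidHom.toZModLinearMap p (MonoidHom.toAdditive (MulAut.conjNormal h : MulAut F).toMonoidHom)
  have hcapp : ∀ (h : H) (v : Additive F), ((Additive.toMul (c h v) : F) : H) =
      h * (Additive.toMul v : F) * h⁻¹ := fun h v =>
    MulAut.conjNormal_apply h (Additive.toMul v)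
  let ψ : H →* Module.End (ZMod p) (Additive F) :=
    { toFun := c
      map_one' := by
        apply LinearMap.ext; intro v
        apply Additive.toMul.injective
        apply Subtype.ext
        rw [hcapp, Module.End.one_apply]; group
      map_mul' := fun x y => by
        apply LinearMap.ext; intro v
        apply Additive.toMul.injective
        apply Subtype.ext
        rw [Module.End.mul_apply, hcapp, hcapp, hcapp]; group }
  have : Module.Finite (ZMod p) (Additive F) := Module.Finite.of_finite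
  have hrank : Module.finrank (ZMod p) (Additive F) = e := by
    have h := Module.natCard_eq_pow_finrank (K := ZMod p) (V := Additive F)
    rw [Nat.card_zmod, Nat.card_congr Additive.toMul, hcard] at h
    exact ((Nat.pow_right_injective (Fact.out : p.Prime).two_le) h).symm
  let b := Module.finBasisOfFinrankEq (ZMod p) (Additive F) hrank
  refine ⟨((Matrix.GeneralLinearGroup.toLin' b).symm.toMonoidHom).comp ψ.toHomUnits, ?_⟩
  ext h
  rw [MonoidHom.mem_ker, MonoidHom.comp_apply, MulEquiv.coe_toMonoidHom,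
    MulEquiv.map_eq_one_iff, Units.ext_iff, MonoidHom.coe_toHomUnits, Units.val_one,
    Subgroup.mem_centralizer_iff]
  constructor
  · intro hh a ha
    have h1 : (MulAut.conjNormal h : MulAut F) ⟨a, ha⟩ = ⟨a, ha⟩ :=
      congrArg Additive.toMul (LinearMap.congr_fun hh (Additive.ofMul ⟨a, ha⟩))
    have h2 := congrArg Subtype.val h1
    rw [MulAut.conjNormal_apply, mul_inv_eq_iff_eq_mul] at h2
    exact h2.symm
  · intro hh
    apply LinearMap.ext
    intro v
    apply Additive.toMul.injective
    show (MulAut.conjNormal h : MulAut F) v.toMul = v.toMul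
    apply Subtype.ext
    rw [MulAut.conjNormal_apply, ← hh _ v.toMul.2, mul_inv_cancel_right]

open scoped IsMulCommutative in
/-- Conjugation on an elementary abelian normal subgroup of order `p ^ e` gives a representation
of degree `e` over the field with `p` elements, with kernel the centraliser. -/
theorem exists_hom_gl {H : Type*} [Group H] (F : Subgroup H) [F.Normal] [Finite F]
    (hFc : ∀ a ∈ F, ∀ b ∈ F, a * b = b * a) {p e : ℕ} [Fact p.Prime]
    (hexp : ∀ x ∈ F, x ^ p = 1) (hcard : Nat.card F = p ^ e) :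
    ∃ φ : H →* GL (Fin e) (ZMod p), φ.ker = Subgroup.centralizer (F : Set H) := by
  have : IsMulCommutative F := ⟨⟨fun a b => Subtype.ext (hFc a a.2 b b.2)⟩⟩
  let : Module (ZMod p) (Additive F) := AddCommGroup.zmodModule (n := p) fun x => by
    apply Additive.toMul.injective
    exact Subtype.ext (by simpa using hexp _ (Additive.toMul x).2)
  exact exists_hom_gl_aux F hcard

end Cfsg.Agent.Recog
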