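import Cfsg.Agent.Lib.Recog.ExtremelyPrimitive
import Cfsg.Agent.Lib.Recog.MinNormal
import Cfsg.Agent.Lib.Recog.Derangement

/-!
# Extremely primitive groups are affine or almost simple
-/

namespace Cfsg.Agent.Recog

open MulAction

variable {G Ω : Type*} [Group G] [MulAction G Ω]

theorem mem_map_conj_iff {S : Subgroup G} {a x : G} :
    x ∈ S.map (MulAut.conj a).toMonoidHom ↔ a⁻¹ * x * a ∈ S := by
  constructor
  · rintro ⟨s, hs, rfl⟩
    simpa [mul_assoc] using hs
  · intro h
    exact ⟨_, h, by simp [mul_assoc]⟩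

theorem conj_mem_map_conj {S : Subgroup G} {a x : G} (hx : x ∈ S) :
    a * x * a⁻¹ ∈ S.map (MulAut.conj a).toMonoidHom := ⟨x, hx, rfl⟩

theorem eq_bot_of_le_stabilizer [IsPretransitive G Ω] [FaithfulSMul G Ω] {N : Subgroup G}
    (hN : N.Normal) {α : Ω} (h : N ≤ stabilizer G α) : N = ⊥ := by
  rw [eq_bot_iff]
  intro n hn
  rw [Subgroup.mem_bot]
  refine eq_of_smul_eq_smul (α := Ω) fun x => ?_
  obtain ⟨g, rfl⟩ := exists_smul_eq G α x
  have := mem_stabilizer_iff.1 (h (hN.conj_mem n hn g⁻¹))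
  rw [inv_inv, mul_smul, mul_smul, inv_smul_eq_iff] at this
  rw [one_smul, this]

theorem IsFactor.eq_one_of_mem_centralizer {N T : Subgroup G} [Finite G] (hN : IsMinNormal N)
    (hT : IsFactor N T) (hnc : ¬ IsMulCommutative N) {a : G} (ha : a ∈ T)
    (hc : a ∈ Subgroup.centralizer (T : Set G)) : a = 1 := by
  have hs := hN.isSimpleGroup_factor hT
  have hz := center_eq_bot_of_simple hs (hN.not_commutative_factor hT hnc)
  have : (⟨a, ha⟩ : T) ∈ Subgroup.center T := Subgroup.mem_center_iff.2 fun g =>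
    Subtype.ext (Subgroup.mem_centralizer_iff.1 hc g g.2)
  rw [hz, Subgroup.mem_bot] at this
  exact congrArg Subtype.val this

theorem IsFactor.eq_of_mul_eq {N T : Subgroup G} [Finite G] (hN : IsMinNormal N)
    (hT : IsFactor N T) (hnc : ¬ IsMulCommutative N) {a b c d : G} (ha : a ∈ T) (hb : b ∈ T)
    (hc : c ∈ Subgroup.centralizer (T : Set G)) (hd : d ∈ Subgroup.centralizer (T : Set G))
    (h : a * c = b * d) : a = b := by
  have h' : b⁻¹ * a = d * c⁻¹ := by
    rw [eq_mul_inv_iff_mul_eq, mul_assoc, h, inv_mul_cancel_left]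
  exact (inv_mul_eq_one.1 (hT.eq_one_of_mem_centralizer hN hnc (mul_mem (inv_mem hb) ha)
    (h' ▸ mul_mem hd (inv_mem hc)))).symm

/-- All factors of a non-abelian minimal normal subgroup are conjugate. -/
theorem IsFactor.exists_conj {N T U : Subgroup G} [Finite G] (hN : IsMinNormal N)
    (hT : IsFactor N T) (hU : IsFactor N U) (hnc : ¬ IsMulCommutative N) :
    ∃ g : G, T.map (MulAut.conj g).toMonoidHom = U := by
  by_contra h
  push Not at h
  have hle : N ≤ Subgroup.centralizer (U : Set G) := hN.le_of_conj_le hT fun g x hx =>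
    Subgroup.mem_centralizer_iff.2 fun u hu => hU.commute (hT.map_conj hN.normal g) (h g).symm hu hx
  refine hU.ne_bot (eq_bot_iff.2 ?_)
  rw [← hN.inf_centralizer hnc]
  exact le_inf hU.le fun u hu => Subgroup.mem_centralizer_iff.2 fun n hn =>
    (Subgroup.mem_centralizer_iff.1 (hle hn) u hu).symm

/-- Conjugation of a factor can be achieved inside a point stabiliser. -/
theorem IsFactor.exists_stabilizer_conj {N T : Subgroup G} (hN : N.Normal) (hT : IsFactor N T)
    [IsPretransitive N Ω] (α : Ω) (g : G) :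
    ∃ h ∈ stabilizer G α,
      T.map (MulAut.conj h).toMonoidHom = T.map (MulAut.conj g).toMonoidHom := by
  obtain ⟨n, hn⟩ := exists_smul_eq N α (g • α)
  refine ⟨(n : G)⁻¹ * g, ?_, ?_⟩
  · rw [mem_stabilizer_iff, mul_smul, inv_smul_eq_iff]
    exact hn.symm
  · have key := (hT.map_conj hN g).conj_mem
    ext x
    constructor
    · intro hx
      rw [mem_map_conj_iff] at hx
      have := key (n : G)⁻¹ (inv_mem n.2) (n * x * (n : G)⁻¹)
        (mem_map_conj_iff.2 (by simpa [mul_assoc] using hx))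
      simpa [mul_assoc] using this
    · intro hx
      have := key (n : G) n.2 x hx
      rw [mem_map_conj_iff] at this ⊢
      simpa [mul_assoc] using this

variable [Finite G] [Finite Ω] [IsPreprimitive G Ω] [FaithfulSMul G Ω]

/-- A regular non-simple minimal normal subgroup is abelian in an extremely primitive group. -/
theorem IsExtremelyPrim.false_of_regular (hep : IsExtremelyPrim G Ω) {α : Ω}
    (hα : stabilizer G α ≠ ⊥) {N T : Subgroup G} (hN : IsMinNormal N)
    (hnc : ¬ IsMulCommutative N) (hT : IsFactor N T) [IsPretransitive N Ω]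
    (hmove : ∃ h ∈ stabilizer G α, T.map (MulAut.conj h).toMonoidHom ≠ T)
    (hreg : ∀ n ∈ N, n • α = α → n = 1) : False := by
  classical
  set H := stabilizer G α
  have hNn := hN.normal
  have hpt : ∀ n ∈ N, n ≠ 1 → n • α ≠ α := fun n hn h1 h => h1 (hreg n hn h)
  have hmem : ∀ n ∈ N, ∀ h : H, h ∈ stabilizer H (n • α) ↔ (h : G) * n * (h : G)⁻¹ = n := by
    intro n hn h
    rw [mem_stabilizer_iff, Subgroup.smul_def]
    have hh : (h : G)⁻¹ • α = α := inv_smul_eq_iff.2 (mem_stabilizer_iff.1 h.2).symm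
    constructor
    · intro he
      have : n⁻¹ * ((h : G) * n * (h : G)⁻¹) = 1 := by
        refine hreg _ (mul_mem (inv_mem hn) (hNn.conj_mem n hn h)) ?_
        rw [mul_smul, mul_smul, mul_smul, hh, he, inv_smul_smul]
      exact (inv_mul_eq_one.1 this).symm
    · intro he
      conv_rhs => rw [← he, mul_smul, hh, mul_smul]
  have heq : ∀ n ∈ N, n ≠ 1 → ∀ m ∈ N, m ≠ 1 → stabilizer H (n • α) ≤ stabilizer H (m • α) →
      stabilizer H (m • α) = stabilizer H (n • α) := fun n hn hn1 m hm hm1 hle =>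
    hle.lt_or_eq.elim
      (fun h => absurd ((hep.isCoatom hα (hpt n hn hn1)).2 _ h) (hep.isCoatom hα (hpt m hm hm1)).1)
      Eq.symm
  have hpow : ∀ n ∈ N, ∀ j : ℕ, n ^ j ≠ 1 →
      stabilizer H ((n ^ j) • α) = stabilizer H (n • α) := by
    intro n hn j hj
    refine heq n hn (fun h => hj (by rw [h, one_pow])) _ (pow_mem hn j) hj fun h hh => ?_
    rw [hmem n hn] at hh
    rw [hmem _ (pow_mem hn j), ← conj_pow, hh]
  have hcop : ∀ x ∈ N, ∀ y ∈ N, Commute x y → (orderOf x).Prime → (orderOf y).Prime →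
      orderOf x ≠ orderOf y → stabilizer H (x • α) = stabilizer H (y • α) := by
    intro x hx y hy hxy hp hq hne
    have h1 : (x * y) ^ orderOf x = y ^ orderOf x := by
      rw [hxy.mul_pow, pow_orderOf_eq_one, one_mul]
    have h2 : (x * y) ^ orderOf y = x ^ orderOf y := by
      rw [hxy.mul_pow, pow_orderOf_eq_one, mul_one]
    have h3 : y ^ orderOf x ≠ 1 := fun h => by
      rw [← orderOf_dvd_iff_pow_eq_one, Nat.prime_dvd_prime_iff_eq hq hp] at h
      exact hne h.symm
    have h4 : x ^ orderOf y ≠ 1 := fun h => by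
      rw [← orderOf_dvd_iff_pow_eq_one, Nat.prime_dvd_prime_iff_eq hp hq] at h
      exact hne h
    calc stabilizer H (x • α) = stabilizer H ((x ^ orderOf y) • α) := (hpow x hx _ h4).symm
      _ = stabilizer H ((x * y) • α) := by rw [← h2]; exact hpow _ (mul_mem hx hy) _ (h2 ▸ h4)
      _ = stabilizer H ((y ^ orderOf x) • α) := by
        rw [← h1]; exact (hpow _ (mul_mem hx hy) _ (h1 ▸ h3)).symm
      _ = stabilizer H (y • α) := hpow y hy _ h3
  -- all non-trivial elements of `N` have the same stabiliser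
  obtain ⟨x₀, hx₀, hx₀p, -⟩ :=
    exists_prime_orderOf_ne (hN.isSimpleGroup_factor hT) (hN.not_commutative_factor hT hnc) 0
  set K := stabilizer H (x₀ • α)
  let L : Subgroup G :=
    { carrier := {n | ∀ h ∈ K, (h : G) * n * (h : G)⁻¹ = n}
      one_mem' := fun h _ => by group
      mul_mem' := fun {a b} ha hb h hh => by
        calc (h : G) * (a * b) * (h : G)⁻¹ = (h * a * (h : G)⁻¹) * (h * b * (h : G)⁻¹) := by group
          _ = a * b := by rw [ha h hh, hb h hh]
      inv_mem' := fun {a} ha h hh => by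
        rw [← inv_inj, inv_inv]
        convert ha h hh using 1
        group }
  have hsub : ∀ U U' : Subgroup G, IsFactor N U → IsFactor N U' → U ≠ U' → ∀ x ∈ U,
      (orderOf x).Prime → stabilizer H (x • α) = K → U' ≤ L := by
    intro U U' hU hU' hne x hx hxp hxK
    have hs := hN.isSimpleGroup_factor hU'
    obtain ⟨y, hy, hyp, hyx⟩ :=
      exists_prime_orderOf_ne hs (hN.not_commutative_factor hU' hnc) (orderOf x)
    have hin : ∀ z ∈ U', orderOf z = orderOf y → z ∈ L := fun z hz hzy h hh => by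
      rw [← hmem z (hU'.le hz), ← hcop x (hU.le hx) z (hU'.le hz) (hU.commute hU' hne hx hz) hxp
        (hzy ▸ hyp) (hzy ▸ hyx.symm), hxK]
      exact hh
    have hle : Subgroup.normalClosure ({⟨y, hy⟩} : Set U') ≤ L.subgroupOf U' := by
      rw [Subgroup.normalClosure, Subgroup.closure_le]
      intro z hz
      obtain ⟨a, ha, haz⟩ := Group.mem_conjugatesOfSet_iff.1 hz
      rw [Set.mem_singleton_iff] at ha
      subst ha
      refine Subgroup.mem_subgroupOf.2 (hin z z.2 ?_)
      rw [Subgroup.orderOf_coe, ← orderOf_eq_of_isConj haz, ← Subgroup.orderOf_coe]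
    rcases hs.eq_bot_or_eq_top_of_normal (Subgroup.normalClosure ({⟨y, hy⟩} : Set U'))
      inferInstance with h | h
    · have := Subgroup.subset_normalClosure (Set.mem_singleton (⟨y, hy⟩ : U'))
      rw [h, SetLike.mem_coe, Subgroup.mem_bot] at this
      have hy1 : y = 1 := congrArg Subtype.val this
      rw [hy1, orderOf_one] at hyp
      exact absurd hyp Nat.not_prime_one
    · intro z hz
      exact Subgroup.mem_subgroupOf.1 (hle (h ▸ Subgroup.mem_top (⟨z, hz⟩ : U')))
  obtain ⟨h₁, hh₁, hh₁T⟩ := hmove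
  have hT' := hT.map_conj hNn h₁
  have hTL : T ≤ L := by
    obtain ⟨y, hy, hyp, hyx⟩ := exists_prime_orderOf_ne (hN.isSimpleGroup_factor hT')
      (hN.not_commutative_factor hT' hnc) (orderOf x₀)
    exact hsub _ T hT' hT hh₁T y hy hyp ((hcop x₀ (hT.le hx₀) y (hT'.le hy)
      (hT.commute hT' hh₁T.symm hx₀ hy) hx₀p hyp hyx.symm).symm)
  have hNL : N ≤ L := hN.le_of_conj_le hT fun g => by
    by_cases he : T.map (MulAut.conj g).toMonoidHom = T
    · rwa [he]
    · exact hsub T _ hT (hT.map_conj hNn g) (Ne.symm he) x₀ hx₀ hx₀p rfl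
  have hK : K = ⊥ := by
    rw [eq_bot_iff]
    intro h hh
    rw [Subgroup.mem_bot]
    refine Subtype.ext (eq_of_smul_eq_smul (α := Ω) fun x => ?_)
    obtain ⟨n, rfl⟩ := exists_smul_eq N α x
    have := mem_stabilizer_iff.1 ((hmem n n.2 h).2 (hNL n.2 h hh))
    rw [Subgroup.smul_def] at this
    rw [Subgroup.smul_def, this, Subgroup.coe_one, one_smul]
  have hx₀1 : x₀ ≠ 1 := fun h => by rw [h, orderOf_one] at hx₀p; exact Nat.not_prime_one hx₀p
  have hmax : IsCoatom (⊥ : Subgroup H) := hK ▸ hep.isCoatom hα (hpt x₀ (hT.le hx₀) hx₀1)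
  have hgen : ∀ h : H, h ≠ 1 → Subgroup.zpowers h = ⊤ := fun h hh =>
    hmax.2 _ (bot_lt_iff_ne_bot.2 (Subgroup.zpowers_ne_bot.2 hh))
  -- an element of `H` moving `T` centralises a non-trivial element of `N`
  set h : H := ⟨h₁, hh₁⟩
  let S : Subgroup H :=
    { carrier := {g | T.map (MulAut.conj (g : G)).toMonoidHom = T}
      one_mem' := by
        show T.map _ = T
        ext x
        simp
      mul_mem' := fun {a b} ha hb => by
        show T.map (MulAut.conj ((a : G) * b)).toMonoidHom = T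
        ext x
        rw [mem_map_conj_iff]
        have ha' : ∀ z, (a : G)⁻¹ * z * a ∈ T ↔ z ∈ T := fun z => by
          rw [← mem_map_conj_iff, ha]
        have hb' : ∀ z, (b : G)⁻¹ * z * b ∈ T ↔ z ∈ T := fun z => by
          rw [← mem_map_conj_iff, hb]
        rw [← ha' x, ← hb' ((a : G)⁻¹ * x * a)]
        simp [mul_assoc]
      inv_mem' := fun {a} ha => by
        show T.map (MulAut.conj ((a : G)⁻¹)).toMonoidHom = T
        ext x
        rw [mem_map_conj_iff]
        have ha' : ∀ z, (a : G)⁻¹ * z * a ∈ T ↔ z ∈ T := fun z => by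
          rw [← mem_map_conj_iff, ha]
        rw [inv_inv, ← ha']
        simp [mul_assoc] }
  have hhS : h ∉ S := hh₁T
  have hh1 : h ≠ 1 := fun he => hhS (he ▸ one_mem S)
  have hS : ∀ g ∈ S, g = 1 := by
    intro g hg
    by_contra hg1
    exact hhS ((Subgroup.zpowers_le.2 hg) (hgen g hg1 ▸ Subgroup.mem_top h))
  obtain ⟨t, htT, htp, -⟩ :=
    exists_prime_orderOf_ne (hN.isSimpleGroup_factor hT) (hN.not_commutative_factor hT hnc) 0
  set r := orderOf h with hr
  have hr0 : 0 < r := orderOf_pos h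
  have hprod : ∀ j, 1 ≤ j → j ≤ r → ∃ c ∈ Subgroup.centralizer (T : Set G), c ∈ N ∧
      (t * h₁) ^ j = t * c * h₁ ^ j := by
    intro j hj
    induction j, hj using Nat.le_induction with
    | base => exact fun _ => ⟨1, one_mem _, one_mem _, by simp⟩
    | succ j hj ih =>
      intro hjr
      obtain ⟨c, hc, hcN, he⟩ := ih (by omega)
      have hne : T.map (MulAut.conj (h₁ ^ j)).toMonoidHom ≠ T := by
        intro hcon
        have h1 : h ^ j = 1 := hS _ (by
          show T.map (MulAut.conj ((h ^ j : H) : G)).toMonoidHom = T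
          exact hcon)
        have := Nat.le_of_dvd (by omega) (orderOf_dvd_of_pow_eq_one h1)
        omega
      have hTj := hT.map_conj hNn (h₁ ^ j)
      refine ⟨c * (h₁ ^ j * t * (h₁ ^ j)⁻¹), mul_mem hc ?_, mul_mem hcN ?_, ?_⟩
      · exact Subgroup.mem_centralizer_iff.2 fun a ha =>
          hT.commute hTj hne.symm ha (conj_mem_map_conj htT)
      · exact hTj.le (conj_mem_map_conj htT)
      · rw [pow_succ, he, pow_succ]
        group
  obtain ⟨c, hc, hcN, he⟩ := hprod r hr0 le_rfl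
  have hhr : h₁ ^ r = 1 := by
    have := congrArg Subtype.val (pow_orderOf_eq_one h)
    simpa [← hr] using this
  rw [hhr, mul_one] at he
  have htc : t * c = c * t := Subgroup.mem_centralizer_iff.1 hc t htT
  have hfix : h₁ * (t * c) * h₁⁻¹ = t * c := by
    rw [← he]
    calc h₁ * (t * h₁) ^ r * h₁⁻¹ = t⁻¹ * ((t * h₁) * (t * h₁) ^ r * (t * h₁)⁻¹) * t := by simp [mul_assoc]
      _ = t⁻¹ * (t * h₁) ^ r * t := by rw [← pow_succ', pow_succ, mul_inv_cancel_right]
      _ = (t * h₁) ^ r := by rw [he, inv_mul_cancel_left, htc]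
  have htc1 : t * c ≠ 1 := by
    intro h0
    have := hT.eq_of_mul_eq hN hnc htT (one_mem T) hc (one_mem _) (by rw [h0, one_mul])
    rw [this, orderOf_one] at htp
    exact Nat.not_prime_one htp
  have htcN : t * c ∈ N := mul_mem (hT.le htT) hcN
  have hcoat := hep.isCoatom hα (hpt _ htcN htc1)
  have hmemh : h ∈ stabilizer H ((t * c) • α) := (hmem _ htcN h).2 hfix
  exact hcoat.1 (top_le_iff.1 (hgen h hh1 ▸ Subgroup.zpowers_le.2 hmemh))

/-- The point stabiliser of a non-simple minimal normal subgroup of an extremely primitive group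
is trivial. -/
theorem IsExtremelyPrim.false_of_not_regular (hep : IsExtremelyPrim G Ω) {α : Ω}
    (hα : stabilizer G α ≠ ⊥) {N T : Subgroup G} (hN : IsMinNormal N)
    (hnc : ¬ IsMulCommutative N) (hT : IsFactor N T) [IsPretransitive N Ω]
    (hmove : ∃ h ∈ stabilizer G α, T.map (MulAut.conj h).toMonoidHom ≠ T)
    (hM : N ⊓ stabilizer G α ≠ ⊥) : False := by
  classical
  set H := stabilizer G α with hH
  set M := N ⊓ H with hMdef
  have hNn := hN.normal
  have : Nontrivial Ω := by
    obtain ⟨g, hg⟩ := Subgroup.ne_bot_iff_exists_ne_one.1 hα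
    by_contra hnt
    rw [not_nontrivial_iff_subsingleton] at hnt
    exact hg (Subtype.ext (eq_of_smul_eq_smul (α := Ω) fun x => Subsingleton.elim _ _))
  have hMn : ∀ g ∈ H, ∀ m ∈ M, g * m * g⁻¹ ∈ M := fun g hg m hm =>
    Subgroup.mem_inf.2 ⟨hNn.conj_mem m hm.1 g, mul_mem (mul_mem hg hm.2) (inv_mem hg)⟩
  have horb : ∀ x, x ≠ α → ∀ g ∈ H, ∃ m ∈ M, m • x = g • x := fun x hx =>
    ((hep.orbit_eq hM inf_le_right hMn) x hx).2
  have hmemM : ∀ {n : G}, n ∈ N → n • α = α → n ∈ M := fun hn h => ⟨hn, mem_stabilizer_iff.2 h⟩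
  have hfixM : ∀ {m : G}, m ∈ M → m • α = α := fun hm => mem_stabilizer_iff.1 hm.2
  have hmv : ∀ U, IsFactor N U → ∃ g ∈ H, U.map (MulAut.conj g).toMonoidHom ≠ U := by
    intro U hU
    by_contra hcon
    push Not at hcon
    have hUN : N ≤ U := hN.le_of_conj_le hU fun g => by
      obtain ⟨a, ha, hae⟩ := hU.exists_stabilizer_conj hNn α g
      rw [← hae, hcon a ha]
    obtain ⟨g, -, hg⟩ := hmove
    have h1 : T ≠ U ∨ T.map (MulAut.conj g).toMonoidHom ≠ U := by
      by_contra hc
      push Not at hc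
      exact hg (hc.2.trans hc.1.symm)
    rcases h1 with h1 | h1
    · exact hT.ne_bot (eq_bot_iff.2 ((le_inf le_rfl (hT.le.trans hUN)).trans
        (hT.inf_eq_bot hU h1).le))
    · exact (hT.map_conj hNn g).ne_bot (eq_bot_iff.2
        ((le_inf le_rfl ((hT.map_conj hNn g).le.trans hUN)).trans
        ((hT.map_conj hNn g).inf_eq_bot hU h1).le))
  have hcomm : ∀ {U : Subgroup G} {c a : G}, c ∈ Subgroup.centralizer (U : Set G) → a ∈ U →
      c * a = a * c := fun hc ha => (Subgroup.mem_centralizer_iff.1 hc _ ha).symm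
  -- every projection of `M` is surjective
  have hproj : ∀ U, IsFactor N U → ∀ a ∈ U, ∃ c ∈ Subgroup.centralizer (U : Set G), a * c ∈ M := by
    intro U hU
    by_contra hcon
    push Not at hcon
    obtain ⟨t, ht, htR⟩ := hcon
    let R : Subgroup G :=
      { carrier := {a | a ∈ U ∧ ∃ c ∈ Subgroup.centralizer (U : Set G), a * c ∈ M}
        one_mem' := ⟨one_mem U, 1, one_mem _, by rw [one_mul]; exact one_mem M⟩
        mul_mem' := fun {a b} ha hb => by
          obtain ⟨c, hc, hac⟩ := ha.2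
          obtain ⟨d, hd, hbd⟩ := hb.2
          refine ⟨mul_mem ha.1 hb.1, c * d, mul_mem hc hd, ?_⟩
          have := mul_mem hac hbd
          rwa [mul_assoc, ← mul_assoc c, hcomm hc hb.1, mul_assoc, ← mul_assoc] at this
        inv_mem' := fun {a} ha => by
          obtain ⟨c, hc, hac⟩ := ha.2
          refine ⟨inv_mem ha.1, c⁻¹, inv_mem hc, ?_⟩
          have := inv_mem hac
          rwa [mul_inv_rev, hcomm (inv_mem hc) (inv_mem ha.1)] at this }
    let S : Subgroup G :=
      { carrier := {n | n ∈ N ∧ ∀ g ∈ H, ∃ a ∈ R, ∃ c ∈ Subgroup.centralizer (U : Set G),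
          g * n * g⁻¹ = a * c}
        one_mem' := ⟨one_mem N, fun g _ => ⟨1, one_mem R, 1, one_mem _, by group⟩⟩
        mul_mem' := fun {x y} hx hy => ⟨mul_mem hx.1 hy.1, fun g hg => by
          obtain ⟨a, ha, c, hc, hxe⟩ := hx.2 g hg
          obtain ⟨b, hb, d, hd, hye⟩ := hy.2 g hg
          refine ⟨a * b, mul_mem ha hb, c * d, mul_mem hc hd, ?_⟩
          calc g * (x * y) * g⁻¹ = (g * x * g⁻¹) * (g * y * g⁻¹) := by group
            _ = a * (c * b) * d := by rw [hxe, hye]; group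
            _ = a * b * (c * d) := by rw [hcomm hc hb.1]; group⟩
        inv_mem' := fun {x} hx => ⟨inv_mem hx.1, fun g hg => by
          obtain ⟨a, ha, c, hc, hxe⟩ := hx.2 g hg
          refine ⟨a⁻¹, inv_mem ha, c⁻¹, inv_mem hc, ?_⟩
          rw [← conj_inv, hxe, mul_inv_rev, hcomm (inv_mem hc) (inv_mem ha.1)]⟩ }
    have hMS : M ≤ S := fun m hm => ⟨hm.1, fun g hg => by
      obtain ⟨a, ha, c, hc, he⟩ := hN.exists_eq_mul hU (hNn.conj_mem m hm.1 g)
      exact ⟨a, ⟨ha, c, hc, he ▸ hMn g hg m hm⟩, c, hc, he⟩⟩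
    have hnormS : H ≤ Subgroup.normalizer (S : Set G) := by
      refine Subgroup.le_normalizer_iff.2 fun k hk n hn => ⟨hNn.conj_mem n hn.1 k, fun g hg => ?_⟩
      obtain ⟨a, ha, c, hc, he⟩ := hn.2 (g * k) (mul_mem hg hk)
      exact ⟨a, ha, c, hc, by rw [← he]; group⟩
    have hSH : S ≤ H := by
      have hcoat := IsPreprimitive.isCoatom_stabilizer_of_isPreprimitive G α
      by_contra hnle
      have htop := hcoat.2 (S ⊔ H) (lt_of_le_of_ne le_sup_right fun h => hnle (le_trans le_sup_left h.ge))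
      have htS : t ∈ S := by
        have : t ∈ S ⊔ H := htop ▸ Subgroup.mem_top t
        rw [← SetLike.mem_coe, Subgroup.coe_mul_of_right_le_normalizer_left _ _ hnormS] at this
        obtain ⟨s, hs, g, hg, hsg⟩ := this
        have hgM : g ∈ M := by
          refine Subgroup.mem_inf.2 ⟨?_, hg⟩
          have : g = s⁻¹ * t := eq_inv_mul_iff_mul_eq.2 hsg
          rw [this]
          exact mul_mem (inv_mem hs.1) (hU.le ht)
        rw [← hsg]
        exact mul_mem hs (hMS hgM)
      obtain ⟨a, ha, c, hc, he⟩ := htS.2 1 (one_mem H)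
      rw [one_mul, inv_one, mul_one] at he
      have hat : t = a := hU.eq_of_mul_eq hN hnc ht ha.1 (one_mem _) hc (by rw [mul_one, ← he])
      obtain ⟨d, hd, had⟩ := ha.2
      exact htR d hd (hat ▸ had)
    have hRM : ∀ r ∈ R, r ∈ M := by
      intro r hr
      refine ⟨hU.le hr.1, hSH ⟨hU.le hr.1, fun g hg => ?_⟩⟩
      by_cases hgU : U.map (MulAut.conj g).toMonoidHom = U
      · obtain ⟨c, hc, hrc⟩ := hr.2
        have hin : g * r * g⁻¹ ∈ U := hgU ▸ conj_mem_map_conj hr.1
        refine ⟨g * r * g⁻¹, ⟨hin, g * c * g⁻¹, ?_, ?_⟩, 1, one_mem _, (mul_one _).symm⟩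
        · refine Subgroup.mem_centralizer_iff.2 fun u hu => ?_
          have hu' : g⁻¹ * u * g ∈ U := mem_map_conj_iff.1 (hgU.symm ▸ hu)
          calc u * (g * c * g⁻¹) = g * ((g⁻¹ * u * g) * c) * g⁻¹ := by group
            _ = g * (c * (g⁻¹ * u * g)) * g⁻¹ := by rw [hcomm hc hu']
            _ = g * c * g⁻¹ * u := by group
        · convert hMn g hg _ hrc using 1
          group
      · exact ⟨1, one_mem R, g * r * g⁻¹, Subgroup.mem_centralizer_iff.2 fun u hu =>
          hU.commute (hU.map_conj hNn g) (Ne.symm hgU) hu (conj_mem_map_conj hr.1), (one_mul _).symm⟩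
    obtain ⟨g, hg, hgU⟩ := hmv U hU
    have htα : t • α ≠ α := fun h => htR 1 (one_mem _) (by rw [mul_one]; exact hmemM (hU.le ht) h)
    obtain ⟨m, hm, hme⟩ := horb _ htα g hg
    obtain ⟨r, hr, c, hc, rfl⟩ := hN.exists_eq_mul hU hm.1
    have hrM : r ∈ M := hRM r ⟨hr, c, hc, hm⟩
    have hcM : c ∈ M := by
      have := mul_mem (inv_mem hrM) hm
      rwa [inv_mul_cancel_left] at this
    have h1 : (g * t * g⁻¹) • α = (r * t) • α := by
      calc (g * t * g⁻¹) • α = g • (t • α) := by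
            rw [mul_smul, mul_smul, inv_smul_eq_iff.2 (mem_stabilizer_iff.1 hg).symm]
        _ = (r * (c * t)) • α := by rw [← hme, ← mul_smul, mul_assoc]
        _ = (r * t) • α := by rw [hcomm hc ht, ← mul_assoc, mul_smul, hfixM hcM]
    have hy : (r * t)⁻¹ * (g * t * g⁻¹) ∈ M := by
      refine hmemM (mul_mem (inv_mem (hU.le (mul_mem hr ht)))
        (hNn.conj_mem t (hU.le ht) g)) ?_
      rw [mul_smul, inv_smul_eq_iff, h1]
    have hrt : (r * t)⁻¹ ∈ R := ⟨inv_mem (mul_mem hr ht), g * t * g⁻¹,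
      Subgroup.mem_centralizer_iff.2 fun u hu =>
        hU.commute (hU.map_conj hNn g) (Ne.symm hgU) hu (conj_mem_map_conj ht), hy⟩
    have hrR : r ∈ R := ⟨hr, c, hc, hm⟩
    have htR' : t ∈ R := by
      have := mul_mem (inv_mem hrR) (inv_mem hrt)
      rwa [inv_inv, inv_mul_cancel_left] at this
    obtain ⟨d, hd, htd⟩ := htR'.2
    exact htR d hd htd
  -- conjugation by elements of a factor is induced by `M`
  have hreal : ∀ U, IsFactor N U → ∀ a ∈ U, ∃ m ∈ M, ∀ u ∈ U, m * u * m⁻¹ = a * u * a⁻¹ := by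
    intro U hU a ha
    obtain ⟨c, hc, hac⟩ := hproj U hU a ha
    refine ⟨_, hac, fun u hu => ?_⟩
    calc a * c * u * (a * c)⁻¹ = a * (c * u * c⁻¹) * a⁻¹ := by group
      _ = a * u * a⁻¹ := by rw [hcomm hc hu, mul_inv_cancel_right]
  have hinf : ∀ U, IsFactor N U → ∀ a ∈ U, a ∈ M → a = 1 := by
    intro U hU a ha haM
    have hinv : ∀ n ∈ N, ∀ k ∈ U ⊓ M, n * k * n⁻¹ ∈ U ⊓ M := by
      intro n hn k hk
      obtain ⟨b, hb, c, hc, rfl⟩ := hN.exists_eq_mul hU hn
      have hk' : b * c * k * (b * c)⁻¹ = b * k * b⁻¹ := by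
        calc b * c * k * (b * c)⁻¹ = b * (c * k * c⁻¹) * b⁻¹ := by group
          _ = b * k * b⁻¹ := by rw [hcomm hc hk.1, mul_inv_cancel_right]
      rw [hk']
      obtain ⟨m, hm, hmc⟩ := hreal U hU b hb
      refine Subgroup.mem_inf.2 ⟨mul_mem (mul_mem hb hk.1) (inv_mem hb), ?_⟩
      rw [← hmc k hk.1]
      exact mul_mem (mul_mem hm (Subgroup.mem_inf.1 hk).2) (inv_mem hm)
    by_cases hb : U ⊓ M = ⊥
    · have : a ∈ U ⊓ M := ⟨ha, haM⟩
      rw [hb, Subgroup.mem_bot] at this
      exact this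
    exfalso
    have hUM : U ≤ M := inf_eq_left.1 (hU.minimal _ inf_le_left hb hinv)
    have hNM : N ≤ M := hN.le_of_conj_le hU fun g => by
      obtain ⟨k, hk, hke⟩ := hU.exists_stabilizer_conj hNn α g
      rw [← hke]
      rintro _ ⟨u, hu, rfl⟩
      exact hMn k hk u (hUM hu)
    exact hN.ne_bot (eq_bot_of_le_stabilizer hNn (hNM.trans inf_le_right))
  have hpair : ∀ U V, IsFactor N U → IsFactor N V → U ≠ V →
      ∀ a ∈ U, ∃ b ∈ V, a * b ∈ M := by
    intro U V hU hV hne
    let P : Subgroup G :=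
      { carrier := {a | a ∈ U ∧ ∃ b ∈ V, a * b ∈ M}
        one_mem' := ⟨one_mem U, 1, one_mem V, by rw [one_mul]; exact one_mem M⟩
        mul_mem' := fun {a a'} ha ha' => by
          obtain ⟨b, hb, hab⟩ := ha.2
          obtain ⟨b', hb', hab'⟩ := ha'.2
          refine ⟨mul_mem ha.1 ha'.1, b * b', mul_mem hb hb', ?_⟩
          have := mul_mem hab hab'
          rwa [mul_assoc, ← mul_assoc b, (hU.commute hV hne ha'.1 hb).symm.eq, mul_assoc,
            ← mul_assoc] at this
        inv_mem' := fun {a} ha => by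
          obtain ⟨b, hb, hab⟩ := ha.2
          refine ⟨inv_mem ha.1, b⁻¹, inv_mem hb, ?_⟩
          have := inv_mem hab
          rwa [mul_inv_rev, (hU.commute hV hne (inv_mem ha.1) (inv_mem hb)).symm.eq] at this }
    have hPne : P ≠ ⊥ := by
      obtain ⟨g, hg⟩ := hU.exists_conj hN hV hnc
      obtain ⟨k, hk, hke⟩ := hU.exists_stabilizer_conj hNn α g
      rw [hg] at hke
      obtain ⟨⟨t, ht⟩, ht1⟩ := Subgroup.ne_bot_iff_exists_ne_one.1 hU.ne_bot
      have ht1' : t ≠ 1 := fun h => ht1 (Subtype.ext h)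
      have htα : t • α ≠ α := fun h => ht1' (hinf U hU t ht (hmemM (hU.le ht) h))
      obtain ⟨m, hm, hme⟩ := horb _ htα k hk
      intro hPb
      have hmt : m * t * m⁻¹ ∈ U := hU.conj_mem m hm.1 t ht
      have hin : (m * t * m⁻¹)⁻¹ ∈ P := by
        refine ⟨inv_mem hmt, k * t * k⁻¹, hke ▸ conj_mem_map_conj ht, ?_⟩
        refine hmemM (mul_mem (inv_mem (hU.le hmt)) (hNn.conj_mem t (hU.le ht) k)) ?_
        rw [mul_smul, inv_smul_eq_iff, mul_smul, mul_smul, mul_smul, mul_smul,
          inv_smul_eq_iff.2 (mem_stabilizer_iff.1 hk).symm, inv_smul_eq_iff.2 (hfixM hm).symm, hme]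
      rw [hPb, Subgroup.mem_bot, inv_eq_one] at hin
      exact ht1' (conj_eq_one_iff.1 hin)
    have hinv : ∀ n ∈ N, ∀ a ∈ P, n * a * n⁻¹ ∈ P := by
      intro n hn a ha
      obtain ⟨x, hx, c, hc, rfl⟩ := hN.exists_eq_mul hU hn
      obtain ⟨m, hm, hmc⟩ := hreal U hU x hx
      obtain ⟨b, hb, hab⟩ := ha.2
      have he : x * c * a * (x * c)⁻¹ = m * a * m⁻¹ := by
        calc x * c * a * (x * c)⁻¹ = x * (c * a * c⁻¹) * x⁻¹ := by group
          _ = x * a * x⁻¹ := by rw [hcomm hc ha.1, mul_inv_cancel_right]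
          _ = _ := (hmc a ha.1).symm
      rw [he]
      refine ⟨hU.conj_mem m hm.1 a ha.1, m * b * m⁻¹, hV.conj_mem m hm.1 b hb, ?_⟩
      convert mul_mem (mul_mem hm hab) (inv_mem hm) using 1
      group
    have hPU := hU.minimal P (fun a ha => ha.1) hPne hinv
    intro a ha
    exact (hPU ▸ ha : a ∈ P).2
  obtain ⟨h₁, hh₁, hh₁T⟩ := hmove
  set T' := T.map (MulAut.conj h₁).toMonoidHom with hT'def
  have hT' : IsFactor N T' := hT.map_conj hNn h₁
  have hTnc := hN.not_commutative_factor hT hnc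
  -- there are just two factors
  have htwo : ∀ V, IsFactor N V → V = T ∨ V = T' := by
    intro V hV
    by_contra hcon
    push Not at hcon
    apply hTnc
    refine ⟨⟨fun a b => Subtype.ext ?_⟩⟩
    show (a : G) * b = b * a
    obtain ⟨a', ha', haM⟩ := hpair T T' hT hT' hh₁T.symm a a.2
    obtain ⟨b', hb', hbM⟩ := hpair T V hT hV hcon.1.symm b b.2
    have c1 : Commute a' (b : G) := (hT.commute hT' hh₁T.symm b.2 ha').symm
    have c2 : Commute b' (a : G) := (hT.commute hV hcon.1.symm a.2 hb').symm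
    have c3 : Commute a' b' := hT'.commute hV hcon.2.symm ha' hb'
    have c4 : Commute a' ((a : G)⁻¹) := (hT.commute hT' hh₁T.symm a.2 ha').symm.inv_right
    have c5 : Commute b' ((b : G)⁻¹) := (hT.commute hV hcon.1.symm b.2 hb').symm.inv_right
    have hmemc : (a : G) * b * (a : G)⁻¹ * (b : G)⁻¹ ∈ M := by
      have h0 := mul_mem (mul_mem (mul_mem haM hbM) (inv_mem haM)) (inv_mem hbM)
      have : (a : G) * a' * (b * b') * ((a : G) * a')⁻¹ * ((b : G) * b')⁻¹ =
          a * b * (a : G)⁻¹ * (b : G)⁻¹ := by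
        calc (a : G) * a' * (b * b') * ((a : G) * a')⁻¹ * ((b : G) * b')⁻¹
            = a * (a' * b) * b' * a'⁻¹ * (a : G)⁻¹ * b'⁻¹ * (b : G)⁻¹ := by group
          _ = a * b * (a' * b') * a'⁻¹ * (a : G)⁻¹ * b'⁻¹ * (b : G)⁻¹ := by rw [c1.eq]; group
          _ = a * b * (b' * (a : G)⁻¹) * b'⁻¹ * (b : G)⁻¹ := by rw [c3.eq]; group
          _ = a * b * (a : G)⁻¹ * (b : G)⁻¹ := by rw [c2.inv_right.eq]; group
      rwa [this] at h0
    have := hinf T hT _ (mul_mem (mul_mem (mul_mem a.2 b.2) (inv_mem a.2)) (inv_mem b.2)) hmemc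
    calc (a : G) * b = a * b * (a : G)⁻¹ * (b : G)⁻¹ * (b * a) := by group
      _ = b * a := by rw [this, one_mul]
  -- so `T` is regular
  have hNTM : N ≤ T ⊔ M := hN.le_of_conj_le hT fun g => by
    rcases htwo _ (hT.map_conj hNn g) with he | he
    · rw [he]; exact le_sup_left
    · rw [he]
      intro a ha
      obtain ⟨b, hb, hab⟩ := hpair T' T hT' hT hh₁T a ha
      have := mul_mem (Subgroup.mem_sup_right hab : a * b ∈ T ⊔ M)
        (Subgroup.mem_sup_left (inv_mem hb))
      rwa [mul_inv_cancel_right] at this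
  have hnormM : M ≤ Subgroup.normalizer (T : Set G) := inf_le_left.trans hT.le_normalizer
  have hbij : Function.Bijective fun t : T => (t : G) • α := by
    constructor
    · intro a b hab
      have hab' : (a : G) • α = (b : G) • α := hab
      have := hinf T hT ((b : G)⁻¹ * a) (mul_mem (inv_mem b.2) a.2)
        (hmemM (hT.le (mul_mem (inv_mem b.2) a.2)) (by rw [mul_smul, hab', inv_smul_smul]))
      exact Subtype.ext (inv_mul_eq_one.1 this).symm
    · intro x
      obtain ⟨n, rfl⟩ := exists_smul_eq N α x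
      have := hNTM n.2
      rw [← SetLike.mem_coe, Subgroup.coe_mul_of_right_le_normalizer_left _ _ hnormM] at this
      obtain ⟨t, ht, m, hm, htm⟩ := this
      refine ⟨⟨t, ht⟩, ?_⟩
      show t • α = (n : G) • α
      rw [← htm, mul_smul, hfixM hm]
  let e : T ≃ Ω := Equiv.ofBijective _ hbij
  refine false_of_regular_simple (H := H) (hN.isSimpleGroup_factor hT) hTnc e ?_ ?_ ?_
  · intro k a b hab
    set u := e.symm (k • e a)
    set v := e.symm (k • e b)
    have hkinv : (k : G)⁻¹ • α = α := inv_smul_eq_iff.2 (mem_stabilizer_iff.1 k.2).symm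
    have hu : ((k : G) * a * (k : G)⁻¹) • α = (u : G) • α := by
      show _ = e u
      rw [Equiv.apply_symm_apply, mul_smul, mul_smul, hkinv]
      rfl
    have hv : ((k : G) * b * (k : G)⁻¹) • α = (v : G) • α := by
      show _ = e v
      rw [Equiv.apply_symm_apply, mul_smul, mul_smul, hkinv]
      rfl
    show (k : G) • ((a * b : T) : G) • α = ((u * v : T) : G) • α
    rw [Subgroup.coe_mul, Subgroup.coe_mul]
    by_cases hkT : T.map (MulAut.conj (k : G)).toMonoidHom = T
    · have hin : ∀ z : T, (k : G) * z * (k : G)⁻¹ ∈ T := fun z =>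
        hkT.le (conj_mem_map_conj z.2)
      have hu' : (⟨_, hin a⟩ : T) = u := e.injective hu
      have hv' : (⟨_, hin b⟩ : T) = v := e.injective hv
      rw [← hu', ← hv']
      show _ = (((k : G) * a * (k : G)⁻¹) * ((k : G) * b * (k : G)⁻¹)) • α
      rw [show ((k : G) * a * (k : G)⁻¹) * ((k : G) * b * (k : G)⁻¹) =
          (k : G) * ((a : G) * b) * (k : G)⁻¹ by group, mul_smul _ ((k : G)⁻¹), hkinv,
        mul_smul (k : G)]
    · -- `k` interchanges the two factors and acts as an antiautomorphism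
      have hV := hT.map_conj hNn (k : G)
      set a' := (k : G) * a * (k : G)⁻¹
      set b' := (k : G) * b * (k : G)⁻¹
      have ha' : a' ∈ T.map (MulAut.conj (k : G)).toMonoidHom := conj_mem_map_conj a.2
      have hb' : b' ∈ T.map (MulAut.conj (k : G)).toMonoidHom := conj_mem_map_conj b.2
      have h1 : (u : G)⁻¹ * a' ∈ M :=
        hmemM (mul_mem (inv_mem (hT.le u.2)) (hV.le ha')) (by rw [mul_smul, hu, inv_smul_smul])
      have h2 : (v : G)⁻¹ * b' ∈ M :=
        hmemM (mul_mem (inv_mem (hT.le v.2)) (hV.le hb')) (by rw [mul_smul, hv, inv_smul_smul])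
      have hc : Commute ((u : G)⁻¹) b' := (hT.commute hV (Ne.symm hkT) (inv_mem u.2) hb')
      have h3 : ((u : G) * v)⁻¹ * (b' * a') ∈ M := by
        have := mul_mem h2 h1
        have he : (v : G)⁻¹ * b' * ((u : G)⁻¹ * a') = ((u : G) * v)⁻¹ * (b' * a') := by
          calc (v : G)⁻¹ * b' * ((u : G)⁻¹ * a') = (v : G)⁻¹ * (b' * (u : G)⁻¹) * a' := by group
            _ = _ := by rw [← hc.eq]; group
        rwa [he] at this
      have := hfixM h3
      rw [mul_smul, inv_smul_eq_iff] at this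
      rw [← this]
      have hab' : (a : G) * b = b * a := congrArg Subtype.val hab.eq
      rw [show b' * a' = (k : G) * ((a : G) * b) * (k : G)⁻¹ by rw [hab']; simp only [a', b']; group,
        mul_smul _ ((k : G)⁻¹), hkinv, mul_smul (k : G)]
  · intro t
    obtain ⟨m, hm, hmc⟩ := hreal T hT t t.2
    refine ⟨⟨m, hm.2⟩, fun u => ?_⟩
    show m • (u : G) • α = ((t * u * t⁻¹ : T) : G) • α
    rw [Subgroup.coe_mul, Subgroup.coe_mul, Subgroup.coe_inv, ← hmc u u.2, mul_smul, mul_smul,
      inv_smul_eq_iff.2 (hfixM hm).symm]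
  · intro t ht
    refine hep.isCoatom hα fun h => ht ?_
    exact hbij.1 (show (t : G) • α = ((1 : T) : G) • α by rw [Subgroup.coe_one, one_smul]; exact h)

/-- An extremely primitive group is affine or almost simple. -/
theorem IsExtremelyPrim.affine_or_almostSimple (hep : IsExtremelyPrim G Ω) (hΩ : 2 ≤ Nat.card Ω) :
    (∃ N : Subgroup G, N.Normal ∧ N ≠ ⊥ ∧ IsMulCommutative N ∧
      ∀ ω : Ω, stabilizer N ω = ⊥) ∨
    (∃ T : Subgroup G, T.Normal ∧ IsSimpleGroup T ∧ ¬ IsMulCommutative T ∧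
      Subgroup.centralizer (T : Set G) = ⊥) := by
  classical
  have : Nontrivial Ω := Finite.one_lt_card_iff_nontrivial.1 hΩ
  have : Nontrivial G := by
    by_contra hG
    rw [not_nontrivial_iff_subsingleton] at hG
    obtain ⟨a, b, hab⟩ := exists_pair_ne Ω
    obtain ⟨g, hg⟩ := exists_smul_eq G a b
    exact hab (by rw [← hg, Subsingleton.elim g 1, one_smul])
  obtain ⟨α⟩ := (inferInstance : Nonempty Ω)
  by_cases hab : ∃ N : Subgroup G, N.Normal ∧ N ≠ ⊥ ∧ IsMulCommutative N
  · obtain ⟨N, hNn, hN1, hNc⟩ := hab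
    have := isPretransitive_of_normal (Ω := Ω) hNn hN1
    exact Or.inl ⟨N, hNn, hN1, hNc, fun ω => stabilizer_eq_bot_of_abelian hNc ω⟩
  push Not at hab
  obtain ⟨N, hN⟩ := exists_isMinNormal (G := G)
  have hnc := hab N hN.normal hN.ne_bot
  have hNn := hN.normal
  have hα : stabilizer G α ≠ ⊥ := by
    intro hb
    have hmax := IsPreprimitive.isCoatom_stabilizer_of_isPreprimitive G α
    rw [hb] at hmax
    obtain ⟨g, hg⟩ := exists_ne (1 : G)
    have htop : Subgroup.zpowers g = ⊤ :=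
      hmax.2 _ (bot_lt_iff_ne_bot.2 (Subgroup.zpowers_ne_bot.2 hg))
    refine hab ⊤ inferInstance top_ne_bot ?_
    rw [← htop]
    infer_instance
  have : IsPretransitive N Ω := isPretransitive_of_normal hNn hN.ne_bot
  obtain ⟨T, hT⟩ := exists_isFactor hN.ne_bot
  by_cases hmove : ∃ h ∈ stabilizer G α, T.map (MulAut.conj h).toMonoidHom ≠ T
  · exfalso
    by_cases hM : N ⊓ stabilizer G α = ⊥
    · refine hep.false_of_regular hα hN hnc hT hmove fun n hn he => ?_
      rw [← Subgroup.mem_bot, ← hM]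
      exact ⟨hn, mem_stabilizer_iff.2 he⟩
    · exact hep.false_of_not_regular hα hN hnc hT hmove hM
  push Not at hmove
  have hTN : T = N := by
    refine le_antisymm hT.le (hN.le_of_conj_le hT fun g => ?_)
    obtain ⟨a, ha, hae⟩ := hT.exists_stabilizer_conj hNn α g
    rw [← hae, hmove a ha]
  subst hTN
  have hTs := hN.isSimpleGroup_factor hT
  by_cases hC : Subgroup.centralizer (T : Set G) = ⊥
  · exact Or.inr ⟨T, hNn, hTs, hnc, hC⟩
  exfalso
  have hCn : (Subgroup.centralizer (T : Set G)).Normal := inferInstance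
  have := isPretransitive_of_normal (Ω := Ω) hCn hC
  have hbij : Function.Bijective fun t : T => (t : G) • α := by
    constructor
    · intro a b hab'
      by_contra hne
      have h1 : ((b : G)⁻¹ * a) ≠ 1 := fun h => hne (Subtype.ext (inv_mul_eq_one.1 h).symm)
      refine isDerangement_of_centralizes (C := Subgroup.centralizer (T : Set G)) (Ω := Ω) h1
        (fun c hc => (Subgroup.mem_centralizer_iff.1 hc _ (mul_mem (inv_mem b.2) a.2)).symm) α ?_
      rw [mul_smul, show (a : G) • α = (b : G) • α from hab', inv_smul_smul]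
    · intro x
      exact exists_smul_eq T α x
  let e : T ≃ Ω := Equiv.ofBijective _ hbij
  refine false_of_regular_simple (H := stabilizer G α) hTs hnc e ?_ ?_ ?_
  · intro k a b _
    have hkinv : (k : G)⁻¹ • α = α := inv_smul_eq_iff.2 (mem_stabilizer_iff.1 k.2).symm
    have hin : ∀ z : T, (k : G) * z * (k : G)⁻¹ ∈ T := fun z => hNn.conj_mem z z.2 k
    have hs : ∀ z : T, e.symm (k • e z) = ⟨_, hin z⟩ := fun z => by
      rw [Equiv.symm_apply_eq]
      show (k : G) • (z : G) • α = ((k : G) * z * (k : G)⁻¹) • α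
      rw [mul_smul, mul_smul, hkinv]
    rw [hs, hs]
    show (k : G) • ((a : G) * b) • α = (((k : G) * a * (k : G)⁻¹) * ((k : G) * b * (k : G)⁻¹)) • α
    rw [show ((k : G) * a * (k : G)⁻¹) * ((k : G) * b * (k : G)⁻¹) =
        (k : G) * ((a : G) * b) * (k : G)⁻¹ by group, mul_smul _ ((k : G)⁻¹), hkinv,
      mul_smul (k : G)]
  · intro t
    obtain ⟨c, hc⟩ := exists_smul_eq (Subgroup.centralizer (T : Set G)) α ((t : G)⁻¹ • α)
    refine ⟨⟨t * c, ?_⟩, fun u => ?_⟩
    · rw [mem_stabilizer_iff, mul_smul, ← Subgroup.smul_def c, hc, smul_inv_smul]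
    · show ((t : G) * c) • (u : G) • α = ((t * u * t⁻¹ : T) : G) • α
      have hcu : (c : G) * u = u * c := (Subgroup.mem_centralizer_iff.1 c.2 u u.2).symm
      rw [Subgroup.coe_mul, Subgroup.coe_mul, Subgroup.coe_inv, ← mul_smul, mul_assoc, hcu,
        ← mul_assoc, mul_smul, ← Subgroup.smul_def c, hc, ← mul_smul]
  · intro t ht
    refine hep.isCoatom hα fun h => ht ?_
    exact hbij.1 (show (t : G) • α = ((1 : T) : G) • α by rw [Subgroup.coe_one, one_smul]; exact h)

end Cfsg.Agent.Recog
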