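import Mathlib

/-!
# Fixed-point-free actions on elementary abelian groups
-/

namespace Cfsg.Agent.Recog

variable {p : ℕ} [Fact p.Prime] {V : Type*} [AddCommGroup V] [Module (ZMod p) V] [Finite V]
  {q : ℕ} [Fact q.Prime]

open Module

/-- Two commuting automorphisms of prime order `q ≠ p`, all whose non-trivial products act without
fixed points, do not exist on a non-zero space. -/
theorem exists_fixed_of_rank_two (hqp : q ≠ p) [Nontrivial V] {A B : Module.End (ZMod p) V}
    (hc : Commute A B) (hA : A ^ q = 1) (hB : B ^ q = 1) :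
    ∃ v : V, v ≠ 0 ∧ (B v = v ∨ ∃ j : ℕ, (A * B ^ j) v = v) := by
  classical
  by_contra hcon
  push Not at hcon
  have key : ∀ C : Module.End (ZMod p) V, C ^ q = 1 → (∀ v : V, v ≠ 0 → C v ≠ v) →
      ∑ i ∈ Finset.range q, C ^ i = 0 := by
    intro C hC hfree
    apply LinearMap.ext
    intro v
    rw [LinearMap.zero_apply]
    by_contra hne
    refine hfree _ hne ?_
    have h := mul_geom_sum C q
    rw [hC, sub_self, sub_mul, one_mul, sub_eq_zero] at h
    rw [← Module.End.mul_apply, h]
  have h1 : ∀ j : ℕ, ∑ i ∈ Finset.range q, (A * B ^ j) ^ i = 0 := fun j =>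
    key _ (by rw [(hc.pow_right j).mul_pow, hA, ← pow_mul, mul_comm j q, pow_mul, hB, one_pow,
      one_mul]) fun v hv => (hcon v hv).2 j
  have hBfree : ∀ v : V, v ≠ 0 → B v ≠ v := fun v hv => (hcon v hv).1
  have h2 : ∀ i : ℕ, 0 < i → i < q → ∑ j ∈ Finset.range q, (B ^ i) ^ j = 0 := by
    intro i hi hiq
    refine key _ (by rw [← pow_mul, mul_comm, pow_mul, hB, one_pow]) fun v hv hfix => hBfree v hv ?_
    have hq : q.Prime := Fact.out
    have hcop : Nat.Coprime i q :=
      ((hq.coprime_iff_not_dvd).2 (Nat.not_dvd_of_pos_of_lt hi hiq)).symm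
    obtain ⟨k, -, hk⟩ := Nat.exists_mul_mod_eq_one_of_coprime hcop hq.one_lt
    have hBk : (B ^ i) ^ k = B := by
      rw [← pow_mul, ← Nat.div_add_mod (i * k) q, hk, pow_add, pow_mul, hB, one_pow, one_mul,
        pow_one]
    have : ∀ n : ℕ, ((B ^ i) ^ n) v = v := by
      intro n
      induction n with
      | zero => simp
      | succ n ih => rw [pow_succ, Module.End.mul_apply, hfix, ih]
    have := this k
    rwa [hBk] at this
  have h3 : (q : Module.End (ZMod p) V) = 0 := by
    have hsum : ∑ j ∈ Finset.range q, ∑ i ∈ Finset.range q, A ^ i * (B ^ i) ^ j = 0 := by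
      refine Finset.sum_eq_zero fun j _ => ?_
      rw [← h1 j]
      refine Finset.sum_congr rfl fun i _ => ?_
      rw [(hc.pow_right j).mul_pow, ← pow_mul, ← pow_mul, mul_comm]
    rw [Finset.sum_comm] at hsum
    rw [Finset.sum_eq_single 0] at hsum
    · simpa using hsum
    · intro i hi h0
      rw [← Finset.mul_sum, h2 i (Nat.pos_of_ne_zero h0) (Finset.mem_range.1 hi), mul_zero]
    · intro h0
      exact absurd (Finset.mem_range.2 (Fact.out : q.Prime).pos) h0
  obtain ⟨v, hv⟩ := exists_ne (0 : V)
  have h4 : (q : ZMod p) • v = 0 := by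
    rw [Nat.cast_smul_eq_nsmul, ← Module.End.natCast_apply (R := ZMod p), h3, LinearMap.zero_apply]
  rcases smul_eq_zero.1 h4 with h | h
  · rw [ZMod.natCast_eq_zero_iff] at h
    first
      | exact hqp ((Nat.prime_dvd_prime_iff_eq Fact.out Fact.out).1 h).symm
      | exact hqp ((Nat.prime_dvd_prime_iff_eq Fact.out Fact.out).1 h)
  · exact hv h

variable [Nontrivial V]

/-- An automorphism of order `q` leaving no proper non-zero subspace invariant: `q` is a primitive
divisor of `p ^ d - 1`, and the group of automorphisms normalising it without meeting its centraliser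
is cyclic of order dividing `d`. -/
theorem irreducible_cyclic {A : Module.End (ZMod p) V} (hA : A ^ q = 1) (hA1 : A ≠ 1)
    (hirr : ∀ W : Submodule (ZMod p) V, (∀ w ∈ W, A w ∈ W) → W = ⊥ ∨ W = ⊤)
    {K : Type*} [Group K] (ρ : K →* Module.End (ZMod p) V)
    (hnorm : ∀ k : K, ∃ a : ℕ, ρ k * A = A ^ a * ρ k)
    (hcent : ∀ k : K, Commute (ρ k) A → k = 1) :
    (∀ i : ℕ, 0 < i → i < finrank (ZMod p) V → ¬ q ∣ p ^ i - 1) ∧
      IsCyclic K ∧ Nat.card K ∣ finrank (ZMod p) V := by
  classical
  set R := Algebra.adjoin (ZMod p) ({A} : Set (Module.End (ZMod p) V)) with hR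
  have hAR : A ∈ R := Algebra.subset_adjoin (Set.mem_singleton A)
  have hcommA : ∀ r ∈ R, Commute r A := by
    intro r hr
    induction hr using Algebra.adjoin_induction with
    | mem x hx => rw [Set.mem_singleton_iff] at hx; rw [hx]
    | algebraMap c => exact Algebra.commute_algebraMap_left c A
    | add x y _ _ hx hy => exact hx.add_left hy
    | mul x y _ _ hx hy => exact hx.mul_left hy
  have hcommR : ∀ r ∈ R, ∀ s ∈ R, Commute s r := by
    intro r hr s hs
    induction hs using Algebra.adjoin_induction with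
    | mem x hx => rw [Set.mem_singleton_iff] at hx; rw [hx]; exact (hcommA r hr).symm
    | algebraMap c => exact Algebra.commute_algebraMap_left c r
    | add x y _ _ hx hy => exact hx.add_left hy
    | mul x y _ _ hx hy => exact hx.mul_left hy
  let _ : CommRing R := { (inferInstance : Ring R) with
    mul_comm := fun a b => Subtype.ext (hcommR b b.2 a a.2) }
  have hinj : ∀ r : R, r ≠ 0 → Function.Injective (r : Module.End (ZMod p) V) := by
    intro r hr
    rcases hirr (LinearMap.ker (r : Module.End (ZMod p) V)) (fun w hw => by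
        rw [LinearMap.mem_ker] at hw ⊢
        rw [← Module.End.mul_apply, (hcommA r r.2).eq, Module.End.mul_apply, hw, map_zero]) with h | h
    · exact LinearMap.ker_eq_bot.1 h
    · exact absurd (Subtype.ext (LinearMap.ker_eq_top.1 h)) hr
  have : Finite R := Finite.of_injective (fun r : R => ((r : Module.End (ZMod p) V) : V → V))
    fun a b h => Subtype.ext (DFunLike.coe_injective h)
  have : NoZeroDivisors R := ⟨fun {a b} hab => by
    by_contra hcon
    push Not at hcon
    refine hcon.2 (Subtype.ext (LinearMap.ext fun v => hinj a hcon.1 ?_))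
    have := LinearMap.congr_fun (congrArg Subtype.val hab) v
    simpa [Module.End.mul_apply] using this⟩
  have : Nontrivial R := ⟨⟨0, 1, fun h => by
    obtain ⟨v, hv⟩ := exists_ne (0 : V)
    exact hv (by simpa using (LinearMap.congr_fun (congrArg Subtype.val h) v).symm)⟩⟩
  have : IsDomain R := NoZeroDivisors.to_isDomain R
  let _ : Field R := (Finite.isField_of_domain R).toField
  have hrank : finrank (ZMod p) R = finrank (ZMod p) V := by
    obtain ⟨v, hv⟩ := exists_ne (0 : V)
    let ev : R →ₗ[ZMod p] V :=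
      { toFun := fun r => (r : Module.End (ZMod p) V) v
        map_add' := fun a b => rfl
        map_smul' := fun c a => rfl }
    refine (LinearEquiv.ofBijective ev ⟨?_, ?_⟩).finrank_eq
    · intro a b hab
      by_contra hne
      have h1 : ((a - b : R) : Module.End (ZMod p) V) v = ((a - b : R) : Module.End (ZMod p) V) 0 := by
        rw [map_zero]
        show (a : Module.End (ZMod p) V) v - (b : Module.End (ZMod p) V) v = 0
        rw [sub_eq_zero]
        exact hab
      exact hv (hinj _ (sub_ne_zero.2 hne) h1)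
    · rw [← LinearMap.range_eq_top]
      refine (hirr _ ?_).resolve_left ?_
      · rintro w ⟨r, rfl⟩
        exact ⟨⟨A, hAR⟩ * r, rfl⟩
      · intro h
        have : v ∈ LinearMap.range ev := ⟨1, rfl⟩
        rw [h, Submodule.mem_bot] at this
        exact hv this
  have : Algebra.IsAlgebraic (ZMod p) R := Algebra.IsAlgebraic.of_finite (ZMod p) R
  let a : R := ⟨A, hAR⟩
  have hgen : ∀ f g : R ≃ₐ[ZMod p] R, f a = g a → f = g := by
    intro f g hfg
    have : ∀ r (hr : r ∈ R), f ⟨r, hr⟩ = g ⟨r, hr⟩ := by
      intro r hr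
      induction hr using Algebra.adjoin_induction with
      | mem x hx =>
        rw [Set.mem_singleton_iff] at hx
        subst hx
        exact hfg
      | algebraMap c =>
        exact (f.commutes c).trans (g.commutes c).symm
      | add x y hx hy ihx ihy =>
        rw [show (⟨x + y, _⟩ : R) = ⟨x, hx⟩ + ⟨y, hy⟩ from rfl, map_add, map_add, ihx, ihy]
      | mul x y hx hy ihx ihy =>
        rw [show (⟨x * y, _⟩ : R) = ⟨x, hx⟩ * ⟨y, hy⟩ from rfl, map_mul, map_mul, ihx, ihy]
    exact AlgEquiv.ext fun r => this r r.2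
  have hord := FiniteField.orderOf_frobeniusAlgEquivOfAlgebraic (ZMod p) R
  rw [hrank] at hord
  constructor
  · intro i hi hid hdvd
    set φ := FiniteField.frobeniusAlgEquivOfAlgebraic (ZMod p) R with hφ
    have hφa : (φ ^ i) a = a := by
      rw [AlgEquiv.coe_pow, hφ, FiniteField.coe_frobeniusAlgEquivOfAlgebraic, pow_iterate,
        ZMod.card]
      obtain ⟨c, hc⟩ := hdvd
      have hpi : p ^ i = q * c + 1 := by
        have : 0 < p ^ i := pow_pos (Fact.out : p.Prime).pos i
        omega
      have haq : a ^ q = 1 := Subtype.ext hA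
      show a ^ p ^ i = a
      rw [hpi, pow_succ, pow_mul, haq, one_pow, one_mul]
    have : φ ^ i = 1 := hgen _ _ hφa
    have := Nat.le_of_dvd hi (orderOf_dvd_of_pow_eq_one this)
    omega
  · have hinv : ∀ k : K, ρ k⁻¹ * ρ k = 1 ∧ ρ k * ρ k⁻¹ = 1 := fun k => by
      rw [← map_mul, ← map_mul, inv_mul_cancel, mul_inv_cancel, map_one]; exact ⟨rfl, rfl⟩
    have hmem : ∀ k : K, ∀ r ∈ R, ρ k * r * ρ k⁻¹ ∈ R := by
      intro k r hr
      induction hr using Algebra.adjoin_induction with
      | mem x hx =>
        rw [Set.mem_singleton_iff] at hx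
        subst hx
        obtain ⟨n, hn⟩ := hnorm k
        rw [hn, mul_assoc, (hinv k).2, mul_one]
        exact pow_mem hAR n
      | algebraMap c =>
        rw [← (Algebra.commute_algebraMap_left c (ρ k)).eq, mul_assoc, (hinv k).2, mul_one]
        exact R.algebraMap_mem c
      | add x y _ _ ihx ihy => rw [mul_add, add_mul]; exact add_mem ihx ihy
      | mul x y _ _ ihx ihy =>
        have : ρ k * (x * y) * ρ k⁻¹ = (ρ k * x * ρ k⁻¹) * (ρ k * y * ρ k⁻¹) := by
          calc ρ k * (x * y) * ρ k⁻¹ = ρ k * x * (ρ k⁻¹ * ρ k) * y * ρ k⁻¹ := by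
                rw [(hinv k).1, mul_one, ← mul_assoc (ρ k) x y]
            _ = _ := by simp only [mul_assoc]
        rw [this]
        exact mul_mem ihx ihy
    let f : K → R → R := fun k r => ⟨_, hmem k r r.2⟩
    have hff : ∀ k r, f k⁻¹ (f k r) = r := fun k r => Subtype.ext (by
      show ρ k⁻¹ * (ρ k * (r : Module.End (ZMod p) V) * ρ k⁻¹) * ρ k⁻¹⁻¹ = r
      rw [inv_inv]
      calc _ = (ρ k⁻¹ * ρ k) * (r : Module.End (ZMod p) V) * (ρ k⁻¹ * ρ k) := by simp only [mul_assoc]
        _ = _ := by rw [(hinv k).1, one_mul, mul_one])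
    let σ : K → (R ≃ₐ[ZMod p] R) := fun k =>
      { toFun := f k
        invFun := f k⁻¹
        left_inv := hff k
        right_inv := fun r => by
          have := hff k⁻¹ r
          rwa [inv_inv] at this
        map_mul' := fun r s => Subtype.ext (by
          show ρ k * ((r : Module.End (ZMod p) V) * s) * ρ k⁻¹ =
            (ρ k * r * ρ k⁻¹) * (ρ k * s * ρ k⁻¹)
          calc _ = ρ k * r * (ρ k⁻¹ * ρ k) * (s : Module.End (ZMod p) V) * ρ k⁻¹ := by
                rw [(hinv k).1, mul_one, ← mul_assoc (ρ k)]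
            _ = _ := by simp only [mul_assoc])
        map_add' := fun r s => Subtype.ext (by
          show ρ k * ((r : Module.End (ZMod p) V) + s) * ρ k⁻¹ =
            ρ k * r * ρ k⁻¹ + ρ k * s * ρ k⁻¹
          rw [mul_add, add_mul])
        commutes' := fun c => Subtype.ext (by
          show ρ k * algebraMap (ZMod p) (Module.End (ZMod p) V) c * ρ k⁻¹ = algebraMap (ZMod p) _ c
          rw [← (Algebra.commute_algebraMap_left c (ρ k)).eq, mul_assoc, (hinv k).2, mul_one]) }
    let Φ : K →* (R ≃ₐ[ZMod p] R) :=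
      { toFun := σ
        map_one' := AlgEquiv.ext fun r => Subtype.ext (by
          show ρ 1 * (r : Module.End (ZMod p) V) * ρ 1⁻¹ = r
          rw [inv_one, map_one, one_mul, mul_one])
        map_mul' := fun k l => AlgEquiv.ext fun r => Subtype.ext (by
          show ρ (k * l) * (r : Module.End (ZMod p) V) * ρ (k * l)⁻¹ =
            ρ k * (ρ l * r * ρ l⁻¹) * ρ k⁻¹
          rw [mul_inv_rev, map_mul, map_mul]
          simp only [mul_assoc]) }
    have hΦ : Function.Injective Φ := by
      rw [injective_iff_map_eq_one]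
      intro k hk
      refine hcent k ?_
      have h1 : ρ k * A * ρ k⁻¹ = A := congrArg Subtype.val (AlgEquiv.congr_fun hk a)
      calc ρ k * A = ρ k * A * (ρ k⁻¹ * ρ k) := by rw [(hinv k).1, mul_one]
        _ = A * ρ k := by rw [← mul_assoc, h1]
    have hcard : Nat.card (R ≃ₐ[ZMod p] R) = finrank (ZMod p) V := by
      rw [← hrank, ← Nat.card_eq_of_bijective _
        (FiniteField.bijective_frobeniusAlgEquivOfAlgebraic_pow (ZMod p) R), Nat.card_eq_fintype_card,
        Fintype.card_fin]
    exact ⟨isCyclic_of_injective Φ hΦ, hcard ▸ Subgroup.card_dvd_of_injective Φ hΦ⟩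

end Cfsg.Agent.Recog
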