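import Mathlib

/-! A solvable group with element orders `1, 2, 3, 4, 5, 6, 9, 12`:
`A ⋊ (5 : 4)` with `A` a 3-group of class three over the field with 81 elements. -/

set_option autoImplicit false
set_option linter.unusedSimpArgs false

namespace Cfsg.Agent.Recog.FiveTwoFrobenius

instance : Fact (Nat.Prime 3) := ⟨Nat.prime_three⟩

abbrev F := GaloisField 3 4

theorem card_F : Nat.card F = 81 := GaloisField.card 3 4 (by norm_num)

theorem pow_81 (a : F) : a ^ 81 = a := by
  letI := Fintype.ofFinite F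
  have := FiniteField.pow_card a
  rwa [← Nat.card_eq_fintype_card, card_F] at this

theorem f3 (a b : F) : (a + b) ^ 3 = a ^ 3 + b ^ 3 := add_pow_char a b 3

theorem f9 (a b : F) : (a + b) ^ 9 = a ^ 9 + b ^ 9 := add_pow_char_pow a b 3 2

theorem g3 (a : F) : (-a) ^ 3 = -(a ^ 3) := Odd.neg_pow (by decide) a

theorem g9 (a : F) : (-a) ^ 9 = -(a ^ 9) := Odd.neg_pow (by decide) a

theorem three : (3 : F) = 0 := CharP.cast_eq_zero F 3

theorem exists_gen : ∃ g : F, g ≠ 0 ∧ orderOf g = 80 := by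
  letI := Fintype.ofFinite F
  obtain ⟨u, hu⟩ := IsCyclic.exists_ofOrder_eq_natCard (α := Fˣ)
  exact ⟨u, u.ne_zero, by rw [orderOf_units, hu, Nat.card_units, card_F]⟩

noncomputable def gen : F := exists_gen.choose

theorem gen_spec : gen ≠ 0 ∧ orderOf gen = 80 := exists_gen.choose_spec

/-! ### The kernel -/

@[ext]
structure A where
  x : F
  y : F
  P : F
  Q : F
  R : F
  S : F
  T : F

namespace A

noncomputable instance : One A := ⟨⟨0, 0, 0, 0, 0, 0, 0⟩⟩

noncomputable instance : Mul A := ⟨fun a b => ⟨a.x + b.x, a.y + b.y, a.P + b.P + a.x * b.x ^ 3, a.Q + b.Q + a.x ^ 3 * b.y ^ 9,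
  a.R + b.R - a.x ^ 9 * b.x ^ 3, a.S + b.S + a.x ^ 3 * b.y,
  a.T + b.T + a.x * b.Q + a.P * b.y ^ 9 - a.x ^ 9 * b.S + a.R * b.y⟩⟩

noncomputable instance : Inv A := ⟨fun a => ⟨-a.x, -a.y, -a.P + a.x ^ 4, -a.Q + a.x ^ 3 * a.y ^ 9, -a.R - a.x ^ 12,
  -a.S + a.x ^ 3 * a.y, -a.T + a.x * a.Q - a.x ^ 4 * a.y ^ 9 + a.P * a.y ^ 9 - a.x ^ 9 * a.S + a.x ^ 12 * a.y + a.R * a.y⟩⟩

theorem one_def : (1 : A) = ⟨0, 0, 0, 0, 0, 0, 0⟩ := rfl

theorem mul_def (a b : A) : a * b = ⟨a.x + b.x, a.y + b.y, a.P + b.P + a.x * b.x ^ 3, a.Q + b.Q + a.x ^ 3 * b.y ^ 9,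
  a.R + b.R - a.x ^ 9 * b.x ^ 3, a.S + b.S + a.x ^ 3 * b.y,
  a.T + b.T + a.x * b.Q + a.P * b.y ^ 9 - a.x ^ 9 * b.S + a.R * b.y⟩ := rfl

theorem inv_def (a : A) : a⁻¹ = ⟨-a.x, -a.y, -a.P + a.x ^ 4, -a.Q + a.x ^ 3 * a.y ^ 9, -a.R - a.x ^ 12,
  -a.S + a.x ^ 3 * a.y, -a.T + a.x * a.Q - a.x ^ 4 * a.y ^ 9 + a.P * a.y ^ 9 - a.x ^ 9 * a.S + a.x ^ 12 * a.y + a.R * a.y⟩ := rfl

noncomputable instance : Group A := Group.ofLeftAxioms
  (fun a b c => by ext <;> simp only [mul_def, f3, f9] <;> ring)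
  (fun a => by ext <;> simp [mul_def, one_def])
  (fun a => by ext <;> simp only [mul_def, inv_def, one_def, g3, g9] <;> ring)

instance : Finite A := Finite.of_injective (fun a => (a.x, a.y, a.P, a.Q, a.R, a.S, a.T))
  fun a b h => by simp only [Prod.mk.injEq] at h; ext <;> simp [h]

theorem cube (a : A) : a ^ 3 = ⟨0, 0, 0, 0, 0, 0, a.x ^ 4 * a.y ^ 9 - a.x ^ 12 * a.y⟩ := by
  rw [pow_succ, pow_two]
  ext <;> simp only [mul_def, f3, f9]
  · linear_combination a.x * three
  · linear_combination a.y * three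
  · linear_combination (a.P + a.x ^ 4) * three
  · linear_combination (a.Q + a.x ^ 3 * a.y ^ 9) * three
  · linear_combination (a.R - a.x ^ 12) * three
  · linear_combination (a.S + a.x ^ 3 * a.y) * three
  · linear_combination (a.T + a.x * a.Q + a.P * a.y ^ 9 - a.x ^ 9 * a.S + a.R * a.y) * three

theorem pow_nine (a : A) : a ^ 9 = 1 := by
  rw [show 9 = 3 * 3 from rfl, pow_mul, cube (a ^ 3), cube a]
  ext <;> simp [one_def]

end A

/-! ### The complement `5 : 4` -/

@[ext]
structure K where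
  i : ZMod 5
  j : ZMod 4
deriving DecidableEq, Fintype

namespace K

instance : One K := ⟨⟨0, 0⟩⟩
instance : Mul K := ⟨fun a b => ⟨a.i + (3 : ZMod 5) ^ a.j.val * b.i, a.j + b.j⟩⟩
instance : Inv K := ⟨fun a => ⟨-((3 : ZMod 5) ^ (-a.j).val * a.i), -a.j⟩⟩

instance : Group K := Group.ofLeftAxioms (by decide +kernel) (by decide +kernel) (by decide +kernel)

theorem sq_j : ∀ k : K, k.j = 2 → k * k = 1 := by decide +kernel

theorem sq_odd : ∀ k : K, k.j = 1 ∨ k.j = 3 → (k * k).j = 2 := by decide +kernel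

theorem pow_five : ∀ k : K, k.j = 0 → k * k * k * k * k = 1 := by decide +kernel

theorem j_cases : ∀ k : K, k.j = 0 ∨ k.j = 2 ∨ k.j = 1 ∨ k.j = 3 := by decide +kernel

theorem i_ne : ∀ k : K, k.j = 0 → k ≠ 1 → k.i ≠ 0 := by decide +kernel

end K

/-! ### The action -/

noncomputable def zeta : F := gen ^ 16

theorem zeta_pow : zeta ^ 5 = 1 := by
  rw [zeta, ← pow_mul, show 16 * 5 = orderOf gen by rw [gen_spec.2]]
  exact pow_orderOf_eq_one gen

noncomputable def pw (i : ZMod 5) : F := zeta ^ i.val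

theorem pw_cast (n : ℕ) : pw (n : ZMod 5) = zeta ^ n := by
  rw [pw, ZMod.val_natCast, ← pow_eq_pow_mod n zeta_pow]

theorem pw_zero : pw 0 = 1 := by simp [pw]

theorem pw_add (i i' : ZMod 5) : pw (i + i') = pw i * pw i' := by
  conv_lhs => rw [← ZMod.natCast_zmod_val i, ← ZMod.natCast_zmod_val i', ← Nat.cast_add, pw_cast, pow_add]
  rfl

theorem pw_five (i : ZMod 5) : pw i ^ 5 = 1 := by rw [pw, pow_right_comm, zeta_pow, one_pow]

theorem pw_ne_one {i : ZMod 5} (hi : i ≠ 0) : pw i ≠ 1 := by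
  intro h
  rw [pw, zeta, ← pow_mul] at h
  have hd := orderOf_dvd_of_pow_eq_one h
  rw [gen_spec.2] at hd
  have h5 : i.val < 5 := ZMod.val_lt i
  have h0 : i.val ≠ 0 := fun e => hi ((ZMod.val_eq_zero i).1 e)
  obtain ⟨c, hc⟩ := hd
  omega

noncomputable def sig (j : ZMod 4) : F →+* F := iterateFrobenius F 3 j.val

theorem sig_def (j : ZMod 4) (a : F) : sig j a = a ^ 3 ^ j.val := iterateFrobenius_def _ _ _

theorem sig_add (j j' : ZMod 4) (a : F) : sig (j + j') a = sig j (sig j' a) := by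
  rw [sig_def, sig_def, sig_def, ← pow_mul, ← pow_add, add_comm j'.val, ZMod.val_add]
  have h4 := Nat.mod_add_div (j.val + j'.val) 4
  have key : ∀ n m : ℕ, a ^ 3 ^ (n + 4 * m) = a ^ 3 ^ n := by
    intro n m
    induction m with
    | zero => rfl
    | succ m ih => rw [show n + 4 * (m + 1) = (n + 4 * m) + 4 by ring, pow_add, pow_mul, show (3 : ℕ) ^ 4 = 81 by norm_num, pow_81, ih]
  conv_rhs => rw [← h4, key]

theorem sig_zero (a : F) : sig 0 a = a := by simp [sig_def]

theorem sig_pw (j : ZMod 4) (i : ZMod 5) : sig j (pw i) = pw ((3 : ZMod 5) ^ j.val * i) := by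
  conv_rhs => rw [← ZMod.natCast_zmod_val i,
    show (3 : ZMod 5) ^ j.val * (i.val : ZMod 5) = ((3 ^ j.val * i.val : ℕ) : ZMod 5) by push_cast; rfl, pw_cast]
  rw [sig_def, pw, ← pow_mul, mul_comm]

noncomputable def actFun (k : K) (a : A) : A :=
  ⟨pw k.i * sig k.j a.x, pw k.i * sig k.j a.y, pw k.i ^ 4 * sig k.j a.P, pw k.i ^ 2 * sig k.j a.Q,
    pw k.i ^ 2 * sig k.j a.R, pw k.i ^ 4 * sig k.j a.S, pw k.i ^ 3 * sig k.j a.T⟩

theorem actFun_mul (k : K) (a b : A) : actFun k (a * b) = actFun k a * actFun k b := by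
  have h := pw_five k.i
  ext <;> simp only [actFun, A.mul_def, map_add, map_sub, map_mul, map_pow, mul_pow]
  · ring
  · ring
  · ring
  · linear_combination -(pw k.i ^ 7 + pw k.i ^ 2) * (sig k.j a.x ^ 3 * sig k.j b.y ^ 9) * h
  · linear_combination (pw k.i ^ 7 + pw k.i ^ 2) * (sig k.j a.x ^ 9 * sig k.j b.x ^ 3) * h
  · ring
  · linear_combination (pw k.i ^ 8 + pw k.i ^ 3) *
      (sig k.j a.x ^ 9 * sig k.j b.S - sig k.j a.P * sig k.j b.y ^ 9) * h

theorem actFun_comp (k k' : K) (a : A) : actFun (k * k') a = actFun k (actFun k' a) := by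
  have hi : pw (k * k').i = pw k.i * sig k.j (pw k'.i) := by
    rw [sig_pw, ← pw_add]; rfl
  have hj : ∀ c, sig (k * k').j c = sig k.j (sig k'.j c) := fun c => sig_add _ _ c
  ext <;> simp only [actFun, hi, hj, map_mul, map_pow] <;> ring

theorem actFun_one (a : A) : actFun 1 a = a := by
  have hi : (1 : K).i = 0 := rfl
  have hj : (1 : K).j = 0 := rfl
  ext <;> simp [actFun, hi, hj, pw_zero, sig_zero]

noncomputable def act : K →* MulAut A where
  toFun k :=
    { toFun := actFun k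
      invFun := actFun k⁻¹
      left_inv := fun a => by rw [← actFun_comp, inv_mul_cancel, actFun_one]
      right_inv := fun a => by rw [← actFun_comp, mul_inv_cancel, actFun_one]
      map_mul' := actFun_mul k }
  map_one' := MulEquiv.ext actFun_one
  map_mul' k k' := MulEquiv.ext (actFun_comp k k')

theorem act_apply (k : K) (a : A) : act k a = actFun k a := rfl

abbrev H := A ⋊[act] K

instance : Finite H := Finite.of_injective (fun h => (h.left, h.right))
  fun a b h => by simp only [Prod.mk.injEq] at h; exact SemidirectProduct.ext h.1 h.2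

theorem eq_inl {g : H} (hg : g.right = 1) : g = SemidirectProduct.inl g.left :=
  SemidirectProduct.ext (by simp) (by simpa using hg)

theorem pow_six {g : H} (hg : g.right.j = 2) : g ^ 6 = 1 := by
  have hk : (g ^ 2).right = 1 := by rw [pow_two]; exact K.sq_j _ hg
  rw [show 6 = 2 * 3 from rfl, pow_mul, eq_inl hk, ← map_pow, A.cube]
  have hl : (g ^ 2).left = g.left * actFun g.right g.left := by rw [pow_two]; rfl
  have e81 : ∀ c : F, (c ^ 9) ^ 9 = c := fun c => by rw [← pow_mul]; exact pow_81 c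
  have hs : ∀ c : F, sig g.right.j c = c ^ 9 := fun c => by rw [hg, sig_def]; rfl
  have h5 := pw_five g.right.i
  have key : (g ^ 2).left.x * (g ^ 2).left.y ^ 9 - (g ^ 2).left.x ^ 9 * (g ^ 2).left.y = 0 := by
    simp only [hl, A.mul_def, actFun, hs, f9, mul_pow, e81]
    linear_combination
      ((g.left.x ^ 9 * g.left.y - g.left.x * g.left.y ^ 9) * (pw g.right.i ^ 5 + 1)
        + (pw g.right.i ^ 4) * (g.left.x * g.left.y - g.left.x * g.left.y)) * h5
  have : (⟨0, 0, 0, 0, 0, 0, (g ^ 2).left.x ^ 4 * (g ^ 2).left.y ^ 9 -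
      (g ^ 2).left.x ^ 12 * (g ^ 2).left.y⟩ : A) = 1 := by
    ext <;> simp only [A.one_def]
    linear_combination (g ^ 2).left.x ^ 3 * key
  rw [this, map_one]

theorem pow_twelve {g : H} (hg : g.right.j = 1 ∨ g.right.j = 3) : g ^ 12 = 1 := by
  rw [show 12 = 2 * 6 from rfl, pow_mul]
  exact pow_six (by rw [pow_two]; exact K.sq_odd _ hg)

theorem pow_five {g : H} (hj : g.right.j = 0) (hg : g.right ≠ 1) : g ^ 5 = 1 := by
  have hk : (g ^ 5).right = 1 := by
    simp only [pow_succ, pow_zero, one_mul, SemidirectProduct.mul_right]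
    exact K.pow_five _ hj
  have hc := congrArg SemidirectProduct.left (Commute.self_pow g 5).eq
  rw [SemidirectProduct.mul_left, SemidirectProduct.mul_left, hk, map_one, MulAut.one_apply, act_apply] at hc
  have hw := pw_ne_one (K.i_ne _ hj hg)
  have h5 := pw_five g.right.i
  have hz : ∀ (n : ℕ) (c : F), n ∈ ({1, 2, 3, 4} : Finset ℕ) → pw g.right.i ^ n * c = c → c = 0 := by
    intro n c hn hc
    by_contra hne
    have h1 : pw g.right.i ^ n = 1 := mul_right_cancel₀ hne (hc.trans (one_mul c).symm)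
    refine hw ?_
    simp only [Finset.mem_insert, Finset.mem_singleton] at hn
    rcases hn with rfl | rfl | rfl | rfl
    · simpa using h1
    · linear_combination h5 - pw g.right.i * (pw g.right.i ^ 2 + 1) * h1
    · linear_combination (pw g.right.i ^ 3 + 1) * h1 - pw g.right.i * h5
    · linear_combination h5 - pw g.right.i * h1
  have hs : ∀ c : F, sig g.right.j c = c := fun c => by rw [hj, sig_zero]
  simp only [actFun, A.mul_def, A.ext_iff, hs] at hc
  obtain ⟨hx, hy, hP, hQ, hR, hS, hT⟩ := hc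
  have x0 := hz 1 (g ^ 5).left.x (by simp) (by rw [pow_one]; linear_combination hx)
  have y0 := hz 1 (g ^ 5).left.y (by simp) (by rw [pow_one]; linear_combination hy)
  simp only [x0, y0, mul_zero, zero_mul, zero_pow (three_ne_zero), zero_pow (show 9 ≠ 0 by norm_num), add_zero,
    sub_zero] at hP hQ hR hS
  have P0 := hz 4 (g ^ 5).left.P (by simp) (by linear_combination hP)
  have Q0 := hz 2 (g ^ 5).left.Q (by simp) (by linear_combination hQ)
  have R0 := hz 2 (g ^ 5).left.R (by simp) (by linear_combination hR)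
  have S0 := hz 4 (g ^ 5).left.S (by simp) (by linear_combination hS)
  simp only [x0, y0, P0, Q0, R0, S0, mul_zero, zero_mul, zero_pow (show 9 ≠ 0 by norm_num), add_zero,
    sub_zero] at hT
  have T0 := hz 3 (g ^ 5).left.T (by simp) (by linear_combination hT)
  exact SemidirectProduct.ext (A.ext x0 y0 P0 Q0 R0 S0 T0) hk

theorem orderOf_mem (g : H) : orderOf g ∈ ({1, 2, 3, 4, 5, 6, 9, 12} : Set ℕ) := by
  obtain ⟨n, hn, h⟩ : ∃ n ∈ ({5, 9, 12} : Finset ℕ), g ^ n = 1 := by
    rcases K.j_cases g.right with hj | hj | hj | hj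
    · by_cases hg : g.right = 1
      · exact ⟨9, by simp, by rw [eq_inl hg, ← map_pow, A.pow_nine, map_one]⟩
      · exact ⟨5, by simp, pow_five hj hg⟩
    · exact ⟨12, by simp, by rw [show 12 = 6 * 2 from rfl, pow_mul, pow_six hj, one_pow]⟩
    · exact ⟨12, by simp, pow_twelve (Or.inl hj)⟩
    · exact ⟨12, by simp, pow_twelve (Or.inr hj)⟩
  have h' := Nat.mem_divisors.2 ⟨orderOf_dvd_of_pow_eq_one h, by intro h0; subst h0; simp at hn⟩
  simp only [Finset.mem_insert, Finset.mem_singleton] at hn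
  revert h'
  generalize orderOf g = k
  intro h'
  have hlt := Nat.divisor_le h'
  rcases hn with rfl | rfl | rfl <;> interval_cases k <;> first | (simp; done) | exact absurd h' (by decide)

theorem spectrum : Set.range (orderOf : H → ℕ) = {1, 2, 3, 4, 5, 6, 9, 12} := by
  refine Set.Subset.antisymm (by rintro _ ⟨g, rfl⟩; exact orderOf_mem g) ?_
  have o9 : orderOf (⟨1, gen, 0, 0, 0, 0, 0⟩ : A) = 3 ^ (1 + 1) := by
    refine orderOf_eq_prime_pow (fun h => ?_) (A.pow_nine _)
    rw [pow_one, A.cube] at h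
    have h' : (1 : F) ^ 4 * gen ^ 9 - 1 ^ 12 * gen = 0 := congrArg A.T h
    have h8 : gen ^ 8 = 1 := mul_left_cancel₀ gen_spec.1 (by linear_combination h')
    have := orderOf_dvd_of_pow_eq_one h8
    rw [gen_spec.2] at this
    norm_num at this
  have o12 : orderOf ((SemidirectProduct.inl (⟨1, 0, 0, 0, 0, 0, 0⟩ : A) : H) * SemidirectProduct.inr ⟨0, 1⟩) = 12 := by
    have ha : orderOf (SemidirectProduct.inl (⟨1, 0, 0, 0, 0, 0, 0⟩ : A) : H) = 3 := by
      rw [orderOf_injective _ SemidirectProduct.inl_injective]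
      refine orderOf_eq_prime (by rw [A.cube]; ext <;> simp [A.one_def]) fun h => ?_
      exact one_ne_zero (congrArg A.x h)
    have hb : orderOf (SemidirectProduct.inr (⟨0, 1⟩ : K) : H) = 4 := by
      rw [orderOf_injective _ SemidirectProduct.inr_injective, orderOf_eq_iff (by norm_num)]
      exact ⟨by decide +kernel, fun m hm hm0 => by interval_cases m <;> decide +kernel⟩
    have hc : Commute (SemidirectProduct.inl (⟨1, 0, 0, 0, 0, 0, 0⟩ : A) : H) (SemidirectProduct.inr ⟨0, 1⟩) := by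
      have hfix : act (⟨0, 1⟩ : K) ⟨1, 0, 0, 0, 0, 0, 0⟩ = ⟨1, 0, 0, 0, 0, 0, 0⟩ := by
        rw [act_apply]; ext <;> simp [actFun, pw_zero]
      refine SemidirectProduct.ext ?_ ?_ <;> simp [hfix]
    rw [hc.orderOf_mul_eq_mul_orderOf_of_coprime (by rw [ha, hb]; norm_num), ha, hb]
  intro k hk
  simp only [Set.mem_insert_iff, Set.mem_singleton_iff] at hk
  rcases hk with rfl | rfl | rfl | rfl | rfl | rfl | rfl | rfl
  · exact ⟨1, orderOf_one⟩
  · exact ⟨_ ^ 6, by rw [orderOf_pow, o12]; rfl⟩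
  · exact ⟨_ ^ 4, by rw [orderOf_pow, o12]; rfl⟩
  · exact ⟨_ ^ 3, by rw [orderOf_pow, o12]; rfl⟩
  · refine ⟨SemidirectProduct.inr ⟨1, 0⟩, ?_⟩
    rw [orderOf_injective _ SemidirectProduct.inr_injective, orderOf_eq_iff (by norm_num)]
    exact ⟨by decide +kernel, fun m hm hm0 => by interval_cases m <;> decide +kernel⟩
  · exact ⟨_ ^ 2, by rw [orderOf_pow, o12]; rfl⟩
  · exact ⟨SemidirectProduct.inl _, (orderOf_injective _ SemidirectProduct.inl_injective _).trans o9⟩
  · exact ⟨_, o12⟩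

theorem solvable : Group.IsSolvable H := by
  have : Group.IsNilpotent A :=
    IsPGroup.isNilpotent (p := 3) (G := A) fun a => ⟨2, A.pow_nine a⟩
  let f : Multiplicative (ZMod 5) →* K :=
    { toFun := fun i => ⟨i.toAdd, 0⟩, map_one' := rfl, map_mul' := by decide +kernel }
  let g : K →* Multiplicative (ZMod 4) :=
    { toFun := fun k => Multiplicative.ofAdd k.j, map_one' := rfl, map_mul' := fun _ _ => rfl }
  have : Group.IsSolvable K := Group.isSolvable_of_ker_le_range f g fun k hk =>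
    ⟨Multiplicative.ofAdd k.i, K.ext rfl (congrArg Multiplicative.toAdd hk).symm⟩
  exact Group.isSolvable_of_ker_le_range (G' := A) (G'' := K) SemidirectProduct.inl SemidirectProduct.rightHom
    (by rw [SemidirectProduct.range_inl_eq_ker_rightHom])

end Cfsg.Agent.Recog.FiveTwoFrobenius
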