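import Cfsg.Agent.Lib.Basics.CoprimeAction
import Cfsg.Agent.Lib.Basics.FrobeniusBasic
import Cfsg.Agent.Lib.Basics.ThompsonFpf
import Cfsg.Agent.Lib.LocalEvenB.FixedOrder

/-!
# Frobenius quotients with cyclic complement force element orders
-/

set_option autoImplicit false

namespace Cfsg.Agent.Recog

open scoped Pointwise

/-- A Frobenius group acting non-trivially through its kernel has a non-zero norm map. -/
theorem norm_nontrivial {T V : Type*} [Group T] [CommGroup V] [Finite V] (ρ : T →* MulAut V)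
    (F : Subgroup T) [Finite F] (h : T) (n : ℕ) (hn : 0 < n)
    (hnorm : h ∈ Subgroup.normalizer (F : Set T))
    (hfree : ∀ i, 0 < i → i < n → ∀ f ∈ F, h ^ i * f = f * h ^ i → f = 1)
    (hcop : (Nat.card F).Coprime (Nat.card V)) {f₀ : T} (hf₀ : f₀ ∈ F) {v : V} (hv : ρ f₀ v ≠ v) :
    ∃ w : V, ∏ i ∈ Finset.range n, ρ (h ^ i) w ≠ 1 := by
  classical
  have := Fintype.ofFinite F
  by_contra hall
  push Not at hall
  obtain ⟨u, hu⟩ : ∃ u, u = ρ f₀ v * v⁻¹ := ⟨_, rfl⟩
  have hsum : ∏ c : F, ρ (c : T) u = 1 := by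
    simp only [hu, map_mul, map_inv, Finset.prod_mul_distrib, Finset.prod_inv_distrib]
    rw [mul_inv_eq_one]
    refine Fintype.prod_equiv (Equiv.mulRight ⟨f₀, hf₀⟩) _ _ fun c => ?_
    rw [← MulAut.mul_apply, ← map_mul]
    rfl
  have hzero : ∀ b : F, ∏ i ∈ Finset.range n, ρ ((b : T) * h ^ i * (b : T)⁻¹) u = 1 := by
    intro b
    have := congrArg (ρ (b : T)) (hall (ρ (b : T)⁻¹ u))
    rw [map_prod, map_one] at this
    rw [← this]
    refine Finset.prod_congr rfl fun i _ => ?_
    rw [map_mul, map_mul, MulAut.mul_apply, MulAut.mul_apply]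
  have hswap : ∏ i ∈ Finset.range n, ∏ b : F, ρ ((b : T) * h ^ i * (b : T)⁻¹) u = 1 := by
    rw [Finset.prod_comm]
    exact Finset.prod_eq_one fun b _ => hzero b
  rw [Finset.prod_eq_single_of_mem 0 (Finset.mem_range.2 hn)] at hswap
  · simp only [pow_zero, mul_one, mul_inv_cancel, map_one, MulAut.one_apply, Finset.prod_const,
      Finset.card_univ, ← Nat.card_eq_fintype_card] at hswap
    have h1 : orderOf u ∣ Nat.card F := orderOf_dvd_of_pow_eq_one hswap
    have h2 : orderOf u ∣ Nat.card V := orderOf_dvd_natCard u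
    have h3 : orderOf u = 1 := Nat.dvd_one.1 (hcop ▸ Nat.dvd_gcd h1 h2)
    exact hv (mul_inv_eq_one.1 (hu ▸ orderOf_eq_one_iff.1 h3))
  · intro i hi hi0
    have hhi : h ^ i ∈ Subgroup.normalizer (F : Set T) := pow_mem hnorm i
    let σ : F → F := fun b => ⟨h ^ i * (b : T) * (h ^ i)⁻¹,
      (Subgroup.mem_normalizer_iff.1 hhi b).1 b.2⟩
    let τ : F → F := fun b => b * σ b⁻¹
    have hτ : Function.Bijective τ := by
      refine Finite.injective_iff_bijective.1 fun b c hbc => ?_
      have hbc' : (b : T) * (h ^ i * (b : T)⁻¹ * (h ^ i)⁻¹) =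
          (c : T) * (h ^ i * (c : T)⁻¹ * (h ^ i)⁻¹) := congrArg Subtype.val hbc
      have h1 : h ^ i * ((c : T)⁻¹ * b) = ((c : T)⁻¹ * b) * h ^ i := by
        calc h ^ i * ((c : T)⁻¹ * b)
            = (c : T)⁻¹ * ((c : T) * (h ^ i * (c : T)⁻¹ * (h ^ i)⁻¹)) * h ^ i * b := by group
          _ = (c : T)⁻¹ * ((b : T) * (h ^ i * (b : T)⁻¹ * (h ^ i)⁻¹)) * h ^ i * b := by rw [hbc']
          _ = ((c : T)⁻¹ * b) * h ^ i := by group
      have := hfree i (Nat.pos_of_ne_zero hi0) (Finset.mem_range.1 hi) _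
        (F.mul_mem (F.inv_mem c.2) b.2) h1
      exact Subtype.ext (inv_mul_eq_one.1 this).symm
    calc ∏ b : F, ρ ((b : T) * h ^ i * (b : T)⁻¹) u
        = ∏ b : F, ρ ((τ b : T) * h ^ i) u := Finset.prod_congr rfl fun b _ => by
          rw [show (b : T) * h ^ i * (b : T)⁻¹ = (τ b : T) * h ^ i by
            simp only [τ, σ, Subgroup.coe_mul, Subgroup.coe_inv]; group]
      _ = ∏ c : F, ρ ((c : T) * h ^ i) u :=
          (Equiv.ofBijective τ hτ).prod_comp (fun c : F => ρ ((c : T) * h ^ i) u)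
      _ = 1 := by
          let e : F ≃ F :=
            { toFun := fun c => ⟨(h ^ i)⁻¹ * (c : T) * h ^ i, by
                have h5 := (Subgroup.mem_normalizer_iff.1 (inv_mem hhi) c).1 c.2
                simpa using h5⟩
              invFun := σ
              left_inv := fun c => Subtype.ext (by simp [σ, mul_assoc])
              right_inv := fun c => Subtype.ext (by simp [σ, mul_assoc]) }
          have h4 : ∏ c : F, ρ ((c : T) * h ^ i) u = ρ (h ^ i) (∏ c : F, ρ (c : T) u) := by
            rw [map_prod]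
            refine Fintype.prod_equiv e _ _ fun c => ?_
            rw [← MulAut.mul_apply, ← map_mul]
            congr 2
            show (c : T) * h ^ i = h ^ i * ((h ^ i)⁻¹ * (c : T) * h ^ i)
            group
          rw [h4, hsum, map_one]

variable {G : Type*} [Group G] [Finite G]

/-- An element over a generator of a cyclic quotient subgroup with non-trivial power in the kernel
gives an element of order `p` times the order of the subgroup. -/
theorem exists_order_mul_of_pow_ne_one (N : Subgroup G) [N.Normal] {g : G} {n : ℕ}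
    (hn : orderOf (QuotientGroup.mk' N g) = n) (hne : g ^ n ≠ 1) :
    ∃ p : ℕ, p.Prime ∧ p ∣ Nat.card N ∧ ∃ x : G, orderOf x = p * n := by
  obtain ⟨m, hm⟩ : n ∣ orderOf g := hn ▸ orderOf_map_dvd _ g
  have hm0 : m ≠ 0 := fun h => (orderOf_pos g).ne' (by rw [hm, h, mul_zero])
  have hm1 : m ≠ 1 := fun h => hne (by
    rw [show n = orderOf g by rw [hm, h, mul_one], pow_orderOf_eq_one])
  have hn0 : n ≠ 0 := fun h => (orderOf_pos g).ne' (by rw [hm, h, zero_mul])
  have hp := Nat.minFac_prime hm1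
  have hz : orderOf (g ^ n) = m := by
    rw [orderOf_pow_of_dvd hn0 ⟨m, hm⟩, hm, Nat.mul_div_cancel_left _ (Nat.pos_of_ne_zero hn0)]
  have hzN : g ^ n ∈ N := by
    rw [← QuotientGroup.eq_one_iff, QuotientGroup.mk_pow, ← hn]
    exact pow_orderOf_eq_one _
  refine ⟨m.minFac, hp, ?_, g ^ (m / m.minFac), ?_⟩
  · exact (Nat.minFac_dvd m).trans (hz ▸ Subgroup.orderOf_dvd_natCard N hzN)
  · have hd := Nat.minFac_dvd m
    generalize m.minFac = q at hd hp ⊢
    obtain ⟨c, rfl⟩ := hd
    have hc0 : 0 < c := Nat.pos_of_ne_zero fun h => hm0 (by rw [h, mul_zero])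
    have hcd : c ∣ orderOf g := ⟨n * q, by rw [hm]; ring⟩
    rw [Nat.mul_div_cancel_left c hp.pos, orderOf_pow_of_dvd hc0.ne' hcd, hm,
      show n * (q * c) = q * n * c by ring, Nat.mul_div_cancel _ hc0]

/-- The statement. -/
theorem frobenius_quotient (N : Subgroup G) [N.Normal] (Fb Hb : Subgroup (G ⧸ N)) [Fb.Normal]
    (hHb : Cfsg.IsFrobeniusComplement Hb)
    (hker : Cfsg.frobeniusKernel Hb = (Fb : Set (G ⧸ N))) (hcyc : IsCyclic Hb)
    (hcop : (Nat.card Fb).Coprime (Nat.card N))
    (hnot : ¬ Fb ≤ (Subgroup.centralizer (N : Set G)).map (QuotientGroup.mk' N)) :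
    ∃ p : ℕ, p.Prime ∧ p ∣ Nat.card N ∧ ∃ g : G, orderOf g = p * Nat.card Hb := by
  classical
  obtain ⟨K, hK, -, hKc, -⟩ := Basics.frobenius_kernel_exists hHb
  obtain rfl : K = Fb := SetLike.coe_injective (hK.trans hker)
  have hfpf : ∀ f ∈ K, ∀ k ∈ Hb, k ≠ 1 → k * f = f * k → f = 1 := by
    intro f hf k hk hk1 hc
    by_contra hf1
    have hfH : f ∉ Hb := fun h => hf1 (by
      have : f ∈ K ⊓ Hb := ⟨hf, h⟩
      rwa [hKc.disjoint.eq_bot, Subgroup.mem_bot] at this)
    have h2 : k ∈ Hb ⊓ (MulAut.conj f • Hb) := by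
      refine ⟨hk, ?_⟩
      show k ∈ MulAut.conj f • Hb
      rw [Basics.mem_conj_smul]
      rwa [mul_assoc, hc, inv_mul_cancel_left]
    rw [hHb.2.2 f hfH, Subgroup.mem_bot] at h2
    exact hk1 h2
  set π := QuotientGroup.mk' N with hπ
  -- the kernel is nilpotent
  obtain ⟨gen, hgen⟩ := IsCyclic.exists_ofOrder_eq_natCard (α := Hb)
  set n := Nat.card Hb with hn
  have hn1 : 1 < n := by
    have : Nontrivial Hb := Hb.nontrivial_iff_ne_bot.2 hHb.1
    exact Finite.one_lt_card
  have hKsolv : Group.IsSolvable K := by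
    obtain ⟨r, hr, hrd⟩ := Nat.exists_prime_and_dvd hn1.ne'
    have := Fact.mk hr
    obtain ⟨y, hy⟩ := exists_prime_orderOf_dvd_card' r hrd
    have hy1 : (y : G ⧸ N) ≠ 1 := fun h => hr.one_lt.ne (by
      rw [← hy, ← Subgroup.orderOf_coe, h, orderOf_one])
    have : Group.IsNilpotent K := Basics.isNilpotent_of_conj_fpf K (x := (y : G ⧸ N))
      (by rw [Subgroup.orderOf_coe, hy]) fun f hf h => hfpf f hf y y.2 hy1 h
    infer_instance
  -- a complement of `N` in the preimage of the kernel
  set X : Subgroup G := K.comap π with hX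
  have hNX : N ≤ X := fun x hx => by
    show π x ∈ K
    rw [hπ, QuotientGroup.mk'_apply, (QuotientGroup.eq_one_iff x).2 hx]
    exact K.one_mem
  have hXi : N.relIndex X = Nat.card K := by
    have h0 : N = (⊥ : Subgroup (G ⧸ N)).comap π := by
      rw [MonoidHom.comap_bot, hπ, QuotientGroup.ker_mk']
    conv_lhs => rw [h0, hX]
    rw [Subgroup.relIndex_comap, Subgroup.map_comap_eq_self_of_surjective
      (QuotientGroup.mk'_surjective N), Subgroup.relIndex_bot_left]
  obtain ⟨C, hC⟩ := Subgroup.exists_right_complement'_of_coprime (N := N.subgroupOf X) (by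
    rw [Nat.card_congr (Subgroup.subgroupOfEquivOfLe hNX).toEquiv]
    show (Nat.card N).Coprime (N.relIndex X)
    rw [hXi]; exact hcop.symm)
  set F0 : Subgroup G := C.map X.subtype with hF0
  have hF0card : Nat.card F0 = Nat.card K := by
    rw [hF0, Subgroup.card_map_of_injective X.subtype_injective, ← hC.symm.index_eq_card, ← hXi]
    rfl
  have hF0X : F0 ≤ X := Subgroup.map_subtype_le C
  have hsup : N ⊔ F0 = X := by
    apply le_antisymm (sup_le hNX hF0X)
    intro x hx
    obtain ⟨a, ha, b, hb, hab⟩ : ∃ a ∈ N.subgroupOf X, ∃ b ∈ C, a * b = ⟨x, hx⟩ := by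
      obtain ⟨⟨a, b⟩, hab⟩ := (hC.existsUnique ⟨x, hx⟩).exists
      exact ⟨a, a.2, b, b.2, hab⟩
    have : x = (a : G) * (b : G) := congrArg Subtype.val hab.symm
    rw [this]
    exact Subgroup.mul_mem_sup ha ⟨b, hb, rfl⟩
  have hF0N : ∀ x ∈ F0, x ∈ N → x = 1 := by
    rintro _ ⟨c, hc, rfl⟩ hx
    have : c ∈ N.subgroupOf X ⊓ C := ⟨hx, hc⟩
    rw [hC.disjoint.eq_bot, Subgroup.mem_bot] at this
    rw [this]; rfl
  have hF0π : F0.map π = K := by
    apply le_antisymm
    · rintro _ ⟨x, hx, rfl⟩; exact hF0X hx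
    · intro k hk
      obtain ⟨x, rfl⟩ := QuotientGroup.mk'_surjective N k
      have hx : x ∈ ((N ⊔ F0 : Subgroup G) : Set G) := by rw [hsup]; exact hk
      rw [Subgroup.normal_mul N F0] at hx
      obtain ⟨a, ha, b, hb, rfl⟩ := hx
      refine ⟨b, hb, ?_⟩
      rw [hπ, map_mul, show QuotientGroup.mk' N a = 1 from (QuotientGroup.eq_one_iff a).2 ha, one_mul]
  have hcop0 : (Nat.card F0).Coprime (Nat.card N) := by rw [hF0card]; exact hcop
  have hsolv0 : Group.IsSolvable F0 := by
    let e : F0 →* K := (π.comp F0.subtype).codRestrict K fun x => hF0X x.2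
    refine Group.isSolvable_of_isSolvable_injective (f := e) ((injective_iff_map_eq_one e).2 ?_)
    intro a ha
    exact Subtype.ext (hF0N _ a.2 ((QuotientGroup.eq_one_iff _).1 (congrArg Subtype.val ha)))
  -- an invariant Sylow subgroup moved by the complement
  have hF0N' : F0 ≤ Subgroup.normalizer (N : Set G) := Subgroup.le_normalizer_of_normal
  obtain ⟨p, hp, P, hP, hPinv, hPmove⟩ : ∃ p : ℕ, p.Prime ∧ ∃ P : Subgroup G,
      Basics.IsSylowIn p N P ∧ F0 ≤ Subgroup.normalizer (P : Set G) ∧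
        ¬ P ≤ Subgroup.centralizer (F0 : Set G) := by
    by_contra hall
    push Not at hall
    apply hnot
    have hle : N ≤ Subgroup.centralizer (F0 : Set G) := by
      rw [← inf_eq_left]
      refine Subgroup.eq_of_le_of_card_ge inf_le_left ?_
      refine Nat.le_of_dvd Nat.card_pos ?_
      rw [Nat.dvd_iff_prime_pow_dvd_dvd]
      intro q k hq hqk
      have := Fact.mk hq
      obtain ⟨P, hP, hPi⟩ := Basics.exists_invariant_isSylowIn F0 N hF0N' hcop0 (Or.inl hsolv0) q
      have h1 := hall q hq P hP hPi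
      obtain ⟨Q, hQ⟩ := hP.exists_sylow
      have hPN : P ≤ N := hQ ▸ Subgroup.map_subtype_le _
      refine dvd_trans ?_ (Subgroup.card_dvd_of_le (le_inf hPN h1))
      rw [← hQ, Subgroup.card_map_of_injective N.subtype_injective]
      exact Q.pow_dvd_card_of_pow_dvd_card hqk
    rw [← hF0π]
    refine Subgroup.map_mono fun f hf => Subgroup.mem_centralizer_iff.2 fun x hx => ?_
    exact ((Subgroup.mem_centralizer_iff.1 (hle hx)) f hf).symm
  have hpF := Fact.mk hp
  obtain ⟨Q, hQ⟩ := hP.exists_sylow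
  have hPN : P ≤ N := hQ ▸ Subgroup.map_subtype_le _
  set T : Subgroup G := Subgroup.normalizer (F0 : Set G) ⊓ Subgroup.normalizer (P : Set G) with hT
  have hcover : ∀ g : G, ∃ t ∈ T, π t = π g := by
    intro g
    obtain ⟨m, hm, hme⟩ := Basics.exists_conj_eq_of_coprime N (MulAut.conj g • F0) F0
      Subgroup.le_normalizer_of_normal (by rw [Basics.card_conj_smul]; exact hcop0.symm)
      (by
        intro x hx
        have hXn : X.Normal := (inferInstance : K.Normal).comap π
        have h1 : g⁻¹ * x * g⁻¹⁻¹ ∈ ((N ⊔ F0 : Subgroup G) : Set G) := by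
          rw [hsup]; exact hXn.conj_mem x (hF0X hx) g⁻¹
        rw [Subgroup.normal_mul N F0] at h1
        obtain ⟨a, ha, b, hb, hab⟩ := h1
        have hx' : x = (g * a * g⁻¹) * (g * b * g⁻¹) := by
          simp only [inv_inv] at hab
          calc x = g * (g⁻¹ * x * g) * g⁻¹ := by group
            _ = g * (a * b) * g⁻¹ := by rw [← hab]
            _ = _ := by group
        rw [hx']
        exact Subgroup.mul_mem_sup ((inferInstance : N.Normal).conj_mem a ha g)
          (Basics.conj_mem_conj_smul hb))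
      (Basics.card_conj_smul g F0).symm
      (Or.inr (Group.isSolvable_of_surjective
        (f := (Subgroup.equivSMul (MulAut.conj g) F0).toMonoidHom)
        (Subgroup.equivSMul (MulAut.conj g) F0).surjective))
    have ht : m * g ∈ Subgroup.normalizer (F0 : Set G) :=
      Basics.conj_smul_eq_self_iff.1 (by rw [← Basics.conj_smul_conj_smul, hme])
    have hP' : Basics.IsSylowIn p N (MulAut.conj (m * g) • P) :=
      hP.conj_smul (Subgroup.le_normalizer_of_normal (Subgroup.mem_top _))
    have hinv' : F0 ≤ Subgroup.normalizer ((MulAut.conj (m * g) • P : Subgroup G) : Set G) := by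
      intro a ha
      rw [← Basics.conj_smul_eq_self_iff, Basics.conj_smul_conj_smul]
      have h1 : (m * g)⁻¹ * a * (m * g) ∈ F0 := by
        have := (Subgroup.mem_normalizer_iff.1 (inv_mem ht) a).1 ha
        simpa using this
      rw [show a * (m * g) = (m * g) * ((m * g)⁻¹ * a * (m * g)) by group,
        ← Basics.conj_smul_conj_smul, Basics.conj_smul_eq_self_iff.2 (hPinv h1)]
    obtain ⟨c, hc, hce⟩ := Basics.invariant_isSylowIn_conj F0 N hF0N' hcop0 (Or.inl hsolv0) p hP' hP
      hinv' hPinv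
    refine ⟨c * (m * g), ⟨?_, ?_⟩, ?_⟩
    · refine Subgroup.mul_mem _ (Subgroup.mem_normalizer_iff.2 fun x => ?_) ht
      have hcen := Subgroup.mem_centralizer_iff.1 hc.2
      constructor
      · intro hx; rwa [← hcen x hx, mul_inv_cancel_right]
      · intro hx
        have h4 := hcen _ hx
        have h5 : c * x * c⁻¹ = x := by
          have := congrArg (fun z => c⁻¹ * z) h4
          simpa [mul_assoc] using this.symm
        rwa [h5] at hx
    · exact Basics.conj_smul_eq_self_iff.1 (by rw [← Basics.conj_smul_conj_smul, hce])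
    · rw [hπ, map_mul, map_mul, show QuotientGroup.mk' N c = 1 from (QuotientGroup.eq_one_iff c).2 hc.1,
        show QuotientGroup.mk' N m = 1 from (QuotientGroup.eq_one_iff m).2 hm, one_mul, one_mul]
  obtain ⟨gen', hgen'⟩ := QuotientGroup.mk'_surjective N (gen : G ⧸ N)
  obtain ⟨h, hhT, hhπ⟩ := hcover gen'
  rw [hgen'] at hhπ
  have hord : orderOf (π h) = n := by rw [hhπ, Subgroup.orderOf_coe, hgen]
  by_contra hcon
  push Not at hcon
  have hpow : ∀ g : G, π g = π h → g ^ n = 1 := by
    intro g hg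
    by_contra hne
    obtain ⟨q, hq, hqN, x, hx⟩ := exists_order_mul_of_pow_ne_one N (g := g) (n := n)
      (by rw [← hπ, hg, hord]) hne
    exact hcon q hq hqN x hx
  -- the action on the Frattini quotient
  let V := P ⧸ frattini P
  have hVp : IsPGroup p P := hP.isPGroup
  let _ : CommGroup V :=
    { (inferInstance : Group V) with
      mul_comm := fun a b => by
        obtain ⟨a, rfl⟩ := QuotientGroup.mk_surjective a
        obtain ⟨b, rfl⟩ := QuotientGroup.mk_surjective b
        rw [← commutatorElement_eq_one_iff_mul_comm]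
        exact (QuotientGroup.eq_one_iff _).2 (FGB.commutatorElement_mem_frattini hVp a b) }
  let act : MulAut P →* MulAut V :=
    { toFun := fun e => QuotientGroup.congr (frattini P) (frattini P) e
        (Subgroup.characteristic_iff_map_eq.1 frattini_characteristic e)
      map_one' := MulEquiv.ext fun x => by
        obtain ⟨x, rfl⟩ := QuotientGroup.mk_surjective x
        rfl
      map_mul' := fun e e' => MulEquiv.ext fun x => by
        obtain ⟨x, rfl⟩ := QuotientGroup.mk_surjective x
        rfl }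
  let ρ : T →* MulAut V :=
    act.comp (P.normalizerMonoidHom.comp (Subgroup.inclusion inf_le_right))
  have hρ : ∀ (t : T) (x : P), ρ t (QuotientGroup.mk x) =
      QuotientGroup.mk (⟨(t : G) * x * (t : G)⁻¹,
        (Subgroup.mem_normalizer_iff.1 t.2.2 x).1 x.2⟩ : P) := fun t x => rfl
  have hF0T : F0 ≤ T := le_inf Subgroup.le_normalizer hPinv
  obtain ⟨f, hf, v, hv⟩ : ∃ f : T, f ∈ F0.subgroupOf T ∧ ∃ v : V, ρ f v ≠ v := by
    by_contra hall
    push Not at hall
    apply hPmove
    intro y hy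
    refine Subgroup.mem_centralizer_iff.2 fun x hx => ?_
    refine LocalEvenB.commute_of_frattini hVp (hPinv hx) ?_ ?_ y hy
    · refine Nat.Coprime.coprime_dvd_left (Subgroup.orderOf_dvd_natCard F0 hx) ?_
      refine Nat.Coprime.coprime_dvd_right ?_ hcop0
      have hntP : y ≠ 1 → p ∣ Nat.card N := fun h1 =>
        ((hVp.to_le le_rfl).card_eq_or_dvd.resolve_left (fun h => h1 (by
          have := Subgroup.eq_bot_of_card_eq P h
          rwa [this, Subgroup.mem_bot] at hy))).trans (Subgroup.card_dvd_of_le hPN)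
      by_cases h1 : p ∣ Nat.card N
      · exact h1
      · exfalso
        apply hPmove
        have hP1 : P = ⊥ := P.eq_bot_of_card_eq
          ((hVp.card_eq_or_dvd).resolve_right fun h => h1 (h.trans (Subgroup.card_dvd_of_le hPN)))
        rw [hP1]; exact bot_le
    · intro z hz
      have h1 := hall ⟨x, hF0T hx⟩ hx (QuotientGroup.mk ⟨z, hz⟩)
      rw [hρ, ← div_eq_one, ← QuotientGroup.mk_div, QuotientGroup.eq_one_iff, div_eq_mul_inv] at h1
      exact ⟨_, h1, rfl⟩
  obtain ⟨w, hw⟩ := norm_nontrivial ρ (F0.subgroupOf T) ⟨h, hhT⟩ n (by omega) (by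
      rw [Subgroup.mem_normalizer_iff]
      exact fun x => Subgroup.mem_normalizer_iff.1 hhT.1 x) (by
      intro i hi0 hin a ha hcomm
      have hc : h ^ i * (a : G) = (a : G) * h ^ i := by simpa using congrArg Subtype.val hcomm
      have h1 : π (a : G) = 1 := by
        refine hfpf _ (hF0π ▸ Subgroup.mem_map_of_mem π ha) (π h ^ i) ?_ ?_ ?_
        · rw [hhπ]; exact pow_mem gen.2 i
        · exact pow_ne_one_of_lt_orderOf (by omega) (by omega)
        · rw [← map_pow, ← map_mul, ← map_mul, hc]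
      exact Subtype.ext (hF0N _ ha ((QuotientGroup.eq_one_iff _).1 h1)))
    (by
      obtain ⟨k, hk⟩ := IsPGroup.iff_card.1 (hVp.to_quotient (frattini P))
      rw [Nat.card_congr (Subgroup.subgroupOfEquivOfLe hF0T).toEquiv, hk]
      refine Nat.Coprime.pow_right k ?_
      refine Nat.Coprime.coprime_dvd_right ?_ hcop0
      rcases hVp.card_eq_or_dvd with h1 | h1
      · exact absurd (Subgroup.eq_bot_of_card_eq P h1 ▸ bot_le) hPmove
      · exact h1.trans (Subgroup.card_dvd_of_le hPN))
    hf hv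
  obtain ⟨w, rfl⟩ := QuotientGroup.mk_surjective w
  apply hw
  have key : ∀ k : ℕ, ∃ y : P, ((w : G) * h) ^ k = (y : G) * h ^ k ∧
      (QuotientGroup.mk y : V) = ∏ i ∈ Finset.range k, ρ ((⟨h, hhT⟩ : T) ^ i) (QuotientGroup.mk w) := by
    intro k
    induction k with
    | zero => exact ⟨1, by simp, by simp⟩
    | succ k ih =>
      obtain ⟨y, hy, hy'⟩ := ih
      have hk : h ^ k * (w : G) * (h ^ k)⁻¹ ∈ P :=
        (Subgroup.mem_normalizer_iff.1 (pow_mem hhT.2 k) w).1 w.2
      refine ⟨y * ⟨_, hk⟩, ?_, ?_⟩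
      · rw [pow_succ, hy, Subgroup.coe_mul, pow_succ]; group
      · rw [QuotientGroup.mk_mul, hy', Finset.prod_range_succ]
        congr 1
  obtain ⟨y, hy, hy'⟩ := key n
  rw [← hy']
  have hwN : π ((w : G) * h) = π h := by
    rw [map_mul, hπ, show QuotientGroup.mk' N (w : G) = 1 from
      (QuotientGroup.eq_one_iff _).2 (hPN w.2), one_mul]
  rw [hpow _ hwN, hpow h rfl, mul_one] at hy
  rw [show y = 1 from Subtype.ext hy.symm, QuotientGroup.mk_one]

end Cfsg.Agent.Recog
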