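import Mathlib

/-! Half-transitive linear `p`-groups: elementary lemmas. -/

set_option autoImplicit false

namespace Cfsg.Agent.Recog.HalfTransP

variable {q : ℕ} [hq : Fact q.Prime] {V : Type*} [AddCommGroup V] [Module (ZMod q) V]
  {G : Type*} [Group G] {ρ : G →* (V ≃ₗ[ZMod q] V)}

/-- The stabiliser of a vector. -/
def stab (ρ : G →* (V ≃ₗ[ZMod q] V)) (v : V) : Subgroup G where
  carrier := {g | ρ g v = v}
  one_mem' := by simp
  mul_mem' := fun {g h} hg hh => by simp_all
  inv_mem' := fun {g} hg => by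
    show ρ g⁻¹ v = v
    conv_lhs => rw [← (hg : ρ g v = v)]
    rw [← LinearEquiv.mul_apply, ← map_mul, inv_mul_cancel, map_one]; rfl

theorem mem_stab {g : G} {v : V} : g ∈ stab ρ v ↔ ρ g v = v := Iff.rfl

theorem inv_apply (g : G) (v : V) : ρ g⁻¹ (ρ g v) = v := by
  rw [← LinearEquiv.mul_apply, ← map_mul, inv_mul_cancel, map_one]; rfl

theorem orbit_mul_stab [Finite G] (v : V) :
    Nat.card {u : V | ∃ g : G, ρ g v = u} * Nat.card (stab ρ v) = Nat.card G := by
  letI : MulAction G V := MulAction.compHom V ρ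
  have h1 := (MulAction.stabilizer G v).index_mul_card
  rw [MulAction.index_stabilizer] at h1
  exact h1

theorem stab_card_eq [Finite G]
    (hhalf : ∀ v w : V, v ≠ 0 → w ≠ 0 → Nat.card {u : V | ∃ g : G, ρ g v = u} = Nat.card {u : V | ∃ g : G, ρ g w = u})
    {v w : V} (hv : v ≠ 0) (hw : w ≠ 0) : Nat.card (stab ρ v) = Nat.card (stab ρ w) := by
  have h1 := orbit_mul_stab (ρ := ρ) v
  have h2 := orbit_mul_stab (ρ := ρ) w
  rw [hhalf v w hv hw] at h1
  rw [← h2] at h1
  refine Nat.eq_of_mul_eq_mul_left ?_ h1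
  by_contra h0
  rw [Nat.eq_zero_of_not_pos h0, zero_mul] at h2
  exact Nat.card_pos.ne h2

/-- The orbit sum. -/
def osum (ρ : G →* (V ≃ₗ[ZMod q] V)) (p : ℕ) (g : G) (v : V) : V := ∑ k ∈ Finset.range p, ρ (g ^ k) v

theorem osum_fixed {p : ℕ} {g : G} (hg : g ^ p = 1) (v : V) : ρ g (osum ρ p g v) = osum ρ p g v := by
  simp only [osum, map_sum]
  have e : ∀ k, ρ g (ρ (g ^ k) v) = ρ (g ^ (k + 1)) v := fun k => by
    rw [pow_succ', map_mul, LinearEquiv.mul_apply]
  simp only [e]
  have h1 := Finset.sum_range_succ' (fun k => ρ (g ^ k) v) p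
  have h2 := Finset.sum_range_succ (fun k => ρ (g ^ k) v) p
  rw [hg] at h2
  rw [h2, pow_zero] at h1
  exact (add_right_cancel h1).symm

theorem two_ne_zero_of (hq2 : q ≠ 2) : (2 : ZMod q) ≠ 0 := by
  intro h
  have h' : ((2 : ℕ) : ZMod q) = 0 := by simpa using h
  rw [ZMod.natCast_eq_zero_iff] at h'
  exact hq2 ((Nat.prime_dvd_prime_iff_eq hq.out Nat.prime_two).mp h')

/-- A semiregular group has no elementary abelian subgroup of order `p²` meeting the centre. -/
theorem mem_zpowers_of_semiregular [Nontrivial V] {p : ℕ} (hp : p.Prime) (hqp : q ≠ p)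
    (hfree : ∀ v : V, v ≠ 0 → ∀ g : G, ρ g v = v → g = 1) {x z : G} (hxz : Commute x z)
    (hx : x ^ p = 1) (hz : z ^ p = 1) (hz1 : z ≠ 1) : x ∈ Subgroup.zpowers z := by
  by_contra hnot
  obtain ⟨v, hv⟩ := exists_ne (0 : V)
  have h0 : ∀ g : G, g ≠ 1 → g ^ p = 1 → ∀ w, osum ρ p g w = 0 := by
    intro g hg1 hgp w
    by_contra hne
    exact hg1 (hfree _ hne g (osum_fixed hgp w))
  have hne : ∀ i : ℕ, x * z ^ i ≠ 1 := fun i h => hnot (by
    rw [eq_inv_of_mul_eq_one_left h]
    exact Subgroup.inv_mem _ (Subgroup.pow_mem _ (Subgroup.mem_zpowers z) i))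
  have hsum : ∑ i ∈ Finset.range p, osum ρ p (x * z ^ i) v = (p : ZMod q) • v := by
    simp only [osum]
    rw [Finset.sum_comm, Finset.sum_eq_single 0 (fun k hk hk0 => ?_) (fun h => absurd (Finset.mem_range.mpr hp.pos) h)]
    · simp [Nat.cast_smul_eq_nsmul]
    · have e : ∀ i : ℕ, ρ ((x * z ^ i) ^ k) v = ρ (x ^ k) (ρ ((z ^ k) ^ i) v) := fun i => by
        rw [(hxz.pow_right _).mul_pow, map_mul, LinearEquiv.mul_apply, ← pow_mul, ← pow_mul, mul_comm i k]
      simp only [e]
      rw [← map_sum]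
      have hk1 : z ^ k ≠ 1 := by
        intro h
        have : orderOf z = p := by haveI := Fact.mk hp; exact orderOf_eq_prime hz hz1
        rw [← orderOf_dvd_iff_pow_eq_one, this] at h
        exact hk0 (Nat.eq_zero_of_dvd_of_lt h (Finset.mem_range.mp hk))
      have := h0 (z ^ k) hk1 (by rw [← pow_mul, mul_comm, pow_mul, hz, one_pow]) v
      rw [osum] at this
      rw [this, map_zero]
  rw [Finset.sum_eq_zero fun i _ => h0 _ (hne i) (by rw [(hxz.pow_right i).mul_pow, hx, one_mul, ← pow_mul, mul_comm, pow_mul, hz, one_pow]) v] at hsum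
  rcases smul_eq_zero.mp hsum.symm with h | h
  · rw [ZMod.natCast_eq_zero_iff] at h
    exact hqp ((Nat.prime_dvd_prime_iff_eq hq.out hp).mp h)
  · exact hv h

/-- A linear map with two-point orbits alongside another one. -/
theorem eq_one_or_eq {U : Type*} [AddCommGroup U] [Module (ZMod q) U] (hq2 : q ≠ 2) (l m : U →ₗ[ZMod q] U)
    (hl : ∃ x, l x ≠ x) (h : ∀ x, l x ≠ x → m x = x ∨ m x = l x) : (∀ x, m x = x) ∨ (∀ x, m x = l x) := by
  obtain ⟨x0, hx0⟩ := hl
  have h2 := two_ne_zero_of hq2
  have hfix : ∀ y, l y = y → m y = y := by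
    intro y hy
    have hne : ∀ c : ZMod q, l (x0 + c • y) ≠ x0 + c • y := by
      intro c e
      rw [map_add, map_smul, hy] at e
      exact hx0 (add_right_cancel e)
    have h11 := h _ (hne 1)
    have h22 := h _ (hne 2)
    simp only [map_add, map_smul, one_smul, hy] at h11 h22
    rcases h x0 hx0 with hA | hA <;> rw [hA] at h11 h22 <;> rcases h11 with h1 | h1
    · exact add_left_cancel h1
    · exfalso
      rcases h22 with h3 | h3
      · have h4 : m y = y := smul_right_injective U h2 (add_left_cancel h3)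
        rw [h4] at h1
        exact hx0 (add_right_cancel h1).symm
      · have e1 : m y = l x0 - x0 + y := by linear_combination (norm := module) h1
        rw [e1] at h3
        have : l x0 - x0 = 0 := by linear_combination (norm := module) h3
        exact hx0 (sub_eq_zero.mp this)
    · exfalso
      rcases h22 with h3 | h3
      · have e1 : m y = x0 - l x0 + y := by linear_combination (norm := module) h1
        rw [e1] at h3
        have : l x0 - x0 = 0 := by linear_combination (norm := module) (-1 : ZMod q) • h3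
        exact hx0 (sub_eq_zero.mp this)
      · have h4 : m y = y := smul_right_injective U h2 (add_left_cancel h3)
        rw [h4] at h1
        exact hx0 (add_right_cancel h1)
    · exact add_left_cancel h1
  by_contra hcon
  push Not at hcon
  obtain ⟨⟨x, hx⟩, ⟨y, hy⟩⟩ := hcon
  have cases' : ∀ z, m z = z ∨ m z = l z := fun z => by
    by_cases hz : l z = z
    · exact Or.inl (hfix z hz)
    · exact h z hz
  have hx' : m x = l x := (cases' x).resolve_left hx
  have hy' : m y = y := (cases' y).resolve_right hy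
  rcases cases' (x + y) with h1 | h1
  · rw [map_add, hy'] at h1; exact hx (add_right_cancel h1)
  · rw [map_add, hx', map_add] at h1; exact hy (add_left_cancel h1)

/-- `q ^ d + 1` a power of two forces `d = 1`. -/
theorem mersenne {q d k : ℕ} (hq : 3 ≤ q) (hd : 1 ≤ d) (h : q ^ d + 1 = 2 ^ k) : d = 1 := by
  have hqd : 3 ≤ q ^ d := le_trans hq (Nat.le_self_pow (by omega) q)
  have hk2 : 2 ≤ k := by
    by_contra hlt
    have := Nat.pow_le_pow_right (show 1 ≤ 2 by omega) (show k ≤ 1 by omega)
    omega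
  have hqodd : q % 2 = 1 := by
    by_contra hev
    have h1 : 2 ∣ q ^ d := dvd_pow (by omega) (by omega)
    have h2 : 2 ∣ 2 ^ k := dvd_pow_self 2 (by omega)
    omega
  rcases Nat.even_or_odd d with ⟨e, rfl⟩ | hodd
  · exfalso
    have h4 : (q ^ e * q ^ e) % 4 = 1 := by
      have : (q ^ e) % 2 = 1 := by rw [Nat.pow_mod, hqodd, one_pow]; rfl
      obtain ⟨c, hc⟩ : ∃ c, q ^ e = 2 * c + 1 := ⟨q ^ e / 2, by omega⟩
      rw [hc]; ring_nf; omega
    rw [← pow_add] at h4
    have : 4 ∣ 2 ^ k := Nat.pow_dvd_pow 2 hk2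
    omega
  · by_contra hne
    have hgeom := geom_sum_mul (-(q : ℤ)) d
    set S := ∑ i ∈ Finset.range d, (-(q : ℤ)) ^ i
    have hSodd : (S : ZMod 2) = 1 := by
      have hq' : ((q : ℤ) : ZMod 2) = 1 := by
        rw [Int.cast_natCast, ← ZMod.natCast_mod, hqodd]; rfl
      simp only [S, Int.cast_sum, Int.cast_pow, Int.cast_neg, hq', ZMod.neg_eq_self_mod_two, one_pow,
        Finset.sum_const, Finset.card_range, nsmul_eq_mul, mul_one]
      obtain ⟨e, rfl⟩ := hodd
      push_cast
      rw [show (2 : ZMod 2) = 0 from rfl, zero_mul, zero_add]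
    have hS : S * ((q : ℤ) + 1) = (2 : ℤ) ^ k := by
      have : ((q ^ d + 1 : ℕ) : ℤ) = ((2 ^ k : ℕ) : ℤ) := by rw [h]
      push_cast at this
      rw [hodd.neg_pow] at hgeom
      linear_combination this - hgeom
    have hSnat : S.natAbs ∣ 2 ^ k := by
      have : S ∣ (2 : ℤ) ^ k := Dvd.intro _ hS
      have := Int.natAbs_dvd_natAbs.mpr this
      simpa [Int.natAbs_pow] using this
    obtain ⟨j, -, hj⟩ := (Nat.dvd_prime_pow Nat.prime_two).mp hSnat
    rcases j with _ | j
    · have hS1 : S = 1 ∨ S = -1 := Int.natAbs_eq_iff.mp (by simpa using hj)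
      have h2k : ((q : ℤ) ^ d + 1) = (q : ℤ) + 1 ∨ ((q : ℤ) ^ d + 1) = -((q : ℤ) + 1) := by
        have e : ((q : ℤ) ^ d + 1) = (2 : ℤ) ^ k := by exact_mod_cast h
        rcases hS1 with h1 | h1 <;> rw [h1] at hS
        · left; linarith
        · right; linarith
      rcases h2k with h1 | h1
      · have h5 : q ^ d = q ^ 1 := by
          rw [pow_one]; exact_mod_cast (by linarith : (q : ℤ) ^ d = (q : ℤ))
        exact hne (Nat.pow_right_injective (by omega) h5)
      · have : (0 : ℤ) < (q : ℤ) ^ d := by positivity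
        linarith
    · have h2 : (2 : ℤ) ∣ S := Int.natCast_dvd.mpr (hj ▸ dvd_pow_self 2 (by omega))
      have h0 := (ZMod.intCast_zmod_eq_zero_iff_dvd S 2).mpr h2
      rw [hSodd] at h0
      exact one_ne_zero h0

/-- `q ^ d = 2 ^ m + 1` only for `d = 1` and `3 ^ 2`. -/
theorem fermat {q d m : ℕ} (hq : 3 ≤ q) (hd : 1 ≤ d) (h : q ^ d = 2 ^ m + 1) : d = 1 ∨ (q = 3 ∧ d = 2) := by
  have hqd : 3 ≤ q ^ d := le_trans hq (Nat.le_self_pow (by omega) q)
  rcases Nat.even_or_odd d with ⟨e, rfl⟩ | hodd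
  · right
    obtain ⟨t, ht⟩ : ∃ t, q ^ e = t + 1 := ⟨q ^ e - 1, by have := Nat.one_le_pow e q (by omega); omega⟩
    rw [pow_add, ht] at h
    have hprod : t * (t + 2) = 2 ^ m := by linarith
    obtain ⟨i, -, hi⟩ := (Nat.dvd_prime_pow Nat.prime_two).mp (hprod ▸ dvd_mul_right t (t + 2))
    obtain ⟨j, -, hj⟩ := (Nat.dvd_prime_pow Nat.prime_two).mp (hprod ▸ dvd_mul_left (t + 2) t)
    have ht2 : t = 2 := by
      by_contra hne
      rcases Nat.lt_or_ge i 2 with hi2 | hi2
      · interval_cases i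
        · rw [pow_zero] at hi
          rcases j with _ | _ | j
          · omega
          · omega
          · have := Dvd.intro (2 ^ (j + 1)) (show 2 * 2 ^ (j + 1) = t + 2 by rw [hj, pow_succ' 2 (j + 1)])
            omega
        · omega
      · have h4 : 4 ∣ t := hi ▸ Nat.pow_dvd_pow 2 hi2
        rcases j with _ | _ | j
        · omega
        · have := Nat.le_self_pow (show i ≠ 0 by omega) 2; omega
        · have h5 : 4 ∣ t + 2 := (Nat.pow_dvd_pow 2 (show 2 ≤ j + 1 + 1 by omega)).trans hj.symm.dvd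
          omega
    have he : e = 1 := by
      rw [ht2] at ht
      by_contra hne
      rcases e with _ | _ | e
      · simp at ht
      · exact hne rfl
      · have h8 := Nat.pow_le_pow_left hq (e + 1 + 1)
        have h9 : 3 ^ 2 ≤ 3 ^ (e + 1 + 1) := Nat.pow_le_pow_right (by omega) (by omega)
        omega
    rw [he, pow_one, ht2] at ht
    omega
  · left
    by_contra hne
    have hgeom := geom_sum_mul (q : ℤ) d
    set S := ∑ i ∈ Finset.range d, (q : ℤ) ^ i with hSdef
    have hqodd : q % 2 = 1 := by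
      rcases m with _ | m
      · rw [pow_zero] at h; omega
      by_contra hev
      have h1 : 2 ∣ q ^ d := dvd_pow (by omega) (by omega)
      have h2 : 2 ∣ 2 ^ (m + 1) := dvd_pow_self 2 (by omega)
      omega
    have hSodd : (S : ZMod 2) = 1 := by
      have hq' : ((q : ℤ) : ZMod 2) = 1 := by
        rw [Int.cast_natCast, ← ZMod.natCast_mod, hqodd]; rfl
      simp only [S, Int.cast_sum, Int.cast_pow, hq', one_pow,
        Finset.sum_const, Finset.card_range, nsmul_eq_mul, mul_one]
      obtain ⟨e, rfl⟩ := hodd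
      push_cast
      rw [show (2 : ZMod 2) = 0 from rfl, zero_mul, zero_add]
    have hS : S * ((q : ℤ) - 1) = (2 : ℤ) ^ m := by
      have : ((q ^ d : ℕ) : ℤ) = ((2 ^ m + 1 : ℕ) : ℤ) := by rw [h]
      push_cast at this
      linarith
    have hSpos : 0 ≤ S := Finset.sum_nonneg fun i _ => by positivity
    have hSnat : S.natAbs ∣ 2 ^ m := by
      have : S ∣ (2 : ℤ) ^ m := Dvd.intro _ hS
      have := Int.natAbs_dvd_natAbs.mpr this
      simpa [Int.natAbs_pow] using this
    obtain ⟨j, -, hj⟩ := (Nat.dvd_prime_pow Nat.prime_two).mp hSnat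
    rcases j with _ | j
    · rcases Int.natAbs_eq_iff.mp (show S.natAbs = 1 by simpa using hj) with h1 | h1 <;>
        rw [Nat.cast_one] at h1
      · rw [h1] at hgeom
        have h5 : q ^ d = q ^ 1 := by
          rw [pow_one]; exact_mod_cast (by linarith : (q : ℤ) ^ d = (q : ℤ))
        exact hne (Nat.pow_right_injective (by omega) h5)
      · linarith
    · have h2 : (2 : ℤ) ∣ S := Int.natCast_dvd.mpr (hj ▸ dvd_pow_self 2 (by omega))
      have h0 := (ZMod.intCast_zmod_eq_zero_iff_dvd S 2).mpr h2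
      rw [hSodd] at h0
      exact one_ne_zero h0

/-- Half-transitivity with a semiregular cyclic subgroup of index two. -/
theorem index_two_case [Finite V] [Finite G] [Nontrivial V] (hq2 : q ≠ 2) (hρ : Function.Injective ρ)
    (hhalf : ∀ v w : V, v ≠ 0 → w ≠ 0 → Nat.card {u : V | ∃ g : G, ρ g v = u} = Nat.card {u : V | ∃ g : G, ρ g w = u})
    (hnfree : ¬ ∀ v : V, v ≠ 0 → ∀ g : G, ρ g v = v → g = 1)
    (C : Subgroup G) (hC : C.index = 2) (hfree : ∀ v : V, v ≠ 0 → ∀ g ∈ C, ρ g v = v → g = 1)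
    (z : G) (hzC : z ∈ C) (hz : z ^ 2 = 1) (hz1 : z ≠ 1)
    (hconj : ∀ t, t ∉ C → t ^ 2 = 1 → ∃ g : G, g * t * g⁻¹ = t * z)
    (k : ℕ) (hN : Nat.card {t : G // t ∉ C ∧ t ^ 2 = 1} = 2 ^ k) :
    Nat.card V = q ^ 2 ∧ q + 1 = 2 ^ k := by
  classical
  haveI := Fintype.ofFinite V
  haveI := Fintype.ofFinite G
  have hst : ∀ v : V, v ≠ 0 → Nat.card (stab ρ v) = 2 := by
    intro v hv
    have hle : ∀ w : V, w ≠ 0 → Nat.card (stab ρ w) ≤ 2 := by
      intro w hw
      have hinf : stab ρ w ⊓ C = ⊥ := by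
        rw [eq_bot_iff]; exact fun g hg => Subgroup.mem_bot.mpr (hfree w hw g hg.2 hg.1)
      haveI : C.Normal := Subgroup.normal_of_index_eq_two hC
      have := Subgroup.relIndex_dvd_index_of_normal C (stab ρ w)
      rw [hC] at this
      have h3 : C.relIndex (stab ρ w) = Nat.card (stab ρ w) := by
        rw [Subgroup.relIndex, Subgroup.subgroupOf_eq_bot.mpr (disjoint_iff.mpr (by rwa [inf_comm])), Subgroup.index_bot]
      rw [h3] at this
      exact Nat.le_of_dvd two_pos this
    push Not at hnfree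
    obtain ⟨w, hw, g, hg, hg1⟩ := hnfree
    rw [stab_card_eq hhalf hv hw]
    refine le_antisymm (hle w hw) ?_
    haveI : Nontrivial (stab ρ w) := ⟨⟨⟨g, hg⟩, 1, fun e => hg1 (congrArg Subtype.val e)⟩⟩
    exact Finite.one_lt_card
  -- every vector is fixed by exactly one involution outside `C`
  let T := {t : G // t ∉ C ∧ t ^ 2 = 1}
  let F : T → Finset V := fun t => Finset.univ.filter fun v => v ≠ 0 ∧ ρ t.1 v = v
  have huniq : ∀ v : V, v ≠ 0 → ∃! t : T, ρ t.1 v = v := by
    intro v hv
    have h2 := hst v hv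
    haveI : Nontrivial (stab ρ v) := Finite.one_lt_card_iff_nontrivial.mp (by omega)
    obtain ⟨⟨g, hg⟩, hg1⟩ := exists_ne (1 : stab ρ v)
    have hg1' : g ≠ 1 := fun e => hg1 (Subtype.ext e)
    have hgC : g ∉ C := fun hc => hg1' (hfree v hv g hc hg)
    have hg2 : g ^ 2 = 1 := by
      have h9 : (⟨g, hg⟩ : stab ρ v) ^ 2 = 1 := h2 ▸ pow_card_eq_one'
      exact congrArg Subtype.val h9
    refine ⟨⟨g, hgC, hg2⟩, hg, fun t ht => Subtype.ext ?_⟩
    by_contra hne
    have hset : ({1, g, t.1} : Finset G) ⊆ (stab ρ v : Set G).toFinset := by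
      intro x hx
      simp only [Finset.mem_insert, Finset.mem_singleton] at hx
      rw [Set.mem_toFinset]
      rcases hx with rfl | rfl | rfl
      · exact one_mem _
      · exact hg
      · exact ht
    have hc := Finset.card_le_card hset
    rw [Set.toFinset_card, ← Nat.card_eq_fintype_card] at hc
    have h3 : ({1, g, t.1} : Finset G).card = 3 :=
      Finset.card_eq_three.mpr ⟨1, g, t.1, Ne.symm hg1', fun e => t.2.1 (e ▸ one_mem C), Ne.symm hne, rfl⟩
    have h4 : Nat.card (stab ρ v : Set G) = 2 := h2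
    omega
  have hcount : ∑ t : T, (F t).card = Fintype.card V - 1 := by
    rw [← Finset.card_biUnion]
    · rw [show (Finset.univ.biUnion F) = Finset.univ.erase (0 : V) from ?_]
      · rw [Finset.card_erase_of_mem (Finset.mem_univ _), Finset.card_univ]
      · ext v
        simp only [F, Finset.mem_biUnion, Finset.mem_univ, true_and, Finset.mem_filter, Finset.mem_erase, and_true]
        refine ⟨fun ⟨_, h, _⟩ => h, fun h => ?_⟩
        obtain ⟨t, ht, -⟩ := huniq v h
        exact ⟨t, h, ht⟩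
    · intro s _ t _ hst'
      rw [Function.onFun, Finset.disjoint_left]
      intro v h1 h2
      simp only [F, Finset.mem_filter, Finset.mem_univ, true_and] at h1 h2
      exact hst' ((huniq v h1.1).unique h1.2 h2.2)
  -- `z` negates every vector
  have hzneg : ∀ v : V, ρ z v = -v := by
    intro v
    by_contra hne
    have hs : v + ρ z v ≠ 0 := fun e => hne (eq_neg_of_add_eq_zero_right e)
    refine hz1 (hfree _ hs z hzC ?_)
    rw [map_add, ← LinearEquiv.mul_apply, ← map_mul, ← pow_two, hz, map_one, LinearEquiv.coe_one, id, add_comm]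
  -- each fixed space has order the square root of `|V|`
  have hsq : ∀ t : T, ((F t).card + 1) * ((F t).card + 1) = Fintype.card V := by
    intro t
    let f : V →ₗ[ZMod q] V := (ρ t.1 : V →ₗ[ZMod q] V)
    let P := LinearMap.ker (f - LinearMap.id)
    let N := LinearMap.ker (f + LinearMap.id)
    have hP : ∀ v, v ∈ P ↔ ρ t.1 v = v := fun v => by simp [P, f, sub_eq_zero]
    have hN' : ∀ v, v ∈ N ↔ ρ t.1 v = -v := fun v => by simp [N, f, add_eq_zero_iff_eq_neg]
    have hFP : (F t).card + 1 = Nat.card P := by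
      rw [Nat.card_eq_fintype_card, Fintype.card_of_subtype (insert 0 (F t)) (fun v => ?_),
        Finset.card_insert_of_notMem (by simp [F])]
      simp only [Finset.mem_insert, F, Finset.mem_filter, Finset.mem_univ, true_and, hP]
      constructor
      · rintro (rfl | h)
        · exact map_zero _
        · exact h.2
      · intro h; by_cases h0 : v = 0
        · exact Or.inl h0
        · exact Or.inr ⟨h0, h⟩
    have hPN : Nat.card N = Nat.card P := by
      obtain ⟨g, hg⟩ := hconj t.1 t.2.1 t.2.2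
      have hg' : ∀ v, ρ t.1 (ρ g v) = - ρ g (ρ t.1 v) := fun v => by
        have e : ρ g (ρ t.1 v) = ρ t.1 (ρ z (ρ g v)) := by
          simp only [← LinearEquiv.mul_apply, ← map_mul]
          congr 2
          rw [← mul_assoc, ← hg]
          group
        rw [e, hzneg, map_neg, neg_neg]
      refine (Nat.card_congr ((ρ g).toEquiv.subtypeEquiv fun v => ?_)).symm
      rw [hP, LinearEquiv.coe_toEquiv, hN', hg', neg_inj]
      exact ⟨fun h => by rw [h], fun h => (ρ g).injective h⟩
    have hprod : Nat.card P * Nat.card N = Nat.card V := by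
      rw [← Nat.card_prod]
      have h2 := two_ne_zero_of hq2
      refine Nat.card_congr (Equiv.ofBijective (fun x : P × N => (x.1 : V) + x.2) ⟨?_, ?_⟩)
      · rintro ⟨a, b⟩ ⟨a', b'⟩ h
        simp only at h
        have h' := congrArg (ρ t.1) h
        rw [map_add, map_add, (hP _).mp a.2, (hN' _).mp b.2, (hP _).mp a'.2, (hN' _).mp b'.2] at h'
        have e1 : (2 : ZMod q) • (a : V) = (2 : ZMod q) • (a' : V) := by linear_combination (norm := module) h + h'
        have e2 := smul_right_injective V h2 e1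
        rw [e2] at h
        exact Prod.ext (Subtype.ext e2) (Subtype.ext (add_left_cancel h))
      · intro v
        have htt : ρ t.1 (ρ t.1 v) = v := by
          rw [← LinearEquiv.mul_apply, ← map_mul, ← pow_two, t.2.2, map_one]; rfl
        refine ⟨(⟨(2 : ZMod q)⁻¹ • (v + ρ t.1 v), ?_⟩, ⟨(2 : ZMod q)⁻¹ • (v - ρ t.1 v), ?_⟩), ?_⟩
        · rw [hP, map_smul, map_add, htt, add_comm]
        · rw [hN', map_smul, map_sub, htt, ← smul_neg, neg_sub]
        · show (2 : ZMod q)⁻¹ • (v + ρ t.1 v) + (2 : ZMod q)⁻¹ • (v - ρ t.1 v) = v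
          rw [← smul_add, show v + ρ t.1 v + (v - ρ t.1 v) = (2 : ZMod q) • v by module, smul_smul,
            inv_mul_cancel₀ h2, one_smul]
    rw [hFP, ← Nat.card_eq_fintype_card]
    nth_rewrite 2 [← hPN]
    exact hprod
  have hcardT : Fintype.card T = 2 ^ k := by rw [← Nat.card_eq_fintype_card]; exact hN
  obtain ⟨t0⟩ : Nonempty T := Fintype.card_pos_iff.mp (by rw [hcardT]; positivity)
  set f := (F t0).card with hf
  have hall : ∀ t : T, (F t).card = f := by
    intro t
    have h1 := Nat.mul_self_inj.mp ((hsq t).trans (hsq t0).symm)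
    omega
  rw [Finset.sum_congr rfl (fun t _ => hall t), Finset.sum_const, Finset.card_univ, hcardT, smul_eq_mul,
    ← hsq t0] at hcount
  have hV2 : 1 < Fintype.card V := Fintype.one_lt_card
  have hf0 : 0 < f := by
    by_contra h0
    rw [← hsq t0, show (F t0).card = 0 by omega] at hV2
    omega
  have hk : 2 ^ k = f + 2 := by
    have : (f + 1) * (f + 1) - 1 = (f + 2) * f := by
      have e : (f + 1) * (f + 1) = (f + 2) * f + 1 := by ring
      omega
    rw [this] at hcount
    exact Nat.eq_of_mul_eq_mul_right hf0 hcount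
  obtain ⟨n, hn⟩ : ∃ n, Fintype.card V = q ^ n := ⟨_, by
    rw [← Nat.card_eq_fintype_card, Module.natCard_eq_pow_finrank (K := ZMod q), Nat.card_zmod]⟩
  have hsq0 := hsq t0
  obtain ⟨d, hdn, hd⟩ := (Nat.dvd_prime_pow hq.out).mp (show f + 1 ∣ q ^ n from ⟨f + 1, by rw [← hn, hsq0]⟩)
  have hd1 : 1 ≤ d := by
    rcases d with _ | d
    · simp at hd; omega
    · omega
  have hd' : d = 1 := mersenne (by have := hq.out.two_le; omega) hd1 (show q ^ d + 1 = 2 ^ k by omega)
  rw [hd', pow_one] at hd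
  refine ⟨?_, by omega⟩
  rw [Nat.card_eq_fintype_card, ← hsq0, hd, pow_two]

end Cfsg.Agent.Recog.HalfTransP
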