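import Mathlib.GroupTheory.GroupAction.Quotient
import Mathlib.GroupTheory.GroupAction.MultipleTransitivity
import Mathlib.LinearAlgebra.Matrix.NonsingularInverse
import Mathlib.Data.Real.Basic

/-!
# Subgroups of index equal to the degree in doubly transitive groups
-/

set_option autoImplicit false

namespace Cfsg.Agent.Recog.IndexDegree

open scoped Classical in
/-- Membership of a point in a translate of an `H`-invariant set. -/
noncomputable def inc {G Ω : Type*} [Group G] [MulAction G Ω] (H : Subgroup G) (O : Set Ω)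
    (ω : Ω) (c : G ⧸ H) : ℝ :=
  if c.out⁻¹ • ω ∈ O then 1 else 0

variable {G Ω : Type*} [Group G] [MulAction G Ω] {H : Subgroup G} {O : Set Ω}

lemma inc_mk (hO : ∀ h ∈ H, ∀ x ∈ O, h • x ∈ O) (g : G) (ω : Ω) [Decidable (g⁻¹ • ω ∈ O)] :
    inc H O ω (g : G ⧸ H) = if g⁻¹ • ω ∈ O then 1 else 0 := by
  obtain ⟨h, hh⟩ := QuotientGroup.mk_out_eq_mul H g
  have hiff : ((g : G ⧸ H).out⁻¹ • ω ∈ O) ↔ (g⁻¹ • ω ∈ O) := by
    rw [hh, mul_inv_rev, mul_smul]
    constructor
    · intro hx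
      have := hO h h.2 _ hx
      rwa [smul_inv_smul] at this
    · exact hO _ (inv_mem h.2) _
  simp only [inc, hiff]

lemma inc_smul (hO : ∀ h ∈ H, ∀ x ∈ O, h • x ∈ O) (g : G) (ω : Ω) (c : G ⧸ H) :
    inc H O (g • ω) (g • c) = inc H O ω c := by
  classical
  obtain ⟨k, rfl⟩ := QuotientGroup.mk_surjective c
  show inc H O (g • ω) ((g * k : G) : G ⧸ H) = _
  rw [inc_mk hO, inc_mk hO, mul_inv_rev, mul_smul, inv_smul_smul]

variable [Fintype (G ⧸ H)]

lemma gram_smul {O' : Set Ω} (hO : ∀ h ∈ H, ∀ x ∈ O, h • x ∈ O) (hO' : ∀ h ∈ H, ∀ x ∈ O', h • x ∈ O')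
    (g : G) (ω η : Ω) :
    ∑ c : G ⧸ H, inc H O (g • ω) c * inc H O' (g • η) c = ∑ c : G ⧸ H, inc H O ω c * inc H O' η c := by
  rw [← Equiv.sum_comp (MulAction.toPerm g : Equiv.Perm (G ⧸ H))]
  exact Finset.sum_congr rfl fun c _ => by rw [MulAction.toPerm_apply, inc_smul hO, inc_smul hO']

lemma sum_smul (hO : ∀ h ∈ H, ∀ x ∈ O, h • x ∈ O) (g : G) (ω : Ω) :
    ∑ c : G ⧸ H, inc H O (g • ω) c = ∑ c : G ⧸ H, inc H O ω c := by
  rw [← Equiv.sum_comp (MulAction.toPerm g : Equiv.Perm (G ⧸ H))]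
  exact Finset.sum_congr rfl fun c _ => by rw [MulAction.toPerm_apply, inc_smul hO]

/-- Two disjoint invariant subsets, the first one proper, make up everything. -/
theorem two_orbits [Fintype Ω] (h2 : MulAction.IsMultiplyPretransitive G Ω 2)
    (hidx : H.index = Fintype.card Ω) {O' : Set Ω}
    (hO : ∀ h ∈ H, ∀ x ∈ O, h • x ∈ O) (hO' : ∀ h ∈ H, ∀ x ∈ O', h • x ∈ O')
    {x₀ x₁ z : Ω} (hx₀ : x₀ ∈ O) (hx₁ : x₁ ∈ O') (hdis : x₁ ∉ O) (hdis' : x₀ ∉ O')
    (hz : z ∉ O) (hz' : z ∉ O') : False := by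
  classical
  have ht : ∀ a b : Ω, ∃ g : G, g • a = b :=
    (MulAction.isPretransitive_of_is_two_pretransitive (G := G) (α := Ω)).exists_smul_eq
  have ht2 : ∀ a b c d : Ω, a ≠ b → c ≠ d → ∃ g : G, g • a = c ∧ g • b = d :=
    fun a b c d hab hcd => MulAction.is_two_pretransitive_iff.1 h2 hab hcd
  have hx01 : x₁ ≠ x₀ := fun h => hdis (h ▸ hx₀)
  obtain ⟨e⟩ : Nonempty (Ω ≃ G ⧸ H) := Fintype.card_eq.1 (by
    rw [← hidx, Subgroup.index, Nat.card_eq_fintype_card])
  let A : Matrix Ω Ω ℝ := Matrix.of fun ω j => inc H O ω (e j)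
  let A' : Matrix Ω Ω ℝ := Matrix.of fun ω j => inc H O' ω (e j)
  let J : Matrix Ω Ω ℝ := Matrix.of fun _ _ => 1
  have hgram : ∀ (B B' : Set Ω), (∀ h ∈ H, ∀ x ∈ B, h • x ∈ B) → (∀ h ∈ H, ∀ x ∈ B', h • x ∈ B') →
      ∀ ω η : Ω, ∑ j, inc H B ω (e j) * inc H B' η (e j) =
        if ω = η then ∑ c : G ⧸ H, inc H B x₀ c * inc H B' x₀ c
        else ∑ c : G ⧸ H, inc H B x₀ c * inc H B' x₁ c := by
    intro B B' hB hB' ω η
    rw [Equiv.sum_comp e (fun c => inc H B ω c * inc H B' η c)]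
    split_ifs with h
    · subst h
      obtain ⟨g, rfl⟩ := ht x₀ ω
      exact gram_smul hB hB' g x₀ x₀
    · obtain ⟨g, rfl, rfl⟩ := ht2 x₀ x₁ ω η (Ne.symm hx01) h
      exact gram_smul hB hB' g x₀ x₁
  set r := ∑ c : G ⧸ H, inc H O x₀ c with hr
  have hdiag : ∑ c : G ⧸ H, inc H O x₀ c * inc H O x₀ c = r :=
    Finset.sum_congr rfl fun c _ => by unfold inc; split_ifs <;> simp
  set lam := ∑ c : G ⧸ H, inc H O x₀ c * inc H O x₁ c with hlam
  have hr1 : 1 ≤ r := by
    refine le_trans (le_of_eq ?_) (Finset.single_le_sum (fun c _ => ?_) (Finset.mem_univ ((1 : G) : G ⧸ H)))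
    · rw [inc_mk hO]; simp [hx₀]
    · unfold inc; split_ifs <;> norm_num
  have hlr : lam < r := by
    refine Finset.sum_lt_sum (fun c _ => ?_) ⟨((1 : G) : G ⧸ H), Finset.mem_univ _, ?_⟩
    · unfold inc; split_ifs <;> simp
    · rw [inc_mk hO, inc_mk hO]; simp [hx₀, hdis]
  have hl0 : 0 ≤ lam := Finset.sum_nonneg fun c _ => by unfold inc; split_ifs <;> simp
  have hAA : A * A.transpose = (r - lam) • (1 : Matrix Ω Ω ℝ) + lam • J := by
    ext ω η
    rw [Matrix.mul_apply]
    simp only [A, Matrix.transpose_apply, Matrix.add_apply, Matrix.smul_apply, smul_eq_mul, J,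
      Matrix.of_apply, Matrix.one_apply, hgram O O hO hO, hdiag, ← hlam]
    split_ifs <;> ring
  have hdet : IsUnit (A.transpose).det := by
    have hu : IsUnit (A * A.transpose).det := by
      rw [← Matrix.isUnit_iff_isUnit_det, ← Matrix.mulVec_injective_iff_isUnit]
      intro u v huv
      rw [← sub_eq_zero, ← Matrix.mulVec_sub, hAA] at huv
      have hw : ∀ i, (r - lam) * (u - v) i + lam * ∑ j, (u - v) j = 0 := fun i => by
        have := congrFun huv i
        simp only [Matrix.add_mulVec, Matrix.smul_mulVec, Matrix.one_mulVec, Pi.add_apply,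
          Pi.smul_apply, smul_eq_mul, Pi.zero_apply] at this
        simp only [Matrix.mulVec, dotProduct, J, Matrix.of_apply, one_mul] at this
        exact this
      have hs := Finset.sum_eq_zero fun i (_ : i ∈ Finset.univ) => hw i
      rw [Finset.sum_add_distrib, ← Finset.mul_sum, Finset.sum_const, Finset.card_univ, nsmul_eq_mul] at hs
      have hS : (∑ j, (u - v) j) * ((r - lam) + (Fintype.card Ω : ℝ) * lam) = 0 := by
        rw [← hs]; ring
      have hS0 := (mul_eq_zero.1 hS).resolve_right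
        (by have : (0 : ℝ) ≤ (Fintype.card Ω : ℝ) * lam := by positivity
            intro; linarith)
      funext i
      have := hw i
      rw [hS0, mul_zero, add_zero] at this
      exact sub_eq_zero.1 ((mul_eq_zero.1 this).resolve_left (by intro; linarith))
    rw [Matrix.det_mul] at hu
    exact isUnit_of_mul_isUnit_right hu
  set p := ∑ c : G ⧸ H, inc H O' x₀ c * inc H O x₀ c with hp
  set q := ∑ c : G ⧸ H, inc H O' x₀ c * inc H O x₁ c with hq
  let α := (p - q) / (r - lam)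
  let β := (q - α * lam) / r
  have hα : α * (r - lam) = p - q := div_mul_cancel₀ _ (by intro; linarith)
  have hβ : β * r = q - α * lam := div_mul_cancel₀ _ (by intro; linarith)
  have hkey : (A' - α • A - β • J) * A.transpose = 0 := by
    ext ω η
    rw [sub_mul, sub_mul, Matrix.smul_mul, Matrix.smul_mul, hAA]
    simp only [Matrix.sub_apply, Matrix.smul_apply, Matrix.add_apply, smul_eq_mul, Matrix.mul_apply,
      Matrix.transpose_apply, Matrix.zero_apply, A, A', J, Matrix.of_apply, one_mul, hgram O' O hO' hO, Matrix.one_apply]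
    have hrow : ∑ j, inc H O η (e j) = r := by
      rw [Equiv.sum_comp e (fun c => inc H O η c)]
      obtain ⟨g, rfl⟩ := ht x₀ η
      rw [sum_smul hO]
    rw [hrow, hβ, ← hp, ← hq]
    split_ifs <;> linarith [hα]
  have hzero : A' - α • A - β • J = 0 := by
    have := congrArg (· * (A.transpose)⁻¹) hkey
    simpa [Matrix.mul_assoc, Matrix.mul_nonsing_inv _ hdet] using this
  have hval : ∀ ω : Ω, inc H O' ω ((1 : G) : G ⧸ H) - α * inc H O ω ((1 : G) : G ⧸ H) - β = 0 := by
    intro ω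
    have := congrFun (congrFun hzero ω) (e.symm ((1 : G) : G ⧸ H))
    simpa [A, A', J] using this
  have hzv := hval z
  have h0v := hval x₀
  have h1v := hval x₁
  rw [inc_mk hO, inc_mk hO'] at hzv h0v h1v
  simp [hz, hz', hx₀, hdis', hdis, hx₁] at hzv h0v h1v
  linarith

end Cfsg.Agent.Recog.IndexDegree
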