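import Mathlib

/-!
# Packed 7 × 7 matrices over the field with eleven elements

A matrix is a natural number with 49 fields of 22 bits in row major order; a product is computed by
scalar multiples of packed rows followed by one reduction of all fields modulo 11.
-/

set_option autoImplicit false

namespace Cfsg.Agent.Recog.PackedEleven

/-- The natural number with the given 22-bit fields. -/
def pk : List ℕ → ℕ
  | [] => 0
  | a :: l => a + 4194304 * pk l

/-- The field with the given number. -/
def field (n m : ℕ) : ℕ := Nat.land (Nat.shiftRight n (22 * m)) 4194303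

/-- The row with the given number. -/
def row (n i : ℕ) : ℕ := Nat.land (Nat.shiftRight n (154 * i)) 22835963083295358096932575511191922182123945983

/-- A field mask with 255 in each of the 49 fields. -/
def mask : ℕ := pk (List.replicate 49 255)

/-- All fields reduced modulo 11, for fields at most 1575. -/
def reduce (n : ℕ) : ℕ := n - 11 * Nat.land (Nat.shiftRight (n * 1490) 14) mask

theorem mask_step (q r m : ℕ) (hq : q < 256) :
    Nat.land (q + 256 * r) (255 + 4194304 * m) = q + 4194304 * Nat.land (r / 16384) m := by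
  rw [show ∀ a b : ℕ, Nat.land a b = a &&& b from fun _ _ => rfl]
  rw [← Nat.mod_add_div ((q + 256 * r) &&& (255 + 4194304 * m)) (2 ^ 22)]
  congr 1
  · rw [Nat.and_mod_two_pow, show (255 + 4194304 * m) % 2 ^ 22 = 255 by omega,
      show (255 : ℕ) = 2 ^ 8 - 1 by norm_num, Nat.and_two_pow_sub_one_eq_mod]
    omega
  · rw [Nat.and_div_two_pow, show (q + 256 * r) / 2 ^ 22 = r / 16384 by omega,
      show (255 + 4194304 * m) / 2 ^ 22 = m by omega]
    norm_num

theorem quotient_fields : ∀ l : List ℕ, (∀ x ∈ l, x ≤ 1575) →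
    Nat.land (Nat.shiftRight (pk l * 1490) 14) (pk (List.replicate l.length 255)) =
      pk (l.map (· / 11))
  | [], _ => by
    show ((pk [] * 1490) >>> 14) &&& 0 = 0
    exact Nat.and_zero _
  | a :: l, h => by
    have ha := h a (List.mem_cons_self ..)
    have ih := quotient_fields l (fun x hx => h x (List.mem_cons_of_mem _ hx))
    have e : Nat.shiftRight (pk (a :: l) * 1490) 14 = a / 11 + 256 * (pk l * 1490) := by
      show (pk (a :: l) * 1490) >>> 14 = _
      rw [Nat.shiftRight_eq_div_pow]
      simp only [pk]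
      have : a * 1490 / 2 ^ 14 = a / 11 := by omega
      rw [show (a + 4194304 * pk l) * 1490 = a * 1490 + 2 ^ 14 * (256 * (pk l * 1490)) by ring,
        Nat.add_mul_div_left _ _ (by norm_num), this]
    rw [e, List.length_cons, List.replicate_succ]
    show Nat.land _ (255 + 4194304 * pk _) = _
    rw [mask_step _ _ _ (by omega), List.map_cons]
    show _ = a / 11 + 4194304 * pk _
    rw [← ih, show Nat.shiftRight (pk l * 1490) 14 = pk l * 1490 / 16384 from
      Nat.shiftRight_eq_div_pow _ 14]

theorem pk_mod : ∀ l : List ℕ, pk l = pk (l.map (· % 11)) + 11 * pk (l.map (· / 11))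
  | [] => rfl
  | a :: l => by
    simp only [List.map_cons, pk]
    have := pk_mod l
    have := Nat.mod_add_div a 11
    omega

theorem reduce_pk {l : List ℕ} (hlen : l.length = 49) (h : ∀ x ∈ l, x ≤ 1575) :
    reduce (pk l) = pk (l.map (· % 11)) := by
  rw [reduce, mask, ← hlen, quotient_fields l h]
  have := pk_mod l
  omega

theorem field_zero (a : ℕ) (l : List ℕ) (ha : a < 4194304) : field (pk (a :: l)) 0 = a := by
  show ((a + 4194304 * pk l) >>> 0) &&& (2 ^ 22 - 1) = a
  rw [Nat.shiftRight_zero, Nat.and_two_pow_sub_one_eq_mod]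
  omega

theorem field_succ (a : ℕ) (l : List ℕ) (ha : a < 4194304) (m : ℕ) :
    field (pk (a :: l)) (m + 1) = field (pk l) m := by
  show ((a + 4194304 * pk l) >>> (22 * (m + 1))) &&& _ = (pk l >>> (22 * m)) &&& _
  congr 1
  rw [show 22 * (m + 1) = 22 + 22 * m by ring, Nat.shiftRight_add]
  congr 1
  rw [Nat.shiftRight_eq_div_pow]
  omega

theorem field_pk : ∀ (l : List ℕ), (∀ x ∈ l, x < 4194304) → ∀ m (hm : m < l.length),
    field (pk l) m = l[m]
  | a :: l, h, 0, _ => field_zero a l (h a (List.mem_cons_self ..))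
  | a :: l, h, m + 1, hm => by
    rw [field_succ a l (h a (List.mem_cons_self ..)), field_pk l
      (fun x hx => h x (List.mem_cons_of_mem _ hx)) m (by simpa using hm), List.getElem_cons_succ]

/-- The low fields of a number. -/
def digits (n : ℕ) : ℕ → List ℕ
  | 0 => []
  | k + 1 => n % 4194304 :: digits (n / 4194304) k

theorem pk_digits : ∀ (k n : ℕ), pk (digits n k) = n % 4194304 ^ k
  | 0, n => by simp [digits, pk, Nat.mod_one]
  | k + 1, n => by
    rw [digits, pk, pk_digits k, pow_succ', Nat.mod_mul]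

theorem getElem_digits : ∀ (k n m : ℕ) (hm : m < (digits n k).length),
    (digits n k)[m] = field n m
  | k + 1, n, 0, _ => by
    show n % 4194304 = (n >>> (22 * 0)) &&& (2 ^ 22 - 1)
    rw [Nat.shiftRight_zero, Nat.and_two_pow_sub_one_eq_mod]
  | k + 1, n, m + 1, hm => by
    show (digits (n / 4194304) k)[m]'(by simpa [digits] using hm) = _
    rw [getElem_digits k _ m]
    show ((n / 4194304) >>> (22 * m)) &&& _ = (n >>> (22 * (m + 1))) &&& _
    congr 1
    rw [show 22 * (m + 1) = 22 + 22 * m by ring, Nat.shiftRight_add n 22, Nat.shiftRight_eq_div_pow n 22]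

theorem row_eq (n i : ℕ) : row n i = pk [field n (7 * i), field n (7 * i + 1), field n (7 * i + 2),
    field n (7 * i + 3), field n (7 * i + 4), field n (7 * i + 5), field n (7 * i + 6)] := by
  have h1 : row n i = (n / 4194304 ^ (7 * i)) % 4194304 ^ 7 := by
    show (n >>> (154 * i)) &&& 22835963083295358096932575511191922182123945983 = _
    rw [show (22835963083295358096932575511191922182123945983 : ℕ) = 2 ^ 154 - 1 by norm_num,
      Nat.and_two_pow_sub_one_eq_mod, Nat.shiftRight_eq_div_pow,
      show (4194304 : ℕ) = 2 ^ 22 by norm_num, ← pow_mul, ← pow_mul]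
    ring_nf
  have hf : ∀ j, field (n / 4194304 ^ (7 * i)) j = field n (7 * i + j) := by
    intro j
    show ((n / 4194304 ^ (7 * i)) >>> (22 * j)) &&& _ = (n >>> (22 * (7 * i + j))) &&& _
    congr 1
    rw [mul_add, Nat.shiftRight_add, Nat.shiftRight_eq_div_pow n,
      show (4194304 : ℕ) = 2 ^ 22 by norm_num, ← pow_mul]
  rw [h1, ← pk_digits]
  congr 1
  apply List.ext_getElem
  · simp [digits]
  intro m hm1 hm2
  rw [getElem_digits, hf]
  simp only [List.length_cons, List.length_nil] at hm2
  interval_cases m <;> rfl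

/-- One row of a product before reduction. -/
def mulRow (A B i : ℕ) : ℕ :=
  field A (7 * i) * row B 0 + field A (7 * i + 1) * row B 1 + field A (7 * i + 2) * row B 2 +
  field A (7 * i + 3) * row B 3 + field A (7 * i + 4) * row B 4 + field A (7 * i + 5) * row B 5 +
  field A (7 * i + 6) * row B 6

/-- The product. -/
def mul (A B : ℕ) : ℕ :=
  reduce (mulRow A B 0 + Nat.shiftLeft (mulRow A B 1) 154 + Nat.shiftLeft (mulRow A B 2) 308 +
    Nat.shiftLeft (mulRow A B 3) 462 + Nat.shiftLeft (mulRow A B 4) 616 +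
    Nat.shiftLeft (mulRow A B 5) 770 + Nat.shiftLeft (mulRow A B 6) 924)

/-- An entry of the unreduced product. -/
def dot (A B i j : ℕ) : ℕ :=
  field A (7 * i) * field B j + field A (7 * i + 1) * field B (7 + j) +
  field A (7 * i + 2) * field B (14 + j) + field A (7 * i + 3) * field B (21 + j) +
  field A (7 * i + 4) * field B (28 + j) + field A (7 * i + 5) * field B (35 + j) +
  field A (7 * i + 6) * field B (42 + j)

/-- The fields of a product. -/
def dots (A B : ℕ) : List ℕ :=
  [dot A B 0 0, dot A B 0 1, dot A B 0 2, dot A B 0 3, dot A B 0 4, dot A B 0 5, dot A B 0 6,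
   dot A B 1 0, dot A B 1 1, dot A B 1 2, dot A B 1 3, dot A B 1 4, dot A B 1 5, dot A B 1 6,
   dot A B 2 0, dot A B 2 1, dot A B 2 2, dot A B 2 3, dot A B 2 4, dot A B 2 5, dot A B 2 6,
   dot A B 3 0, dot A B 3 1, dot A B 3 2, dot A B 3 3, dot A B 3 4, dot A B 3 5, dot A B 3 6,
   dot A B 4 0, dot A B 4 1, dot A B 4 2, dot A B 4 3, dot A B 4 4, dot A B 4 5, dot A B 4 6,
   dot A B 5 0, dot A B 5 1, dot A B 5 2, dot A B 5 3, dot A B 5 4, dot A B 5 5, dot A B 5 6,
   dot A B 6 0, dot A B 6 1, dot A B 6 2, dot A B 6 3, dot A B 6 4, dot A B 6 5, dot A B 6 6]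

theorem mulRow_eq (A B i : ℕ) : mulRow A B i =
    pk [dot A B i 0, dot A B i 1, dot A B i 2, dot A B i 3, dot A B i 4, dot A B i 5, dot A B i 6] := by
  simp only [mulRow, row_eq, dot, pk]
  ring

set_option exponentiation.threshold 1100 in
theorem pre_eq (A B : ℕ) : mulRow A B 0 + Nat.shiftLeft (mulRow A B 1) 154 +
    Nat.shiftLeft (mulRow A B 2) 308 + Nat.shiftLeft (mulRow A B 3) 462 +
    Nat.shiftLeft (mulRow A B 4) 616 + Nat.shiftLeft (mulRow A B 5) 770 +
    Nat.shiftLeft (mulRow A B 6) 924 = pk (dots A B) := by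
  simp only [show ∀ a b : ℕ, Nat.shiftLeft a b = a <<< b from fun _ _ => rfl, Nat.shiftLeft_eq,
    mulRow_eq, dots, pk]
  ring

/-- All fields are at most 15. -/
def Small (A : ℕ) : Prop := ∀ m, m < 49 → field A m ≤ 15

/-- The matrix over the field with eleven elements. -/
def toMat (n : ℕ) : Matrix (Fin 7) (Fin 7) (ZMod 11) :=
  Matrix.of fun i j => ((field n (7 * i.val + j.val) : ℕ) : ZMod 11)

theorem dot_le {A B i j : ℕ} (hA : Small A) (hB : Small B) (hi : i < 7) (hj : j < 7) :
    dot A B i j ≤ 1575 := by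
  have a : ∀ k, k < 7 → ∀ l, l < 49 → field A (7 * i + k) * field B l ≤ 225 := fun k hk l hl =>
    le_trans (Nat.mul_le_mul (hA _ (by omega)) (hB l hl)) (by norm_num)
  have := a 0 (by omega) j (by omega)
  have := a 1 (by omega) (7 + j) (by omega)
  have := a 2 (by omega) (14 + j) (by omega)
  have := a 3 (by omega) (21 + j) (by omega)
  have := a 4 (by omega) (28 + j) (by omega)
  have := a 5 (by omega) (35 + j) (by omega)
  have := a 6 (by omega) (42 + j) (by omega)
  simp only [dot, Nat.add_zero] at *
  omega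

theorem field_mul {A B : ℕ} (hA : Small A) (hB : Small B) {i j : ℕ} (hi : i < 7) (hj : j < 7) :
    field (mul A B) (7 * i + j) = dot A B i j % 11 := by
  have hb : ∀ x ∈ dots A B, x ≤ 1575 := by
    intro x hx
    simp only [dots, List.mem_cons, List.not_mem_nil, or_false] at hx
    rcases hx with rfl | rfl | rfl | rfl | rfl | rfl | rfl | rfl | rfl | rfl | rfl | rfl | rfl | rfl |
      rfl | rfl | rfl | rfl | rfl | rfl | rfl | rfl | rfl | rfl | rfl | rfl | rfl | rfl | rfl | rfl |
      rfl | rfl | rfl | rfl | rfl | rfl | rfl | rfl | rfl | rfl | rfl | rfl | rfl | rfl | rfl | rfl |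
      rfl | rfl | rfl <;> exact dot_le hA hB (by norm_num) (by norm_num)
  rw [mul, pre_eq, reduce_pk rfl hb, field_pk _ (fun x hx => by
    obtain ⟨y, -, rfl⟩ := List.mem_map.1 hx
    omega) _ (by simp [dots]; omega)]
  interval_cases i <;> interval_cases j <;> rfl

theorem small_mul {A B : ℕ} (hA : Small A) (hB : Small B) : Small (mul A B) := by
  intro m hm
  rw [← Nat.div_add_mod m 7, field_mul hA hB (by omega) (by omega)]
  omega

theorem toMat_mul {A B : ℕ} (hA : Small A) (hB : Small B) :
    toMat (mul A B) = toMat A * toMat B := by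
  ext i j
  rw [toMat, Matrix.of_apply, field_mul hA hB i.isLt j.isLt, Matrix.mul_apply, ZMod.natCast_mod]
  simp [toMat, Matrix.of_apply, dot, Fin.sum_univ_seven, Nat.cast_add, Nat.cast_mul]

/-- Unpack 49 nibbles. -/
def spread (c : ℕ) : ℕ :=
  pk ((List.range 49).map fun m => Nat.land (Nat.shiftRight c (4 * m)) 15)

theorem small_spread (c : ℕ) : Small (spread c) := by
  intro m hm
  rw [spread, field_pk _ (fun x hx => by
    obtain ⟨y, -, rfl⟩ := List.mem_map.1 hx
    exact lt_of_le_of_lt (Nat.and_le_right) (by norm_num)) m (by simp [hm])]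
  simp only [List.getElem_map]
  exact Nat.and_le_right

end Cfsg.Agent.Recog.PackedEleven
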