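import Cfsg.Agent.Lib.Recog.JankoOneData
import Cfsg.Agent.Lib.Recog.PackedEleven

/-!
# Kernel-checked facts about the first Janko group
-/

set_option autoImplicit false
set_option Elab.async false

namespace Cfsg.Agent.Recog.JankoOne

open PackedEleven

/-- Check a predicate on a range, by halving. -/
def allBelow (p : ℕ → Bool) : ℕ → ℕ → ℕ → Bool
  | 0, _, _ => false
  | fuel + 1, lo, len =>
    bif Nat.ble len 1 then (bif Nat.beq len 0 then true else p lo)
    else allBelow p fuel lo (len / 2) && allBelow p fuel (lo + len / 2) (len - len / 2)

theorem allBelow_spec {p : ℕ → Bool} : ∀ (fuel lo len : ℕ), allBelow p fuel lo len = true →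
    ∀ i, lo ≤ i → i < lo + len → p i = true
  | 0, _, _, h, _, _, _ => by simp [allBelow] at h
  | fuel + 1, lo, len, h, i, h1, h2 => by
    simp only [allBelow] at h
    cases hb : Nat.ble len 1
    · simp only [hb, cond_false, Bool.and_eq_true] at h
      rcases Nat.lt_or_ge i (lo + len / 2) with hi | hi
      · exact allBelow_spec fuel lo _ h.1 i h1 hi
      · exact allBelow_spec fuel (lo + len / 2) _ h.2 i hi (by omega)
    · have hle := Nat.le_of_ble_eq_true hb
      have hne : Nat.beq len 0 = false := by
        cases e : Nat.beq len 0 with
        | false => rfl
        | true => have := Nat.eq_of_beq_eq_true e; omega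
      simp only [hb, hne, cond_true, cond_false] at h
      rwa [show i = lo by omega]

/-- A coset representative. -/
def repMat (i : ℕ) : ℕ := spread (repData.get i)

/-- An element of the subgroup. -/
def subMat (k : ℕ) : ℕ := spread (subData.get k)

/-- The first generator. -/
def genX : ℕ := spread 397528445359450111623404940514766352372066718580752

/-- The second generator. -/
def genY : ℕ := spread 7480991916830962229115210795734213009165743696062808893992

/-- The identity. -/
def one : ℕ := spread 6277101736848182401506974708411517874814724153223283736577

/-- An edge of the coset table is correct. -/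
def edgeOk (g e i : ℕ) : Bool :=
  Nat.blt (e / 128) 1596 && (Nat.blt (e % 128) 110 &&
    Nat.beq (mul g (repMat i)) (mul (repMat (e / 128)) (subMat (e % 128))))

/-- The coset table is correct at an index. -/
def edgesOk (i : ℕ) : Bool := edgeOk genX (edgeX.get i) i && edgeOk genY (edgeY.get i) i

/-- The subgroup tables are correct at an index. -/
def subOk (k : ℕ) : Bool :=
  (Nat.blt (leftA.get k) 110 && Nat.beq (mul (subMat 1) (subMat k)) (subMat (leftA.get k))) &&
  ((Nat.blt (leftB.get k) 110 && Nat.beq (mul (subMat 2) (subMat k)) (subMat (leftB.get k))) &&
  (Nat.beq k 0 || (Nat.blt (parent.get k / 2) k &&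
    bif Nat.beq (parent.get k % 2) 0 then Nat.beq (leftA.get (parent.get k / 2)) k
    else Nat.beq (leftB.get (parent.get k / 2)) k)))

/-- The suborbit datum is correct at an index. -/
def orbitOk (i : ℕ) : Bool :=
  let s := suborbit.get i
  Nat.blt (s / 16384) 19 && (Nat.blt (s / 128 % 128) 110 && (Nat.blt (s % 128) 110 &&
    Nat.beq (mul (subMat (s / 128 % 128)) (repMat (subReps.get (s / 16384))))
      (mul (repMat i) (subMat (s % 128)))))

/-- Evaluate an argument before use. -/
def force (n : ℕ) (k : ℕ → Bool) : Bool :=
  match n with
  | 0 => k 0
  | m + 1 => k (m + 1)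

theorem force_eq (n : ℕ) (k : ℕ → Bool) : force n k = k n := by cases n <;> rfl

/-- `g ^ n = 1` for the exponents that occur. -/
def powOk (n g : ℕ) : Bool :=
  force g fun g =>
  force (mul g g) fun g2 =>
  bif Nat.beq n 6 then force (mul g2 g) fun g3 => Nat.beq (mul g3 g3) one
  else bif Nat.beq n 7 then force (mul g2 g) fun g3 => force (mul g3 g3) fun g6 =>
    Nat.beq (mul g6 g) one
  else bif Nat.beq n 10 then force (mul g2 g2) fun g4 => force (mul g4 g) fun g5 =>
    Nat.beq (mul g5 g5) one
  else bif Nat.beq n 11 then force (mul g2 g2) fun g4 => force (mul g4 g) fun g5 =>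
    force (mul g5 g5) fun g10 => Nat.beq (mul g10 g) one
  else bif Nat.beq n 15 then force (mul g2 g) fun g3 => force (mul g3 g3) fun g6 =>
    force (mul g6 g6) fun g12 => Nat.beq (mul g12 g3) one
  else bif Nat.beq n 19 then force (mul g2 g2) fun g4 => force (mul g4 g4) fun g8 =>
    force (mul g8 g) fun g9 => force (mul g9 g9) fun g18 => Nat.beq (mul g18 g) one
  else false

/-- A class representative. -/
def cand (c : ℕ) : ℕ := mul (repMat (subReps.get (c / 110))) (subMat (c % 110))

/-- The exponent of a class representative is correct. -/
def candOk (c : ℕ) : Bool := powOk (expData.get c) (cand c)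

theorem edges_check_part0 : allBelow edgesOk 20 0 200 = true := by decide +kernel

theorem edges_check_part1 : allBelow edgesOk 20 200 200 = true := by decide +kernel

theorem edges_check_part2 : allBelow edgesOk 20 400 200 = true := by decide +kernel

theorem edges_check_part3 : allBelow edgesOk 20 600 200 = true := by decide +kernel

theorem edges_check_part4 : allBelow edgesOk 20 800 200 = true := by decide +kernel

theorem edges_check_part5 : allBelow edgesOk 20 1000 200 = true := by decide +kernel

theorem edges_check_part6 : allBelow edgesOk 20 1200 200 = true := by decide +kernel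

theorem edges_check_part7 : allBelow edgesOk 20 1400 196 = true := by decide +kernel

theorem edges_check (i : ℕ) (hi : i < 1596) : edgesOk i = true := by
  by_cases h0 : i < 200
  · exact allBelow_spec 20 0 200 edges_check_part0 i (by omega) (by omega)
  by_cases h1 : i < 400
  · exact allBelow_spec 20 200 200 edges_check_part1 i (by omega) (by omega)
  by_cases h2 : i < 600
  · exact allBelow_spec 20 400 200 edges_check_part2 i (by omega) (by omega)
  by_cases h3 : i < 800
  · exact allBelow_spec 20 600 200 edges_check_part3 i (by omega) (by omega)
  by_cases h4 : i < 1000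
  · exact allBelow_spec 20 800 200 edges_check_part4 i (by omega) (by omega)
  by_cases h5 : i < 1200
  · exact allBelow_spec 20 1000 200 edges_check_part5 i (by omega) (by omega)
  by_cases h6 : i < 1400
  · exact allBelow_spec 20 1200 200 edges_check_part6 i (by omega) (by omega)
  exact allBelow_spec 20 1400 196 edges_check_part7 i (by omega) (by omega)

theorem sub_check : allBelow subOk 20 0 110 = true := by decide +kernel

theorem orbit_check_part0 : allBelow orbitOk 20 0 200 = true := by decide +kernel

theorem orbit_check_part1 : allBelow orbitOk 20 200 200 = true := by decide +kernel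

theorem orbit_check_part2 : allBelow orbitOk 20 400 200 = true := by decide +kernel

theorem orbit_check_part3 : allBelow orbitOk 20 600 200 = true := by decide +kernel

theorem orbit_check_part4 : allBelow orbitOk 20 800 200 = true := by decide +kernel

theorem orbit_check_part5 : allBelow orbitOk 20 1000 200 = true := by decide +kernel

theorem orbit_check_part6 : allBelow orbitOk 20 1200 200 = true := by decide +kernel

theorem orbit_check_part7 : allBelow orbitOk 20 1400 196 = true := by decide +kernel

theorem orbit_check (i : ℕ) (hi : i < 1596) : orbitOk i = true := by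
  by_cases h0 : i < 200
  · exact allBelow_spec 20 0 200 orbit_check_part0 i (by omega) (by omega)
  by_cases h1 : i < 400
  · exact allBelow_spec 20 200 200 orbit_check_part1 i (by omega) (by omega)
  by_cases h2 : i < 600
  · exact allBelow_spec 20 400 200 orbit_check_part2 i (by omega) (by omega)
  by_cases h3 : i < 800
  · exact allBelow_spec 20 600 200 orbit_check_part3 i (by omega) (by omega)
  by_cases h4 : i < 1000
  · exact allBelow_spec 20 800 200 orbit_check_part4 i (by omega) (by omega)
  by_cases h5 : i < 1200
  · exact allBelow_spec 20 1000 200 orbit_check_part5 i (by omega) (by omega)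
  by_cases h6 : i < 1400
  · exact allBelow_spec 20 1200 200 orbit_check_part6 i (by omega) (by omega)
  exact allBelow_spec 20 1400 196 orbit_check_part7 i (by omega) (by omega)

theorem sub_pow_check :
    allBelow (fun k => powOk 10 (subMat k) || powOk 11 (subMat k)) 20 0 110 = true := by
  decide +kernel

theorem cand_check_part0 : allBelow candOk 20 0 200 = true := by decide +kernel

theorem cand_check_part1 : allBelow candOk 20 200 200 = true := by decide +kernel

theorem cand_check_part2 : allBelow candOk 20 400 200 = true := by decide +kernel

theorem cand_check_part3 : allBelow candOk 20 600 200 = true := by decide +kernel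

theorem cand_check_part4 : allBelow candOk 20 800 200 = true := by decide +kernel

theorem cand_check_part5 : allBelow candOk 20 1000 200 = true := by decide +kernel

theorem cand_check_part6 : allBelow candOk 20 1200 200 = true := by decide +kernel

theorem cand_check_part7 : allBelow candOk 20 1400 200 = true := by decide +kernel

theorem cand_check_part8 : allBelow candOk 20 1600 200 = true := by decide +kernel

theorem cand_check_part9 : allBelow candOk 20 1800 200 = true := by decide +kernel

theorem cand_check_part10 : allBelow candOk 20 2000 90 = true := by decide +kernel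

theorem cand_check (i : ℕ) (hi : i < 2090) : candOk i = true := by
  by_cases h0 : i < 200
  · exact allBelow_spec 20 0 200 cand_check_part0 i (by omega) (by omega)
  by_cases h1 : i < 400
  · exact allBelow_spec 20 200 200 cand_check_part1 i (by omega) (by omega)
  by_cases h2 : i < 600
  · exact allBelow_spec 20 400 200 cand_check_part2 i (by omega) (by omega)
  by_cases h3 : i < 800
  · exact allBelow_spec 20 600 200 cand_check_part3 i (by omega) (by omega)
  by_cases h4 : i < 1000
  · exact allBelow_spec 20 800 200 cand_check_part4 i (by omega) (by omega)
  by_cases h5 : i < 1200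
  · exact allBelow_spec 20 1000 200 cand_check_part5 i (by omega) (by omega)
  by_cases h6 : i < 1400
  · exact allBelow_spec 20 1200 200 cand_check_part6 i (by omega) (by omega)
  by_cases h7 : i < 1600
  · exact allBelow_spec 20 1400 200 cand_check_part7 i (by omega) (by omega)
  by_cases h8 : i < 1800
  · exact allBelow_spec 20 1600 200 cand_check_part8 i (by omega) (by omega)
  by_cases h9 : i < 2000
  · exact allBelow_spec 20 1800 200 cand_check_part9 i (by omega) (by omega)
  exact allBelow_spec 20 2000 90 cand_check_part10 i (by omega) (by omega)

end Cfsg.Agent.Recog.JankoOne
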