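import Cfsg.Agent.Lib.Recog.JordanHalf
import Cfsg.Agent.Lib.PermGp.SmallSupport

/-! A primitive group with a Jordan set of less than half the degree contains the alternating group. -/

set_option autoImplicit false

namespace Cfsg.Agent.Recog.JH

open MulAction
open scoped Pointwise

variable {G Ω : Type*} [Group G] [MulAction G Ω]

/-- The complement of the union of the translates of `Γ` avoiding `A`. -/
def cl (G : Type*) {Ω : Type*} [Group G] [MulAction G Ω] (Γ A : Set Ω) : Set Ω :=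
  {x | ∀ g : G, Disjoint (g • Γ) A → x ∉ g • Γ}

theorem subset_cl (Γ A : Set Ω) : A ⊆ cl G Γ A := fun _ hx _ hd hxg => Set.disjoint_left.1 hd hxg hx

theorem cl_mono {Γ A B : Set Ω} (h : A ⊆ B) : cl G Γ A ⊆ cl G Γ B :=
  fun _ hx g hd => hx g (hd.mono_right h)

theorem cl_cl (Γ A : Set Ω) : cl G Γ (cl G Γ A) = cl G Γ A := by
  refine Set.Subset.antisymm (fun x hx g hd => hx g ?_) (subset_cl Γ _)
  exact Set.disjoint_left.2 fun y hy hyc => hyc g hd hy

theorem cl_smul (k : G) (Γ A : Set Ω) : cl G Γ (k • A) = k • cl G Γ A := by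
  have key : ∀ (k : G) (A : Set Ω), k • cl G Γ A ⊆ cl G Γ (k • A) := by
    rintro k A _ ⟨x, hx, rfl⟩ g hd hxg
    refine hx (k⁻¹ * g) ?_ ?_
    · rw [mul_smul]
      refine Set.disjoint_left.2 fun y hy hyA => Set.disjoint_left.1 hd ?_ (Set.smul_mem_smul_set hyA)
      rwa [Set.mem_inv_smul_set_iff] at hy
    · rw [mul_smul, Set.mem_inv_smul_set_iff]; exact hxg
  refine Set.Subset.antisymm (fun x hx => ?_) (key k A)
  have h1 := key k⁻¹ (k • A) (Set.smul_mem_smul_set hx)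
  rw [inv_smul_smul] at h1
  exact Set.mem_smul_set_iff_inv_smul_mem.2 h1

/-- The smallest closed set containing `L` and `x`. -/
def C (G : Type*) {Ω : Type*} [Group G] [MulAction G Ω] (Γ L : Set Ω) (x : Ω) : Set Ω := cl G Γ (insert x L)

theorem mem_C (Γ L : Set Ω) (x : Ω) : x ∈ C G Γ L x := subset_cl Γ _ (Set.mem_insert _ _)

theorem subset_C (Γ L : Set Ω) (x : Ω) : L ⊆ C G Γ L x :=
  (Set.subset_insert _ _).trans (subset_cl Γ _)

theorem C_flat (Γ L : Set Ω) (x : Ω) : cl G Γ (C G Γ L x) = C G Γ L x := cl_cl Γ _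

theorem C_le {Γ L P : Set Ω} (hP : cl G Γ P = P) (hL : L ⊆ P) {x : Ω} (hx : x ∈ P) : C G Γ L x ⊆ P :=
  hP ▸ cl_mono (Set.insert_subset_iff.2 ⟨hx, hL⟩)

theorem C_smul (k : G) (Γ L : Set Ω) (x : Ω) : C G Γ (k • L) (k • x) = k • C G Γ L x := by
  rw [C, C, ← cl_smul, Set.smul_set_insert]

theorem exists_smul_set_eq [Finite Ω] {k : ℕ} (h : IsMultiplyPretransitive G Ω k) {S T : Set Ω}
    (hS : S.ncard = k) (hT : T.ncard = k) : ∃ g : G, g • S = T := by
  let eS : S ≃ Fin k := Finite.equivFinOfCardEq ((Nat.card_coe_set_eq S).trans hS)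
  let eT : T ≃ Fin k := Finite.equivFinOfCardEq ((Nat.card_coe_set_eq T).trans hT)
  let f : Fin k ↪ Ω := eS.symm.toEmbedding.trans (Function.Embedding.subtype _)
  let f' : Fin k ↪ Ω := eT.symm.toEmbedding.trans (Function.Embedding.subtype _)
  obtain ⟨g, hg⟩ := exists_smul_eq G f f'
  have hgi : ∀ i, g • f i = f' i := fun i => by rw [← hg]; rfl
  refine ⟨g, Set.eq_of_subset_of_ncard_le ?_ (by rw [Set.ncard_smul_set, hS, hT])⟩
  rintro _ ⟨x, hx, rfl⟩
  have : f (eS ⟨x, hx⟩) = x := by simp [f]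
  show g • x ∈ T
  rw [← this, hgi]
  exact (eT.symm _).2

section Flats

variable [Finite Ω] {Γ : Set Ω} {m : ℕ} (hJ : JSet G Γ) (hm : Γ.ncard = m) (hn : Nat.card Ω = 2 * m + 1)

include hJ hm hn

theorem cl_trans {A : Set Ω} (hA : 2 ≤ A.ncard) {x y : Ω} (hx : x ∉ cl G Γ A) (hy : y ∉ cl G Γ A) :
    ∃ h : G, (∀ z ∈ cl G Γ A, h • z = z) ∧ h • x = y := by
  simp only [cl, Set.mem_setOf_eq, not_forall, not_not, exists_prop] at hx hy
  obtain ⟨g₁, hd₁, hx⟩ := hx
  obtain ⟨g₂, hd₂, hy⟩ := hy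
  obtain ⟨w, hw₁, hw₂⟩ : ((g₁ • Γ) ∩ (g₂ • Γ)).Nonempty := by
    rw [← Set.not_disjoint_iff_nonempty_inter]
    intro hd
    have h1 := Set.ncard_union_eq hd
    have h2 := Set.ncard_union_eq (hd₁.union_left hd₂)
    have h3 := Set.ncard_le_card (g₁ • Γ ∪ g₂ • Γ ∪ A)
    rw [Set.ncard_smul_set, Set.ncard_smul_set] at h1
    omega
  obtain ⟨h, hfix, hxy⟩ := (hJ.smul g₁).union (hJ.smul g₂) hw₁ hw₂ x (Or.inl hx) y (Or.inr hy)
  refine ⟨h, fun z hz => hfix z ?_, hxy⟩
  rintro (hz' | hz')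
  · exact hz g₁ hd₁ hz'
  · exact hz g₂ hd₂ hz'

theorem exists_move {L : Set Ω} (hL : cl G Γ L = L) (h2 : 2 ≤ L.ncard) {x y : Ω} (hx : x ∉ L) (hy : y ∉ L) :
    ∃ h : G, h • x = y ∧ h • L = L ∧ ∀ z ∈ L, h • z = z := by
  obtain ⟨h, hfix, hxy⟩ := cl_trans hJ hm hn h2 (hL.symm ▸ hx) (hL.symm ▸ hy)
  rw [hL] at hfix
  refine ⟨h, hxy, Set.eq_of_subset_of_ncard_le ?_ (Set.ncard_smul_set _ _).ge, hfix⟩
  rintro _ ⟨z, hz, rfl⟩
  show h • z ∈ L
  rw [hfix z hz]
  exact hz

theorem card_C_eq {L : Set Ω} (hL : cl G Γ L = L) (h2 : 2 ≤ L.ncard) {x y : Ω} (hx : x ∉ L) (hy : y ∉ L) :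
    (C G Γ L x).ncard = (C G Γ L y).ncard := by
  obtain ⟨h, hxy, hL', -⟩ := exists_move hJ hm hn hL h2 hx hy
  rw [← hxy]
  conv_rhs => rw [← hL', C_smul, Set.ncard_smul_set]

theorem exchange {L : Set Ω} (hL : cl G Γ L = L) (h2 : 2 ≤ L.ncard) {x y : Ω} (hx : x ∉ L) (hy : y ∉ L)
    (hyx : y ∈ C G Γ L x) : C G Γ L y = C G Γ L x :=
  Set.eq_of_subset_of_ncard_le (C_le (C_flat Γ L x) (subset_C Γ L x) hyx) (card_C_eq hJ hm hn hL h2 hx hy).le

theorem two_le_C {L : Set Ω} (h2 : 2 ≤ L.ncard) (x : Ω) : 2 ≤ (C G Γ L x).ncard :=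
  h2.trans (Set.ncard_le_ncard (subset_C Γ L x))

theorem lt_C {L : Set Ω} {x : Ω} (hx : x ∉ L) : L.ncard < (C G Γ L x).ncard :=
  Set.ncard_lt_ncard ⟨subset_C Γ L x, fun h => hx (h (mem_C Γ L x))⟩

theorem card_two_step {L : Set Ω} (hL : cl G Γ L = L) (h2 : 2 ≤ L.ncard) {x y w w' : Ω} (hx : x ∉ L) (hw : w ∉ L)
    (hy : y ∉ C G Γ L x) (hw' : w' ∉ C G Γ L w) :
    (C G Γ (C G Γ L w) w').ncard = (C G Γ (C G Γ L x) y).ncard := by
  obtain ⟨h, hxw, hL', -⟩ := exists_move hJ hm hn hL h2 hx hw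
  have e : C G Γ L w = h • C G Γ L x := by
    rw [← C_smul, hL', hxw]
  rw [e] at hw' ⊢
  obtain ⟨v, rfl⟩ : ∃ v, h • v = w' := ⟨h⁻¹ • w', smul_inv_smul h w'⟩
  rw [C_smul, Set.ncard_smul_set]
  exact (card_C_eq hJ hm hn (C_flat Γ L x) (two_le_C hJ hm hn h2 x) hy
    (fun hv => hw' (Set.smul_mem_smul_set hv))).symm

theorem partition {L P : Set Ω} (hL : cl G Γ L = L) (h2 : 2 ≤ L.ncard) (hP : cl G Γ P = P) (hLP : L ⊆ P)
    {x : Ω} (hx : x ∉ L) : ∃ R : Finset Ω, (∀ w ∈ R, w ∈ P ∧ w ∉ L) ∧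
      (∀ w ∈ R, ∀ w' ∈ R, C G Γ L w = C G Γ L w' → w = w') ∧
      P.ncard - L.ncard = R.card * ((C G Γ L x).ncard - L.ncard) := by
  classical
  let s : Finset (Set Ω) := (P \ L).toFinite.toFinset.image (C G Γ L)
  have hs : ∀ S ∈ s, ∃ w, w ∈ P \ L ∧ C G Γ L w = S := fun S hS => by
    obtain ⟨w, hw, e⟩ := Finset.mem_image.1 hS
    exact ⟨w, (Set.Finite.mem_toFinset _).1 hw, e⟩
  choose f hf1 hf2 using hs
  refine ⟨s.attach.image fun S => f S.1 S.2, ?_, ?_, ?_⟩
  · intro w hw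
    obtain ⟨S, -, rfl⟩ := Finset.mem_image.1 hw
    exact hf1 S.1 S.2
  · intro w hw w' hw' e
    obtain ⟨S, -, rfl⟩ := Finset.mem_image.1 hw
    obtain ⟨S', -, rfl⟩ := Finset.mem_image.1 hw'
    rw [hf2, hf2] at e
    obtain rfl : S = S' := Subtype.ext e
    rfl
  · rw [Finset.card_image_of_injective _ (fun S S' e => Subtype.ext (by
      rw [← hf2 S.1 S.2, ← hf2 S'.1 S'.2]; exact congrArg (C G Γ L) e)), Finset.card_attach,
      ← Set.ncard_diff hLP, Set.ncard_eq_toFinset_card _ (P \ L).toFinite,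
      Finset.card_eq_sum_card_fiberwise (f := C G Γ L) (t := s) (fun w hw => Finset.mem_image_of_mem _ hw)]
    refine (Finset.sum_eq_card_nsmul fun S hS => ?_).trans (smul_eq_mul _ _)
    obtain ⟨hw, hwL⟩ := hf1 S hS
    rw [← card_C_eq hJ hm hn hL h2 hwL hx, ← Set.ncard_diff (subset_C Γ L _),
      Set.ncard_eq_toFinset_card _ (C G Γ L (f S hS) \ L).toFinite]
    congr 1
    ext u
    simp only [Finset.mem_filter, Set.Finite.mem_toFinset, Set.mem_diff]
    constructor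
    · rintro ⟨⟨-, huL⟩, e⟩
      rw [hf2 S hS]
      exact ⟨e ▸ mem_C Γ L u, huL⟩
    · rintro ⟨huC, huL⟩
      refine ⟨⟨C_le hP hLP hw huC, huL⟩, ?_⟩
      rw [exchange hJ hm hn hL h2 hwL huL huC, hf2]

theorem covers_le {Q P : Set Ω} (hQ : cl G Γ Q = Q) (h2 : 2 ≤ Q.ncard) (hP : cl G Γ P = P) (hQP : Q ⊆ P)
    (R : Finset Ω) (hR : ∀ w ∈ R, w ∈ P ∧ w ∉ Q) (hinj : ∀ w ∈ R, ∀ w' ∈ R, C G Γ Q w = C G Γ Q w' → w = w')
    {z : Ω} (hz : z ∉ Q) : Q.ncard + R.card * ((C G Γ Q z).ncard - Q.ncard) ≤ P.ncard := by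
  classical
  have hdisj : (R : Set Ω).PairwiseDisjoint fun w => (C G Γ Q w \ Q).toFinite.toFinset := by
    intro w hw w' hw' hne
    rw [Function.onFun, Finset.disjoint_left]
    intro u hu hu'
    simp only [Set.Finite.mem_toFinset, Set.mem_diff] at hu hu'
    exact hne (hinj w hw w' hw' ((exchange hJ hm hn hQ h2 (hR w hw).2 hu.2 hu.1).symm.trans
      (exchange hJ hm hn hQ h2 (hR w' hw').2 hu.2 hu'.1)))
  have hsub : R.biUnion (fun w => (C G Γ Q w \ Q).toFinite.toFinset) ⊆ (P \ Q).toFinite.toFinset := by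
    intro u hu
    simp only [Finset.mem_biUnion, Set.Finite.mem_toFinset, Set.mem_diff] at hu ⊢
    obtain ⟨w, hw, h1, h3⟩ := hu
    exact ⟨C_le hP hQP (hR w hw).1 h1, h3⟩
  have h := Finset.card_le_card hsub
  rw [Finset.card_biUnion hdisj, Finset.sum_eq_card_nsmul (b := (C G Γ Q z).ncard - Q.ncard) (fun w hw => ?_),
    smul_eq_mul, ← Set.ncard_eq_toFinset_card, Set.ncard_diff hQP] at h
  · have := Set.ncard_le_ncard hQP
    omega
  · rw [← Set.ncard_eq_toFinset_card, Set.ncard_diff (subset_C Γ Q w), card_C_eq hJ hm hn hQ h2 (hR w hw).2 hz]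

/-- The gaps between consecutive closed sets grow at least by the same factor. -/
theorem grow_step {L : Set Ω} (hL : cl G Γ L = L) (h2 : 2 ≤ L.ncard) {x y z : Ω} (hx : x ∉ L)
    (hy : y ∉ C G Γ L x) (hz : z ∉ C G Γ (C G Γ L x) y) {r : ℕ}
    (hg : r * ((C G Γ L x).ncard - L.ncard) ≤ (C G Γ (C G Γ L x) y).ncard - (C G Γ L x).ncard) :
    r * ((C G Γ (C G Γ L x) y).ncard - (C G Γ L x).ncard) ≤
      (C G Γ (C G Γ (C G Γ L x) y) z).ncard - (C G Γ (C G Γ L x) y).ncard := by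
  have hLM : L ⊆ (C G Γ L x) := subset_C Γ L x
  have hMN : (C G Γ L x) ⊆ (C G Γ (C G Γ L x) y) := subset_C Γ (C G Γ L x) y
  have hNP : (C G Γ (C G Γ L x) y) ⊆ (C G Γ (C G Γ (C G Γ L x) y) z) := subset_C Γ (C G Γ (C G Γ L x) y) z
  have hzL : z ∉ L := fun h => hz (hMN (hLM h))
  set Q := C G Γ L z with hQ
  have hQM : Q.ncard = (C G Γ L x).ncard := card_C_eq hJ hm hn hL h2 hzL hx
  have hQP : Q ⊆ (C G Γ (C G Γ (C G Γ L x) y) z) := C_le (C_flat Γ (C G Γ (C G Γ L x) y) z) ((hLM.trans hMN).trans hNP) (mem_C Γ (C G Γ (C G Γ L x) y) z)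
  have hQ2 : 2 ≤ Q.ncard := two_le_C hJ hm hn h2 z
  obtain ⟨R, hR, hRinj, hRcard⟩ := partition hJ hm hn hL h2 (C_flat Γ (C G Γ L x) y) (hLM.trans hMN) hx
  have hd : L.ncard < (C G Γ L x).ncard := lt_C hJ hm hn hx
  have hd' : (C G Γ L x).ncard < (C G Γ (C G Γ L x) y).ncard := lt_C hJ hm hn hy
  have hrR : r + 1 ≤ R.card := by
    refine Nat.le_of_mul_le_mul_right ?_ (Nat.sub_pos_of_lt hd)
    rw [← hRcard, add_mul, one_mul]
    omega
  have hwQ : ∀ w ∈ R, w ∉ Q := fun w hw hwQ => by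
    have e := exchange hJ hm hn hL h2 hzL (hR w hw).2 hwQ
    exact hz (C_le (C_flat Γ (C G Γ L x) y) (hLM.trans hMN) (hR w hw).1 (e.symm ▸ mem_C Γ L z))
  have hX : ∀ w ∈ R, (C G Γ Q w).ncard = (C G Γ (C G Γ L x) y).ncard := fun w hw =>
    card_two_step hJ hm hn hL h2 hx hzL hy (hwQ w hw)
  have hinj : ∀ w ∈ R, ∀ w' ∈ R, C G Γ Q w = C G Γ Q w' → w = w' := by
    intro w hw w' hw' e
    refine hRinj w hw w' hw' ?_
    by_contra hne
    have hw'C : w' ∉ C G Γ L w := fun h => hne (exchange hJ hm hn hL h2 (hR w hw).2 (hR w' hw').2 h).symm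
    have hsub : C G Γ (C G Γ L w) w' ⊆ C G Γ Q w :=
      C_le (C_flat Γ Q w) (C_le (C_flat Γ Q w) ((subset_C Γ L z).trans (subset_C Γ Q w)) (mem_C Γ Q w))
        (e ▸ mem_C Γ Q w')
    have hsub' : C G Γ (C G Γ L w) w' ⊆ (C G Γ (C G Γ L x) y) :=
      C_le (C_flat Γ (C G Γ L x) y) (C_le (C_flat Γ (C G Γ L x) y) (hLM.trans hMN) (hR w hw).1) (hR w' hw').1
    have hcard := card_two_step hJ hm hn hL h2 hx (hR w hw).2 hy hw'C
    rw [Set.eq_of_subset_of_ncard_le hsub' hcard.ge] at hsub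
    have hNX : (C G Γ (C G Γ L x) y) = C G Γ Q w := Set.eq_of_subset_of_ncard_le hsub (hX w hw).le
    exact hz (hNX.symm ▸ subset_C Γ Q w (mem_C Γ L z) : z ∈ (C G Γ (C G Γ L x) y))
  have hR0 : 0 < R.card := by omega
  obtain ⟨w0, hw0⟩ := Finset.card_pos.1 hR0
  have h := covers_le hJ hm hn (C_flat Γ L z) hQ2 (C_flat Γ (C G Γ (C G Γ L x) y) z) hQP R
    (fun w hw => ⟨hNP (hR w hw).1, hwQ w hw⟩) hinj (hwQ w0 hw0)
  rw [hX w0 hw0, hQM] at h
  have h9 : (r + 1) * ((C G Γ (C G Γ L x) y).ncard - (C G Γ L x).ncard) ≤ R.card * ((C G Γ (C G Γ L x) y).ncard - (C G Γ L x).ncard) := Nat.mul_le_mul_right _ hrR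
  rw [add_mul, one_mul] at h9
  omega

theorem card_of_C_eq_univ {M : Set Ω} (hM : cl G Γ M = M) (h2 : 2 ≤ M.ncard) {y : Ω} (hy : y ∉ M)
    (htop : C G Γ M y = Set.univ) : M.ncard = m + 1 := by
  have hy' : y ∉ cl G Γ M := hM.symm ▸ hy
  simp only [cl, Set.mem_setOf_eq, not_forall, not_not, exists_prop] at hy'
  obtain ⟨g, hd, hyg⟩ := hy'
  have hc : Mᶜ = g • Γ := by
    refine Set.Subset.antisymm (fun y' hy'M => ?_) (Set.subset_compl_iff_disjoint_right.2 hd)
    by_contra hyg'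
    have htop' : C G Γ M y' = Set.univ := by
      refine Set.eq_of_subset_of_ncard_le (Set.subset_univ _) ?_
      rw [card_C_eq hJ hm hn hM h2 hy'M hy, htop]
    have hy2 : y ∈ C G Γ M y' := htop' ▸ Set.mem_univ y
    exact hy2 g (Set.disjoint_insert_right.2 ⟨hyg', hd⟩) hyg
  have := Set.ncard_add_ncard_compl M
  rw [hc, Set.ncard_smul_set] at this
  omega

theorem loop (A : ℕ) (hA : A ≤ m + 1) : ∀ (k : ℕ) (L : Set Ω) (x y : Ω), cl G Γ L = L → 2 ≤ L.ncard → x ∉ L →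
    y ∉ C G Γ L x → Nat.card Ω - (C G Γ (C G Γ L x) y).ncard ≤ k →
    3 * ((C G Γ L x).ncard - L.ncard) ≤ (C G Γ (C G Γ L x) y).ncard - (C G Γ L x).ncard →
    2 * (C G Γ L x).ncard ≤ A + ((C G Γ (C G Γ L x) y).ncard - (C G Γ L x).ncard) → False := by
  intro k
  induction k using Nat.strong_induction_on with
  | _ k ih =>
    intro L x y hL h2 hx hy hk hg hinv
    by_cases htop : C G Γ (C G Γ L x) y = Set.univ
    · have h := card_of_C_eq_univ hJ hm hn (C_flat Γ L x) (two_le_C hJ hm hn h2 x) hy htop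
      rw [htop, Set.ncard_univ] at hinv
      omega
    obtain ⟨z, hz⟩ := (Set.ne_univ_iff_exists_notMem _).1 htop
    have hstep := grow_step hJ hm hn hL h2 hx hy hz hg
    have hlt := lt_C (G := G) hJ hm hn hz
    have hle := Set.ncard_le_card (C G Γ (C G Γ (C G Γ L x) y) z)
    have hlt' := lt_C (G := G) hJ hm hn hy
    exact ih (Nat.card Ω - (C G Γ (C G Γ (C G Γ L x) y) z).ncard) (by omega) _ y z (C_flat Γ L x)
      (two_le_C hJ hm hn h2 x) hy hz le_rfl hstep (by omega)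

theorem flats_false (hm4 : 4 ≤ m) (h4 : IsMultiplyPretransitive G Ω 4)
    (hbound : ∀ L : Set Ω, cl G Γ L = L → 2 ≤ L.ncard → L ≠ Set.univ → (∀ x ∉ L, C G Γ L x = insert x L) →
      2 * L.ncard ≤ m ∧ IsMultiplyPretransitive G Ω (L.ncard + 1)) : False := by
  classical
  have hclose3 : ∀ S : Set Ω, S.ncard = 3 → cl G Γ S = S := by
    intro S hS
    refine Set.Subset.antisymm (fun u hu => ?_) (subset_cl Γ S)
    by_contra huS
    obtain ⟨q, hq⟩ := (Set.ncard_pos (s := Γ)).1 (by omega)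
    have hΓc := Set.ncard_add_ncard_compl Γ
    obtain ⟨T, hTs, hTc⟩ := Set.exists_subset_card_eq (s := Γᶜ) (n := 3) (by omega)
    let eS : S ≃ Fin 3 := Finite.equivFinOfCardEq ((Nat.card_coe_set_eq S).trans hS)
    let eT : T ≃ Fin 3 := Finite.equivFinOfCardEq ((Nat.card_coe_set_eq T).trans hTc)
    let f : Fin 4 ↪ Ω := ⟨Fin.cons q (fun i => (eT.symm i : Ω)), Fin.cons_injective_iff.2
      ⟨fun ⟨i, hi⟩ => hTs (eT.symm i).2 (by simp only at hi; rw [hi]; exact hq), Subtype.val_injective.comp eT.symm.injective⟩⟩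
    let f' : Fin 4 ↪ Ω := ⟨Fin.cons u (fun i => (eS.symm i : Ω)), Fin.cons_injective_iff.2
      ⟨fun ⟨i, hi⟩ => huS (hi ▸ (eS.symm i).2), Subtype.val_injective.comp eS.symm.injective⟩⟩
    obtain ⟨g, hg⟩ := exists_smul_eq G f f'
    have hgi : ∀ i, g • f i = f' i := fun i => by rw [← hg]; rfl
    refine hu g (Set.disjoint_left.2 ?_) ?_
    · rintro _ ⟨p, hp, rfl⟩ hpS
      have h1 := hgi (eS ⟨_, hpS⟩).succ
      simp only [f, f', Function.Embedding.coeFn_mk, Fin.cons_succ, Equiv.symm_apply_apply] at h1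
      exact hTs (eT.symm _).2 ((smul_left_cancel g h1).symm ▸ hp)
    · have h0 := hgi 0
      simp only [f, f', Function.Embedding.coeFn_mk, Fin.cons_zero] at h0
      exact ⟨q, hq, h0⟩
  obtain ⟨L₀, hL₀⟩ : ∃ L₀ : Set Ω, L₀.ncard = 2 := by
    obtain ⟨L₀, -, hc⟩ := Set.exists_subset_card_eq (s := (Set.univ : Set Ω)) (n := 2) (by rw [Set.ncard_univ]; omega)
    exact ⟨L₀, hc⟩
  have hflat₀ : cl G Γ L₀ = L₀ := by
    refine Set.Subset.antisymm (fun u hu => ?_) (subset_cl Γ _)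
    by_contra huS
    obtain ⟨c, hc⟩ := (Set.ne_univ_iff_exists_notMem (insert u L₀)).1 (fun e => by
      have := Set.ncard_insert_le u L₀
      rw [e, Set.ncard_univ] at this
      omega)
    have h3 := hclose3 (insert c L₀) (by
      rw [Set.ncard_insert_of_notMem (fun h => hc (Or.inr h))]; omega)
    have : u ∈ insert c L₀ := h3 ▸ cl_mono (Set.subset_insert c L₀) hu
    rcases this with rfl | h
    · exact hc (Or.inl rfl)
    · exact huS h
  obtain ⟨L, ⟨hL, h2, hLne, hL1⟩, hmax⟩ := Set.exists_max_image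
    {L : Set Ω | cl G Γ L = L ∧ 2 ≤ L.ncard ∧ L ≠ Set.univ ∧ ∀ x ∉ L, C G Γ L x = insert x L} Set.ncard
    (Set.toFinite _) ⟨L₀, hflat₀, hL₀.ge, fun e => by rw [e, Set.ncard_univ] at hL₀; omega, fun x hx =>
      hclose3 _ (by rw [Set.ncard_insert_of_notMem hx]; omega)⟩
  obtain ⟨hLm, htr⟩ := hbound L hL h2 hLne hL1
  obtain ⟨x, hx⟩ := (Set.ne_univ_iff_exists_notMem L).1 hLne
  have hMeq := hL1 x hx
  have hMc : (C G Γ L x).ncard = L.ncard + 1 := by rw [hMeq, Set.ncard_insert_of_notMem hx]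
  have hM2 : 2 ≤ (C G Γ L x).ncard := by omega
  have hMne : (C G Γ L x) ≠ Set.univ := fun e => by rw [e, Set.ncard_univ] at hMc; omega
  obtain ⟨y, hy⟩ := (Set.ne_univ_iff_exists_notMem (C G Γ L x)).1 hMne
  have hMN := lt_C (G := G) hJ hm hn hy
  have he : (C G Γ L x).ncard + 2 ≤ (C G Γ (C G Γ L x) y).ncard := by
    by_contra hcon
    have : (C G Γ L x) ∈ {L : Set Ω | cl G Γ L = L ∧ 2 ≤ L.ncard ∧ L ≠ Set.univ ∧ ∀ x ∉ L, C G Γ L x = insert x L} := by
      refine ⟨C_flat Γ L x, hM2, hMne, fun v hv => (Set.eq_of_subset_of_ncard_le (subset_cl Γ _) ?_).symm⟩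
      show (C G Γ (C G Γ L x) v).ncard ≤ _
      rw [card_C_eq hJ hm hn (C_flat Γ L x) hM2 hv hy, Set.ncard_insert_of_notMem hv]
      omega
    have := hmax (C G Γ L x) this
    omega
  rcases Nat.lt_or_ge ((C G Γ L x).ncard + 2) (C G Γ (C G Γ L x) y).ncard with he3 | he2
  · exact loop hJ hm hn (2 * (C G Γ L x).ncard - ((C G Γ (C G Γ L x) y).ncard - (C G Γ L x).ncard)) (by omega) _ L x y hL h2 hx hy le_rfl (by omega) (by omega)
  · have hNne : (C G Γ (C G Γ L x) y) ≠ Set.univ := fun e => by rw [e, Set.ncard_univ] at he2; omega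
    obtain ⟨z, hz⟩ := (Set.ne_univ_iff_exists_notMem (C G Γ (C G Γ L x) y)).1 hNne
    have hstep : 2 * ((C G Γ (C G Γ L x) y).ncard - (C G Γ L x).ncard) ≤ (C G Γ (C G Γ (C G Γ L x) y) z).ncard - (C G Γ (C G Γ L x) y).ncard :=
      grow_step hJ hm hn hL h2 hx hy hz (r := 2) (by omega)
    have hMP : (C G Γ L x) ⊆ (C G Γ (C G Γ (C G Γ L x) y) z) := (subset_C Γ (C G Γ L x) y).trans (subset_C Γ (C G Γ (C G Γ L x) y) z)
    obtain ⟨R, -, -, hRc⟩ := partition hJ hm hn (C_flat Γ L x) hM2 (C_flat Γ (C G Γ (C G Γ L x) y) z) hMP hy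
    rw [show (C G Γ (C G Γ L x) y).ncard - (C G Γ L x).ncard = 2 by omega] at hRc
    have hne : (C G Γ (C G Γ (C G Γ L x) y) z).ncard ≠ (C G Γ L x).ncard + 6 := by
      intro hPc
      obtain ⟨B, hBM, hBc⟩ := Set.exists_subset_card_eq (s := (C G Γ L x)) (n := (C G Γ L x).ncard - 3) (by omega)
      have hBP : B ⊆ (C G Γ (C G Γ (C G Γ L x) y) z) := hBM.trans hMP
      let S₉ : Finset Ω := ((C G Γ (C G Γ (C G Γ L x) y) z) \ B).toFinite.toFinset
      have hS₉ : S₉.card = 9 := by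
        rw [← Set.ncard_eq_toFinset_card, Set.ncard_diff hBP]; omega
      let f : Finset Ω → Finset Ω := fun A => (cl G Γ (B ∪ ↑A) \ B).toFinite.toFinset
      have hblock : ∀ A : Finset Ω, A ⊆ S₉ → A.card = 4 →
          (cl G Γ (B ∪ ↑A)).ncard = (C G Γ L x).ncard + 2 ∧ A ⊆ f A ∧ f A ⊆ S₉ := by
        intro A hA hA4
        have hAP : ∀ a ∈ A, a ∈ (C G Γ (C G Γ (C G Γ L x) y) z) ∧ a ∉ B := fun a ha => by simpa [S₉] using hA ha
        obtain ⟨w, hw⟩ := Finset.card_pos.1 (by omega : 0 < A.card)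
        have hT : (B ∪ ↑(A.erase w)).ncard = (C G Γ L x).ncard := by
          rw [Set.ncard_union_eq (Set.disjoint_left.2 fun b hb hb' => (hAP b (Finset.erase_subset _ _ hb')).2 hb),
            Set.ncard_coe_finset, Finset.card_erase_of_mem hw, hA4]
          omega
        obtain ⟨g, hg⟩ := exists_smul_set_eq htr hMc (hT.trans hMc)
        have hwT : w ∉ g • (C G Γ L x) := by
          rw [hg]
          rintro (h | h)
          · exact (hAP w hw).2 h
          · exact (Finset.mem_erase.1 h).1 rfl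
        have e : B ∪ ↑A = insert w (g • (C G Γ L x)) := by
          rw [hg, Finset.coe_erase, ← Set.union_insert, Set.insert_diff_singleton, Set.insert_eq_of_mem (Finset.mem_coe.2 hw)]
        refine ⟨?_, fun a ha => ?_, fun a ha => ?_⟩
        · rw [e]
          obtain ⟨v, rfl⟩ : ∃ v, g • v = w := ⟨g⁻¹ • w, smul_inv_smul g w⟩
          show (C G Γ (g • (C G Γ L x)) (g • v)).ncard = _
          rw [C_smul, Set.ncard_smul_set,
            card_C_eq hJ hm hn (C_flat Γ L x) hM2 (fun hv => hwT (Set.smul_mem_smul_set hv)) hy]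
          omega
        · simp only [f, Set.Finite.mem_toFinset, Set.mem_diff]
          exact ⟨subset_cl Γ _ (Or.inr ha), (hAP a ha).2⟩
        · simp only [f, S₉, Set.Finite.mem_toFinset, Set.mem_diff] at ha ⊢
          refine ⟨?_, ha.2⟩
          have := (cl_mono (G := G) (Γ := Γ) (Set.union_subset hBP fun a ha => (hAP a ha).1)) ha.1
          rwa [C_flat] at this
      have hsum := Finset.card_eq_sum_card_fiberwise (s := S₉.powersetCard 4) (t := (S₉.powersetCard 4).image f)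
        (f := f) (fun A hA => Finset.mem_image_of_mem _ hA)
      rw [Finset.card_powersetCard, hS₉, Finset.sum_eq_card_nsmul (b := 5) (fun K hK => ?_), smul_eq_mul,
        show Nat.choose 9 4 = 126 from rfl] at hsum
      · omega
      obtain ⟨A, hA, rfl⟩ := Finset.mem_image.1 hK
      rw [Finset.mem_powersetCard] at hA
      obtain ⟨hc, hAf, hfS⟩ := hblock A hA.1 hA.2
      have hf5 : (f A).card = 5 := by
        rw [← Set.ncard_eq_toFinset_card, Set.ncard_diff (Set.subset_union_left.trans (subset_cl Γ _)), hc]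
        omega
      rw [show (S₉.powersetCard 4).filter (fun A' => f A' = f A) = (f A).powersetCard 4 from ?_,
        Finset.card_powersetCard, hf5]
      · rfl
      ext A'
      simp only [Finset.mem_filter, Finset.mem_powersetCard]
      constructor
      · rintro ⟨⟨h1, h4'⟩, e⟩
        exact ⟨e ▸ (hblock A' h1 h4').2.1, h4'⟩
      · rintro ⟨h1, h4'⟩
        refine ⟨⟨h1.trans hfS, h4'⟩, ?_⟩
        have hc' := (hblock A' (h1.trans hfS) h4').1
        have e : cl G Γ (B ∪ ↑A') = cl G Γ (B ∪ ↑A) := by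
          refine Set.eq_of_subset_of_ncard_le ?_ (by rw [hc, hc'])
          conv_rhs => rw [← cl_cl (G := G) Γ (B ∪ ↑A)]
          refine cl_mono (Set.union_subset (Set.subset_union_left.trans (subset_cl Γ _)) fun a ha => ?_)
          have := h1 ha
          simp only [f, Set.Finite.mem_toFinset, Set.mem_diff] at this
          exact this.1
        simp only [f, e]
    have hlt := lt_C (G := G) hJ hm hn hz
    exact loop hJ hm hn (2 * (C G Γ (C G Γ L x) y).ncard - ((C G Γ (C G Γ (C G Γ L x) y) z).ncard - (C G Γ (C G Γ L x) y).ncard)) (by omega) _ (C G Γ L x) y z (C_flat Γ L x) hM2 hy hz le_rfl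
      (by omega) (by omega)

end Flats

theorem isPreprimitive_range (h : IsPreprimitive G Ω) : IsPreprimitive (toPermHom G Ω).range Ω := by
  let f : Ω →ₑ[(toPermHom G Ω).rangeRestrict] Ω :=
    { toFun := id, map_smul' := fun _ _ => rfl }
  exact IsPreprimitive.of_surjective (f := f) Function.surjective_id

theorem alternating_le_aux.{u, v} : ∀ (n : ℕ) (G : Type u) (Ω : Type v) [Group G] [MulAction G Ω] [Fintype Ω]
    [DecidableEq Ω] (Γ : Set Ω), Fintype.card Ω = n → IsPreprimitive G Ω → JSet G Γ → 1 < Γ.ncard →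
    2 * Γ.ncard < n → alternatingGroup Ω ≤ (toPermHom G Ω).range := by
  intro n
  induction n using Nat.strong_induction_on with
  | _ n ih =>
    intro G Ω _ _ _ _ Γ hcard hprim hJ h1 h2
    have hcard' : Nat.card Ω = n := by rw [Nat.card_eq_fintype_card, hcard]
    have hK := isPreprimitive_range hprim
    obtain ⟨x, hx, y, hy, hxy⟩ := (Set.one_lt_ncard (s := Γ)).1 h1
    obtain ⟨h, hfix, hhx⟩ := hJ x hx y hy
    have hsupp : (toPerm h : Equiv.Perm Ω).support.card ≤ Γ.ncard := by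
      rw [← Set.ncard_coe_finset]
      refine Set.ncard_le_ncard fun z hz => ?_
      by_contra hzΓ
      exact (Equiv.Perm.mem_support.1 hz) (hfix z hzΓ)
    have hne : (toPerm h : Equiv.Perm Ω) ≠ 1 := fun e => hxy (by
      have h9 : (toPerm h : Equiv.Perm Ω) x = x := by rw [e]; rfl
      rw [toPerm_apply, hhx] at h9
      exact h9.symm)
    rcases Nat.lt_or_ge Γ.ncard 4 with hm3 | hm4
    · exact PermGp.alternating_le_of_small_support hK ⟨h, rfl⟩ hne (by rw [toPermHom_apply]; omega)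
    have h3 := three_transitive hprim hJ h1 (by omega)
    have h2t : IsMultiplyPretransitive G Ω 2 := hJ.two_transitive hprim h1 (by omega)
    obtain ⟨a, ha⟩ := (Set.ne_univ_iff_exists_notMem Γ).1 (fun e => by rw [e, Set.ncard_univ] at h2; omega)
    have hp := isPreprimitive_stabilizer h2t hJ h1 (by omega) a
    let Γ' : Set (SubMulAction.ofStabilizer G a) := Subtype.val ⁻¹' Γ
    have hc' : Γ'.ncard = Γ.ncard :=
      Set.ncard_preimage_of_injective_subset_range Subtype.val_injective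
        (fun z hz => ⟨⟨z, fun e : z = a => ha (e ▸ hz)⟩, rfl⟩)
    have hJ' : JSet (stabilizer G a) Γ' := fun u hu v hv => by
      obtain ⟨g, hg, hgx⟩ := hJ u hu v hv
      exact ⟨⟨g, hg a ha⟩, fun z hz => Subtype.ext (hg z hz), Subtype.ext hgx⟩
    letI : Fintype (SubMulAction.ofStabilizer G a) := Fintype.ofFinite _
    have hcard'' : Nat.card (SubMulAction.ofStabilizer G a) = n - 1 := by
      have hh : Nat.card (SubMulAction.ofStabilizer G a) = ({a}ᶜ : Set Ω).ncard := Nat.card_coe_set_eq _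
      rw [hh, Set.ncard_compl, Set.ncard_singleton, hcard']
    rcases Nat.lt_or_ge (2 * Γ.ncard + 1) n with hbig | hsmall
    · letI : DecidableEq (SubMulAction.ofStabilizer G a) := Classical.decEq _
      have halt := ih (n - 1) (by omega) (stabilizer G a) (SubMulAction.ofStabilizer G a) Γ'
        (by rw [← Nat.card_eq_fintype_card, hcard'']) hp hJ' (by omega) (by omega)
      obtain ⟨u, v, w, huv, huw, hvw⟩ := Fintype.two_lt_card_iff.1
        (show 2 < Fintype.card (SubMulAction.ofStabilizer G a) by rw [← Nat.card_eq_fintype_card, hcard'']; omega)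
      have h3c : (Equiv.swap u v * Equiv.swap u w).IsThreeCycle := Equiv.Perm.isThreeCycle_swap_mul_swap_same huv huw hvw
      obtain ⟨g, hg⟩ := halt (Equiv.Perm.mem_alternatingGroup.2 h3c.sign)
      refine Equiv.Perm.alternatingGroup_le_of_isPreprimitive_of_isThreeCycle_mem hK
        (g := toPerm (g : G)) ?_ ⟨(g : G), rfl⟩
      rw [← card_support_eq_three_iff]
      rw [← h3c.card_support, ← hg]
      symm
      refine Finset.card_bij (fun z _ => (z : Ω)) (fun z hz => ?_) (fun p _ p2 _ e => Subtype.ext e) fun z hz => ?_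
      · simp only [Equiv.Perm.mem_support, toPermHom_apply, toPerm_apply, ne_eq] at hz ⊢
        exact fun e => hz (Subtype.ext e)
      · simp only [Equiv.Perm.mem_support, toPermHom_apply, toPerm_apply, ne_eq] at hz
        refine ⟨⟨z, fun e : z = a => hz (by rw [e]; exact g.2)⟩, ?_, rfl⟩
        simp only [Equiv.Perm.mem_support, toPermHom_apply, toPerm_apply, ne_eq]
        exact fun e => hz (congrArg Subtype.val e)
    by_contra hnalt
    have hn : Nat.card Ω = 2 * Γ.ncard + 1 := by omega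
    have h3' := three_transitive hp hJ' (by omega) (by omega)
    haveI := hprim.toIsPretransitive
    have h4 : IsMultiplyPretransitive G Ω 4 := (SubMulAction.ofStabilizer.isMultiplyPretransitive (a := a)).2 h3'
    refine flats_false hJ rfl hn hm4 h4 ?_
    intro L hL hL2 hLne hL1
    have hLc : L.ncard ≤ Γ.ncard + 1 := by
      obtain ⟨z, hz⟩ := (Set.ne_univ_iff_exists_notMem L).1 hLne
      rw [← hL] at hz
      simp only [cl, Set.mem_setOf_eq, not_forall, not_not, exists_prop] at hz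
      obtain ⟨g, hd, -⟩ := hz
      have h' := Set.ncard_union_eq hd
      have h'' := Set.ncard_le_card (g • Γ ∪ L)
      rw [Set.ncard_smul_set] at h'
      omega
    have htwo : IsMultiplyPretransitive (fixingSubgroup G L) (SubMulAction.ofFixingSubgroup G L) 2 := by
      rw [is_two_pretransitive_iff]
      intro p q u v hpq huv
      obtain ⟨g₁, hg₁, -, hfix₁⟩ := exists_move hJ rfl hn hL hL2 (p.2 : (p : Ω) ∉ L) (u.2 : (u : Ω) ∉ L)
      have hflat : cl G Γ (insert (u : Ω) L) = insert (u : Ω) L := hL1 _ u.2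
      have hq' : g₁ • (q : Ω) ∉ insert (u : Ω) L := by
        rintro (e | e)
        · rw [← hg₁] at e
          exact hpq (Subtype.ext (smul_left_cancel g₁ e).symm)
        · exact q.2 (smul_left_cancel g₁ (hfix₁ _ e) ▸ e)
      obtain ⟨g₂, hg₂, -, hfix₂⟩ := exists_move hJ rfl hn hflat
        (hL2.trans (Set.ncard_le_ncard (Set.subset_insert _ _))) hq'
        (show (v : Ω) ∉ insert (u : Ω) L from fun e => e.elim (fun e => huv (Subtype.ext e.symm)) v.2)
      refine ⟨⟨g₂ * g₁, (mem_fixingSubgroup_iff G).2 fun z hz => ?_⟩, Subtype.ext ?_, Subtype.ext ?_⟩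
      · rw [mul_smul, hfix₁ z hz, hfix₂ z (Or.inr hz)]
      · show (g₂ * g₁) • (p : Ω) = u
        rw [mul_smul, hg₁, hfix₂ _ (Or.inl rfl)]
      · show (g₂ * g₁) • (q : Ω) = v
        rw [mul_smul, hg₂]
    have hmult := (hprim.isMultiplyPreprimitive (s := L) (n := L.ncard - 1) (by omega) (by omega)
      (isPreprimitive_of_is_two_pretransitive htwo)).isMultiplyPretransitive
    rw [show L.ncard - 1 + 2 = L.ncard + 1 by omega] at hmult
    refine ⟨?_, hmult⟩
    by_contra hLm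
    have hmultK : IsMultiplyPretransitive (toPermHom G Ω).range Ω (L.ncard + 1) := by
      refine ⟨fun f f' => ?_⟩
      obtain ⟨g, hg⟩ := exists_smul_eq G f f'
      exact ⟨⟨toPermHom G Ω g, g, rfl⟩, hg⟩
    obtain ⟨c, hc, hc1, hc3⟩ := PermGp.exists_support_le_three (k := L.ncard + 1) (by omega) (by omega) hmultK
      ⟨h, rfl⟩ hne (by rw [toPermHom_apply]; omega)
    exact hnalt (PermGp.alternating_le_of_small_support hK hc hc1 hc3)

/-- Jordan–Marggraff: a primitive group with a Jordan set of less than half the degree contains the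
alternating group. -/
theorem alternating_le [Fintype Ω] [DecidableEq Ω] (hprim : IsPreprimitive G Ω) {Γ : Set Ω} (hJ : JSet G Γ)
    (h1 : 1 < Γ.ncard) (h2 : 2 * Γ.ncard < Fintype.card Ω) : alternatingGroup Ω ≤ (toPermHom G Ω).range :=
  alternating_le_aux _ G Ω Γ rfl hprim hJ h1 h2

end Cfsg.Agent.Recog.JH
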