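import Mathlib

/-! Jordan sets of at most half the degree in a primitive group. -/

set_option autoImplicit false

namespace Cfsg.Agent.Recog.JH

open MulAction
open scoped Pointwise

variable {G Ω : Type*} [Group G] [MulAction G Ω]

/-- `Γ` is a Jordan set: the elements fixing its complement are transitive on it. -/
def JSet (G : Type*) {Ω : Type*} [Group G] [MulAction G Ω] (Γ : Set Ω) : Prop :=
  ∀ x ∈ Γ, ∀ y ∈ Γ, ∃ g : G, (∀ z ∉ Γ, g • z = z) ∧ g • x = y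

theorem JSet.union {Γ Δ : Set Ω} (h1 : JSet G Γ) (h2 : JSet G Δ) {w : Ω} (hwΓ : w ∈ Γ) (hwΔ : w ∈ Δ) :
    JSet G (Γ ∪ Δ) := by
  have key : ∀ x ∈ Γ ∪ Δ, ∃ g : G, (∀ z ∉ Γ ∪ Δ, g • z = z) ∧ g • x = w := by
    rintro x (hx | hx)
    · obtain ⟨g, hg, hgx⟩ := h1 x hx w hwΓ
      exact ⟨g, fun z hz => hg z (fun h => hz (Or.inl h)), hgx⟩
    · obtain ⟨g, hg, hgx⟩ := h2 x hx w hwΔ
      exact ⟨g, fun z hz => hg z (fun h => hz (Or.inr h)), hgx⟩
  intro x hx y hy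
  obtain ⟨g, hg, hgx⟩ := key x hx
  obtain ⟨k, hk, hky⟩ := key y hy
  refine ⟨k⁻¹ * g, fun z hz => ?_, ?_⟩
  · rw [mul_smul, hg z hz, inv_smul_eq_iff, hk z hz]
  · rw [mul_smul, hgx, inv_smul_eq_iff, hky]

theorem JSet.smul {Γ : Set Ω} (h : JSet G Γ) (k : G) : JSet G (k • Γ) := by
  rintro _ ⟨x, hx, rfl⟩ _ ⟨y, hy, rfl⟩
  obtain ⟨g, hg, hgx⟩ := h x hx y hy
  refine ⟨k * g * k⁻¹, fun z hz => ?_, ?_⟩
  · have : g • k⁻¹ • z = k⁻¹ • z := hg _ fun hm => hz ⟨_, hm, smul_inv_smul k z⟩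
    rw [mul_smul, mul_smul, this, smul_inv_smul]
  · simp only
    rw [mul_smul, mul_smul, inv_smul_smul, hgx]

theorem JSet.isPretransitive {Γ : Set Ω} (h : JSet G Γ) :
    IsPretransitive (fixingSubgroup G Γᶜ) (SubMulAction.ofFixingSubgroup G Γᶜ) := by
  refine ⟨fun x y => ?_⟩
  have hx : (x : Ω) ∈ Γ := not_not.1 (x.2 : ¬ (x : Ω) ∈ Γᶜ)
  have hy : (y : Ω) ∈ Γ := not_not.1 (y.2 : ¬ (y : Ω) ∈ Γᶜ)
  obtain ⟨g, hg, hgx⟩ := h x hx y hy
  exact ⟨⟨g, (mem_fixingSubgroup_iff G).2 fun z hz => hg z hz⟩, Subtype.ext hgx⟩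

theorem JSet.two_transitive [Finite Ω] (hprim : IsPreprimitive G Ω) {Γ : Set Ω} (h : JSet G Γ)
    (h1 : 1 < Γ.ncard) (h2 : Γ.ncard < Nat.card Ω) : IsMultiplyPretransitive G Ω 2 := by
  have hc := Set.ncard_add_ncard_compl Γ
  exact hprim.is_two_pretransitive (s := Γᶜ) (n := Γᶜ.ncard - 1) (by omega) (by omega) h.isPretransitive

/-- With a Jordan set of at most half the degree, a point stabiliser is primitive on the other points. -/
theorem isPreprimitive_stabilizer [Finite Ω] (h2t : IsMultiplyPretransitive G Ω 2) {Γ₀ : Set Ω}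
    (h : JSet G Γ₀) (h1 : 1 < Γ₀.ncard) (hhalf : 2 * Γ₀.ncard ≤ Nat.card Ω) (a : Ω) :
    IsPreprimitive (stabilizer G a) (SubMulAction.ofStabilizer G a) := by
  classical
  obtain ⟨Γ, ⟨hJ, hΓ1, hΓ2⟩, hmax⟩ := Set.exists_max_image
    {S : Set Ω | JSet G S ∧ 1 < S.ncard ∧ 2 * S.ncard ≤ Nat.card Ω} Set.ncard (Set.toFinite _) ⟨Γ₀, h, h1, hhalf⟩
  have h2p : ∀ {x y u v : Ω}, x ≠ y → u ≠ v → ∃ g : G, g • x = u ∧ g • y = v := is_two_pretransitive_iff.1 h2t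
  have htrans : IsPretransitive (stabilizer G a) (SubMulAction.ofStabilizer G a) := ⟨fun x y => by
    obtain ⟨g, hga, hgx⟩ := h2p (u := a) (v := (y : Ω)) (Ne.symm (x.2 : (x : Ω) ≠ a)) (Ne.symm (y.2 : (y : Ω) ≠ a))
    exact ⟨⟨g, hga⟩, Subtype.ext hgx⟩⟩
  refine ⟨fun {B₀} hB₀ => ?_⟩
  by_contra hnt
  have hns : ¬ B₀.Subsingleton := fun hs => hnt (Or.inl hs)
  have hnu : B₀ ≠ Set.univ := fun hs => hnt (Or.inr hs)
  obtain ⟨b₀, hb₀, c₀, hc₀, hbc₀⟩ := Set.not_subsingleton_iff.1 hns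
  let B : Set Ω := Subtype.val '' B₀
  have haB : a ∉ B := fun ⟨x, _, hx⟩ => (x.2 : (x : Ω) ≠ a) hx
  have hblk : ∀ g : G, g • a = a → ∀ x ∈ B, g • x ∈ B → ∀ y ∈ B, g • y ∈ B := by
    rintro g hga _ ⟨x, hx, rfl⟩ ⟨x', hx', hxx'⟩ _ ⟨y, hy, rfl⟩
    have hgx : (⟨g, hga⟩ : stabilizer G a) • x ∈ B₀ := by
      rwa [show (⟨g, hga⟩ : stabilizer G a) • x = x' from Subtype.ext hxx'.symm]
    refine ⟨(⟨g, hga⟩ : stabilizer G a) • y, ?_, rfl⟩
    rw [← hB₀.smul_eq_of_mem hx hgx]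
    exact Set.smul_mem_smul_set hy
  obtain ⟨d₀, hd₀⟩ := (Set.ne_univ_iff_exists_notMem B₀).1 hnu
  have hBcard : 2 * B.ncard ≤ Nat.card Ω := by
    obtain ⟨⟨g, hga⟩, hg⟩ := htrans.exists_smul_eq b₀ d₀
    have hdisj : Disjoint B (g • B) := by
      rw [Set.disjoint_left]
      rintro _ hy ⟨y, hyB, rfl⟩
      obtain ⟨z, hz, hze⟩ := hblk g hga y hyB hy _ ⟨b₀, hb₀, rfl⟩
      exact hd₀ (hg ▸ (Subtype.ext hze : z = (⟨g, hga⟩ : stabilizer G a) • b₀) ▸ hz)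
    have := Set.ncard_union_eq hdisj
    have hle := Set.ncard_le_card (B ∪ g • B)
    rw [this, Set.ncard_smul_set] at hle
    omega
  let F : Set (Set Ω) := Set.range fun g : G => g • Γ
  let μ : Ω → Ω → Set (Set Ω) := fun x y => {S ∈ F | x ∈ S ∧ y ∉ S}
  have hFJ : ∀ S ∈ F, JSet G S ∧ S.ncard = Γ.ncard := by
    rintro _ ⟨g, rfl⟩
    exact ⟨hJ.smul g, Set.ncard_smul_set _ _⟩
  have hμ : ∀ {x y u v : Ω}, x ≠ y → u ≠ v → (μ x y).ncard = (μ u v).ncard := by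
    intro x y u v hxy huv
    obtain ⟨g, rfl, rfl⟩ := h2p hxy huv
    rw [← Set.ncard_image_of_injective (μ x y) (MulAction.injective (β := Set Ω) g)]
    congr 1
    ext S
    constructor
    · rintro ⟨T, ⟨⟨k, rfl⟩, hx, hy⟩, rfl⟩
      exact ⟨⟨g * k, mul_smul g k Γ⟩, Set.smul_mem_smul_set hx, fun hh => hy (Set.smul_mem_smul_set_iff.1 hh)⟩
    · rintro ⟨⟨k, rfl⟩, hx, hy⟩
      refine ⟨g⁻¹ • k • Γ, ⟨⟨g⁻¹ * k, mul_smul _ k Γ⟩, ?_, ?_⟩, smul_inv_smul g _⟩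
      · rwa [Set.mem_inv_smul_set_iff]
      · rwa [Set.mem_inv_smul_set_iff]
  obtain ⟨e, f, hef⟩ : ∃ e f : Ω, e ≠ f := ⟨(b₀ : Ω), a, b₀.2⟩
  have hμne : (μ e f).Nonempty := by
    obtain ⟨x, hx⟩ := (Set.ncard_pos (s := Γ)).1 (by omega)
    obtain ⟨y, hy⟩ := (Set.ne_univ_iff_exists_notMem Γ).1 (fun hu => by rw [hu, Set.ncard_univ] at hΓ2; omega)
    have : (μ e f).ncard ≠ 0 := by
      rw [hμ hef (show x ≠ y from fun e => hy (e ▸ hx))]
      exact Set.ncard_ne_zero_of_mem (⟨⟨1, one_smul _ _⟩, hx, hy⟩ : Γ ∈ μ x y)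
    exact (Set.ncard_pos (s := μ e f)).1 (Nat.pos_of_ne_zero this)
  -- a translate avoiding `a` never cuts `B`
  have hdich : ∀ S ∈ F, a ∉ S → ∀ x ∈ B, x ∈ S → B ⊆ S ∨ S ⊆ B := by
    intro S hS haS x hxB hxS
    rw [or_iff_not_imp_left, Set.not_subset]
    rintro ⟨c, hcB, hcS⟩ y hy
    obtain ⟨g, hg, rfl⟩ := (hFJ S hS).1 x hxS y hy
    exact hblk g (hg a haS) c hcB (by rw [hg c hcS]; exact hcB) x hxB
  have hU : ∀ S ∈ F, a ∉ S → ∀ x ∈ B, x ∈ S → B ⊆ S := by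
    intro S hS haS x hxB hxS
    by_contra hns
    have hSB : S ⊆ B := (hdich S hS haS x hxB hxS).resolve_left hns
    -- then there is just one translate containing `x` and avoiding `a`
    have huniq : ∀ T ∈ μ x a, T = S := by
      rintro T ⟨hT, hxT, haT⟩
      rcases hdich T hT haT x hxB hxT with h' | h'
      · exact (Set.eq_of_subset_of_ncard_le (hSB.trans h') (by rw [(hFJ S hS).2, (hFJ T hT).2])).symm
      · have hJu := (hFJ S hS).1.union (hFJ T hT).1 hxS hxT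
        have hle : (S ∪ T).ncard ≤ B.ncard := Set.ncard_le_ncard (Set.union_subset hSB h')
        have hge : S.ncard ≤ (S ∪ T).ncard := Set.ncard_le_ncard Set.subset_union_left
        have hSc := (hFJ S hS).2
        have hTc := (hFJ T hT).2
        have := hmax _ ⟨hJu, by omega, by omega⟩
        have e1 := Set.eq_of_subset_of_ncard_le (Set.subset_union_left : S ⊆ S ∪ T) (by omega)
        have e2 := Set.eq_of_subset_of_ncard_le (Set.subset_union_right : T ⊆ S ∪ T) (by omega)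
        exact e2.trans e1.symm
    have hxa : x ≠ a := fun e => haB (e ▸ hxB)
    have hone : (μ x a).ncard = 1 := Set.ncard_eq_one.2 ⟨S, Set.eq_singleton_iff_unique_mem.2 ⟨⟨hS, hxS, haS⟩, huniq⟩⟩
    obtain ⟨c, hcS, hcx⟩ := Set.exists_ne_of_one_lt_ncard (s := S) (by rw [(hFJ S hS).2]; exact hΓ1) x
    have hone' : (μ x c).ncard = 1 := (hμ (Ne.symm hcx) hxa).trans hone
    obtain ⟨T, hTe⟩ := Set.ncard_eq_one.1 hone'
    have hT : T ∈ μ x c := hTe ▸ rfl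
    obtain ⟨y, hy⟩ := (Set.ne_univ_iff_exists_notMem (S ∪ T)).1 (fun hu => by
      have h1 := Set.ncard_union_add_ncard_inter S T
      have h2 : 0 < (S ∩ T).ncard := (Set.ncard_pos (s := S ∩ T)).2 ⟨x, hxS, hT.2.1⟩
      have h3 := (hFJ S hS).2
      have h4 := (hFJ T hT.1).2
      rw [hu, Set.ncard_univ] at h1
      omega)
    have hxy : x ≠ y := fun e => hy (Or.inl (e ▸ hxS))
    obtain ⟨U, hUe⟩ := Set.ncard_eq_one.1 ((hμ hxy hxa).trans hone)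
    have eS : S ∈ μ x y := ⟨hS, hxS, fun hh => hy (Or.inl hh)⟩
    have eT : T ∈ μ x y := ⟨hT.1, hT.2.1, fun hh => hy (Or.inr hh)⟩
    rw [hUe, Set.mem_singleton_iff] at eS eT
    exact hT.2.2 (eT.trans eS.symm ▸ hcS)
  -- a translate containing `a` misses at most one point of each block
  have hmiss : ∀ h : G, h • a = a → ∀ S ∈ F, a ∈ S → ∀ x ∈ h • B, ∀ y ∈ h • B, x ∉ S → y ∉ S → x = y := by
    rintro h hha S ⟨k, rfl⟩ haS _ ⟨x, hx, rfl⟩ _ ⟨y, hy, rfl⟩ hxS hyS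
    simp only at hxS hyS haS ⊢
    by_contra hne
    have hxy : x ≠ y := fun e => hne (by rw [e])
    set T := h⁻¹ • k • Γ with hT
    have hTF : T ∈ F := ⟨h⁻¹ * k, mul_smul _ k Γ⟩
    have haT : a ∈ T := by rw [hT, Set.mem_inv_smul_set_iff, hha]; exact haS
    have hxT : x ∉ T := by rw [hT, Set.mem_inv_smul_set_iff]; exact hxS
    have hyT : y ∉ T := by rw [hT, Set.mem_inv_smul_set_iff]; exact hyS
    have hxa : x ≠ a := fun e => haB (e ▸ hx)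
    have hya : y ≠ a := fun e => haB (e ▸ hy)
    have h1 : μ x a = μ y a := by
      refine Set.eq_of_subset_of_ncard_le (fun U hU' => ⟨hU'.1, hU U hU'.1 hU'.2.2 x hx hU'.2.1 hy, hU'.2.2⟩) ?_
      rw [hμ hya hxa]
    have h2 : μ x y ⊆ μ a y := by
      rintro U ⟨hUF, hxU, hyU⟩
      refine ⟨hUF, ?_, hyU⟩
      by_contra haU
      exact hyU (h1 ▸ (⟨hUF, hxU, haU⟩ : U ∈ μ x a) : U ∈ μ y a).2.1
    have h3 := Set.eq_of_subset_of_ncard_le h2 (by rw [hμ (Ne.symm hya) hxy])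
    exact hxT (h3.symm ▸ (⟨hTF, haT, hyT⟩ : T ∈ μ a y) : T ∈ μ x y).2.1
  obtain ⟨z₀, hz₀⟩ := (Set.ncard_pos (s := Γ)).1 (by omega)
  obtain ⟨k, hk, -⟩ := h2p (x := z₀) (y := (Classical.choose (Set.exists_ne_of_one_lt_ncard hΓ1 z₀)))
    (Ne.symm (Classical.choose_spec (Set.exists_ne_of_one_lt_ncard hΓ1 z₀)).2) (Ne.symm (b₀.2 : (b₀ : Ω) ≠ a))
  set S := k • Γ with hS
  have haS : a ∈ S := ⟨z₀, hz₀, hk⟩
  have hh : ∀ z : Ω, z ∉ S → ∃ h : G, h • a = a ∧ h • (b₀ : Ω) = z := fun z hz => by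
    obtain ⟨⟨g, hg⟩, hgb⟩ := htrans.exists_smul_eq b₀ ⟨z, fun e : z = a => hz (e ▸ haS)⟩
    exact ⟨g, hg, congrArg Subtype.val hgb⟩
  choose hmap hma hmb using hh
  have hmem : ∀ z (hz : z ∉ S), hmap z hz • (c₀ : Ω) ∈ S \ {a} := fun z hz => by
    refine ⟨?_, fun e => (c₀.2 : (c₀ : Ω) ≠ a) (smul_left_cancel (hmap z hz) ((e : _ = a).trans (hma z hz).symm))⟩
    by_contra hn
    have := hmiss _ (hma z hz) S ⟨k, rfl⟩ haS _ (Set.smul_mem_smul_set ⟨b₀, hb₀, rfl⟩) _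
      (Set.smul_mem_smul_set ⟨c₀, hc₀, rfl⟩) (by rw [hmb]; exact hz) hn
    exact hbc₀ (Subtype.ext (smul_left_cancel _ this))
  have hinj : Function.Injective (fun z : (Sᶜ : Set Ω) => (⟨_, hmem z z.2⟩ : (S \ {a} : Set Ω))) := by
    intro z z' e
    have he : hmap z z.2 • (c₀ : Ω) = hmap z' z'.2 • (c₀ : Ω) := congrArg Subtype.val e
    set g := (hmap z z.2)⁻¹ * hmap z' z'.2 with hg
    have hga : g • a = a := by rw [hg, mul_smul, hma, inv_smul_eq_iff, hma]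
    have hgc : g • (c₀ : Ω) = c₀ := by rw [hg, mul_smul, ← he, inv_smul_smul]
    have hgb := hblk g hga _ ⟨c₀, hc₀, rfl⟩ (by rw [hgc]; exact ⟨c₀, hc₀, rfl⟩) _ ⟨b₀, hb₀, rfl⟩
    refine Subtype.ext (hmiss _ (hma z z.2) S ⟨k, rfl⟩ haS z ⟨b₀, ⟨b₀, hb₀, rfl⟩, hmb z z.2⟩ z'
      ⟨g • (b₀ : Ω), hgb, ?_⟩ z.2 z'.2)
    show hmap z z.2 • g • (b₀ : Ω) = z'
    rw [hg, mul_smul, smul_inv_smul, hmb]
  have hle := Nat.card_le_card_of_injective _ hinj
  rw [Nat.card_coe_set_eq, Nat.card_coe_set_eq, Set.ncard_diff_singleton_of_mem haS] at hle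
  have hc := Set.ncard_add_ncard_compl S
  have hSc : S.ncard = Γ.ncard := Set.ncard_smul_set _ _
  omega

/-- Marggraf: a primitive group with a Jordan set of at most half the degree is triply transitive. -/
theorem three_transitive [Finite Ω] (hprim : IsPreprimitive G Ω) {Γ : Set Ω} (h : JSet G Γ)
    (h1 : 1 < Γ.ncard) (h2 : 2 * Γ.ncard ≤ Nat.card Ω) : IsMultiplyPretransitive G Ω 3 := by
  classical
  have h2t := h.two_transitive hprim h1 (by omega)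
  obtain ⟨a, ha⟩ := (Set.ne_univ_iff_exists_notMem Γ).1 (fun hu => by rw [hu, Set.ncard_univ] at h1 h2; omega)
  have := hprim.toIsPretransitive
  have hp := isPreprimitive_stabilizer h2t h h1 h2 a
  let Γ' : Set (SubMulAction.ofStabilizer G a) := Subtype.val ⁻¹' Γ
  have hc' : Γ'.ncard = Γ.ncard :=
    Set.ncard_preimage_of_injective_subset_range Subtype.val_injective (fun x hx => ⟨⟨x, fun e : x = a => ha (e ▸ hx)⟩, rfl⟩)
  have hJ' : JSet (stabilizer G a) Γ' := fun x hx y hy => by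
    obtain ⟨g, hg, hgx⟩ := h x hx y hy
    exact ⟨⟨g, hg a ha⟩, fun z hz => Subtype.ext (hg z hz), Subtype.ext hgx⟩
  have hcard : Nat.card (SubMulAction.ofStabilizer G a) = Nat.card Ω - 1 := by
    have hh : Nat.card (SubMulAction.ofStabilizer G a) = ({a}ᶜ : Set Ω).ncard := Nat.card_coe_set_eq _
    rw [hh, Set.ncard_compl, Set.ncard_singleton]
  exact (SubMulAction.ofStabilizer.isMultiplyPretransitive (a := a)).2
    (hJ'.two_transitive hp (by omega) (by omega))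

end Cfsg.Agent.Recog.JH
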