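import Cfsg.Agent.Lib.Recog.JordanFlats

/-! Quasiprimitive groups with a small Jordan set. -/

set_option autoImplicit false

namespace Cfsg.Agent.Recog.JH

open MulAction
open scoped Pointwise

variable {G Ω : Type*} [Group G] [MulAction G Ω]

/-- A quasiprimitive group with a Jordan set of less than half the degree contains the alternating group. -/
theorem quasiprimitive_alternating [Finite G] [FaithfulSMul G Ω] [Fintype Ω] [DecidableEq Ω]
    (hqp : ∀ N : Subgroup G, N.Normal → N ≠ ⊥ → IsPretransitive N Ω) {Γ : Set Ω} (hJ : JSet G Γ)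
    (h1 : 1 < Γ.ncard) (h2 : 2 * Γ.ncard < Fintype.card Ω) : alternatingGroup Ω ≤ (toPermHom G Ω).range := by
  classical
  obtain ⟨x, hx, y, hy, hxy⟩ := (Set.one_lt_ncard (s := Γ)).1 h1
  obtain ⟨h₀, hfix₀, hh₀x⟩ := hJ x hx y hy
  have hh₀ : h₀ ≠ 1 := fun e => hxy (by rw [← hh₀x, e, one_smul])
  haveI htr : IsPretransitive G Ω := ⟨fun u v => by
    have htop := hqp ⊤ inferInstance (fun e => hh₀ (by rw [← Subgroup.mem_bot, ← e]; exact Subgroup.mem_top _))
    obtain ⟨g, hg⟩ := htop.exists_smul_eq u v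
    exact ⟨(g : G), hg⟩⟩
  by_cases hprim : IsPreprimitive G Ω
  · exact alternating_le hprim hJ h1 h2
  exfalso
  obtain ⟨a, ha⟩ := (Set.ne_univ_iff_exists_notMem Γ).1 (fun e => by
    rw [e, Set.ncard_univ, Nat.card_eq_fintype_card] at h2; omega)
  haveI : Nontrivial Ω := ⟨⟨x, y, hxy⟩⟩
  obtain ⟨M, hM, haM⟩ : ∃ M : Subgroup G, IsCoatom M ∧ stabilizer G a ≤ M := by
    refine (eq_top_or_exists_le_coatom (stabilizer G a)).resolve_left fun e => ?_
    obtain ⟨g, hg⟩ := exists_smul_eq G a x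
    have hga : g ∈ stabilizer G a := e ▸ Subgroup.mem_top g
    exact ha ((hga : g • a = a).symm.trans hg ▸ hx)
  have haM' : stabilizer G a ≠ M := fun e => hprim ((isCoatom_stabilizer_iff_preprimitive G a).1 (e ▸ hM))
  choose σ hσ using fun z : Ω => exists_smul_eq G a z
  set π : Ω → G ⧸ M := fun z => (σ z : G ⧸ M) with hπ
  have hπ' : ∀ (g : G) (z : Ω), π (g • z) = g • π z := by
    intro g z
    show ((σ (g • z) : G) : G ⧸ M) = ((g * σ z : G) : G ⧸ M)
    rw [QuotientGroup.eq]
    refine haM ?_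
    rw [mem_stabilizer_iff, mul_smul, inv_smul_eq_iff, hσ, mul_smul, hσ]
  have hπa : π a = ((1 : G) : G ⧸ M) := by
    show ((σ a : G) : G ⧸ M) = _
    rw [QuotientGroup.eq, mul_one]
    exact M.inv_mem (haM (hσ a))
  have hfib : ∀ g : G, π (g • a) = π a ↔ g ∈ M := fun g => by
    rw [hπ', hπa, MulAction.Quotient.smul_coe, smul_eq_mul, mul_one, QuotientGroup.eq, mul_one, inv_mem_iff]
  have hMK : ∀ K : Subgroup G, K.Normal → K ≠ ⊥ → ¬ K ≤ M := by
    intro K hK hK1 hKM
    refine hM.1 (eq_top_iff.2 fun g _ => ?_)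
    obtain ⟨⟨k, hk⟩, hkg⟩ := (hqp K hK hK1).exists_smul_eq a (g • a)
    have hs : g⁻¹ * k ∈ stabilizer G a := by
      rw [mem_stabilizer_iff, mul_smul, inv_smul_eq_iff]; exact hkg
    have := M.mul_mem (hKM hk) (M.inv_mem (haM hs))
    simpa using this
  haveI hprimX : IsPreprimitive G (G ⧸ M) := by
    haveI : Nontrivial (G ⧸ M) := by
      rw [← Finite.one_lt_card_iff_nontrivial]
      exact Subgroup.one_lt_index_of_ne_top hM.1
    refine (isCoatom_stabilizer_iff_preprimitive G ((1 : G) : G ⧸ M)).1 ?_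
    rwa [MulAction.stabilizer_quotient]
  have hker : ∀ g : G, (∀ X : G ⧸ M, g • X = X) → g = 1 := by
    intro g hg
    by_contra hg1
    refine hMK (toPermHom G (G ⧸ M)).ker inferInstance (fun e => hg1 ?_) ?_
    · rw [← Subgroup.mem_bot, ← e, MonoidHom.mem_ker]
      exact Equiv.ext hg
    · intro k hk
      rw [← hfib, hπ']
      exact congrFun (congrArg DFunLike.coe (MonoidHom.mem_ker.1 hk)) (π a)
  have hsurj : Function.Surjective π := fun X => by
    induction X using QuotientGroup.induction_on with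
    | H g => exact ⟨g • a, by rw [hπ', hπa, MulAction.Quotient.smul_coe, smul_eq_mul, mul_one]⟩
  -- fixing the complement, the group fixes every block meeting it
  have hsat : ∀ z w : Ω, z ∉ Γ → π w = π z → w ∉ Γ := by
    intro z w hz hwz hw
    have hh₀fix : ∀ X : G ⧸ M, h₀ • X = X := by
      intro X
      obtain ⟨v, rfl⟩ := hsurj X
      rw [← hπ']
      by_cases hv : v ∈ Γ
      · have hall : ∀ u ∈ Γ, π u = π w := by
          intro u hu
          obtain ⟨g, hg, hgw⟩ := hJ w hw u hu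
          rw [← hgw, hπ', hwz, ← hπ', hg z hz]
        have hv' : h₀ • v ∈ Γ := by
          by_contra hn
          exact hn ((smul_left_cancel h₀ (hfix₀ _ hn)).symm ▸ hv)
        rw [hall v hv, hall _ hv']
      · rw [hfix₀ v hv]
    exact hh₀ (hker _ hh₀fix)
  set Γ' : Set (G ⧸ M) := π '' Γ with hΓ'
  have hmem : ∀ u, π u ∈ Γ' → u ∈ Γ := by
    rintro u ⟨w, hw, e⟩
    by_contra hu
    exact hsat u w hu e hw
  have hJ' : JSet G Γ' := by
    rintro _ ⟨u, hu, rfl⟩ _ ⟨v, hv, rfl⟩
    obtain ⟨g, hg, hguv⟩ := hJ u hu v hv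
    refine ⟨g, fun X hX => ?_, by rw [← hπ', hguv]⟩
    obtain ⟨w, rfl⟩ := hsurj X
    rw [← hπ', hg w fun hw => hX ⟨w, hw, rfl⟩]
  have hΓ'1 : 1 < Γ'.ncard := by
    by_contra hle
    apply hh₀
    refine hker _ fun X => ?_
    obtain ⟨v, rfl⟩ := hsurj X
    rw [← hπ']
    by_cases hv : v ∈ Γ
    · have hv' : h₀ • v ∈ Γ := by
        by_contra hn
        exact hn ((smul_left_cancel h₀ (hfix₀ _ hn)).symm ▸ hv)
      exact (Set.ncard_le_one (s := Γ') (Set.toFinite _)).1 (by omega) _ ⟨_, hv', rfl⟩ _ ⟨_, hv, rfl⟩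
    · rw [hfix₀ v hv]
  haveI : Fintype (G ⧸ M) := Fintype.ofFinite _
  have hfibre : ∀ X : G ⧸ M, (Finset.univ.filter fun z => π z = X).card = (Finset.univ.filter fun z => π z = π a).card := by
    intro X
    obtain ⟨v, rfl⟩ := hsurj X
    obtain ⟨g, hg⟩ := exists_smul_eq G a v
    refine (Finset.card_equiv (toPerm g) fun z => ?_).symm
    simp only [Finset.mem_filter, Finset.mem_univ, true_and, toPerm_apply, hπ', ← hg, smul_left_cancel_iff]
  have hc1 : Fintype.card Ω = Fintype.card (G ⧸ M) * (Finset.univ.filter fun z => π z = π a).card := by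
    rw [← Finset.card_univ, Finset.card_eq_sum_card_fiberwise (f := π) (t := Finset.univ) fun _ _ => Finset.mem_univ _,
      Finset.sum_congr rfl fun X _ => hfibre X, Finset.sum_const, smul_eq_mul, Finset.card_univ]
  have hc2 : Γ.ncard = Γ'.ncard * (Finset.univ.filter fun z => π z = π a).card := by
    rw [Set.ncard_eq_toFinset_card', Set.ncard_eq_toFinset_card',
      Finset.card_eq_sum_card_fiberwise (f := π) (t := Γ'.toFinset) fun u hu => Set.mem_toFinset.2 ⟨u, Set.mem_toFinset.1 hu, rfl⟩]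
    refine (Finset.sum_eq_card_nsmul fun X hX => ?_).trans (smul_eq_mul _ _)
    rw [← hfibre X]
    congr 1
    ext u
    simp only [Finset.mem_filter, Finset.mem_univ, true_and, Set.mem_toFinset]
    exact ⟨fun h => h.2, fun h => ⟨hmem u (h ▸ Set.mem_toFinset.1 hX), h⟩⟩
  have hX : 2 * Γ'.ncard < Fintype.card (G ⧸ M) := by
    rw [hc1, hc2, ← mul_assoc] at h2
    exact lt_of_mul_lt_mul_right' h2
  have halt := alternating_le (G := G) hprimX hJ' hΓ'1 hX
  let φ := toPermHom G (G ⧸ M)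
  let T : Subgroup G := (alternatingGroup (G ⧸ M)).comap φ
  haveI hT : T.Normal := Subgroup.Normal.comap inferInstance φ
  have h5 : 5 ≤ Fintype.card (G ⧸ M) := by omega
  have hT1 : T ≠ ⊥ := by
    obtain ⟨u, v, w, huv, huw, hvw⟩ := Fintype.two_lt_card_iff.1 (show 2 < Fintype.card (G ⧸ M) by omega)
    have h3c : (Equiv.swap u v * Equiv.swap u w).IsThreeCycle := Equiv.Perm.isThreeCycle_swap_mul_swap_same huv huw hvw
    obtain ⟨g, hg⟩ := halt (Equiv.Perm.mem_alternatingGroup.2 h3c.sign)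
    intro e
    have : g ∈ T := by
      show φ g ∈ alternatingGroup (G ⧸ M)
      rw [show φ g = _ from hg]; exact Equiv.Perm.mem_alternatingGroup.2 h3c.sign
    rw [e, Subgroup.mem_bot] at this
    rw [this, map_one] at hg
    have := h3c.card_support
    rw [← hg, Equiv.Perm.support_one, Finset.card_empty] at this
    omega
  have hTt := hqp T hT hT1
  -- the elements fixing the block of `a` pointwise
  let K : Subgroup G := fixingSubgroup G {z : Ω | π z = π a}
  have hKM : K ≤ M := fun k hk => by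
    rw [← hfib, (mem_fixingSubgroup_iff G).1 hk a rfl]
  have hKn : ∀ g ∈ M, ∀ k ∈ K, g * k * g⁻¹ ∈ K := by
    intro g hg k hk
    refine (mem_fixingSubgroup_iff G).2 fun z hz => ?_
    have hz' : π (g⁻¹ • z) = π a := by
      rw [hπ', (hz : π z = π a), ← hπ', hfib]; exact M.inv_mem hg
    rw [mul_smul, mul_smul, (mem_fixingSubgroup_iff G).1 hk _ hz', smul_inv_smul]
  have hh₀K : h₀ ∈ K := (mem_fixingSubgroup_iff G).2 fun z hz => hfix₀ z fun hzΓ => hsat a z ha hz hzΓ
  -- any two points of the block are joined by an element fixing the block pointwise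
  suffices hTK : ∀ t ∈ T, t ∈ M → t ∈ K by
    obtain ⟨g, hgM, hga⟩ : ∃ g ∈ M, g • a ≠ a := by
      by_contra hcon
      push Not at hcon
      exact haM' (le_antisymm haM fun g hg => hcon g hg)
    obtain ⟨⟨t, ht⟩, hta⟩ := hTt.exists_smul_eq a (g • a)
    have htM : t ∈ M := by
      rw [← hfib, show t • a = g • a from hta, hfib]; exact hgM
    exact hga (hta.symm.trans ((mem_fixingSubgroup_iff G).1 (hTK t ht htM) a rfl))
  let X' := {X : G ⧸ M // X ≠ π a}
  have hstab : ∀ g ∈ M, φ g (π a) = π a := fun g hg => by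
    show g • π a = π a
    rw [← hπ', hfib]; exact hg
  have hMiff : ∀ g : G, φ g (π a) = π a → g ∈ M := fun g hg => (hfib g).1 (by rw [hπ']; exact hg)
  have hlift : ∀ τ : Equiv.Perm (G ⧸ M), Equiv.Perm.sign τ = 1 → τ (π a) = π a → ∃ g ∈ M, φ g = τ := by
    intro τ hτ hτa
    obtain ⟨g, hg⟩ := halt (Equiv.Perm.mem_alternatingGroup.2 hτ)
    exact ⟨g, hMiff g (by rw [show φ g = τ from hg]; exact hτa), hg⟩
  let L : Subgroup (alternatingGroup X') := (K.map φ).comap
    ((Equiv.Perm.ofSubtype (p := fun X : G ⧸ M => X ≠ π a)).comp (alternatingGroup X').subtype)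
  haveI hLn : L.Normal := ⟨fun τ hτ ρ => by
    obtain ⟨k, hk, hkτ⟩ := hτ
    obtain ⟨g, hgM, hg⟩ := hlift (Equiv.Perm.ofSubtype (ρ : Equiv.Perm X'))
      (by rw [Equiv.Perm.sign_ofSubtype]; exact Equiv.Perm.mem_alternatingGroup.1 ρ.2)
      (Equiv.Perm.ofSubtype_apply_of_not_mem _ (by simp))
    refine ⟨g * k * g⁻¹, hKn g hgM k hk, ?_⟩
    simp only [map_mul, map_inv, hg, hkτ, MonoidHom.coe_comp, Function.comp_apply, Subgroup.coe_subtype,
      Subgroup.coe_mul, InvMemClass.coe_inv]⟩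
  have hLtop : ∀ k ∈ K, k ≠ 1 → φ k ∈ alternatingGroup (G ⧸ M) → 6 ≤ Fintype.card (G ⧸ M) → L = ⊤ := by
    intro k hk hk1 hkA h6
    haveI : IsSimpleGroup (alternatingGroup X') := alternatingGroup.isSimpleGroup (by
      rw [Nat.card_eq_fintype_card, Fintype.card_subtype_compl, Fintype.card_subtype_eq]; omega)
    refine (hLn.eq_bot_or_eq_top).resolve_left fun e => hk1 ?_
    refine hker k fun X => ?_
    have hres : ∀ X, X ≠ π a ↔ φ k X ≠ π a := fun X => by
      conv_rhs => rw [← hstab k (hKM hk)]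
      exact ((φ k).injective.ne_iff).symm
    let τ : Equiv.Perm X' := (φ k).subtypePerm fun X => (hres X).symm
    have hτ : Equiv.Perm.ofSubtype τ = φ k := Equiv.Perm.ofSubtype_subtypePerm _ fun X hX e => hX (by rw [e]; exact hstab k (hKM hk))
    have hτA : τ ∈ alternatingGroup X' := by
      rw [Equiv.Perm.mem_alternatingGroup, ← Equiv.Perm.sign_ofSubtype, hτ]
      exact Equiv.Perm.mem_alternatingGroup.1 hkA
    have hmem' : (⟨τ, hτA⟩ : alternatingGroup X') ∈ L := ⟨k, hk, hτ.symm⟩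
    rw [e, Subgroup.mem_bot] at hmem'
    have h9 : τ = 1 := congrArg Subtype.val hmem'
    rw [h9, map_one] at hτ
    show φ k X = X
    rw [← hτ]; rfl
  intro t ht htM
  by_cases h6 : 6 ≤ Fintype.card (G ⧸ M)
  · have hex : ∃ k ∈ K, k ≠ 1 ∧ φ k ∈ alternatingGroup (G ⧸ M) := by
      by_contra hcon
      push Not at hcon
      -- every commutator of `h₀` with the block stabiliser is even
      have hcomm : ∀ g ∈ M, g * h₀ = h₀ * g := by
        intro g hg
        by_contra hne
        refine hcon _ (K.mul_mem (hKn g hg h₀ hh₀K) (K.inv_mem hh₀K)) (fun e => hne ?_) ?_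
        · exact mul_inv_eq_iff_eq_mul.1 (mul_inv_eq_one.1 e)
        · rw [Equiv.Perm.mem_alternatingGroup]
          simp [map_mul, map_inv, mul_comm, mul_left_comm]
      obtain ⟨X, hX⟩ : ∃ X, φ h₀ X ≠ X := by
        by_contra hall
        push Not at hall
        exact hh₀ (hker _ hall)
      have hXa : X ≠ π a := fun e => hX (by rw [e]; exact hstab _ (hKM hh₀K))
      have hXa' : φ h₀ X ≠ π a := fun e => hXa ((φ h₀).injective (by rw [e, hstab _ (hKM hh₀K)]))
      obtain ⟨Z, hZ⟩ : ∃ Z, Z ∉ ({π a, X, φ h₀ X} : Finset (G ⧸ M)) := by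
        by_contra hall
        push Not at hall
        have hle := Finset.card_le_card (fun Z _ => hall Z : Finset.univ ⊆ ({π a, X, φ h₀ X} : Finset (G ⧸ M)))
        have hle' : ({π a, X, φ h₀ X} : Finset (G ⧸ M)).card ≤ 3 := Finset.card_le_three
        rw [Finset.card_univ] at hle
        omega
      obtain ⟨W, hW⟩ : ∃ W, W ∉ ({π a, X, φ h₀ X, Z} : Finset (G ⧸ M)) := by
        by_contra hall
        push Not at hall
        have hle := Finset.card_le_card (fun W _ => hall W : Finset.univ ⊆ ({π a, X, φ h₀ X, Z} : Finset (G ⧸ M)))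
        have hle' : ({π a, X, φ h₀ X, Z} : Finset (G ⧸ M)).card ≤ 4 := Finset.card_le_four
        rw [Finset.card_univ] at hle
        omega
      simp only [Finset.mem_insert, Finset.mem_singleton, not_or] at hZ hW
      -- a three-cycle fixing `X` and moving its image
      obtain ⟨g, hgM, hg⟩ := hlift (Equiv.swap (φ h₀ X) Z * Equiv.swap (φ h₀ X) W)
        (Equiv.Perm.isThreeCycle_swap_mul_swap_same (Ne.symm hZ.2.2) (Ne.symm hW.2.2.1) (Ne.symm hW.2.2.2)).sign
        (by rw [Equiv.Perm.mul_apply, Equiv.swap_apply_of_ne_of_ne (Ne.symm hXa') (Ne.symm hW.1),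
          Equiv.swap_apply_of_ne_of_ne (Ne.symm hXa') (Ne.symm hZ.1)])
      have h9 := congrArg (fun u => φ u X) (hcomm g hgM)
      simp only [map_mul, Equiv.Perm.mul_apply, hg] at h9
      rw [Equiv.swap_apply_of_ne_of_ne (Ne.symm hX) (Ne.symm hW.2.1),
        Equiv.swap_apply_of_ne_of_ne (Ne.symm hX) (Ne.symm hZ.2.1), Equiv.swap_apply_left] at h9
      rw [Equiv.swap_apply_of_ne_of_ne hW.2.2.1 hW.2.2.2] at h9
      exact hW.2.2.1 h9
    obtain ⟨k, hk, hk1, hkA⟩ := hex
    have hres : ∀ X, X ≠ π a ↔ φ t X ≠ π a := fun X => by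
      conv_rhs => rw [← hstab t htM]
      exact ((φ t).injective.ne_iff).symm
    let τ : Equiv.Perm X' := (φ t).subtypePerm fun X => (hres X).symm
    have hτ : Equiv.Perm.ofSubtype τ = φ t := Equiv.Perm.ofSubtype_subtypePerm _ fun X hX e => hX (by rw [e]; exact hstab t htM)
    have hτA : τ ∈ alternatingGroup X' := by
      rw [Equiv.Perm.mem_alternatingGroup, ← Equiv.Perm.sign_ofSubtype, hτ]
      exact Equiv.Perm.mem_alternatingGroup.1 ht
    have hL9 : (⟨τ, hτA⟩ : alternatingGroup X') ∈ L := (hLtop k hk hk1 hkA h6).symm ▸ Subgroup.mem_top _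
    obtain ⟨k', hk', e⟩ := hL9
    have h0 : t⁻¹ * k' = 1 := hker _ fun X => by
      show φ (t⁻¹ * k') X = X
      rw [map_mul, map_inv, e]
      show ((φ t)⁻¹ * Equiv.Perm.ofSubtype τ) X = X
      rw [hτ, inv_mul_cancel]; rfl
    rwa [inv_mul_eq_one.1 h0]
  · -- five blocks: the group contains a transposition fixing the block pointwise
    have hsupp : (φ h₀).support ⊆ Γ'.toFinset := by
      intro X hX
      rw [Set.mem_toFinset]
      obtain ⟨v, rfl⟩ := hsurj X
      by_contra hn
      exact Equiv.Perm.mem_support.1 hX (by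
        show h₀ • π v = π v
        rw [← hπ', hfix₀ v fun hv => hn ⟨v, hv, rfl⟩])
    have hle := Finset.card_le_card hsupp
    rw [← Set.ncard_eq_toFinset_card'] at hle
    have hne : φ h₀ ≠ 1 := fun e => hh₀ (hker _ fun X => by show φ h₀ X = X; rw [e]; rfl)
    have hge := Equiv.Perm.one_lt_card_support_of_ne_one hne
    obtain ⟨u, v, huv, huveq⟩ := Equiv.Perm.card_support_eq_two.1 (show (φ h₀).support.card = 2 by omega)
    have hu : u ≠ π a ∧ v ≠ π a := by
      have h9 := hstab h₀ (hKM hh₀K)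
      rw [huveq] at h9
      constructor
      · rintro rfl; rw [Equiv.swap_apply_left] at h9; exact huv h9.symm
      · rintro rfl; rw [Equiv.swap_apply_right] at h9; exact huv h9
    have htop : (toPermHom G (G ⧸ M)).range = ⊤ :=
      Equiv.Perm.subgroup_eq_top_of_isPreprimitive_of_isSwap_mem (isPreprimitive_range hprimX) _ ⟨u, v, huv, huveq⟩ ⟨h₀, rfl⟩
    have hswap : ∀ p q : G ⧸ M, p ≠ π a → q ≠ π a → p ≠ q → Equiv.swap p q ∈ K.map φ := by
      intro p q hp hq hpq
      obtain ⟨ρ, hρa, hρu, hρv⟩ : ∃ ρ : Equiv.Perm (G ⧸ M), ρ (π a) = π a ∧ ρ u = p ∧ ρ v = q := by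
        refine ⟨Equiv.swap (Equiv.swap u p v) q * Equiv.swap u p, ?_, ?_, ?_⟩
        · rw [Equiv.Perm.mul_apply, Equiv.swap_apply_of_ne_of_ne (Ne.symm hu.1) (Ne.symm hp),
            Equiv.swap_apply_of_ne_of_ne ?_ (Ne.symm hq)]
          rw [Equiv.swap_apply_def]
          split_ifs with e1 e2
          · exact Ne.symm hp
          · exact Ne.symm hu.1
          · exact Ne.symm hu.2
        · rw [Equiv.Perm.mul_apply, Equiv.swap_apply_left, Equiv.swap_apply_of_ne_of_ne ?_ hpq]
          intro e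
          have := (Equiv.swap u p).injective (e.symm.trans (Equiv.swap_apply_left u p).symm)
          exact huv this.symm
        · rw [Equiv.Perm.mul_apply, Equiv.swap_apply_left]
      obtain ⟨g, hg⟩ : ρ ∈ φ.range := by rw [show φ.range = ⊤ from htop]; exact Subgroup.mem_top _
      refine ⟨g * h₀ * g⁻¹, hKn g (hMiff g (by rw [hg]; exact hρa)) h₀ hh₀K, ?_⟩
      rw [map_mul, map_mul, map_inv, hg, huveq, ← hρu, ← hρv]
      exact (Equiv.swap_apply_apply ρ u v).symm
    have hgen : ∀ τ : Equiv.Perm X', Equiv.Perm.ofSubtype τ ∈ K.map φ := by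
      intro τ
      induction τ using Equiv.Perm.swap_induction_on with
      | one => rw [map_one]; exact one_mem _
      | swap_mul f p q hpq ih =>
        rw [map_mul, Equiv.Perm.ofSubtype_swap_eq]
        exact mul_mem (hswap p q p.2 q.2 (fun e => hpq (Subtype.ext e))) ih
    have hres : ∀ X, X ≠ π a ↔ φ t X ≠ π a := fun X => by
      conv_rhs => rw [← hstab t htM]
      exact ((φ t).injective.ne_iff).symm
    obtain ⟨k', hk', e⟩ := hgen ((φ t).subtypePerm fun X => (hres X).symm)
    replace e : φ k' = φ t := e.trans (Equiv.Perm.ofSubtype_subtypePerm _ fun X hX eX => hX (by rw [eX]; exact hstab t htM))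
    have h0 : t⁻¹ * k' = 1 := hker _ fun X => by
      show φ (t⁻¹ * k') X = X
      rw [map_mul, map_inv, e, inv_mul_cancel]; rfl
    rwa [inv_mul_eq_one.1 h0]

end Cfsg.Agent.Recog.JH
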