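import Cfsg.Agent.Lib.Recog.Zsigmondy
import Mathlib.NumberTheory.ArithmeticFunction.Moebius
import Mathlib.Data.Nat.Totient
import Mathlib.Tactic

/-! Large primitive prime divisors. -/

set_option autoImplicit false
set_option maxRecDepth 20000

namespace Cfsg.Agent.Recog.LargePPD

open Polynomial Zsig

/-- A large primitive prime divisor. -/
def Witness (q n p : ℕ) : Prop :=
  p.Prime ∧ p ∣ q ^ n - 1 ∧ (∀ i : ℕ, 1 ≤ i → i < n → ¬ p ∣ q ^ i - 1) ∧ (n + 1 < p ∨ p ^ 2 ∣ q ^ n - 1)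

theorem not_sq_dvd {n a p k m : ℕ} (hp : p.Prime) (hn2 : 2 < n) (ha : 1 < a) (hnk : n = p ^ k * m) (hk : 0 < k)
    (hm : ¬ p ∣ m) (hmp : m ∣ p - 1) (hroot : IsPrimitiveRoot (a : ZMod p) m) : ¬ p ^ 2 ∣ cval n a := by
  haveI := Fact.mk hp
  obtain ⟨n', hn'⟩ : p ∣ n := hnk ▸ dvd_mul_of_dvd_left (dvd_pow_self p hk.ne') m
  have hn'pos : 0 < n' := by
    rcases Nat.eq_zero_or_pos n' with rfl | h
    · rw [mul_zero] at hn'; omega
    · exact h
  have hn'lt : n' < n := by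
    rw [hn']; exact lt_mul_of_one_lt_left hn'pos hp.one_lt
  have hb1 : (1 : ℤ) < (a : ℤ) ^ n' := one_lt_pow₀ (by exact_mod_cast ha) hn'pos.ne'
  have hgeom : (cyclotomic n ℤ).eval (a : ℤ) ∣ ∑ i ∈ Finset.range p, ((a : ℤ) ^ n') ^ i := by
    have h := eval_dvd (x := (a : ℤ))
      (X_pow_sub_one_mul_cyclotomic_dvd_X_pow_sub_one_of_dvd ℤ (d := n') (n := n)
        (Nat.mem_properDivisors.2 ⟨⟨p, by rw [hn', mul_comm]⟩, hn'lt⟩))
    simp only [eval_mul, eval_sub, eval_pow, eval_X, eval_one] at h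
    rw [show (a : ℤ) ^ n = ((a : ℤ) ^ n') ^ p by rw [← pow_mul, hn', mul_comm], ← mul_geom_sum ((a : ℤ) ^ n') p] at h
    exact (mul_dvd_mul_iff_left (show (a : ℤ) ^ n' - 1 ≠ 0 by omega)).1 h
  have hb : (p : ℤ) ∣ (a : ℤ) ^ n' - 1 := by
    rw [← ZMod.intCast_zmod_eq_zero_iff_dvd]
    push_cast
    rw [sub_eq_zero]
    have hd : m ∣ n' := by
      have h1 : m ∣ n := hnk ▸ dvd_mul_left m _
      rw [hn'] at h1
      exact Nat.Coprime.dvd_of_dvd_mul_left ((hp.coprime_iff_not_dvd.2 hm).symm) h1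
    exact hroot.pow_eq_one_iff_dvd n' |>.2 hd
  intro hsq
  have h1 : (p : ℤ) ^ 2 ∣ (cyclotomic n ℤ).eval (a : ℤ) := by
    rw [← Int.dvd_natAbs]; exact_mod_cast hsq
  have h2 := h1.trans hgeom
  obtain ⟨c, hc⟩ := hb
  have hb' : (a : ℤ) ^ n' = 1 + (p : ℤ) * c := by linarith
  rcases hp.eq_two_or_odd' with rfl | hodd
  · have hev : Even n' := by
      have h3 : m = 1 := Nat.dvd_one.1 hmp
      subst h3
      rw [mul_one] at hnk
      rcases Nat.lt_or_ge k 2 with hk2 | hk2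
      · obtain rfl : k = 1 := by omega
        rw [pow_one] at hnk
        omega
      · rw [show k = (k - 2) + 2 by omega, pow_add] at hnk
        exact ⟨2 ^ (k - 2), by omega⟩
    obtain ⟨t, ht⟩ := hev
    rw [ht, ← two_mul, mul_comm 2 t, pow_mul] at hb' h2
    simp only [Finset.sum_range_succ, Finset.sum_range_zero, pow_zero, pow_one, zero_add] at h2
    obtain ⟨u, hu⟩ := h2
    rcases Int.even_or_odd' ((a : ℤ) ^ t) with ⟨v, hv | hv⟩
    · rw [hv] at hb'; push_cast at hb'; ring_nf at hb'; omega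
    · rw [hv] at hu; push_cast at hu; ring_nf at hu; omega
  · have h3 := odd_sq_dvd_geom_sum₂_sub (1 : ℤ) c hodd
    simp only [one_pow, mul_one] at h3
    rw [← hb'] at h3
    have h4 : (p : ℤ) ^ 2 ∣ (p : ℤ) := by
      have := dvd_sub h2 h3
      simpa using this
    have h5 := Int.le_of_dvd (by exact_mod_cast hp.pos) h4
    have : (2 : ℤ) ≤ p := by exact_mod_cast hp.two_le
    nlinarith

theorem cval_le_of_no_witness {q n : ℕ} (hq : 2 ≤ q) (hn : 3 ≤ n) (hno : ¬ ∃ p, Witness q n p) :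
    cval n q ≤ n * (n + 1) := by
  have hpos : 0 < cval n q := lt_of_le_of_lt (Nat.zero_le _)
    (sub_one_lt_natAbs_cyclotomic_eval (show 1 < n by omega) (show q ≠ 1 by omega))
  have hdvd := dvd_pow_sub_one (n := n) (a := q) (by omega)
  have key : ∀ p, p.Prime → p ∣ cval n q → ¬ p ^ 2 ∣ cval n q ∧ p ∣ n * (n + 1) := by
    intro p hp hpd
    haveI := Fact.mk hp
    obtain ⟨k, m, hm, hnk⟩ := Nat.exists_eq_pow_mul_and_not_dvd (by omega : n ≠ 0) p hp.ne_one
    have hroot := isPrimitiveRoot_of_dvd hnk hm hpd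
    have hq0 : (q : ZMod p) ≠ 0 := by
      intro h0
      have h1 := hroot.pow_eq_one
      rw [h0, zero_pow (fun h => hm (by rw [h]; exact dvd_zero p))] at h1
      exact zero_ne_one h1
    have hmp : m ∣ p - 1 := hroot.dvd_of_pow_eq_one _ (ZMod.pow_card_sub_one_eq_one hq0)
    rcases Nat.eq_zero_or_pos k with rfl | hk
    · rw [pow_zero, one_mul] at hnk
      subst hnk
      have hprim : ∀ i : ℕ, 1 ≤ i → i < n → ¬ p ∣ q ^ i - 1 := by
        intro i hi hin hd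
        rw [← ZMod.natCast_eq_zero_iff, Nat.cast_sub (Nat.one_le_pow _ _ (by omega)), sub_eq_zero,
          Nat.cast_pow, Nat.cast_one] at hd
        have := Nat.le_of_dvd (by omega) (hroot.dvd_of_pow_eq_one _ hd)
        omega
      have hle : ¬ n + 1 < p := fun h => hno ⟨p, hp, hpd.trans hdvd, hprim, Or.inl h⟩
      refine ⟨fun h2 => hno ⟨p, hp, hpd.trans hdvd, hprim, Or.inr (h2.trans hdvd)⟩, ?_⟩
      have := hp.two_le
      have h3 := Nat.le_of_dvd (by omega) hmp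
      exact dvd_mul_of_dvd_right (dvd_of_eq (by omega)) n
    · exact ⟨not_sq_dvd hp (by omega) (by omega) hnk hk hm hmp hroot,
        dvd_mul_of_dvd_left (hnk ▸ dvd_mul_of_dvd_left (dvd_pow_self p hk.ne') m) _⟩
  have hsf : Squarefree (cval n q) := Nat.squarefree_iff_prime_squarefree.2 fun p hp h =>
    (key p hp (dvd_of_mul_right_dvd h)).1 (by rwa [pow_two])
  refine Nat.le_of_dvd (by positivity) ?_
  rw [← Nat.prod_primeFactors_of_squarefree hsf]
  exact Finset.prod_primes_dvd _ (fun p hp => (Nat.prime_of_mem_primeFactors hp).prime)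
    (fun p hp => (key p (Nat.prime_of_mem_primeFactors hp) (Nat.dvd_of_mem_primeFactors hp)).2)

theorem prod_one_sub_ge (x : ℝ) (hx0 : 0 < x) (hx : x ≤ 1 / 2) :
    ∀ m : ℕ, 1 / 4 + (1 / 2) ^ (m + 2) ≤ ∏ j ∈ Finset.range (m + 1), (1 - x ^ (j + 1)) := by
  intro m
  induction m with
  | zero => rw [Finset.prod_range_one]; norm_num; linarith
  | succ m ih =>
    rw [Finset.prod_range_succ]
    have h1 : x ^ (m + 1 + 1) ≤ (1 / 2) ^ (m + 2) := pow_le_pow_left₀ hx0.le hx _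
    have h2 : (1 / 2 : ℝ) ^ (m + 2) ≤ 1 / 4 := by
      calc (1 / 2 : ℝ) ^ (m + 2) ≤ (1 / 2) ^ 2 := pow_le_pow_of_le_one (by norm_num) (by norm_num) (by omega)
        _ = 1 / 4 := by norm_num
    have h3 : (1 / 2 : ℝ) ^ (m + 1 + 2) = (1 / 2) ^ (m + 2) / 2 := by rw [pow_succ]; ring
    have h4 : (0 : ℝ) ≤ (1 / 2) ^ (m + 2) := by positivity
    calc 1 / 4 + (1 / 2) ^ (m + 1 + 2) ≤ (1 / 4 + (1 / 2) ^ (m + 2)) * (1 - (1 / 2) ^ (m + 2)) := by
          rw [h3]; nlinarith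
      _ ≤ (∏ j ∈ Finset.range (m + 1), (1 - x ^ (j + 1))) * (1 - x ^ (m + 1 + 1)) :=
          mul_le_mul ih (by linarith) (by linarith) ((show (0 : ℝ) ≤ 1 / 4 + (1 / 2) ^ (m + 2) by positivity).trans ih)

open ArithmeticFunction in
theorem pow_totient_le {q n : ℕ} (hq : 2 ≤ q) (hn : 0 < n) : q ^ n.totient ≤ 4 * cval n q := by
  have hqR : (2 : ℝ) ≤ q := by exact_mod_cast hq
  set f : ℕ → ℝ := fun d => (cyclotomic d ℝ).eval (q : ℝ) / (q : ℝ) ^ d.totient with hf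
  set g : ℕ → ℝ := fun j => 1 - ((q : ℝ)⁻¹) ^ j with hg
  have hgpos : ∀ j : ℕ, 0 < j → 0 < g j ∧ g j ≤ 1 := fun j hj => by
    have h1 : ((q : ℝ)⁻¹) ^ j < 1 := pow_lt_one₀ (by positivity) (inv_lt_one_of_one_lt₀ (by linarith)) hj.ne'
    have h2 : (0 : ℝ) ≤ ((q : ℝ)⁻¹) ^ j := by positivity
    exact ⟨by simp only [hg]; linarith, by simp only [hg]; linarith⟩
  have hfpos : ∀ d : ℕ, 0 < f d := fun d => by
    refine div_pos (cyclotomic_pos' d (by linarith)) (by positivity)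
  have hprod : ∀ m : ℕ, 0 < m → ∏ d ∈ m.divisors, f d = g m := by
    intro m hm
    simp only [hf, hg]
    rw [Finset.prod_div_distrib, Finset.prod_pow_eq_pow_sum, Nat.sum_totient, ← eval_prod,
      prod_cyclotomic_eq_X_pow_sub_one hm, eval_sub, eval_pow, eval_X, eval_one, sub_div,
      div_self (pow_ne_zero _ (by linarith)), inv_pow, one_div]
  have hmob := (prod_eq_iff_prod_pow_moebius_eq_of_nonzero (f := f) (g := g)
    (fun d _ => (hfpos d).ne') (fun j hj => (hgpos j hj).1.ne')).1 hprod n hn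
  have hge : ∏ j ∈ n.divisors, g j ≤ f n := by
    rw [← hmob]
    rw [← Nat.prod_divisorsAntidiagonal' (fun _ y => g y)]
    refine Finset.prod_le_prod (fun p hp => (hgpos _ (Nat.pos_of_ne_zero (Nat.right_ne_zero_of_mem_divisorsAntidiagonal hp))).1.le) ?_
    intro p hp
    obtain ⟨h0, h1⟩ := hgpos p.2 (Nat.pos_of_ne_zero (Nat.right_ne_zero_of_mem_divisorsAntidiagonal hp))
    rcases moebius_eq_or p.1 with h | h | h <;> rw [h]
    · rw [zpow_zero]; exact h1
    · rw [zpow_one]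
    · rw [zpow_neg_one]
      exact h1.trans ((one_le_inv₀ h0).2 h1)
  have hall : (1 / 4 : ℝ) ≤ ∏ j ∈ n.divisors, g j := by
    obtain ⟨m, rfl⟩ : ∃ m, n = m + 1 := ⟨n - 1, by omega⟩
    have h1 := prod_one_sub_ge ((q : ℝ)⁻¹) (by positivity)
      (by rw [one_div]; exact inv_anti₀ (by norm_num) hqR) m
    have h2 : ∏ j ∈ Finset.Icc 1 (m + 1), g j ≤ ∏ j ∈ (m + 1).divisors, g j :=
      Finset.prod_le_prod_of_subset_of_le_one (fun j hj => Finset.mem_Icc.2
        ⟨Nat.pos_of_mem_divisors hj, Nat.divisor_le hj⟩)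
        (fun j hj => (hgpos j (Finset.mem_Icc.1 hj).1).1.le) (fun j hj _ => (hgpos j (Finset.mem_Icc.1 hj).1).2)
    have h3 : ∏ j ∈ Finset.Icc 1 (m + 1), g j = ∏ j ∈ Finset.range (m + 1), (1 - ((q : ℝ)⁻¹) ^ (j + 1)) := by
      rw [← Finset.Ico_succ_right_eq_Icc, Finset.prod_Ico_eq_prod_range]
      simp [hg, add_comm 1]
    rw [h3] at h2
    have h4 : (0 : ℝ) ≤ (1 / 2) ^ (m + 2) := by positivity
    linarith
  have h := hall.trans hge
  simp only [hf] at h
  rw [le_div_iff₀ (by positivity)] at h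
  have e : (cyclotomic n ℝ).eval (q : ℝ) = (cval n q : ℝ) := by
    have h3 := cyclotomic.eval_apply (q : ℤ) n (Int.castRingHom ℝ)
    simp only [eq_intCast, Int.cast_natCast] at h3
    rw [cval, Nat.cast_natAbs, Int.cast_abs, ← h3, abs_of_nonneg (cyclotomic_nonneg n (by linarith))]
  rw [e] at h
  have : ((q ^ n.totient : ℕ) : ℝ) ≤ ((4 * cval n q : ℕ) : ℝ) := by push_cast; linarith
  exact_mod_cast this

theorem totient_bound (n : ℕ) : 2 * n ^ 2 ≤ 9 * n.totient ^ 3 := by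
  have hpp : ∀ p k : ℕ, p.Prime → 0 < k →
      (p = 2 → (p ^ k) ^ 2 ≤ 4 * (p ^ k).totient ^ 3) ∧ (p = 3 → 8 * (p ^ k) ^ 2 ≤ 9 * (p ^ k).totient ^ 3) ∧
      (5 ≤ p → (p ^ k) ^ 2 ≤ (p ^ k).totient ^ 3) := by
    intro p k hp hk
    obtain ⟨j, rfl⟩ : ∃ j, k = j + 1 := ⟨k - 1, by omega⟩
    rw [Nat.totient_prime_pow_succ hp]
    have hpj : 1 ≤ p ^ j := Nat.one_le_pow _ _ hp.pos
    refine ⟨fun h => ?_, fun h => ?_, fun h => ?_⟩
    · subst h
      calc (2 ^ (j + 1)) ^ 2 = 4 * ((2 ^ j) ^ 2 * 1) := by ring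
        _ ≤ 4 * ((2 ^ j) ^ 2 * 2 ^ j) := Nat.mul_le_mul_left _ (Nat.mul_le_mul_left _ hpj)
        _ = _ := by norm_num; ring
    · subst h
      calc 8 * (3 ^ (j + 1)) ^ 2 = 72 * ((3 ^ j) ^ 2 * 1) := by ring
        _ ≤ 72 * ((3 ^ j) ^ 2 * 3 ^ j) := Nat.mul_le_mul_left _ (Nat.mul_le_mul_left _ hpj)
        _ = _ := by norm_num; ring
    · obtain ⟨r, rfl⟩ : ∃ r, p = r + 1 := ⟨p - 1, by omega⟩
      rw [Nat.add_sub_cancel]
      have hr : (r + 1) ^ 2 ≤ r ^ 3 := by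
        have : 4 * r ^ 2 ≤ r ^ 3 := by rw [pow_succ r 2, mul_comm 4]; exact Nat.mul_le_mul_left _ (by omega)
        nlinarith
      calc ((r + 1) ^ (j + 1)) ^ 2 = ((r + 1) ^ j) ^ 2 * 1 * (r + 1) ^ 2 := by ring
        _ ≤ ((r + 1) ^ j) ^ 2 * (r + 1) ^ j * r ^ 3 := Nat.mul_le_mul (Nat.mul_le_mul_left _ hpj) hr
        _ = _ := by ring
  have main : ∀ m : ℕ, 0 < m → m ^ 2 * (if 2 ∣ m then 1 else 4) * (if 3 ∣ m then 8 else 9) ≤ 36 * m.totient ^ 3 := by
    intro m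
    induction m using Nat.recOnPrimeCoprime with
    | zero => intro h; omega
    | prime_pow p k hp =>
      intro _
      rcases Nat.eq_zero_or_pos k with rfl | hk
      · norm_num
      obtain ⟨h2, h3, h5⟩ := hpp p k hp hk
      have hd : ∀ r : ℕ, r.Prime → (r ∣ p ^ k ↔ r = p) := fun r hr =>
        ⟨fun h => (Nat.prime_dvd_prime_iff_eq hr hp).1 (hr.dvd_of_dvd_pow h), fun h => h ▸ dvd_pow_self _ hk.ne'⟩
      simp only [hd 2 Nat.prime_two, hd 3 Nat.prime_three]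
      rcases Nat.lt_or_ge p 5 with hp5 | hp5
      · have := hp.two_le
        interval_cases p
        · have := h2 rfl; norm_num; omega
        · have := h3 rfl; norm_num; omega
        · exact absurd hp (by decide)
      · have := h5 hp5
        rw [if_neg (by omega), if_neg (by omega)]
        omega
    | coprime a b ha hb hab iha ihb =>
      intro _
      have h1 := iha (by omega)
      have h2 := ihb (by omega)
      rw [Nat.totient_mul hab]
      have key := Nat.mul_le_mul h1 h2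
      have e2 : ∀ r : ℕ, r.Prime → ¬ (r ∣ a ∧ r ∣ b) := fun r hr h =>
        hr.ne_one (Nat.eq_one_of_dvd_coprimes hab h.1 h.2)
      have w : (if 2 ∣ a * b then 1 else 4) * (if 3 ∣ a * b then 8 else 9) * 36 =
          (if 2 ∣ a then 1 else 4) * (if 3 ∣ a then 8 else 9) * ((if 2 ∣ b then 1 else 4) * (if 3 ∣ b then 8 else 9)) := by
        simp only [Nat.prime_two.dvd_mul, Nat.prime_three.dvd_mul]
        have n2 := e2 2 Nat.prime_two
        have n3 := e2 3 Nat.prime_three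
        by_cases h2a : 2 ∣ a <;> by_cases h2b : 2 ∣ b <;> by_cases h3a : 3 ∣ a <;> by_cases h3b : 3 ∣ b <;>
          first
          | (exfalso; apply n2; constructor <;> assumption)
          | (exfalso; apply n3; constructor <;> assumption)
          | simp only [h2a, h2b, h3a, h3b, if_true, if_false, or_true, true_or, or_false, false_or, or_self]
      refine le_of_mul_le_mul_left ?_ (show 0 < 36 by norm_num)
      calc 36 * ((a * b) ^ 2 * (if 2 ∣ a * b then 1 else 4) * (if 3 ∣ a * b then 8 else 9))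
          = (a * b) ^ 2 * ((if 2 ∣ a * b then 1 else 4) * (if 3 ∣ a * b then 8 else 9) * 36) := by ring
        _ = _ := by rw [w]
        _ = a ^ 2 * (if 2 ∣ a then 1 else 4) * (if 3 ∣ a then 8 else 9) *
            (b ^ 2 * (if 2 ∣ b then 1 else 4) * (if 3 ∣ b then 8 else 9)) := by ring
        _ ≤ 36 * a.totient ^ 3 * (36 * b.totient ^ 3) := key
        _ = 36 * (36 * (a.totient * b.totient) ^ 3) := by ring
  rcases Nat.eq_zero_or_pos n with rfl | hn
  · simp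
  have h := main n hn
  have h8 : 8 * n ^ 2 ≤ n ^ 2 * (if 2 ∣ n then 1 else 4) * (if 3 ∣ n then 8 else 9) := by
    split_ifs <;> omega
  omega

def table : List (ℕ × ℕ × ℕ) := [(2, 3, 7), (3, 3, 13), (4, 3, 7), (5, 3, 31), (6, 3, 43), (4, 4, 17), (5, 4, 13), (6, 4, 37), (7, 4, 5), (8, 4, 13), (2, 5, 31), (3, 5, 11), (4, 6, 13), (6, 6, 31), (7, 6, 43), (8, 6, 19), (9, 6, 73), (10, 6, 13), (11, 6, 37), (12, 6, 19), (2, 7, 127), (2, 8, 17), (3, 8, 41), (4, 8, 257), (2, 9, 73), (3, 10, 61), (4, 10, 41), (3, 12, 73), (4, 12, 241), (2, 14, 43), (3, 14, 547), (2, 15, 151), (2, 16, 257), (3, 18, 37), (2, 20, 41), (2, 22, 683), (2, 24, 241), (2, 30, 331), (2, 36, 109), (2, 42, 5419)]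

def small : List ℕ := [3, 4, 5, 6, 7, 8, 9, 10, 11, 12, 13, 14, 15, 16, 17, 18, 20, 21, 22, 24, 26, 28, 30, 32,
  34, 36, 40, 42, 48, 60]

theorem small_spec : ∀ n ∈ List.range 136, 3 ≤ n → Nat.totient n ≤ 16 → n ∈ small := by decide +kernel

theorem table_cover : ∀ n ∈ small, ∀ q ∈ List.range 17, 2 ≤ q → q ^ Nat.totient n ≤ 4 * (n * (n + 1)) →
    (q = 2 ∧ (n = 4 ∨ n = 6 ∨ n = 10 ∨ n = 12 ∨ n = 18)) ∨ (q = 3 ∧ (n = 4 ∨ n = 6)) ∨ (q = 5 ∧ n = 6) ∨
      ∃ e ∈ table, e.1 = q ∧ e.2.1 = n := by decide +kernel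

theorem table_valid : ∀ e ∈ table, e.2.2 ∣ e.1 ^ e.2.1 - 1 ∧
    (∀ i ∈ List.range e.2.1, 1 ≤ i → ¬ e.2.2 ∣ e.1 ^ i - 1) ∧ (e.2.1 + 1 < e.2.2 ∨ e.2.2 ^ 2 ∣ e.1 ^ e.2.1 - 1) := by
  decide +kernel

theorem table_prime : ∀ e ∈ table, Nat.Prime e.2.2 := by
  simp only [table, List.forall_mem_cons, List.not_mem_nil, IsEmpty.forall_iff, implies_true, and_true]
  norm_num

theorem cube_lt : ∀ t : ℕ, 18 ≤ t → 36 * t ^ 3 + 16 < 2 ^ t := by
  intro t ht
  induction t, ht using Nat.le_induction with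
  | base => norm_num
  | succ n hn ih =>
    rw [pow_succ 2 n]
    have h1 : (n + 1) ^ 3 ≤ 2 * n ^ 3 := by
      have : 18 * n ^ 2 ≤ n ^ 3 := by rw [pow_succ n 2, mul_comm 18]; exact Nat.mul_le_mul_left _ hn
      nlinarith
    omega

theorem exists_witness {q n : ℕ} (hq : 2 ≤ q) (hn : 3 ≤ n)
    (h2 : ¬ (q = 2 ∧ (n = 4 ∨ n = 6 ∨ n = 10 ∨ n = 12 ∨ n = 18)))
    (h3 : ¬ (q = 3 ∧ (n = 4 ∨ n = 6))) (h4 : ¬ (q = 5 ∧ n = 6)) : ∃ p, Witness q n p := by
  by_contra hno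
  have h5 : q ^ n.totient ≤ 4 * (n * (n + 1)) :=
    (pow_totient_le hq (by omega)).trans (Nat.mul_le_mul_left _ (cval_le_of_no_witness hq hn hno))
  have hb := totient_bound n
  have h6 : 4 * (n * (n + 1)) ≤ 8 * n ^ 2 := by nlinarith
  have ht : n.totient ≤ 16 := by
    by_contra hlt
    obtain ⟨c, hc⟩ := Nat.totient_even (show 2 < n by omega)
    have h7 := cube_lt n.totient (by omega)
    have h8 : 2 ^ n.totient ≤ q ^ n.totient := Nat.pow_le_pow_left hq _
    omega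
  have hn136 : n < 136 := by
    by_contra hlt
    have h7 : n.totient ^ 3 ≤ 16 ^ 3 := Nat.pow_le_pow_left ht 3
    have h8 : 136 ^ 2 ≤ n ^ 2 := Nat.pow_le_pow_left (by omega) 2
    omega
  have hsmall := small_spec n (List.mem_range.2 hn136) hn ht
  have heven : 2 ≤ n.totient := by
    obtain ⟨c, hc⟩ := Nat.totient_even (show 2 < n by omega)
    have := Nat.totient_pos.2 (show 0 < n by omega)
    omega
  have hq17 : q < 17 := by
    by_contra hlt
    rcases Nat.lt_or_ge n.totient 3 with h | h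
    · have e : n.totient = 2 := by omega
      rw [e] at hb h5
      have : n < 7 := by nlinarith
      interval_cases n <;> nlinarith
    · have h7 : 17 ^ n.totient ≤ q ^ n.totient := Nat.pow_le_pow_left (by omega) _
      have h4' : 4 ≤ n.totient := by
        obtain ⟨c, hc⟩ := Nat.totient_even (show 2 < n by omega)
        omega
      have h8 : 17 ^ 4 ≤ 17 ^ n.totient := Nat.pow_le_pow_right (by norm_num) h4'
      have h9 : n * (n + 1) ≤ 135 * 136 := Nat.mul_le_mul (by omega) (by omega)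
      omega
  rcases table_cover n hsmall q (List.mem_range.2 hq17) hq h5 with h | h | h | ⟨⟨a, b, p⟩, he, rfl, rfl⟩
  · exact h2 h
  · exact h3 h
  · exact h4 h
  · obtain ⟨v1, v2, v3⟩ := table_valid _ he
    exact hno ⟨p, table_prime _ he, v1, fun i hi hin => v2 i (List.mem_range.2 hin) hi, v3⟩

end Cfsg.Agent.Recog.LargePPD
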