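import Mathlib.GroupTheory.Transfer
import Mathlib.GroupTheory.GroupAction.Quotient
import Cfsg.Prelude.Def_Blocks
import Cfsg.Prelude.Def_LocalStructure
import Cfsg.Agent.S4441
import Cfsg.Agent.Lib.ClassSum.Basic
import Cfsg.Agent.Lib.Blocks.Knorr
import Cfsg.Agent.Lib.Blocks.Idempotent
import Cfsg.Agent.Lib.CT.Kernel
import Cfsg.Agent.Lib.Basics.Cores
import Cfsg.Agent.Lib.Basics.CoprimeAction
import Cfsg.Agent.Lib.Components.Subnormal

/-!
# The least order of a group with non-normal Sylow `p`-subgroups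
-/

set_option autoImplicit false
set_option linter.unusedSectionVars false
set_option linter.style.haveILetI false

namespace Cfsg.Agent.LeastNonClosed

open Subgroup

/-- The arithmetical contradiction of Brauer and Reynolds. -/
theorem arith {p e h k f c : ℕ} (hp : p.Prime) (he : 2 ≤ e) (hh : 1 ≤ h) (hk : 1 ≤ k)
    (hs : 2 * (e * h) + 1 < p) (hf : f = 1 + (e - 1) * (1 + k * p))
    (hc : c * f = e * h * (1 + k * p)) : False := by
  obtain ⟨e', rfl⟩ : ∃ e', e = e' + 1 := ⟨e - 1, by omega⟩
  simp only [Nat.add_sub_cancel] at hf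
  have hcp : c < p := by
    by_contra hcon
    push Not at hcon
    have h1 : p * f ≤ c * f := Nat.mul_le_mul_right f hcon
    rw [hc, hf] at h1
    have h2 : (e' + 1) * h * (1 + k * p) ≤ p * (1 + k * p) :=
      Nat.mul_le_mul_right _ (by omega)
    have h3 : 1 * (1 + k * p) ≤ e' * (1 + k * p) := Nat.mul_le_mul_right _ (by omega)
    nlinarith [hp.two_le]
  have hdvd : (p : ℤ) ∣ ((e' + 1 : ℕ) : ℤ) * ((c : ℤ) - (h : ℤ)) := by
    refine ⟨((e' + 1 : ℕ) : ℤ) * h * k - (c : ℤ) * e' * k, ?_⟩
    have := congrArg (fun n : ℕ => (n : ℤ)) hc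
    rw [hf] at this
    push_cast at this ⊢
    linear_combination this
  have hhp : h < p := by nlinarith
  rcases (Nat.prime_iff_prime_int.mp hp).dvd_mul.mp hdvd with h1 | h1
  · have := Nat.le_of_dvd (by omega) (Int.natCast_dvd_natCast.mp h1)
    nlinarith
  · have hch : c = h := by
      have := Int.eq_zero_of_abs_lt_dvd h1 (abs_lt.mpr ⟨by omega, by omega⟩)
      omega
    subst hch
    rw [hf] at hc
    nlinarith [hp.two_le, Nat.mul_le_mul hh hk]

/-- A nontrivial character degree congruent to `±1`. -/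
theorem degree_eq {p s k d : ℕ} (hp : p.Prime) (hs1 : 1 ≤ s) (hk : 1 ≤ k) (hs : 2 * s + 1 < p)
    (hsk : 2 * (s * (1 + k * p)) + 1 < p ^ 2) (hd1 : d ≠ 1) (hdvd : d ∣ s * (1 + k * p)) {δ : ℤ}
    (hδ : δ = 1 ∨ δ = -1) (hd : (d : ℤ) ≡ δ [ZMOD p]) : δ = 1 ∧ d = 1 + k * p := by
  obtain ⟨c, hc⟩ := hdvd
  have hp2 := hp.two_le
  have hd0 : 0 < d := Nat.pos_of_ne_zero fun h0 => by
    rw [h0, zero_mul] at hc
    exact absurd hc (Nat.mul_ne_zero (by omega) (by omega))
  have hdp : p ≤ d + 1 := by
    by_contra hlt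
    push Not at hlt
    have := Int.modEq_iff_dvd.mp hd
    rcases hδ with rfl | rfl
    · have := Int.eq_zero_of_abs_lt_dvd this (abs_lt.mpr ⟨by omega, by omega⟩)
      omega
    · have := Int.eq_zero_of_abs_lt_dvd this (abs_lt.mpr ⟨by omega, by omega⟩)
      omega
  have hc2 : 2 * c ≤ p + 1 := by
    by_contra hlt
    push Not at hlt
    have : (p + 2) * (p - 1) ≤ 2 * c * d := Nat.mul_le_mul (by omega) (by omega)
    rw [show 2 * c * d = 2 * (d * c) by ring, ← hc] at this
    obtain ⟨q, rfl⟩ : ∃ q, p = q + 1 := ⟨p - 1, by omega⟩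
    simp only [Nat.add_sub_cancel] at this
    nlinarith
  have hdvd' : (p : ℤ) ∣ δ * (c : ℤ) - s := by
    have h1 := Int.modEq_iff_dvd.mp hd
    have h2 := congrArg (fun n : ℕ => (n : ℤ)) hc
    push_cast at h2
    have : δ * (c : ℤ) - s = (δ - d) * c + (s : ℤ) * k * p := by linear_combination -h2
    rw [this]
    exact dvd_add (h1.mul_right _) (dvd_mul_left _ _)
  rcases hδ with rfl | rfl
  · have := Int.eq_zero_of_abs_lt_dvd hdvd' (abs_lt.mpr ⟨by omega, by omega⟩)
    obtain rfl : c = s := by omega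
    refine ⟨rfl, ?_⟩
    rw [mul_comm d c] at hc
    exact (Nat.eq_of_mul_eq_mul_left hs1 hc).symm
  · exfalso
    have := Int.eq_zero_of_abs_lt_dvd hdvd' (abs_lt.mpr ⟨by omega, by omega⟩)
    omega

/-- A nonprincipal irreducible character of a perfect group is nonlinear. -/
theorem deg_ne_one {G : Type} [Group G] [Finite G] (hperf : commutator G = ⊤)
    (χ : Cfsg.IrrCharacter G) (hne : χ ≠ CT.trivIrr G) :
    Cfsg.charDegree (χ : G → ℂ) ≠ 1 := by
  intro h
  have hch := CT.isCharacter_of_isIrr χ.2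
  have h1 : (χ : G → ℂ) 1 = 1 := by
    rw [CT.deg_eq hch, show CT.deg (χ : G → ℂ) = 1 from h, Nat.cast_one]
  refine hne (Subtype.ext (funext fun g => ?_))
  rw [CT.linear_trivial_on_commutator hch h1 g (hperf ▸ Subgroup.mem_top g), h1]
  rfl

/-- A simple group with Sylow subgroups of order `p` has order at least `p(p² - 1)/2`. -/
theorem simple_bound {G : Type} [Group G] [Finite G] {p : ℕ} [hpf : Fact p.Prime] (hodd : p ≠ 2)
    (hsimp : IsSimpleGroup G) (P : Sylow p G) (hP : Nat.card ↥(P : Subgroup G) = p)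
    (hPn : ¬ (P : Subgroup G).Normal) : p * (p ^ 2 - 1) / 2 ≤ Nat.card G := by
  classical
  haveI := Fintype.ofFinite G
  by_contra hlt
  push Not at hlt
  have hp := hpf.out
  have hp2 := hp.two_le
  obtain ⟨M, hM⟩ := Blocks.exists_isPModular hp
  set N := normalizer ((P : Subgroup G) : Set G)
  set C := centralizer ((P : Subgroup G) : Set G)
  have hCN : C ≤ N := centralizer_le_normalizer _
  set e := C.relIndex N with he
  haveI : IsCyclic ↥(P : Subgroup G) := isCyclic_of_prime_card hP
  have hPC : (P : Subgroup G) ≤ C := le_centralizer _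
  obtain ⟨h, hh⟩ : p ∣ Nat.card ↥C := hP ▸ card_dvd_of_le hPC
  have hNc : Nat.card ↥N = Nat.card ↥C * e := by
    rw [he, relIndex, ← Nat.card_congr (subgroupOfEquivOfLe hCN).toEquiv, card_mul_index]
  have hsyl : Nat.card (Sylow p G) = N.index := P.card_eq_index_normalizer
  have hmod : Nat.card (Sylow p G) % p = 1 := by
    rw [card_sylow_modEq_one p G, Nat.mod_eq_of_lt hp.one_lt]
  obtain ⟨k, hk⟩ : ∃ k, Nat.card (Sylow p G) = 1 + k * p :=
    ⟨Nat.card (Sylow p G) / p, by
      have := Nat.div_add_mod (Nat.card (Sylow p G)) p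
      rw [hmod] at this
      rw [mul_comm _ p]
      omega⟩
  have hk1 : 1 ≤ k := by
    by_contra hk0
    obtain rfl : k = 0 := by omega
    refine hPn (normalizer_eq_top_iff.mp (index_eq_one.mp ?_))
    rw [← hsyl, hk, zero_mul, add_zero]
  have hG : Nat.card G = p * (e * h * (1 + k * p)) := by
    rw [← N.card_mul_index, hNc, hh, ← hsyl, hk]
    ring
  have hpos : 0 < e ∧ 0 < h := by
    have : 0 < Nat.card G := Nat.card_pos
    rw [hG] at this
    constructor <;> refine Nat.pos_of_ne_zero fun h0 => ?_ <;> simp [h0] at this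
  have hsk : 2 * (e * h * (1 + k * p)) + 1 < p ^ 2 := by
    have hpodd : p % 2 = 1 := hp.eq_two_or_odd.resolve_left hodd
    have h2 : 2 ∣ p ^ 2 - 1 := by
      obtain ⟨q, rfl⟩ : ∃ q, p = 2 * q + 1 := ⟨p / 2, by omega⟩
      exact ⟨2 * q * q + 2 * q, by rw [Nat.sub_eq_iff_eq_add (by nlinarith)]; ring⟩
    rw [hG, Nat.mul_div_assoc p h2] at hlt
    have := Nat.lt_of_mul_lt_mul_left hlt
    have h3 : 2 * ((p ^ 2 - 1) / 2) = p ^ 2 - 1 := Nat.mul_div_cancel' h2
    omega
  have hs : 2 * (e * h) + 1 < p := by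
    by_contra hcon
    push Not at hcon
    have h1 : 1 + p ≤ 1 + k * p := Nat.add_le_add_left (Nat.le_mul_of_pos_left p hk1) 1
    have h2 : (p - 1) * (1 + p) ≤ 2 * (e * h) * (1 + k * p) := Nat.mul_le_mul (by omega) h1
    obtain ⟨q, rfl⟩ : ∃ q, p = q + 1 := ⟨p - 1, by omega⟩
    simp only [Nat.add_sub_cancel] at h2
    nlinarith
  have he2 : 2 ≤ e := by
    by_contra he0
    have he1 : e = 1 := by omega
    have hle : normalizer ((P : Subgroup G) : Set G) ≤ C := relIndex_eq_one.mp he1
    have hc := MonoidHom.ker_transferSylow_isComplement' P hle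
    rcases hsimp.eq_bot_or_eq_top_of_normal _
      (MonoidHom.normal_ker (MonoidHom.transferSylow P hle)) with hb | ht
    · have := hc.card_mul
      rw [hb, Subgroup.card_bot, one_mul] at this
      exact hPn ((Subgroup.eq_top_of_card_eq _ this) ▸ inferInstance)
    · have := hc.card_mul
      rw [ht, Subgroup.card_top, hP] at this
      nlinarith [Nat.card_pos (α := G)]
  have hperf : commutator G = ⊤ := by
    refine (hsimp.eq_bot_or_eq_top_of_normal _ inferInstance).resolve_left fun hb => hPn ⟨?_⟩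
    intro x hx g
    have hc : Commute g x := commutatorElement_eq_one_iff_commute.mp (by
      rw [← Subgroup.mem_bot, ← hb, commutator_def]
      exact Subgroup.commutator_mem_commutator (mem_top g) (mem_top x))
    rw [hc.eq, mul_inv_cancel_right]
    exact hx
  obtain ⟨X, Y, hXY, hdisj, hXc, hYc, εX, ε, hX, hε, hY, -, hsum⟩ :=
    S4441.result p M hM hodd P hP e he.symm
  have htriv : CT.trivIrr G ∈ X := by
    haveI : M.IsPrime := hM.2.1.isPrime
    have hmem : CT.trivIrr G ∈ Cfsg.principalBlock M G := Blocks.trivIrr_mem_principalBlock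
    rw [hXY] at hmem
    refine hmem.resolve_right fun hy => ?_
    have h1 := hY _ hy
    rw [show Cfsg.charDegree ((CT.trivIrr G : Cfsg.IrrCharacter G) : G → ℂ) = 1 by
      simp [Cfsg.charDegree]] at h1
    have h2 := Int.modEq_iff_dvd.mp h1
    have hep : e ≤ e * h := Nat.le_mul_of_pos_right e hpos.2
    rcases hε with rfl | rfl
    · have := Int.eq_zero_of_abs_lt_dvd h2 (abs_lt.mpr ⟨by omega, by omega⟩)
      omega
    · have := Int.eq_zero_of_abs_lt_dvd h2 (abs_lt.mpr ⟨by omega, by omega⟩)
      omega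
  have hdeg : ∀ χ : Cfsg.IrrCharacter G, ∀ a : ℤ, ¬ (p : ℤ) ∣ a →
      (Cfsg.charDegree (χ : G → ℂ) : ℤ) ≡ a [ZMOD p] →
      Cfsg.charDegree (χ : G → ℂ) ∣ e * h * (1 + k * p) := by
    intro χ a ha hmod
    refine (Nat.Coprime.symm (hp.coprime_iff_not_dvd.mpr fun hd => ha ?_)).dvd_of_dvd_mul_left
      (hG ▸ ClassSum.degree_dvd_card χ)
    have := Int.natCast_dvd_natCast.mpr hd
    have h2 := Int.modEq_iff_dvd.mp hmod
    simpa using dvd_add h2 this
  have hXdeg : ∀ χ ∈ X, χ ≠ CT.trivIrr G →
      εX χ = 1 ∧ Cfsg.charDegree (χ : G → ℂ) = 1 + k * p := by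
    intro χ hχ hne
    obtain ⟨hs', hmod, -⟩ := hX χ hχ
    have hnd : ¬ (p : ℤ) ∣ εX χ := fun hd => by
      have := Int.natAbs_dvd_natAbs.mpr hd
      rcases hs' with hh | hh <;> simp [hh] at this <;> omega
    exact degree_eq hp (Nat.mul_pos hpos.1 hpos.2) hk1 hs hsk (deg_ne_one hperf χ hne)
      (hdeg χ _ hnd hmod) hs' hmod
  have hεtriv : εX (CT.trivIrr G) = 1 := by
    obtain ⟨hs', hmod, -⟩ := hX _ htriv
    rw [show Cfsg.charDegree ((CT.trivIrr G : Cfsg.IrrCharacter G) : G → ℂ) = 1 by
      simp [Cfsg.charDegree]] at hmod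
    rcases hs' with hh | hh
    · exact hh
    · rw [hh] at hmod
      have := Int.eq_zero_of_abs_lt_dvd (Int.modEq_iff_dvd.mp hmod)
        (abs_lt.mpr ⟨by omega, by omega⟩)
      omega
  obtain ⟨θ, hθ⟩ : Y.Nonempty := by
    rcases Y.eq_empty_or_nonempty with h0 | h0
    · exfalso
      rw [h0] at hYc
      simp at hYc
      have hep : e ≤ e * h := Nat.le_mul_of_pos_right e hpos.2
      have : 0 < (p - 1) / e := Nat.div_pos (by omega) (by omega)
      omega
    · exact h0
  -- the degree equation at the identity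
  have hf : Cfsg.charDegree (θ : G → ℂ) = 1 + (e - 1) * (1 + k * p) ∧ ε = 1 := by
    haveI := Fintype.ofFinite ↥X
    have h1 := hsum θ hθ 1 (by rw [orderOf_one]; exact hp.not_dvd_one)
    have hv : ∀ χ : ↥X, (εX χ.1 : ℂ) * (χ.1 : G → ℂ) 1 =
        if χ.1 = CT.trivIrr G then 1 else ((1 + k * p : ℕ) : ℂ) := by
      intro χ
      split_ifs with hc
      · rw [hc, hεtriv]; simp
      · obtain ⟨h2, h3⟩ := hXdeg χ.1 χ.2 hc
        rw [h2, CT.deg_eq (CT.isCharacter_of_isIrr χ.1.2),
          show CT.deg (χ.1 : G → ℂ) = 1 + k * p from h3]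
        simp
    rw [← finsum_set_coe_eq_finsum_mem, finsum_eq_sum_of_fintype] at h1
    rw [Finset.sum_congr rfl fun χ _ => hv χ,
      ← Finset.add_sum_erase _ _ (Finset.mem_univ (⟨CT.trivIrr G, htriv⟩ : ↥X))] at h1
    simp only [↓reduceIte] at h1
    rw [Finset.sum_congr rfl (g := fun _ => ((1 + k * p : ℕ) : ℂ)) fun χ hχ => by
        rw [if_neg fun hc => (Finset.ne_of_mem_erase hχ) (Subtype.ext hc)],
      Finset.sum_const, Finset.card_erase_of_mem (Finset.mem_univ _), Finset.card_univ,
      ← Nat.card_eq_fintype_card, hXc, nsmul_eq_mul] at h1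
    rw [CT.deg_eq (CT.isCharacter_of_isIrr θ.2)] at h1
    change (ε : ℂ) * ((Cfsg.charDegree (θ : G → ℂ) : ℕ) : ℂ) = _ at h1
    rcases hε with rfl | rfl
    · refine ⟨?_, rfl⟩
      have h2 : ((Cfsg.charDegree (θ : G → ℂ) : ℕ) : ℂ) =
          ((1 + (e - 1) * (1 + k * p) : ℕ) : ℂ) := by
        push_cast at h1 ⊢
        linear_combination h1
      exact_mod_cast h2
    · exfalso
      have h2 : ((Cfsg.charDegree (θ : G → ℂ) + (1 + (e - 1) * (1 + k * p)) : ℕ) : ℂ) =
          ((0 : ℕ) : ℂ) := by
        push_cast at h1 ⊢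
        linear_combination -h1
      have := (Nat.cast_injective (R := ℂ)) h2
      omega
  obtain ⟨hf, hε1⟩ := hf
  have hmod := hY θ hθ
  rw [hε1, one_mul] at hmod
  have hep : e ≤ e * h := Nat.le_mul_of_pos_right e hpos.2
  obtain ⟨c, hc⟩ := hdeg θ (e : ℤ) (fun hd => by
    have := Nat.le_of_dvd (by omega) (Int.natCast_dvd_natCast.mp hd)
    omega) hmod
  rw [mul_comm] at hc
  exact arith (c := c) hp he2 hpos.2 hk1 hs hf (by linarith [hc])

/-- A group with non-normal Sylow `p`-subgroup has order at least the claimed minimum. -/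
theorem lower_bound (p : ℕ) [hpf : Fact p.Prime] (hodd : p ≠ 2) (m : ℕ)
    (hleast : ∀ k : ℕ, IsPrimePow k → k % p = 1 → m ≤ k) :
    ∀ (n : ℕ) (H : Type) [Group H] [Finite H], Nat.card H ≤ n →
      ¬ Cfsg.IsPClosed p H → min (p * m) (p * (p ^ 2 - 1) / 2) ≤ Nat.card H := by
  have hp := hpf.out
  intro n
  induction n with
  | zero =>
    intro H _ _ hn _
    exact absurd hn (by have := Nat.card_pos (α := H); omega)
  | succ n ih =>
    intro H _ _ hn hcl
    obtain ⟨P, hPn⟩ : ∃ P : Sylow p H, ¬ (P : Subgroup H).Normal := by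
      simpa [Cfsg.IsPClosed] using hcl
    obtain ⟨a, ha⟩ := P.isPGroup'.exists_card_eq
    have hindex : p + 1 ≤ (normalizer ((P : Subgroup H) : Set H)).index := by
      rw [show (normalizer ((P : Subgroup H) : Set H)).index = Nat.card (Sylow p H) from
        P.card_eq_index_normalizer.symm]
      have h1 := card_sylow_modEq_one p H
      rw [Nat.ModEq, Nat.mod_eq_of_lt hp.one_lt] at h1
      have h2 : Nat.card (Sylow p H) ≠ 1 := fun h0 => by
        haveI := (Nat.card_eq_one_iff_unique.mp h0).1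
        exact hPn P.normal_of_subsingleton
      have := Nat.div_add_mod (Nat.card (Sylow p H)) p
      rw [h1] at this
      have h3 : 1 ≤ Nat.card (Sylow p H) / p := by
        by_contra h0
        have h4 : Nat.card (Sylow p H) / p = 0 := Nat.eq_zero_of_not_pos h0
        rw [h4] at this
        omega
      have := Nat.mul_le_mul_left p h3
      omega
    have hPH : Nat.card ↥(P : Subgroup H) * (p + 1) ≤ Nat.card H := by
      rw [← (normalizer ((P : Subgroup H) : Set H)).card_mul_index]
      exact Nat.mul_le_mul (Nat.le_of_dvd Nat.card_pos (card_dvd_of_le le_normalizer)) hindex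
    have ha0 : a ≠ 0 := by
      rintro rfl
      rw [pow_zero] at ha
      exact hPn ((Subgroup.eq_bot_of_card_eq _ ha) ▸ inferInstance)
    rcases Nat.lt_or_ge a 2 with ha2 | ha2
    swap
    · refine le_trans (min_le_right _ _) (le_trans ?_ hPH)
      rw [ha]
      have h1 : p ^ 2 ≤ p ^ a := Nat.pow_le_pow_right hp.pos ha2
      have h2 : p * (p ^ 2 - 1) / 2 ≤ p * p ^ 2 :=
        (Nat.div_le_self _ _).trans (Nat.mul_le_mul_left _ (Nat.sub_le _ _))
      nlinarith
    have hPp : Nat.card ↥(P : Subgroup H) = p := by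
      rw [ha, show a = 1 by omega, pow_one]
    set K := Cfsg.pPrimeCore p H
    have hKc : (Nat.card ↥K).Coprime p := Basics.pPrimeCore_coprime p
    by_cases hK : (P : Subgroup H) ≤ centralizer (K : Set H)
    swap
    · -- `P` acts nontrivially on an invariant Sylow subgroup of `K`
      refine le_trans (min_le_left _ _) ?_
      have hPK : (P : Subgroup H) ≤ normalizer (K : Set H) := le_normalizer_of_normal
      have hcop : (Nat.card ↥(P : Subgroup H)).Coprime (Nat.card ↥K) := hPp.symm ▸ hKc.symm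
      haveI : IsCyclic ↥(P : Subgroup H) := isCyclic_of_prime_card hPp
      have hsolv : Group.IsSolvable ↥(P : Subgroup H) := by
        haveI := P.isPGroup'.isNilpotent; infer_instance
      obtain ⟨q, hq, Q, hQ, hPQ, hQC⟩ : ∃ q : ℕ, q.Prime ∧ ∃ Q : Subgroup H,
          Basics.IsSylowIn q K Q ∧ (P : Subgroup H) ≤ normalizer (Q : Set H) ∧
          ¬ Q ≤ centralizer ((P : Subgroup H) : Set H) := by
        by_contra hcon
        push Not at hcon
        refine hK (le_centralizer_iff.mp ?_)
        rw [← Subgroup.subgroupOf_eq_top, ← Subgroup.index_eq_one]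
        by_contra hne
        obtain ⟨q, hq, hqd⟩ := Nat.exists_prime_and_dvd hne
        haveI := Fact.mk hq
        obtain ⟨Q, hQ, hPQ⟩ :=
          Basics.exists_invariant_isSylowIn (P : Subgroup H) K hPK hcop (Or.inl hsolv) q
        obtain ⟨S, hS⟩ := hQ.exists_sylow
        refine S.not_dvd_index (hqd.trans (Subgroup.index_dvd_of_le ?_))
        intro x hx
        exact hcon q hq Q hQ hPQ (hS ▸ mem_map_of_mem _ hx)
      haveI := Fact.mk hq
      letI : MulAction ↥(P : Subgroup H) ↥Q :=
        { smul := fun x y =>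
            ⟨(x : H) * y * (x : H)⁻¹, (mem_normalizer_iff.mp (hPQ x.2) y).mp y.2⟩
          one_smul := fun y => Subtype.ext (show (1 : H) * y * (1 : H)⁻¹ = y by group)
          mul_smul := fun x x' y => Subtype.ext
            (show ((x : H) * x') * y * ((x : H) * x')⁻¹ =
              (x : H) * ((x' : H) * y * (x' : H)⁻¹) * (x : H)⁻¹ by group) }
      set D := Q ⊓ centralizer ((P : Subgroup H) : Set H)
      have hmod := P.isPGroup'.card_modEq_card_fixedPoints ↥Q
      have hfix : Nat.card (MulAction.fixedPoints ↥(P : Subgroup H) ↥Q) = Nat.card ↥D := by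
        refine Nat.card_congr ⟨fun y => ⟨y.1.1, y.1.2, ?_⟩, fun y => ⟨⟨y.1, y.2.1⟩, ?_⟩,
          fun y => rfl, fun y => rfl⟩
        · refine mem_centralizer_iff.mpr ?_
          intro x hx
          have h1 := congrArg Subtype.val (y.2 ⟨x, hx⟩)
          change x * (y.1 : H) * x⁻¹ = y.1 at h1
          exact mul_inv_eq_iff_eq_mul.mp h1
        · intro x
          refine Subtype.ext ?_
          show (x : H) * y.1 * (x : H)⁻¹ = y.1
          rw [mem_centralizer_iff.mp y.2.2 x x.2, mul_inv_cancel_right]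
      rw [hfix] at hmod
      obtain ⟨A, hA⟩ := hQ.isPGroup.exists_card_eq
      obtain ⟨B, hB⟩ := (hQ.isPGroup.to_le (inf_le_left : D ≤ Q)).exists_card_eq
      have hlt : B < A := by
        refine (Nat.pow_lt_pow_iff_right hq.one_lt).mp ?_
        rw [← hA, ← hB]
        refine lt_of_le_of_ne (Nat.le_of_dvd Nat.card_pos (card_dvd_of_le inf_le_left)) fun h0 => ?_
        exact hQC (inf_eq_left.mp (Subgroup.eq_of_le_of_card_ge inf_le_left h0.ge))
      have hqp : q.Coprime p := by
        refine (Nat.coprime_primes hq hp).mpr fun h0 => ?_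
        subst h0
        have h1 : q ∣ Nat.card ↥K :=
          (hA ▸ dvd_pow_self q (by omega) : q ∣ Nat.card ↥Q).trans (card_dvd_of_le hQ.1)
        exact hp.not_dvd_one (hKc.gcd_eq_one ▸ Nat.dvd_gcd h1 dvd_rfl)
      have hone : q ^ (A - B) % p = 1 := by
        rw [hA, hB, show A = B + (A - B) by omega, pow_add] at hmod
        have h1 : q ^ B * q ^ (A - B) ≡ q ^ B * 1 [MOD p] := by rw [mul_one]; exact hmod
        have h2 := Nat.ModEq.cancel_left_of_coprime ((Nat.Coprime.pow_left B hqp).symm) h1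
        rw [Nat.ModEq, Nat.mod_eq_of_lt hp.one_lt] at h2
        exact h2
      have hm : m ≤ q ^ A :=
        (hleast _ ((hq.prime.isPrimePow).pow (by omega)) hone).trans
          (Nat.pow_le_pow_right hq.pos (Nat.sub_le _ _))
      refine (Nat.mul_le_mul_left p hm).trans (Nat.le_of_dvd Nat.card_pos ?_)
      exact (Nat.Coprime.pow_right A hqp.symm).mul_dvd_of_dvd_of_dvd
        (hPp ▸ card_subgroup_dvd_card _) (hA ▸ card_subgroup_dvd_card _)
    by_cases hK1 : K = ⊥
    swap
    · -- pass to the quotient by `K`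
      have hlt : Nat.card (H ⧸ K) < Nat.card H := by
        have h1 := K.card_mul_index
        have h2 : 1 < Nat.card ↥K := (Subgroup.one_lt_card_iff_ne_bot K).mpr hK1
        have h3 : 0 < K.index := Nat.pos_of_ne_zero fun h0 => by
          rw [h0, mul_zero] at h1; exact Nat.card_pos.ne' h1.symm
        rw [← Subgroup.index_eq_card]
        nlinarith
      refine (ih (H ⧸ K) (by omega) fun hqc => hPn ?_).trans hlt.le
      have hn' := hqc (P.mapSurjective (QuotientGroup.mk'_surjective K))
      rw [Sylow.coe_mapSurjective] at hn'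
      have hc : (((P : Subgroup H).map (QuotientGroup.mk' K)).comap (QuotientGroup.mk' K)).Normal :=
        hn'.comap _
      rw [comap_map_eq, QuotientGroup.ker_mk'] at hc
      haveI := hc
      set L := (P : Subgroup H) ⊔ K
      haveI hPL : ((P : Subgroup H).subgroupOf L).Normal :=
        normal_subgroupOf_of_le_normalizer (sup_le le_normalizer
          ((le_centralizer_iff.mp hK).trans (centralizer_le_normalizer _)))
      haveI : ((P.subtype (le_sup_left : (P : Subgroup H) ≤ L) : Sylow p ↥L) : Subgroup ↥L).Normal :=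
        by rw [Sylow.coe_subtype]; exact hPL
      haveI := Sylow.characteristic_of_normal _ this
      have hn2 : ((((P.subtype (le_sup_left : (P : Subgroup H) ≤ L) : Sylow p ↥L) :
          Subgroup ↥L)).map L.subtype).Normal := inferInstance
      rwa [Sylow.coe_subtype, map_subgroupOf_eq_of_le le_sup_left] at hn2
    by_cases hs : IsSimpleGroup H
    · exact (min_le_right _ _).trans (simple_bound hodd hs P hPp hPn)
    · haveI : Nontrivial H := by
        rw [← Finite.one_lt_card_iff_nontrivial]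
        nlinarith [hp.two_le]
      obtain ⟨N, hN, hN1, hN2⟩ : ∃ N : Subgroup H, N.Normal ∧ N ≠ ⊥ ∧ N ≠ ⊤ := by
        by_contra hcon
        push Not at hcon
        exact hs ⟨fun N hN => or_iff_not_imp_left.mpr (hcon N hN)⟩
      haveI := hN
      have hpN : p ∣ Nat.card ↥N := by
        by_contra hd
        have : N ≤ K := Basics.le_pPrimeCore (Nat.Coprime.symm (hp.coprime_iff_not_dvd.mpr hd))
        rw [hK1, le_bot_iff] at this
        exact hN1 this
      have hPN : (P : Subgroup H) ≤ N := by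
        obtain ⟨S⟩ := (inferInstance : Nonempty (Sylow p ↥N))
        have hSp : IsPGroup p ↥((S : Subgroup ↥N).map N.subtype) := S.isPGroup'.map _
        obtain ⟨P', hP'⟩ := hSp.exists_le_sylow
        obtain ⟨g, hg⟩ := MulAction.exists_smul_eq H P' P
        have hPP : ((S : Subgroup ↥N).map N.subtype) = P' := by
          refine Subgroup.eq_of_le_of_card_ge hP' ?_
          rw [show Nat.card ↥(P' : Subgroup H) = Nat.card ↥(P : Subgroup H) from
            (P'.card_eq_multiplicity).trans P.card_eq_multiplicity.symm, hPp,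
            card_map_of_injective N.subtype_injective]
          exact Nat.le_of_dvd Nat.card_pos (S.dvd_card_of_dvd_card hpN)
        rw [← hg, Sylow.coe_subgroup_smul]
        intro x hx
        rw [mem_pointwise_smul_iff_inv_smul_mem, ← hPP] at hx
        obtain ⟨y, -, hy⟩ := hx
        have := hN.conj_mem _ (y.2) g
        simp [MulAut.smul_def] at hy
        rw [hy] at this
        simpa [mul_assoc] using this
      have hlt : Nat.card ↥N < Nat.card H := Components.card_lt_of_ne_top hN2
      refine (ih ↥N (by omega) fun hqc => hPn ?_).trans hlt.le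
      haveI := hqc (P.subtype hPN)
      haveI := Sylow.characteristic_of_normal _ this
      have hn2 : (((P.subtype hPN : Sylow p ↥N) : Subgroup ↥N).map N.subtype).Normal :=
        inferInstance
      rwa [Sylow.coe_subtype, map_subgroupOf_eq_of_le hPN] at hn2

end Cfsg.Agent.LeastNonClosed
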