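import Mathlib

/-! A checked stabiliser chain for the Mathieu group of degree twelve. -/

set_option autoImplicit false
set_option maxRecDepth 30000

namespace Cfsg.Agent.Recog.MathieuTwelveChain

abbrev Code := List (Fin 12)

def comp (a b : Code) : Code := b.map fun i => a.getD i.val 0

def idc : Code := List.finRange 12

def code (π : Equiv.Perm (Fin 12)) : Code := (List.finRange 12).map π

theorem code_mul (π σ : Equiv.Perm (Fin 12)) : code (π * σ) = comp (code π) (code σ) := by
  simp only [code, comp, List.map_map]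
  refine List.map_congr_left fun i _ => ?_
  simp [Function.comp, List.getD_eq_getElem?_getD]

theorem code_one : code 1 = idc := by simp [code, idc]

theorem code_inj {π σ : Equiv.Perm (Fin 12)} (h : code π = code σ) : π = σ := by
  refine Equiv.ext fun i => ?_
  have := congrArg (fun l : Code => l.getD i.val 0) h
  simpa [code, List.getD_eq_getElem?_getD] using this

theorem code_apply (π : Equiv.Perm (Fin 12)) (i : Fin 12) : (code π).getD i.val 0 = π i := by
  simp [code, List.getD_eq_getElem?_getD]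

def gc : ℕ → Code
  | 0 => [0, 1, 2, 4, 5, 3, 7, 8, 6, 10, 11, 9]
  | 1 => [0, 1, 2, 6, 7, 8, 9, 10, 11, 3, 4, 5]
  | 2 => [0, 1, 2, 3, 6, 9, 5, 8, 11, 4, 7, 10]
  | 3 => [0, 1, 2, 3, 7, 11, 10, 5, 6, 8, 9, 4]
  | 4 => [0, 1, 2, 3, 10, 8, 11, 6, 4, 7, 5, 9]
  | 5 => [3, 1, 2, 0, 4, 5, 7, 6, 10, 11, 8, 9]
  | 6 => [1, 0, 2, 3, 4, 5, 9, 10, 11, 6, 7, 8]
  | 7 => [0, 2, 1, 3, 4, 5, 11, 9, 10, 7, 8, 6]
  | _ => idc

def ordm1 : ℕ → ℕ
  | 0 => 2
  | 1 => 2
  | 2 => 3
  | 3 => 3
  | 4 => 3
  | _ => 1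

def invw (w : List ℕ) : List ℕ := w.reverse.flatMap fun i => List.replicate (ordm1 i) i

def evc : List ℕ → Code
  | [] => idc
  | i :: w => comp (gc i) (evc w)

def gens : ℕ → List ℕ
  | 0 => []
  | 1 => [2, 3, 4]
  | 2 => [0, 1, 2, 3, 4]
  | 3 => [0, 1, 2, 3, 4, 5]
  | 4 => [0, 1, 2, 3, 4, 5, 6]
  | _ => [0, 1, 2, 3, 4, 5, 6, 7]

def base : ℕ → Fin 12
  | 0 => 4
  | 1 => 3
  | 2 => 0
  | 3 => 1
  | _ => 2

def table : ℕ → List (Fin 12 × List ℕ)
  | 0 => [(4, []), (5, [2, 2]), (6, [2]), (7, [3]), (8, [2, 3]), (9, [3, 4]), (10, [4]), (11, [4, 2])]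
  | 1 => [(3, []), (4, [0]), (5, [0, 0]), (6, [1]), (7, [1, 0]), (8, [1, 0, 0]), (9, [1, 1]), (10, [4, 0]),
      (11, [4, 1])]
  | 2 => [(0, []), (3, [5]), (4, [0, 5]), (5, [0, 0, 5]), (6, [1, 5]), (7, [1, 0, 5]), (8, [1, 0, 0, 5]),
      (9, [1, 1, 5]), (10, [4, 0, 5]), (11, [4, 1, 5])]
  | 3 => [(1, []), (0, [6]), (3, [5, 6]), (4, [0, 5, 6]), (5, [0, 0, 5, 6]), (6, [1, 5, 6]), (7, [1, 0, 5, 6]),
      (8, [1, 0, 0, 5, 6]), (9, [1, 1, 5, 6]), (10, [4, 0, 5, 6]), (11, [4, 1, 5, 6])]
  | 4 => [(2, []), (1, [7]), (0, [6, 7]), (3, [5, 6, 7]), (4, [0, 5, 6, 7]), (5, [0, 0, 5, 6, 7]),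
      (6, [1, 5, 6, 7]), (7, [1, 0, 5, 6, 7]), (8, [1, 0, 0, 5, 6, 7]), (9, [1, 1, 5, 6, 7]),
      (10, [4, 0, 5, 6, 7]), (11, [4, 1, 5, 6, 7])]
  | _ => []

def sift : ℕ → Code → Bool
  | 0, c => c == idc
  | k + 1, c =>
    match (table k).lookup (c.getD (base k).val 0) with
    | none => false
    | some w => sift k (comp (evc (invw w)) c)

theorem inv_check : ∀ k ∈ List.range 5, ∀ e ∈ table k, comp (evc (invw e.2)) (evc e.2) = idc := by
  decide +kernel

theorem letters_check : ∀ k ∈ List.range 5, ∀ e ∈ table k, ∀ i ∈ e.2, i ∈ gens (k + 1) := by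
  decide +kernel

theorem image_check : ∀ k ∈ List.range 5, ∀ e ∈ table k, (evc e.2).getD (base k).val 0 = e.1 := by
  decide +kernel

theorem fix_check : ∀ k ∈ List.range 5, ∀ j ∈ List.range 5, k ≤ j → ∀ i ∈ gens k,
    (gc i).getD (base j).val 0 = base j := by
  decide +kernel

theorem base_check : ∀ k ∈ List.range 5, (base k, []) ∈ table k := by decide +kernel

theorem closed_check : ∀ k ∈ List.range 5, ∀ i ∈ gens (k + 1), ∀ e ∈ table k,
    ((table k).lookup ((gc i).getD e.1.val 0)).any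
      (fun w => sift k (comp (evc (invw w)) (comp (gc i) (evc e.2)))) = true := by
  decide +kernel

theorem order_check : ∀ i ∈ List.range 8, evc (List.replicate (ordm1 i + 1) i) = idc := by decide +kernel

theorem gens_lt : ∀ k ∈ List.range 6, ∀ i ∈ gens k, i < 8 := by decide +kernel

theorem nodup_check : ∀ k ∈ List.range 5, ((table k).map Prod.fst).Nodup := by decide +kernel

theorem gens_mono : ∀ k ∈ List.range 5, ∀ i ∈ gens k, i ∈ gens (k + 1) := by decide +kernel

section Model

variable (G : ℕ → Equiv.Perm (Fin 12)) (hG : ∀ i < 8, code (G i) = gc i)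

def ev : List ℕ → Equiv.Perm (Fin 12)
  | [] => 1
  | i :: w => G i * ev w

def lev (k : ℕ) : Subgroup (Equiv.Perm (Fin 12)) := Subgroup.closure (G '' {i | i ∈ gens k})

include hG

theorem code_ev : ∀ w : List ℕ, (∀ i ∈ w, i < 8) → code (ev G w) = evc w := by
  intro w
  induction w with
  | nil => intro _; exact code_one
  | cons i w ih =>
    intro h
    show code (G i * ev G w) = comp (gc i) (evc w)
    rw [code_mul, hG i (h i (List.mem_cons_self ..)), ih fun j hj => h j (List.mem_cons_of_mem _ hj)]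

theorem ev_mem {k : ℕ} : ∀ w : List ℕ, (∀ i ∈ w, i ∈ gens k) → ev G w ∈ lev G k := by
  intro w
  induction w with
  | nil => intro _; exact one_mem _
  | cons i w ih =>
    intro h
    exact mul_mem (Subgroup.subset_closure (Set.mem_image_of_mem G (show i ∈ {i | i ∈ gens k} from h i (List.mem_cons_self ..))))
      (ih fun j hj => h j (List.mem_cons_of_mem _ hj))

theorem entry_spec {k : ℕ} (hk : k < 5) {i : Fin 12} {w : List ℕ} (he : (i, w) ∈ table k) :
    code (ev G w) = evc w ∧ code (ev G w)⁻¹ = evc (invw w) ∧ ev G w ∈ lev G (k + 1) ∧ ev G w (base k) = i := by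
  have hk' : k ∈ List.range 5 := List.mem_range.2 hk
  have hl := letters_check k hk' _ he
  have h8 : ∀ j ∈ w, j < 8 := fun j hj => gens_lt (k + 1) (List.mem_range.2 (by omega)) j (hl j hj)
  have h8' : ∀ j ∈ invw w, j < 8 := by
    intro j hj
    obtain ⟨x, hx, hxj⟩ := List.mem_flatMap.1 hj
    rw [List.eq_of_mem_replicate hxj]
    exact h8 x (List.mem_reverse.1 hx)
  have e1 := code_ev G hG w h8
  refine ⟨e1, ?_, ev_mem G hG w hl, ?_⟩
  · have e2 : ev G (invw w) * ev G w = 1 := code_inj (by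
      rw [code_mul, code_ev G hG _ h8', e1, code_one]; exact inv_check k hk' _ he)
    rw [← eq_inv_of_mul_eq_one_left e2, code_ev G hG _ h8']
  · rw [← code_apply, e1]; exact image_check k hk' _ he

theorem sift_mem : ∀ k ≤ 5, ∀ h : Equiv.Perm (Fin 12), sift k (code h) = true → h ∈ lev G k := by
  intro k
  induction k with
  | zero =>
    intro _ h hh
    rw [sift, beq_iff_eq, ← code_one] at hh
    rw [code_inj hh]; exact one_mem _
  | succ k ih =>
    intro hk h hh
    rw [sift] at hh
    split at hh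
    · exact absurd hh Bool.false_ne_true
    · next w hw =>
      have he : ((code h).getD (base k).val 0, w) ∈ table k := by
        obtain ⟨_, _, hl, -⟩ := List.lookup_eq_some_iff.1 hw
        rw [hl]; simp
      obtain ⟨-, e2, e3, -⟩ := entry_spec G hG (by omega) he
      rw [← e2, ← code_mul] at hh
      have h1 := ih (by omega) _ hh
      have hmono : lev G k ≤ lev G (k + 1) := Subgroup.closure_mono (Set.image_mono fun i hi =>
        gens_mono k (List.mem_range.2 (by omega)) i hi)
      have := mul_mem e3 (hmono h1)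
      rwa [mul_inv_cancel_left] at this

theorem lev_mono {k : ℕ} (hk : k < 5) : lev G k ≤ lev G (k + 1) :=
  Subgroup.closure_mono (Set.image_mono fun i hi => gens_mono k (List.mem_range.2 hk) i hi)

theorem lev_fix {k j : ℕ} (hj : j < 5) (hkj : k ≤ j) {h : Equiv.Perm (Fin 12)} (hh : h ∈ lev G k) :
    h (base j) = base j := by
  have hle : lev G k ≤ MulAction.stabilizer (Equiv.Perm (Fin 12)) (base j) := by
    rw [lev, Subgroup.closure_le]
    rintro _ ⟨i, hi, rfl⟩
    show G i (base j) = base j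
    rw [← code_apply, hG i (gens_lt k (List.mem_range.2 (by omega)) i hi)]
    exact fix_check k (List.mem_range.2 (by omega)) j (List.mem_range.2 hj) hkj i hi
  exact hle hh

theorem decomp {k : ℕ} (hk : k < 5) {h : Equiv.Perm (Fin 12)} (hh : h ∈ lev G (k + 1)) :
    ∃ e ∈ table k, (ev G e.2)⁻¹ * h ∈ lev G k := by
  have hk' : k ∈ List.range 5 := List.mem_range.2 hk
  have step : ∀ i ∈ gens (k + 1), ∀ x : Equiv.Perm (Fin 12), (∃ e ∈ table k, (ev G e.2)⁻¹ * x ∈ lev G k) →
      ∃ e ∈ table k, (ev G e.2)⁻¹ * (G i * x) ∈ lev G k := by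
    rintro i hi x ⟨⟨p, w⟩, he, hx⟩
    have hc := closed_check k hk' i hi _ he
    rw [Option.any_eq_true] at hc
    obtain ⟨w', hw', hs⟩ := hc
    have he' : ((gc i).getD p.val 0, w') ∈ table k := by
      obtain ⟨_, _, hl, -⟩ := List.lookup_eq_some_iff.1 hw'
      rw [hl]; simp
    refine ⟨_, he', ?_⟩
    obtain ⟨f1, -, -, -⟩ := entry_spec G hG hk he
    obtain ⟨-, f2, -, -⟩ := entry_spec G hG hk he'
    have h1 : (ev G w')⁻¹ * (G i * ev G w) ∈ lev G k := by
      refine sift_mem G hG k (by omega) _ ?_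
      rw [code_mul, code_mul, f1, f2, hG i (gens_lt (k + 1) (List.mem_range.2 (by omega)) i hi)]
      exact hs
    have := mul_mem h1 hx
    convert this using 1
    group
  induction hh using Subgroup.closure_induction_left with
  | one => exact ⟨_, base_check k hk', by show (1 : Equiv.Perm (Fin 12))⁻¹ * 1 ∈ lev G k; simp⟩
  | mul_left x hx y hy ih =>
    obtain ⟨i, hi, rfl⟩ := hx
    exact step i hi y ih
  | inv_mul_cancel x hx y hy ih =>
    obtain ⟨i, hi, rfl⟩ := hx
    have hlt := gens_lt (k + 1) (List.mem_range.2 (by omega)) i hi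
    have hrep : ∀ n, ev G (List.replicate n i) = G i ^ n := by
      intro n
      induction n with
      | zero => rfl
      | succ n ih => rw [List.replicate_succ, pow_succ', ← ih]; rfl
    have hord : G i ^ (ordm1 i + 1) = 1 := code_inj (by
      rw [← hrep, code_ev G hG _ (fun j hj => by rw [List.eq_of_mem_replicate hj]; exact hlt), code_one]
      exact order_check i (List.mem_range.2 hlt))
    rw [show (G i)⁻¹ = G i ^ ordm1 i from inv_eq_of_mul_eq_one_right (by rw [← pow_succ', hord])]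
    have main : ∀ n, ∃ e ∈ table k, (ev G e.2)⁻¹ * (G i ^ n * y) ∈ lev G k := by
      intro n
      induction n with
      | zero => rw [pow_zero, one_mul]; exact ih
      | succ n ihn =>
        rw [pow_succ', mul_assoc]
        exact step i hi _ ihn
    exact main _

theorem stab_step {k : ℕ} (hk : k < 5) {h : Equiv.Perm (Fin 12)} (hh : h ∈ lev G (k + 1))
    (hfix : h (base k) = base k) : h ∈ lev G k := by
  obtain ⟨⟨p, w⟩, he, hx⟩ := decomp G hG hk hh
  obtain ⟨-, -, -, f4⟩ := entry_spec G hG hk he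
  have h1 : ((ev G w)⁻¹ * h) (base k) = base k := lev_fix G hG hk le_rfl hx
  have h2 : h (base k) = p := by
    have := congrArg (ev G w) h1
    rw [f4, Equiv.Perm.mul_apply, Equiv.Perm.coe_inv, Equiv.apply_symm_apply] at this
    exact this
  have hb : (base k, ([] : List ℕ)) ∈ table k := base_check k (List.mem_range.2 hk)
  have hpw : (p, w) = (base k, ([] : List ℕ)) :=
    List.inj_on_of_nodup_map (nodup_check k (List.mem_range.2 hk)) he hb (h2.symm.trans hfix)
  obtain ⟨-, rfl⟩ := Prod.mk.inj hpw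
  have : ((1 : Equiv.Perm (Fin 12)))⁻¹ * h ∈ lev G k := hx
  simpa using this

theorem card_step {k : ℕ} (hk : k < 5) :
    Nat.card (lev G (k + 1)) = (table k).length * Nat.card (lev G k) := by
  let f : Fin (table k).length × lev G k → lev G (k + 1) := fun p =>
    ⟨ev G ((table k)[p.1]).2 * p.2, mul_mem (entry_spec G hG hk (List.getElem_mem _)).2.2.1
      (lev_mono G hG hk p.2.2)⟩
  have hf : Function.Bijective f := by
    constructor
    · rintro ⟨a, x⟩ ⟨b, y⟩ h
      have h' : ev G ((table k)[a]).2 * x = ev G ((table k)[b]).2 * y := congrArg Subtype.val h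
      have hp : ((table k)[a]).1 = ((table k)[b]).1 := by
        have := congrArg (fun g : Equiv.Perm (Fin 12) => g (base k)) h'
        simp only [Equiv.Perm.mul_apply, lev_fix G hG hk le_rfl x.2, lev_fix G hG hk le_rfl y.2] at this
        rwa [(entry_spec G hG hk (i := (table k)[a].1) (w := (table k)[a].2) (List.getElem_mem a.isLt)).2.2.2,
          (entry_spec G hG hk (i := (table k)[b].1) (w := (table k)[b].2) (List.getElem_mem b.isLt)).2.2.2] at this
      have hab : a = b := by
        have hn := nodup_check k (List.mem_range.2 hk)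
        refine Fin.ext ((hn.getElem_inj_iff (hi := by simp) (hj := by simp)).1 ?_)
        simpa using hp
      subst hab
      exact Prod.ext rfl (Subtype.ext (mul_left_cancel h'))
    · rintro ⟨h, hh⟩
      obtain ⟨e, he, hx⟩ := decomp G hG hk hh
      obtain ⟨a, ha, rfl⟩ := List.getElem_of_mem he
      exact ⟨(⟨a, ha⟩, ⟨_, hx⟩), Subtype.ext (mul_inv_cancel_left _ _)⟩
  rw [← Nat.card_eq_of_bijective f hf, Nat.card_prod, Nat.card_fin]

theorem cards : Nat.card (lev G 5) = 95040 ∧ Nat.card (lev G 4) = 7920 := by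
  have h0 : Nat.card (lev G 0) = 1 := by
    rw [Subgroup.card_eq_one, lev, Subgroup.closure_eq_bot_iff]
    rintro _ ⟨i, hi, rfl⟩
    simp [gens] at hi
  have h4 : Nat.card (lev G 4) = 7920 := by
    rw [card_step G hG (show 3 < 5 by omega), card_step G hG (show 2 < 5 by omega), card_step G hG (show 1 < 5 by omega),
      card_step G hG (show 0 < 5 by omega), h0]
    rfl
  exact ⟨by rw [card_step G hG (show 4 < 5 by omega), h4]; rfl, h4⟩

theorem trivial_stab {h : Equiv.Perm (Fin 12)} (hh : h ∈ lev G 5) (h2 : h 2 = 2) (h1 : h 1 = 1) (h0 : h 0 = 0)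
    (h3 : h 3 = 3) (h4 : h 4 = 4) : h = 1 := by
  have := stab_step G hG (show 0 < 5 by omega) (stab_step G hG (show 1 < 5 by omega)
    (stab_step G hG (show 2 < 5 by omega) (stab_step G hG (show 3 < 5 by omega)
      (stab_step G hG (show 4 < 5 by omega) hh h2) h1) h0) h3) h4
  have hb : lev G 0 = ⊥ := by
    rw [lev, Subgroup.closure_eq_bot_iff]
    rintro _ ⟨i, hi, rfl⟩
    simp [gens] at hi
  rwa [hb, Subgroup.mem_bot] at this

end Model

end Cfsg.Agent.Recog.MathieuTwelveChain
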