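import Mathlib
import Cfsg.Agent.Lib.CT.Integral

/-! A solvable Frobenius group with binary octahedral complement and kernel of exponent 13. -/

set_option autoImplicit false
set_option maxRecDepth 20000

namespace Cfsg.Agent.Recog.OctahedralFrobenius

abbrev R := QuadraticAlgebra (ZMod 13) 2 0
abbrev M := Matrix (Fin 2) (Fin 2) R

def a : M := !![⟨0, 3⟩, 0; 0, ⟨0, 11⟩]
def b : M := !![⟨2, 0⟩, ⟨3, 0⟩; ⟨2, 0⟩, ⟨10, 0⟩]

def apow : ℕ → M
  | 0 => 1
  | n + 1 => apow n * a

def S : List M :=
  (List.range 8).flatMap fun i => [apow i, apow i * b, apow i * (b * a), apow i * (b * b),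
    apow i * (b * a * a), apow i * (b * a * b)]

theorem S_one : (1 : M) ∈ S := by decide +kernel

theorem S_mul_a : ∀ x ∈ S, x * a ∈ S := by decide +kernel

theorem S_mul_b : ∀ x ∈ S, x * b ∈ S := by decide +kernel

theorem S_free : ∀ x ∈ S, x = 1 ∨ x = -1 ∨ x * x = -1 ∨ x * x * x * x = -1 ∨ x * x * x = -1 ∨ x * x + x + 1 = 0 := by
  decide +kernel

theorem S_order : ∀ x ∈ S, x ^ 8 = 1 ∨ x ^ 6 = 1 := by
  simp only [pow_succ, pow_zero, one_mul]
  decide +kernel

theorem a_pow : a * a * a * a = -1 ∧ a * a ≠ -1 ∧ b * b * b = 1 ∧ b ≠ 1 ∧ (-1 : M) ≠ 1 := by decide +kernel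

def au : Mˣ := ⟨a, a * a * a * a * a * a * a, by decide +kernel, by decide +kernel⟩
def bu : Mˣ := ⟨b, b * b, by decide +kernel, by decide +kernel⟩

def K : Subgroup Mˣ := Subgroup.closure {au, bu}

theorem K_mem {x : Mˣ} (hx : x ∈ K) : (x : M) ∈ S := by
  have hpow : ∀ (g : M), (∀ y ∈ S, y * g ∈ S) → ∀ n : ℕ, ∀ y ∈ S, y * g ^ n ∈ S := by
    intro g hg n
    induction n with
    | zero => intro y hy; rwa [pow_zero, mul_one]
    | succ n ih => intro y hy; rw [pow_succ, ← mul_assoc]; exact hg _ (ih y hy)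
  induction hx using Subgroup.closure_induction_right with
  | one => exact S_one
  | mul_right x hx y hy ih =>
    rcases hy with rfl | rfl
    · exact S_mul_a _ ih
    · exact S_mul_b _ ih
  | mul_inv_cancel x hx y hy ih =>
    rcases hy with rfl | rfl
    · have : (((au⁻¹ : Mˣ)) : M) = a ^ 7 := by
        show a * a * a * a * a * a * a = _
        simp only [pow_succ, pow_zero, one_mul]
      rw [Units.val_mul, this]
      exact hpow a S_mul_a 7 _ ih
    · have : (((bu⁻¹ : Mˣ)) : M) = b ^ 2 := by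
        show b * b = _
        rw [pow_two]
      rw [Units.val_mul, this]
      exact hpow b S_mul_b 2 _ ih

instance : Finite K :=
  Finite.of_injective (fun x : K => (⟨(x : Mˣ), K_mem x.2⟩ : {m : M // m ∈ S}))
    fun _ _ h => Subtype.ext (Units.ext (congrArg Subtype.val h))

theorem K_order (x : K) : x ^ 8 = 1 ∨ x ^ 6 = 1 := by
  rcases S_order _ (K_mem x.2) with h | h
  · exact Or.inl (Subtype.ext (Units.ext (by simpa using h)))
  · exact Or.inr (Subtype.ext (Units.ext (by simpa using h)))

theorem two_ne : (2 : ZMod 13) ≠ 0 ∧ (3 : ZMod 13) ≠ 0 := by decide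

theorem K_free (x : K) (hx : x ≠ 1) (v : Fin 2 → R) (hv : ((x : Mˣ) : M).mulVec v = v) : v = 0 := by
  set m := ((x : Mˣ) : M) with hm
  have h2 : v = -v → v = 0 := fun h => by
    have : (2 : ZMod 13) • v = 0 := by rw [two_smul]; exact add_eq_zero_iff_eq_neg.2 h
    have := congrArg (fun w => (7 : ZMod 13) • w) this
    simp only [smul_smul, smul_zero] at this
    rwa [show (7 : ZMod 13) * 2 = 1 by decide, one_smul] at this
  have hneg : ((-1 : M)).mulVec v = -v := by rw [Matrix.neg_mulVec, Matrix.one_mulVec]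
  rcases S_free _ (K_mem x.2) with h | h | h | h | h | h
  · exact absurd (Subtype.ext (Units.ext h)) hx
  · exact h2 (hv.symm.trans ((congrArg (Matrix.mulVec · v) h).trans hneg))
  · exact h2 (by rw [← hneg, ← h, ← Matrix.mulVec_mulVec, hv, hv])
  · exact h2 (by rw [← hneg, ← h, ← Matrix.mulVec_mulVec, hv, ← Matrix.mulVec_mulVec, hv, ← Matrix.mulVec_mulVec, hv, hv])
  · exact h2 (by rw [← hneg, ← h, ← Matrix.mulVec_mulVec, hv, ← Matrix.mulVec_mulVec, hv, hv])
  · have h3 : (m * m + m + 1).mulVec v = 0 := by rw [h, Matrix.zero_mulVec]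
    rw [Matrix.add_mulVec, Matrix.add_mulVec, ← Matrix.mulVec_mulVec, hv, hv, Matrix.one_mulVec] at h3
    have : (3 : ZMod 13) • v = 0 := by
      rw [show (3 : ZMod 13) = 1 + 1 + 1 by norm_num, add_smul, add_smul, one_smul]; exact h3
    have := congrArg (fun w => (9 : ZMod 13) • w) this
    simp only [smul_smul, smul_zero] at this
    rwa [show (9 : ZMod 13) * 3 = 1 by decide, one_smul] at this

instance : Group.IsSolvable K := by
  have hdiv : ∀ r : ℕ, r.Prime → r ∣ Nat.card K → r = 2 ∨ r = 3 := by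
    intro r hr hdvd
    haveI := Fact.mk hr
    obtain ⟨x, hx⟩ := exists_prime_orderOf_dvd_card' (G := K) r hdvd
    rcases K_order x with h | h
    · have := (orderOf_dvd_of_pow_eq_one h)
      rw [hx, show 8 = 2 ^ 3 by rfl] at this
      exact Or.inl ((Nat.prime_dvd_prime_iff_eq hr Nat.prime_two).1 (hr.dvd_of_dvd_pow this))
    · have := (orderOf_dvd_of_pow_eq_one h)
      rw [hx, show 6 = 2 * 3 by rfl] at this
      exact (hr.dvd_mul.1 this).imp (fun e => (Nat.prime_dvd_prime_iff_eq hr Nat.prime_two).1 e)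
        fun e => (Nat.prime_dvd_prime_iff_eq hr Nat.prime_three).1 e
  obtain ⟨i, j, h⟩ : ∃ i j, Nat.card K = 2 ^ i * 3 ^ j := by
    have key : ∀ n : ℕ, 0 < n → (∀ r : ℕ, r.Prime → r ∣ n → r = 2 ∨ r = 3) → ∃ i j, n = 2 ^ i * 3 ^ j := by
      intro n
      induction n using Nat.strong_induction_on with
      | _ n ih =>
        intro hn h
        rcases Nat.lt_or_ge n 2 with h1 | h1
        · exact ⟨0, 0, by simp; omega⟩
        obtain ⟨r, hr, hrn⟩ := Nat.exists_prime_and_dvd (show n ≠ 1 by omega)
        obtain ⟨k, rfl⟩ := hrn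
        have hk : 0 < k := Nat.pos_of_mul_pos_left hn
        obtain ⟨i, j, rfl⟩ := ih k (lt_mul_left hk hr.one_lt) hk fun s hs hsk => h s hs (Dvd.dvd.mul_left hsk r)
        rcases h r hr (dvd_mul_right _ _) with rfl | rfl
        · exact ⟨i + 1, j, by ring⟩
        · exact ⟨i, j + 1, by ring⟩
    exact key _ Nat.card_pos hdiv
  exact CT.isSolvable_of_card_two_primes Nat.prime_two Nat.prime_three _ K i j rfl h

/-- The action of `K` on the kernel. -/
def act : K →* MulAut (Multiplicative (Fin 2 → R)) where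
  toFun x :=
    { toFun := fun v => Multiplicative.ofAdd (((x : Mˣ) : M).mulVec v.toAdd)
      invFun := fun v => Multiplicative.ofAdd ((((x : Mˣ)⁻¹ : Mˣ) : M).mulVec v.toAdd)
      left_inv := fun v => by
        simp only [toAdd_ofAdd, Matrix.mulVec_mulVec, Units.inv_mul, Matrix.one_mulVec, ofAdd_toAdd]
      right_inv := fun v => by
        simp only [toAdd_ofAdd, Matrix.mulVec_mulVec, Units.mul_inv, Matrix.one_mulVec, ofAdd_toAdd]
      map_mul' := fun u v => by simp only [toAdd_mul, Matrix.mulVec_add, ofAdd_add] }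
  map_one' := by
    ext1 v
    show Multiplicative.ofAdd (((1 : Mˣ) : M).mulVec v.toAdd) = v
    rw [Units.val_one, Matrix.one_mulVec, ofAdd_toAdd]
  map_mul' x y := by
    ext1 v
    show Multiplicative.ofAdd ((((x : Mˣ) * (y : Mˣ) : Mˣ) : M).mulVec v.toAdd) =
      Multiplicative.ofAdd (((x : Mˣ) : M).mulVec (((y : Mˣ) : M).mulVec v.toAdd))
    rw [Units.val_mul, Matrix.mulVec_mulVec]

abbrev H := Multiplicative (Fin 2 → R) ⋊[act] K

instance : Finite R := Finite.of_equiv _ (QuadraticAlgebra.equivProd (2 : ZMod 13) 0).symm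

instance : Finite H := Finite.of_equiv _ SemidirectProduct.equivProd.symm

theorem H_solvable : Group.IsSolvable H :=
  Group.isSolvable_of_ker_le_range (G' := Multiplicative (Fin 2 → R)) (G'' := K)
    (SemidirectProduct.inl) SemidirectProduct.rightHom (by rw [SemidirectProduct.range_inl_eq_ker_rightHom])

theorem thirteen : ∀ v : Multiplicative (Fin 2 → R), v ^ 13 = 1 := by
  intro v
  refine Multiplicative.toAdd.injective ?_
  rw [toAdd_pow, toAdd_one, ← Nat.cast_smul_eq_nsmul (ZMod 13), show ((13 : ℕ) : ZMod 13) = 0 from ZMod.natCast_self 13, zero_smul]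

theorem orderOf_eq (g : H) (hg : g.right ≠ 1) : orderOf g = orderOf g.right := by
  refine Nat.dvd_antisymm ?_ (orderOf_map_dvd SemidirectProduct.rightHom g)
  rw [orderOf_dvd_iff_pow_eq_one]
  set n := orderOf g.right
  have hr : (g ^ n).right = 1 := by
    show SemidirectProduct.rightHom (g ^ n) = 1
    rw [map_pow]; exact pow_orderOf_eq_one g.right
  have hc : g * g ^ n = g ^ n * g := (Commute.self_pow g n).eq
  have hl := congrArg SemidirectProduct.left hc
  rw [SemidirectProduct.mul_left, SemidirectProduct.mul_left, hr, map_one, MulAut.one_apply, mul_comm (g ^ n).left,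
    mul_right_inj] at hl
  have h0 := K_free g.right hg (g ^ n).left.toAdd (congrArg Multiplicative.toAdd hl)
  refine SemidirectProduct.ext ?_ (by rw [hr]; rfl)
  exact Multiplicative.toAdd.injective h0

theorem K_witness : ∀ k ∈ ({1, 2, 3, 4, 6, 8} : Finset ℕ), ∃ x : K, orderOf x = k := by
  let A : K := ⟨au, Subgroup.subset_closure (by simp)⟩
  let B : K := ⟨bu, Subgroup.subset_closure (by simp)⟩
  have hA : orderOf A = 2 ^ (2 + 1) := by
    refine orderOf_eq_prime_pow (fun h => ?_) ?_
    · have := congrArg (fun x : K => ((x : Mˣ) : M)) h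
      simp only [SubgroupClass.coe_pow, Units.val_pow_eq_pow_val, OneMemClass.coe_one, Units.val_one] at this
      have e : a ^ 4 = 1 := this
      simp only [pow_succ, pow_zero, one_mul, a_pow.1] at e
      exact a_pow.2.2.2.2 e
    · refine Subtype.ext (Units.ext ?_)
      simp only [SubgroupClass.coe_pow, Units.val_pow_eq_pow_val, OneMemClass.coe_one, Units.val_one]
      show a ^ 8 = 1
      rw [show a ^ 8 = (a * a * a * a) * (a * a * a * a) by simp [pow_succ, mul_assoc], a_pow.1]
      simp
  have hB : orderOf B = 3 := by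
    refine orderOf_eq_prime ?_ fun h => a_pow.2.2.2.1 (congrArg (fun x : K => ((x : Mˣ) : M)) h)
    refine Subtype.ext (Units.ext ?_)
    simp only [SubgroupClass.coe_pow, Units.val_pow_eq_pow_val, OneMemClass.coe_one, Units.val_one]
    show b ^ 3 = 1
    rw [show b ^ 3 = b * b * b by simp [pow_succ], a_pow.2.2.1]
  have h2 : orderOf (A ^ 4) = 2 := by rw [orderOf_pow, hA]; rfl
  have h4 : orderOf (A ^ 2) = 4 := by rw [orderOf_pow, hA]; rfl
  have h6 : orderOf (A ^ 4 * B) = 6 := by
    have hc : Commute (A ^ 4) B := by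
      refine Subtype.ext (Units.ext ?_)
      simp only [Subgroup.coe_mul, SubgroupClass.coe_pow, Units.val_mul, Units.val_pow_eq_pow_val]
      show a ^ 4 * b = b * a ^ 4
      rw [show a ^ 4 = a * a * a * a by simp [pow_succ], a_pow.1]
      simp
    rw [hc.orderOf_mul_eq_mul_orderOf_of_coprime (by rw [h2, hB]; norm_num), h2, hB]
  intro k hk
  simp only [Finset.mem_insert, Finset.mem_singleton] at hk
  rcases hk with rfl | rfl | rfl | rfl | rfl | rfl
  · exact ⟨1, orderOf_one⟩
  · exact ⟨_, h2⟩
  · exact ⟨_, hB⟩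
  · exact ⟨_, h4⟩
  · exact ⟨_, h6⟩
  · exact ⟨_, hA⟩

theorem H_spectrum : Set.range (orderOf : H → ℕ) = {1, 2, 3, 4, 6, 8, 13} := by
  refine Set.Subset.antisymm ?_ ?_
  · rintro _ ⟨g, rfl⟩
    by_cases hg : g.right = 1
    · have h13 : g ^ 13 = 1 := by
        rw [← SemidirectProduct.inl_left_mul_inr_right g, hg, map_one, mul_one, ← map_pow, thirteen, map_one]
      rcases (Nat.dvd_prime (by norm_num : Nat.Prime 13)).1 (orderOf_dvd_of_pow_eq_one h13) with h | h <;> rw [h] <;> simp
    · rw [orderOf_eq g hg]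
      rcases K_order g.right with h | h <;>
      · have h' := Nat.mem_divisors.2 ⟨orderOf_dvd_of_pow_eq_one h, by norm_num⟩
        revert h'
        generalize orderOf g.right = n
        intro h'
        have hlt := Nat.divisor_le h'
        interval_cases n <;> first | (simp; done) | exact absurd h' (by decide)
  · intro k hk
    simp only [Set.mem_insert_iff, Set.mem_singleton_iff] at hk
    by_cases h13 : k = 13
    · subst h13
      refine ⟨SemidirectProduct.inl (Multiplicative.ofAdd (fun _ => 1)), ?_⟩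
      rw [orderOf_injective _ SemidirectProduct.inl_injective]
      haveI : Fact (Nat.Prime 13) := ⟨by norm_num⟩
      refine orderOf_eq_prime (thirteen _) fun h => ?_
      exact one_ne_zero (congrFun (congrArg Multiplicative.toAdd h) 0)
    · obtain ⟨x, hx⟩ := K_witness k (by simp only [Finset.mem_insert, Finset.mem_singleton]; omega)
      exact ⟨SemidirectProduct.inr x, by rw [orderOf_injective _ SemidirectProduct.inr_injective, hx]⟩

end Cfsg.Agent.Recog.OctahedralFrobenius
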