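import Cfsg.Agent.Lib.Recog.Spectrum

/-!
# A solvable group with element orders `{1, 2, 3, 4, 5, 8, 10}`: `3 ^ 4 ⋊ (5 ⋊ 8)`
-/

namespace Cfsg.Agent.Recog.PGLNine

open Matrix

/-- The action of `C₈` on `C₅`. -/
def psi : Multiplicative (ZMod 8) →* MulAut (Multiplicative (ZMod 5)) where
  toFun j :=
    { toFun := fun x => Multiplicative.ofAdd ((2 : ZMod 5) ^ j.toAdd.val * x.toAdd)
      invFun := fun x => Multiplicative.ofAdd ((3 : ZMod 5) ^ j.toAdd.val * x.toAdd)
      left_inv := fun x => by revert x j; decide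
      right_inv := fun x => by revert x j; decide
      map_mul' := fun x y => by revert x y j; decide }
  map_one' := MulEquiv.ext fun x => by revert x; decide
  map_mul' := fun i j => MulEquiv.ext fun x => by revert x i j; decide

/-- The group `5 ⋊ 8`. -/
abbrev K := Multiplicative (ZMod 5) ⋊[psi] Multiplicative (ZMod 8)

/-- Multiplication by a primitive fifth root of unity. -/
def matA : Matrix (Fin 4) (Fin 4) (ZMod 3) := !![0,0,0,2; 1,0,0,2; 0,1,0,2; 0,0,1,2]

/-- A semilinear map squaring to the fourth power `-1`. -/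
def matC : Matrix (Fin 4) (Fin 4) (ZMod 3) := !![0,1,0,1; 0,2,1,1; 1,2,2,1; 2,2,0,2]

/-- The representation. -/
def R (x : K) : Matrix (Fin 4) (Fin 4) (ZMod 3) :=
  matA ^ x.left.toAdd.val * matC ^ x.right.toAdd.val

theorem R_pairs : ∀ (i k : Multiplicative (ZMod 5)) (j l : Multiplicative (ZMod 8)),
    R ⟨i, j⟩ * R ⟨k, l⟩ = R (⟨i, j⟩ * ⟨k, l⟩) := by
  decide +kernel

theorem R_mul (x y : K) : R x * R y = R (x * y) := R_pairs x.left y.left x.right y.right

theorem R_one : R 1 = 1 := by decide +kernel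

theorem R_free : ∀ (i : Multiplicative (ZMod 5)) (j : Multiplicative (ZMod 8))
    (a b c d : ZMod 3), R ⟨i, j⟩ *ᵥ ![a, b, c, d] = ![a, b, c, d] →
      (i = 1 ∧ j = 1) ∨ (a = 0 ∧ b = 0 ∧ c = 0 ∧ d = 0) := by
  decide +kernel

theorem K_orders : ∀ (i : Multiplicative (ZMod 5)) (j : Multiplicative (ZMod 8)),
    (⟨i, j⟩ : K) ^ 8 = 1 ∨ (⟨i, j⟩ : K) ^ 10 = 1 := by
  decide +kernel

/-- The module. -/
abbrev V := Multiplicative (Fin 4 → ZMod 3)

/-- The action on the module. -/
def phi : K →* MulAut V where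
  toFun x :=
    { toFun := fun v => Multiplicative.ofAdd (R x *ᵥ v.toAdd)
      invFun := fun v => Multiplicative.ofAdd (R x⁻¹ *ᵥ v.toAdd)
      left_inv := fun v => by
        simp [Matrix.mulVec_mulVec, R_mul, R_one]
      right_inv := fun v => by
        simp [Matrix.mulVec_mulVec, R_mul, R_one]
      map_mul' := fun v w => by
        simp [Matrix.mulVec_add] }
  map_one' := MulEquiv.ext fun v => by
    show Multiplicative.ofAdd (R 1 *ᵥ v.toAdd) = v
    simp [R_one]
  map_mul' x y := MulEquiv.ext fun v => by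
    show Multiplicative.ofAdd (R (x * y) *ᵥ v.toAdd) =
      Multiplicative.ofAdd (R x *ᵥ (R y *ᵥ v.toAdd))
    rw [Matrix.mulVec_mulVec, R_mul]

theorem exp_three (v : V) : v ^ 3 = 1 := by
  apply Multiplicative.toAdd.injective
  funext i
  show (3 : ℕ) • v.toAdd i = 0
  rw [nsmul_eq_mul]
  generalize v.toAdd i = a
  revert a; decide

theorem fixed_point_free {x : K} (hx : x ≠ 1) {v : V} (h : phi x v = v) : v = 1 := by
  obtain ⟨a, b, c, d, hv⟩ : ∃ a b c d, v.toAdd = ![a, b, c, d] :=
    ⟨v.toAdd 0, v.toAdd 1, v.toAdd 2, v.toAdd 3, by funext i; fin_cases i <;> rfl⟩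
  have h' : R ⟨x.left, x.right⟩ *ᵥ ![a, b, c, d] = ![a, b, c, d] := by
    rw [← hv]; exact congrArg Multiplicative.toAdd h
  rcases R_free x.left x.right a b c d h' with ⟨h1, h2⟩ | ⟨rfl, rfl, rfl, rfl⟩
  · exact absurd (SemidirectProduct.ext h1 h2) hx
  · apply Multiplicative.toAdd.injective
    rw [hv]
    funext i; fin_cases i <;> rfl

/-- The element orders. -/
theorem range_orders :
    Set.range (orderOf : V ⋊[phi] K → ℕ) = {1, 2, 3, 4, 5, 8, 10} := by
  have : Finite K := Finite.of_equiv _ SemidirectProduct.equivProd.symm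
  have : Finite (V ⋊[phi] K) := Finite.of_equiv _ SemidirectProduct.equivProd.symm
  have hker : ∀ z ∈ (SemidirectProduct.rightHom : V ⋊[phi] K →* K).ker, z ^ 3 = 1 := by
    intro z hz
    rw [MonoidHom.mem_ker, SemidirectProduct.rightHom_eq_right] at hz
    have : z = SemidirectProduct.inl z.left := by ext <;> simp [hz]
    rw [this, ← map_pow, exp_three, map_one]
  have : Fact (Nat.Prime 3) := ⟨Nat.prime_three⟩
  apply Set.Subset.antisymm
  · rintro _ ⟨z, rfl⟩
    obtain ⟨h1, h2⟩ := orderOf_of_hom SemidirectProduct.rightHom hker z (isOfFinOrder_of_finite _)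
    set g := SemidirectProduct.rightHom z with hg
    have hd : orderOf g ∣ 8 ∨ orderOf g ∣ 10 :=
      (K_orders g.left g.right).imp orderOf_dvd_of_pow_eq_one orderOf_dvd_of_pow_eq_one
    by_cases hz : z ^ orderOf g = 1
    · rw [h1 hz]
      have hmem : orderOf g ∈ Nat.divisors 8 ∪ Nat.divisors 10 := by
        rcases hd with h | h
        · exact Finset.mem_union_left _ (Nat.mem_divisors.2 ⟨h, by norm_num⟩)
        · exact Finset.mem_union_right _ (Nat.mem_divisors.2 ⟨h, by norm_num⟩)
      revert hmem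
      generalize orderOf g = n
      intro hmem
      rw [show Nat.divisors 8 ∪ Nat.divisors 10 = {1, 2, 4, 8, 5, 10} by decide] at hmem
      simp only [Finset.mem_insert, Finset.mem_singleton] at hmem
      rcases hmem with rfl | rfl | rfl | rfl | rfl | rfl <;> simp
    · rw [h2 hz]
      by_cases hg1 : g = 1
      · rw [hg1, orderOf_one]; simp
      · exfalso
        apply hz
        set w := z ^ orderOf g with hw
        have hr : w.right = 1 := by
          show SemidirectProduct.rightHom w = 1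
          rw [hw, map_pow, hg, pow_orderOf_eq_one]
        refine SemidirectProduct.ext (fixed_point_free hg1 ?_) hr
        have hc : z * w = w * z := (Commute.self_pow z _).eq
        have := congrArg SemidirectProduct.left hc
        rw [SemidirectProduct.mul_left, SemidirectProduct.mul_left, hr, map_one, MulAut.one_apply,
          mul_comm w.left] at this
        exact mul_left_cancel this
  · intro n hn
    have h8 : orderOf (SemidirectProduct.inr (⟨1, Multiplicative.ofAdd 1⟩ : K) : V ⋊[phi] K) = 8 := by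
      rw [orderOf_injective _ SemidirectProduct.inr_injective]
      apply orderOf_eq_prime_pow (p := 2) (n := 2) <;> decide +kernel
    have h10 : orderOf (SemidirectProduct.inr
        (⟨Multiplicative.ofAdd 1, Multiplicative.ofAdd 4⟩ : K) : V ⋊[phi] K) = 10 := by
      rw [orderOf_injective _ SemidirectProduct.inr_injective, orderOf_eq_iff (by norm_num)]
      refine ⟨by decide +kernel, fun m hm hm0 => ?_⟩
      interval_cases m <;> decide +kernel
    obtain ⟨z8, h8⟩ : ∃ z : V ⋊[phi] K, orderOf z = 8 := ⟨_, h8⟩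
    obtain ⟨z10, h10⟩ : ∃ z : V ⋊[phi] K, orderOf z = 10 := ⟨_, h10⟩
    have hdiv : ∀ (z : V ⋊[phi] K) (d : ℕ), d ∣ orderOf z →
        d ∈ Set.range (orderOf : V ⋊[phi] K → ℕ) := by
      intro z d hd
      refine ⟨z ^ (orderOf z / d), ?_⟩
      rw [orderOf_pow_of_dvd (Nat.div_pos (Nat.le_of_dvd (orderOf_pos z) hd)
        (Nat.pos_of_dvd_of_pos hd (orderOf_pos z))).ne' (Nat.div_dvd_of_dvd hd),
        Nat.div_div_self hd (orderOf_pos z).ne']
    rcases hn with rfl | rfl | rfl | rfl | rfl | rfl | rfl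
    · exact ⟨1, orderOf_one⟩
    · exact hdiv z8 _ (by rw [h8]; norm_num)
    · refine ⟨SemidirectProduct.inl (Multiplicative.ofAdd ![1, 0, 0, 0]), ?_⟩
      rw [orderOf_injective _ SemidirectProduct.inl_injective]
      refine orderOf_eq_prime (exp_three _) ?_
      intro h
      have := congrFun (congrArg Multiplicative.toAdd h) 0
      simp at this
    · exact hdiv z8 _ (by rw [h8]; norm_num)
    · exact hdiv z10 _ (by rw [h10]; norm_num)
    · exact ⟨_, h8⟩
    · exact ⟨_, h10⟩

end Cfsg.Agent.Recog.PGLNine
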