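import Mathlib

/-! Element orders of `PSL(3,3)`. -/

set_option autoImplicit false

namespace Cfsg.Agent.Recog.PSLThreeThreeSpectrum

abbrev Z3 := ZMod 3

def red (t s : Z3) : ℕ → Z3 × Z3 × Z3
  | 0 => (0, 0, 1)
  | n + 1 =>
    let r := red t s n
    (r.1 * t + r.2.1, r.2.2 - r.1 * s, r.1)

theorem red_cases : ∀ t s : Z3, red t s 6 = (0, 0, 1) ∨ red t s 8 = (0, 0, 1) ∨ red t s 13 = (0, 0, 1) := by
  decide +kernel

theorem pow_eq_red {A : Matrix (Fin 3) (Fin 3) Z3} {t s : Z3} (h : A ^ 3 = t • A ^ 2 - s • A + 1) (n : ℕ) :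
    A ^ n = (red t s n).1 • A ^ 2 + (red t s n).2.1 • A + (red t s n).2.2 • (1 : Matrix (Fin 3) (Fin 3) Z3) := by
  induction n with
  | zero => simp [red]
  | succ n ih =>
    rw [pow_succ, ih, add_mul, add_mul, smul_mul_assoc, smul_mul_assoc, smul_mul_assoc, ← pow_succ, h, one_mul, ← pow_two]
    simp only [red, smul_add, smul_sub, smul_smul, add_smul, sub_smul]
    abel

theorem pow_cases (A : Matrix (Fin 3) (Fin 3) Z3) (hA : A.det = 1) : A ^ 6 = 1 ∨ A ^ 8 = 1 ∨ A ^ 13 = 1 := by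
  obtain ⟨t, s, h⟩ : ∃ t s : Z3, A ^ 3 = t • A ^ 2 - s • A + 1 := by
    have hc := A.aeval_self_charpoly
    have hd : A.charpoly.natDegree = 3 := by rw [Matrix.charpoly_natDegree_eq_dim, Fintype.card_fin]
    have hl : A.charpoly.coeff 3 = 1 := by
      have := A.charpoly_monic
      rw [Polynomial.Monic, Polynomial.leadingCoeff, hd] at this
      exact this
    have h0 : A.charpoly.coeff 0 = -1 := by
      have := A.det_eq_sign_charpoly_coeff
      rw [hA, Fintype.card_fin] at this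
      calc A.charpoly.coeff 0 = -((-1) ^ 3 * A.charpoly.coeff 0) := by ring
        _ = -1 := by rw [← this]
    rw [Polynomial.aeval_eq_sum_range, hd, Finset.sum_range_succ, Finset.sum_range_succ, Finset.sum_range_succ,
      Finset.sum_range_one, hl, h0, one_smul, pow_zero, pow_one] at hc
    refine ⟨-A.charpoly.coeff 2, A.charpoly.coeff 1, ?_⟩
    rw [neg_smul]
    rw [← sub_eq_zero, ← hc, neg_smul, one_smul]
    abel
  have hn := pow_eq_red h
  rcases red_cases t s with e | e | e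
  · left; rw [hn, e]; simp
  · right; left; rw [hn, e]; simp
  · right; right; rw [hn, e]; simp

abbrev SL3 := Matrix.SpecialLinearGroup (Fin 3) Z3

theorem orderOf_mem (g : SL3) : orderOf g ∈ ({1, 2, 3, 4, 6, 8, 13} : Set ℕ) := by
  have h : g ^ 6 = 1 ∨ g ^ 8 = 1 ∨ g ^ 13 = 1 := by
    rcases pow_cases g.1 g.2 with e | e | e
    · exact Or.inl (Subtype.ext (by simpa using e))
    · exact Or.inr (Or.inl (Subtype.ext (by simpa using e)))
    · exact Or.inr (Or.inr (Subtype.ext (by simpa using e)))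
  rcases h with e | e | e <;>
  · have h' := Nat.mem_divisors.2 ⟨orderOf_dvd_of_pow_eq_one e, by norm_num⟩
    revert h'
    generalize orderOf g = n
    intro h'
    have hlt := Nat.divisor_le h'
    interval_cases n <;> first | (simp; done) | exact absurd h' (by decide)

def m2 : SL3 := ⟨!![-1, 0, 0; 0, -1, 0; 0, 0, 1], by decide +kernel⟩
def m3 : SL3 := ⟨!![1, 1, 0; 0, 1, 0; 0, 0, 1], by decide +kernel⟩
def m6 : SL3 := ⟨!![-1, 1, 0; 0, -1, 0; 0, 0, 1], by decide +kernel⟩
def m4 : SL3 := ⟨!![0, -1, 0; 1, 0, 0; 0, 0, 1], by decide +kernel⟩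
def m8 : SL3 := ⟨!![0, 1, 0; 1, 1, 0; 0, 0, -1], by decide +kernel⟩
def m13 : SL3 := ⟨!![0, 0, 1; 1, 0, 1; 0, 1, 0], by decide +kernel⟩

theorem spectrum : Set.range (orderOf : SL3 → ℕ) = {1, 2, 3, 4, 6, 8, 13} := by
  refine Set.Subset.antisymm (by rintro _ ⟨g, rfl⟩; exact orderOf_mem g) ?_
  intro k hk
  simp only [Set.mem_insert_iff, Set.mem_singleton_iff] at hk
  rcases hk with rfl | rfl | rfl | rfl | rfl | rfl | rfl
  · exact ⟨1, orderOf_one⟩
  · exact ⟨m2, (orderOf_eq_iff (by norm_num)).2 ⟨by decide +kernel, fun m hm hm0 => by interval_cases m <;> decide +kernel⟩⟩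
  · exact ⟨m3, (orderOf_eq_iff (by norm_num)).2 ⟨by decide +kernel, fun m hm hm0 => by interval_cases m <;> decide +kernel⟩⟩
  · exact ⟨m4, (orderOf_eq_iff (by norm_num)).2 ⟨by decide +kernel, fun m hm hm0 => by interval_cases m <;> decide +kernel⟩⟩
  · exact ⟨m6, (orderOf_eq_iff (by norm_num)).2 ⟨by decide +kernel, fun m hm hm0 => by interval_cases m <;> decide +kernel⟩⟩
  · exact ⟨m8, (orderOf_eq_iff (by norm_num)).2 ⟨by decide +kernel, fun m hm hm0 => by interval_cases m <;> decide +kernel⟩⟩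
  · exact ⟨m13, (orderOf_eq_iff (by norm_num)).2 ⟨by decide +kernel, fun m hm hm0 => by interval_cases m <;> decide +kernel⟩⟩

theorem psl_spectrum {F : Type*} [Field F] [Fintype F] (hF : Fintype.card F = 3) :
    Set.range (orderOf : Matrix.ProjectiveSpecialLinearGroup (Fin 3) F → ℕ) = {1, 2, 3, 4, 6, 8, 13} := by
  haveI : Fact (Nat.Prime 3) := ⟨Nat.prime_three⟩
  let e : Z3 ≃+* F := ZMod.ringEquivOfPrime F Nat.prime_three hF
  let E : SL3 ≃* Matrix.SpecialLinearGroup (Fin 3) F :=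
    { Matrix.SpecialLinearGroup.map (n := Fin 3) (e : Z3 →+* F) with
      invFun := Matrix.SpecialLinearGroup.map (n := Fin 3) (e.symm : F →+* Z3)
      left_inv := fun g => by ext i j; simp
      right_inv := fun g => by ext i j; simp }
  have hc : Subgroup.center (Matrix.SpecialLinearGroup (Fin 3) F) = ⊥ := by
    refine (Subgroup.eq_bot_iff_forall _).2 fun g hg => ?_
    obtain ⟨r, hr, hrg⟩ := Matrix.SpecialLinearGroup.mem_center_iff.1 hg
    rw [Fintype.card_fin] at hr
    have hr1 : r = 1 := by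
      have := FiniteField.pow_card r
      rw [hF, hr] at this
      exact this.symm
    refine Subtype.ext ?_
    rw [← hrg, hr1]
    simp
  have hinj : Function.Injective (QuotientGroup.mk' (Subgroup.center (Matrix.SpecialLinearGroup (Fin 3) F))) := by
    rw [← MonoidHom.ker_eq_bot_iff, QuotientGroup.ker_mk', hc]
  rw [← spectrum]
  ext k
  constructor
  · rintro ⟨q, rfl⟩
    obtain ⟨g, rfl⟩ := QuotientGroup.mk'_surjective _ q
    exact ⟨E.symm g, (MulEquiv.orderOf_eq E.symm g).trans (orderOf_injective _ hinj g).symm⟩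
  · rintro ⟨g, rfl⟩
    exact ⟨QuotientGroup.mk' _ (E g), (orderOf_injective _ hinj (E g)).trans (MulEquiv.orderOf_eq E g)⟩

end Cfsg.Agent.Recog.PSLThreeThreeSpectrum
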