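import Cfsg.Agent.Lib.Recog.PrimeGraph
import Cfsg.Agent.Lib.Recog.AltSpectrum

/-!
# A solvable group with the element orders of `PSL(2, q) × PSL(2, q)`

`K² ⋊ (μ_a × μ_b)`, `K` the field with `q²` elements.
-/

set_option autoImplicit false
set_option linter.unusedSectionVars false

namespace Cfsg.Agent.Recog.PSLSquare

open Matrix PGLTwo

variable {K : Type} [Field K] [Fintype K] (a b : ℕ)

/-- Pairs of roots of unity. -/
abbrev A (K : Type) [Field K] (a b : ℕ) := ↥(rootsOfUnity a K) × ↥(rootsOfUnity b K)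

/-- The componentwise multiplication action. -/
def act : A K a b →* MulAut (Multiplicative (K × K)) where
  toFun g :=
    { toFun := fun v => Multiplicative.ofAdd
        (((g.1 : Kˣ) : K) * v.toAdd.1, ((g.2 : Kˣ) : K) * v.toAdd.2)
      invFun := fun v => Multiplicative.ofAdd
        ((((g.1 : Kˣ)⁻¹ : Kˣ) : K) * v.toAdd.1, (((g.2 : Kˣ)⁻¹ : Kˣ) : K) * v.toAdd.2)
      left_inv := fun v => by
        simp
      right_inv := fun v => by
        simp
      map_mul' := fun v w => by
        simp [mul_add, ← ofAdd_add] }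
  map_one' := MulEquiv.ext fun v => by
    show Multiplicative.ofAdd _ = v
    simp
    rfl
  map_mul' g h := MulEquiv.ext fun v => by
    show Multiplicative.ofAdd _ = Multiplicative.ofAdd _
    simp [mul_assoc]

theorem act_apply (g : A K a b) (v : Multiplicative (K × K)) :
    act a b g v = Multiplicative.ofAdd
      (((g.1 : Kˣ) : K) * v.toAdd.1, ((g.2 : Kˣ) : K) * v.toAdd.2) := rfl

theorem exp_p (p : ℕ) [CharP K p] (v : Multiplicative (K × K)) : v ^ p = 1 := by
  apply Multiplicative.toAdd.injective
  rw [toAdd_pow, toAdd_one]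
  ext <;> simp [nsmul_eq_mul, CharP.cast_eq_zero]

theorem isSolvable : Group.IsSolvable (Multiplicative (K × K) ⋊[act a b] A K a b) := by
  refine Group.isSolvable_of_ker_le_range SemidirectProduct.inl SemidirectProduct.rightHom ?_
  rw [SemidirectProduct.range_inl_eq_ker_rightHom]

variable {a b}

/-- The element orders. -/
theorem range_orders (p : ℕ) [Fact p.Prime] [CharP K p] (hpa : ¬ p ∣ a) (hpb : ¬ p ∣ b)
    {za : rootsOfUnity a K} {zb : rootsOfUnity b K} (hza : orderOf za = a) (hzb : orderOf zb = b)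
    (hab : a.Coprime b) (hca : Nat.card (rootsOfUnity a K) = a) (hcb : Nat.card (rootsOfUnity b K) = b) :
    Set.range (orderOf : Multiplicative (K × K) ⋊[act a b] A K a b → ℕ) =
      {n : ℕ | n ∣ p * a ∨ n ∣ p * b ∨ n ∣ a * b} := by
  have hp : p.Prime := Fact.out
  have : Finite (Multiplicative (K × K) ⋊[act a b] A K a b) :=
    Finite.of_equiv _ SemidirectProduct.equivProd.symm
  have hker : ∀ y ∈ (SemidirectProduct.rightHom :
      Multiplicative (K × K) ⋊[act a b] A K a b →* A K a b).ker, y ^ p = 1 := by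
    intro y hy
    rw [MonoidHom.mem_ker, SemidirectProduct.rightHom_eq_right] at hy
    have : y = SemidirectProduct.inl y.left := by ext <;> simp [hy]
    rw [this, ← map_pow, exp_p p, map_one]
  apply Set.Subset.antisymm
  · rintro _ ⟨x, rfl⟩
    obtain ⟨h1, h2⟩ := orderOf_of_hom SemidirectProduct.rightHom hker x (isOfFinOrder_of_finite _)
    set g := SemidirectProduct.rightHom x with hg
    have hga : orderOf g.1 ∣ a := (orderOf_dvd_natCard g.1).trans (dvd_of_eq hca)
    have hgb : orderOf g.2 ∣ b := (orderOf_dvd_natCard g.2).trans (dvd_of_eq hcb)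
    have hgo : orderOf g = Nat.lcm (orderOf g.1) (orderOf g.2) := Prod.orderOf g
    by_cases hx : x ^ orderOf g = 1
    · rw [h1 hx, hgo]
      exact Or.inr (Or.inr (Nat.lcm_dvd (dvd_mul_of_dvd_left hga b) (dvd_mul_of_dvd_right hgb a)))
    · rw [h2 hx]
      set y := x ^ orderOf g with hy
      have hyr : y.right = 1 := by
        show SemidirectProduct.rightHom y = 1
        rw [hy, map_pow, ← hg, pow_orderOf_eq_one]
      have hfix : act a b g y.left = y.left := by
        have := congrArg SemidirectProduct.left (Commute.self_pow x (orderOf g)).eq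
        rw [SemidirectProduct.mul_left, SemidirectProduct.mul_left, ← hy, hyr, map_one,
          MulAut.one_apply, mul_comm y.left] at this
        exact mul_left_cancel this
      rw [act_apply] at hfix
      have e1 := congrArg (fun v : Multiplicative (K × K) => v.toAdd.1) hfix
      have e2 := congrArg (fun v : Multiplicative (K × K) => v.toAdd.2) hfix
      simp only [toAdd_ofAdd] at e1 e2
      have hy0 : y.left.toAdd.1 ≠ 0 ∨ y.left.toAdd.2 ≠ 0 := by
        by_contra hc
        push Not at hc
        exact hx (SemidirectProduct.ext (Multiplicative.toAdd.injective (Prod.ext hc.1 hc.2)) hyr)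
      rcases hy0 with h0 | h0
      · have : g.1 = 1 := Subtype.ext (Units.ext ((mul_eq_right₀ h0).1 e1))
        rw [hgo, this, orderOf_one, Nat.lcm_one_left]
        exact Or.inr (Or.inl (mul_dvd_mul_left p hgb))
      · have : g.2 = 1 := Subtype.ext (Units.ext ((mul_eq_right₀ h0).1 e2))
        rw [hgo, this, orderOf_one, Nat.lcm_one_right]
        exact Or.inl (mul_dvd_mul_left p hga)
  · rintro n hn
    have mk : ∀ (g : A K a b) (v : Multiplicative (K × K)), act a b g v = v → v ≠ 1 →
        ¬ p ∣ orderOf g → p * orderOf g ∈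
          Set.range (orderOf : Multiplicative (K × K) ⋊[act a b] A K a b → ℕ) := by
      intro g v hv hv1 hpg
      refine ⟨SemidirectProduct.inl v * SemidirectProduct.inr g, ?_⟩
      have hc : Commute (SemidirectProduct.inl v : Multiplicative (K × K) ⋊[act a b] A K a b)
          (SemidirectProduct.inr g) := by
        refine SemidirectProduct.ext ?_ (by simp)
        simp [hv]
      have hov : orderOf v = p := orderOf_eq_prime (exp_p p v) hv1
      rw [hc.orderOf_mul_eq_mul_orderOf_of_coprime,
        orderOf_injective _ SemidirectProduct.inl_injective,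
        orderOf_injective _ SemidirectProduct.inr_injective, hov]
      rw [orderOf_injective _ SemidirectProduct.inl_injective,
        orderOf_injective _ SemidirectProduct.inr_injective, hov]
      exact (hp.coprime_iff_not_dvd).2 hpg
    rcases hn with h | h | h
    · have h1 : p * orderOf ((za, 1) : A K a b) ∈
          Set.range (orderOf : Multiplicative (K × K) ⋊[act a b] A K a b → ℕ) := by
        refine mk _ (Multiplicative.ofAdd ((0, 1) : K × K)) ?_ (fun e => ?_) ?_
        · rw [act_apply]; simp
        · have := congrArg (fun v : Multiplicative (K × K) => v.toAdd.2) e; simp at this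
        · rw [Prod.orderOf, hza, orderOf_one, Nat.lcm_one_right]; exact hpa
      rw [Prod.orderOf, hza, orderOf_one, Nat.lcm_one_right] at h1
      obtain ⟨x, hx⟩ := h1
      exact AltSpectrum.mem_range_of_dvd (z := x) (hx ▸ h)
    · have h1 : p * orderOf ((1, zb) : A K a b) ∈
          Set.range (orderOf : Multiplicative (K × K) ⋊[act a b] A K a b → ℕ) := by
        refine mk _ (Multiplicative.ofAdd ((1, 0) : K × K)) ?_ (fun e => ?_) ?_
        · rw [act_apply]; simp
        · have := congrArg (fun v : Multiplicative (K × K) => v.toAdd.1) e; simp at this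
        · rw [Prod.orderOf, hzb, orderOf_one, Nat.lcm_one_left]; exact hpb
      rw [Prod.orderOf, hzb, orderOf_one, Nat.lcm_one_left] at h1
      obtain ⟨x, hx⟩ := h1
      exact AltSpectrum.mem_range_of_dvd (z := x) (hx ▸ h)
    · refine AltSpectrum.mem_range_of_dvd (z := SemidirectProduct.inr ((za, zb) : A K a b)) ?_
      rw [orderOf_injective _ SemidirectProduct.inr_injective, Prod.orderOf, hza, hzb,
        hab.lcm_eq_mul]
      exact h

/-- The element orders of `PSL(2, q)`. -/
theorem psl_data {F : Type*} [Field F] [Fintype F] (hF : 4 ≤ Fintype.card F) :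
    ∃ (p k a b : ℕ), p.Prime ∧ 0 < k ∧ Fintype.card F = p ^ k ∧ ¬ p ∣ a ∧ ¬ p ∣ b ∧ a.Coprime b ∧
      a ∣ Fintype.card F - 1 ∧ b ∣ Fintype.card F + 1 ∧
      (∀ x : ProjectiveSpecialLinearGroup (Fin 2) F,
        orderOf x ∣ p ∨ orderOf x ∣ a ∨ orderOf x ∣ b) ∧
      ∀ e ∈ ({p, a, b} : Set ℕ), ∃ x : ProjectiveSpecialLinearGroup (Fin 2) F, orderOf x = e := by
  classical
  obtain ⟨p, hcp⟩ := CharP.exists F
  obtain ⟨⟨k, hk0⟩, hp, hk⟩ := FiniteField.card F p
  have := Fact.mk hp
  simp only [PNat.mk_coe] at hk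
  set q := Fintype.card F with hq
  have hpq : p ∣ q := hk ▸ dvd_pow_self p hk0.ne'
  have hp1 : ¬ p ∣ q - 1 := fun h => hp.ne_one (Nat.dvd_one.1 (by
    have := Nat.dvd_sub hpq h
    rwa [show q - (q - 1) = 1 by omega] at this))
  have hp2 : ¬ p ∣ q + 1 := fun h => hp.ne_one (Nat.dvd_one.1 ((Nat.dvd_add_right hpq).1 h))
  by_cases h2 : p = 2
  · subst h2
    have hev : Even q := hk ▸ (Nat.even_pow.2 ⟨even_two, hk0.ne'⟩)
    let e : ProjectiveSpecialLinearGroup (Fin 2) F ≃* SpecialLinearGroup (Fin 2) F :=
      (QuotientGroup.quotientMulEquivOfEq PrimeGraph.sl2_center).trans QuotientGroup.quotientBot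
    have hinj : Function.Injective (PrimeGraph.slToPGL (F := F)) := by
      rw [injective_iff_map_eq_one]
      intro s hs
      obtain ⟨c, hc⟩ := (gl_mk_eq_one_iff _).1 hs
      rw [← Subgroup.mem_bot, ← PrimeGraph.sl2_center, Matrix.SpecialLinearGroup.mem_center_iff]
      refine ⟨c, ?_, ?_⟩
      · have := s.det_coe
        rw [show (s : Matrix (Fin 2) (Fin 2) F) = c • 1 from hc] at this
        simpa [Matrix.det_smul] using this
      · rw [show (s : Matrix (Fin 2) (Fin 2) F) = c • 1 from hc]
        simp [Matrix.smul_one_eq_diagonal]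
    have back : ∀ d, (∃ y : PGL F, orderOf y = d) →
        ∃ x : ProjectiveSpecialLinearGroup (Fin 2) F, orderOf x = d := by
      rintro d ⟨y, rfl⟩
      obtain ⟨s, rfl⟩ := PrimeGraph.sl2_to_pgl_surjective y
      exact ⟨e.symm s, by rw [e.symm.orderOf_eq, orderOf_injective _ hinj]⟩
    refine ⟨2, k, q - 1, q + 1, Nat.prime_two, hk0, hk, hp1, hp2, ?_, dvd_rfl, dvd_rfl, ?_, ?_⟩
    · have h3 : q + 1 = (q - 1) + 2 := by omega
      rw [h3, Nat.coprime_self_add_right]
      exact ((Nat.prime_two.coprime_iff_not_dvd).2 hp1).symm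
    · intro x
      rw [← e.orderOf_eq]
      rcases PrimeGraph.sl2_orders (e x) with h | h | h
      · exact Or.inl (dvd_of_eq h)
      · exact Or.inr (Or.inl h)
      · exact Or.inr (Or.inr h)
    · rintro d (rfl | rfl | rfl)
      · exact back 2 (exists_pgl_order_char (p := 2))
      · exact back _ exists_pgl_order_sub_one
      · exact back _ exists_pgl_order_add_one
  · have hodd : Odd q := hk ▸ (hp.odd_of_ne_two h2).pow
    obtain ⟨c, hc⟩ := hodd
    have d1 : (q - 1) / 2 ∣ q - 1 := Nat.div_dvd_of_dvd ⟨c, by omega⟩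
    have d2 : (q + 1) / 2 ∣ q + 1 := Nat.div_dvd_of_dvd ⟨c + 1, by omega⟩
    refine ⟨p, k, (q - 1) / 2, (q + 1) / 2, hp, hk0, hk, fun h => hp1 (h.trans d1),
      fun h => hp2 (h.trans d2), ?_, d1, d2, ?_, ?_⟩
    · rw [show (q + 1) / 2 = (q - 1) / 2 + 1 by omega, Nat.coprime_self_add_right]
      exact Nat.coprime_one_right _
    · intro x
      rcases psl_orders (p := p) ⟨c, hc⟩ x with ⟨h, -⟩ | h | h
      · exact Or.inl (dvd_of_eq h)
      · exact Or.inr (Or.inl h)
      · exact Or.inr (Or.inr h)
    · rintro d (rfl | rfl | rfl)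
      · exact exists_psl_order_char
      · obtain ⟨s, hs, -⟩ := exists_psl_split (F := F) ⟨c, hc⟩ (by omega)
        exact ⟨_, hs⟩
      · obtain ⟨s, hs, -⟩ := exists_psl_elliptic (F := F) ⟨c, hc⟩ (by omega)
        exact ⟨_, hs⟩

end Cfsg.Agent.Recog.PSLSquare
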