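import Cfsg.Agent.Lib.LocalEvenA.ModUnitary
import Cfsg.Agent.Lib.AutPSU.Centre

/-!
Element orders of `PSU₃(q)` for odd `q`.
-/

set_option autoImplicit false
set_option linter.unusedSectionVars false

namespace Cfsg.Agent.U3Spectrum

open Cfsg.Agent LocalEvenA.UThree Polynomial
open scoped Matrix

variable {F : Type*} [Field F] [Fintype F] {q : ℕ} [hQ : AutPSU.QField F q]
include hQ

local notation "σ" => AutPSU.qb (F := F) q
local notation "E" => AlgebraicClosure F
local notation "ι" => algebraMap F (AlgebraicClosure F)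
local notation "H" => Cfsg.hermForm 3 F q
set_option quotPrecheck false in
local notation "G" => ↥(Cfsg.SU 3 F q)
set_option quotPrecheck false in
local notation "π" => QuotientGroup.mk' (Subgroup.center ↥(Cfsg.SU 3 F q))

theorem det_sub (g : G) {K : Type*} [Field K] (i : F →+* K) (x : K) :
    (x • (1 : Matrix (Fin 3) (Fin 3) K) - (mat g).map i).det =
      x ^ 3 - i (mat g).trace * x ^ 2 + i (σ (mat g).trace) * x - 1 := by
  have hd : (mat g).det = 1 := (g : Matrix.SpecialLinearGroup (Fin 3) F).2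
  rw [← adjugate_trace, ← map_one i]
  conv_rhs => rw [← hd]
  generalize mat g = M
  simp [Matrix.det_fin_three, Matrix.trace_fin_three, Matrix.adjugate_fin_three]
  ring

theorem mat_pow (g : G) (j : ℕ) : mat (g ^ j) = mat g ^ j := by
  induction j with
  | zero => simp [mat]
  | succ j ih => rw [pow_succ, pow_succ, mat_mul, ih]

theorem proj_pow_eq_one (g : G) {N : ℕ} {s : E} (h : ((mat g).map ι) ^ N = s • 1) : π g ^ N = 1 := by
  rw [← map_pow, QuotientGroup.mk'_apply, QuotientGroup.eq_one_iff]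
  have h1 : (mat (g ^ N)).map ι = s • 1 := by
    rw [mat_pow, ← h]
    exact map_pow (RingHom.mapMatrix ι) _ _
  have h2 : mat (g ^ N) = (mat (g ^ N) 0 0) • 1 := by
    ext i j
    apply (ι).injective
    have hij := congrFun (congrFun h1 i) j
    have h00 := congrFun (congrFun h1 0) 0
    simp only [Matrix.map_apply, Matrix.smul_apply, Matrix.one_apply, if_pos, smul_eq_mul, mul_one,
      mul_ite, mul_zero] at hij h00 ⊢
    split_ifs with hh
    · rw [hij, if_pos hh, h00]
    · rw [hij, if_neg hh, map_zero]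
  exact AutPSU.mem_center_of_scalar (c := mat (g ^ N) 0 0) fun v => by
    show mat (g ^ N) *ᵥ v = _
    conv_lhs => rw [h2]
    rw [Matrix.smul_mulVec, Matrix.one_mulVec]

/-- A root of the cubic is an eigenvalue. -/
theorem root_pow (g : G) {j : ℕ} (hj : π g ^ j = 1) : ∃ s : F, ∀ x : E,
    x ^ 3 - ι (mat g).trace * x ^ 2 + ι (σ (mat g).trace) * x - 1 = 0 → x ^ j = ι s := by
  rw [← map_pow, QuotientGroup.mk'_apply, QuotientGroup.eq_one_iff] at hj
  obtain ⟨s, hs⟩ := AutPSU.scalar_of_mem_center (q := q) (by norm_num) hj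
  refine ⟨s, fun x hx => ?_⟩
  obtain ⟨v, hv0, hv⟩ := Matrix.exists_mulVec_eq_zero_iff.2 ((det_sub g ι x).trans hx)
  rw [Matrix.sub_mulVec, Matrix.smul_mulVec, Matrix.one_mulVec, sub_eq_zero] at hv
  have hpow : ∀ k : ℕ, ((mat g).map ι) ^ k *ᵥ v = x ^ k • v := by
    intro k
    induction k with
    | zero => simp
    | succ k ih => rw [pow_succ, ← Matrix.mulVec_mulVec, ← hv, Matrix.mulVec_smul, ih, smul_smul, pow_succ, mul_comm]
  have hM : mat (g ^ j) = s • 1 := Matrix.ext_iff_mulVec.2 fun w => by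
    rw [Matrix.smul_mulVec, Matrix.one_mulVec]
    exact hs w
  have h1 : ((mat g).map ι) ^ j = ι s • 1 := by
    rw [← show (mat (g ^ j)).map ι = ((mat g).map ι) ^ j by
      rw [mat_pow]; exact map_pow (RingHom.mapMatrix ι) _ _, hM]
    ext a b
    by_cases hab : a = b <;> simp [Matrix.one_apply, hab]
  have h2 := hpow j
  rw [h1, Matrix.smul_mulVec, Matrix.one_mulVec] at h2
  exact (smul_left_injective E hv0 h2).symm

omit hQ in
/-- If all roots of a squarefree annihilator have the same power, that power is scalar. -/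
theorem aeval_scalar {A : Matrix (Fin 3) (Fin 3) E} {P : E[X]} (hP : aeval A P = 0) {N : ℕ} {s : E}
    (h : P ∣ X ^ N - C s) : A ^ N = s • 1 := by
  obtain ⟨R, hR⟩ := h
  have := congrArg (aeval A) hR
  rw [map_mul, hP, zero_mul, map_sub, map_pow, aeval_X, aeval_C, sub_eq_zero] at this
  rw [this, Algebra.algebraMap_eq_smul_one]

omit hQ in
theorem dvd_pow_sub {a : E} {N : ℕ} {s : E} (h : a ^ N = s) : X - C a ∣ X ^ N - C s := by
  rw [dvd_iff_isRoot]; simp [h]

omit hQ in
theorem coprime_sub {a b : E} (h : a ≠ b) : IsCoprime (X - C a) (X - C b) :=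
  isCoprime_X_sub_C_of_isUnit_sub (sub_ne_zero.2 h).isUnit

theorem pow_of_distinct (g : G) {x y z : E} (hxy : x ≠ y) (hxz : x ≠ z) (hyz : y ≠ z)
    (hann : aeval ((mat g).map ι) ((X - C x) * (X - C y) * (X - C z)) = 0) {N : ℕ}
    (h1 : y ^ N = x ^ N) (h2 : z ^ N = x ^ N) : π g ^ N = 1 := by
  refine proj_pow_eq_one g (aeval_scalar hann (s := x ^ N) ?_)
  exact ((coprime_sub hxz).mul_left (coprime_sub hyz)).mul_dvd
    ((coprime_sub hxy).mul_dvd (dvd_pow_sub rfl) (dvd_pow_sub h1)) (dvd_pow_sub h2)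

/-- Elements of every non-fixed trace. -/
theorem exists_trace_elem {T : F} (hT : σ T ≠ T) : ∃ g : G, (mat g).trace = T := by
  obtain ⟨e, f, w, hF⟩ := exists_frame (F := F) (q := q)
  obtain ⟨t, ht0, htσ⟩ := AutPSU.exists_skew (F := F) (q := q)
  have hte : AutPSU.IsT q e t := ⟨hF.ee, htσ⟩
  have h3 : σ (T - 3) ≠ T - 3 := fun e' => hT (by
    rw [map_sub, map_ofNat] at e'
    linear_combination e')
  obtain ⟨P, R, C, z, hP0, hR0, -, hσP, hσR, hσC, hz, hsum⟩ := exists_params (τ := T - 3) ht0 htσ h3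
  obtain ⟨A, hA⟩ := AutPSU.exists_norm (F := F) (q := q) hσP
  obtain ⟨a, ha⟩ := AutPSU.exists_norm (F := F) (q := q) (c := R / P) (by rw [map_div₀, hσR, hσP])
  have ha0 : a ≠ 0 := fun e' => hR0 (by
    rw [e', zero_mul, eq_comm, div_eq_zero_iff] at ha
    exact ha.resolve_right hP0)
  set c := σ (z / (a * P)) with hc
  have hσc : σ c = z / (a * P) := by rw [hc, AutPSU.qb_qb]
  have hNc : c * σ c = C := by
    rw [hσc, hc, map_div₀, map_mul, hσP]
    have hsa : σ a ≠ 0 := by simpa using ha0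
    field_simp at ha ⊢
    linear_combination hz - (C * P) * ha
  obtain ⟨b, hb⟩ := AutPSU.exists_norm (F := F) (q := q) (c := -(a * σ c + c * σ a))
    (by simp [add_comm, mul_comm])
  have h2 : AutPSU.IsT q (A • f) t := ⟨by simp [hF.ff], htσ⟩
  have h3' : AutPSU.IsT q (a • e + b • w + c • f) t := ⟨by
    simp [hF.ee, hF.ff, hF.ef, hF.fe, hF.we, hF.ew, hF.wf, hF.fw, hF.ww]
    linear_combination hb, htσ⟩
  refine ⟨AutPSU.tr e t hte * AutPSU.tr _ t h2 * AutPSU.tr _ t h3', ?_⟩
  rw [trace_three]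
  simp [hF.ee, hF.ff, hF.ef, hF.fe, hF.we, hF.ew, hF.wf, hF.fw, hF.ww]
  have hz' : a * σ c * P = z := by rw [hσc]; field_simp
  have hR' : A * σ A * (a * σ a) = R := by rw [hA, ha, mul_div_cancel₀ _ hP0]
  linear_combination hsum + (t ^ 2) * hA + (t ^ 2) * hNc + (t ^ 2) * hR' + (t ^ 3 * (a * σ c)) * hA +
    (t ^ 3) * hz'

omit hQ in
/-- The third member of a triple. -/
theorem third {a b c x y : E} (hne : x ≠ y) (hab : a ≠ b) (hac : a ≠ c) (hbc : b ≠ c)
    (hx : x = a ∨ x = b ∨ x = c) (hy : y = a ∨ y = b ∨ y = c) :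
    ∃ z, x ≠ z ∧ y ≠ z ∧ (X - C x) * (X - C y) * (X - C z) = (X - C a) * (X - C b) * (X - C c) ∧
      x * y * z = a * b * c ∧ ∀ u, u = a ∨ u = b ∨ u = c → u = x ∨ u = y ∨ u = z := by
  rcases hx with hx | hx | hx <;> rcases hy with hy | hy | hy <;> subst hx hy
  · exact absurd rfl hne
  · exact ⟨c, hac, hbc, by ring, by ring, by tauto⟩
  · exact ⟨b, hab, hbc.symm, by ring, by ring, by tauto⟩
  · exact ⟨c, hbc, hac, by ring, by ring, by tauto⟩
  · exact absurd rfl hne
  · exact ⟨a, hab.symm, hac.symm, by ring, by ring, by tauto⟩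
  · exact ⟨b, hbc.symm, hab, by ring, by ring, by tauto⟩
  · exact ⟨a, hac.symm, hab.symm, by ring, by ring, by tauto⟩
  · exact absurd rfl hne

variable (p : ℕ) [hp : Fact p.Prime] [hcp : CharP F p]
include hp hcp

theorem q_eq : ∃ f, q = p ^ f ∧ f ≠ 0 := by
  obtain ⟨k, -, hk⟩ := FiniteField.card F p
  have h : q ^ 2 = p ^ (k : ℕ) := by rw [← hQ.card, Nat.card_eq_fintype_card, hk]
  obtain ⟨f, -, hf⟩ := (Nat.dvd_prime_pow hp.out).1 (h ▸ dvd_pow_self q two_ne_zero)
  exact ⟨f, hf, fun h0 => by have := hQ.two_le; rw [hf, h0] at this; simp at this⟩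

theorem frob_facts : (∀ a b : E, (a + b) ^ q = a ^ q + b ^ q) ∧ Function.Injective (fun a : E => a ^ q) := by
  obtain ⟨f, hf, -⟩ := q_eq (F := F) (q := q) p
  haveI : CharP E p := charP_of_injective_ringHom (ι).injective p
  constructor
  · intro a b; rw [hf]; exact add_pow_char_pow a b p f
  · intro a b h
    simp only [hf] at h
    exact iterateFrobenius_inj E p f h

omit hp hcp in
theorem map_qb (a : F) : ι (σ a) = ι a ^ q := by rw [AutPSU.qb_apply, map_pow]

theorem facts (g : G) : ∃ a b c : E, a * b * c = 1 ∧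
    aeval ((mat g).map ι) ((X - C a) * (X - C b) * (X - C c)) = 0 ∧
    ∀ x : E, x = a ∨ x = b ∨ x = c → ∃ y, (y = a ∨ y = b ∨ y = c) ∧ x ^ q * y = 1 := by
  classical
  set t := ι (mat g).trace with ht
  set t' := ι (σ (mat g).trace) with ht'
  set P : E[X] := X ^ 3 - C t * X ^ 2 + C t' * X - 1 with hP
  have hdeg : P.natDegree = 3 := by rw [hP]; compute_degree!
  have hmon : P.Monic := by rw [hP]; monicity!
  have hsp : P.Splits := IsAlgClosed.splits P
  obtain ⟨a, b, c, habc⟩ := Multiset.card_eq_three.1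
    ((Polynomial.Splits.natDegree_eq_card_roots hsp).symm.trans hdeg)
  have hprod : P = (X - C a) * (X - C b) * (X - C c) := by
    conv_lhs => rw [Polynomial.Splits.eq_prod_roots_of_monic hsp hmon, habc]
    simp [mul_assoc]
  have h0 : a * b * c = 1 := by
    have := congrArg (eval 0) hprod
    simp [hP] at this
    linear_combination -this
  have ht2 : t' = t ^ q := map_qb _
  have ht1 : t = t' ^ q := by rw [ht', ← map_qb, AutPSU.qb_qb]
  refine ⟨a, b, c, h0, ?_, fun x hx => ?_⟩
  · rw [← hprod, hP]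
    have hc := cubic g
    have h1 := congrArg (fun M : Matrix (Fin 3) (Fin 3) F => M.map ι) hc
    simp only [map_sub, map_add, map_mul, map_pow, aeval_X, aeval_C, map_one, Algebra.algebraMap_eq_smul_one]
    rw [pow_succ, pow_two, smul_mul_assoc, one_mul, smul_mul_assoc, one_mul]
    simp only [Matrix.map_mul, Matrix.map_add _ (map_add ι), Matrix.map_sub _ (map_sub ι),
      Matrix.map_one _ (map_zero ι) (map_one ι)] at h1
    have hs : ∀ (r : F) (M : Matrix (Fin 3) (Fin 3) F), (r • M).map ι = ι r • M.map ι := fun r M => by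
      ext i j; simp
    rw [hs, hs, Matrix.map_mul] at h1
    rw [h1, ht, ht']
    abel
  · have hx0 : x ≠ 0 := by
      rintro rfl
      rcases hx with h | h | h <;> simp [← h] at h0
    have hev : x ^ 3 - t * x ^ 2 + t' * x - 1 = 0 := by
      have : P.eval x = 0 := by
        rw [hprod]; rcases hx with rfl | rfl | rfl <;> simp
      simpa [hP] using this
    obtain ⟨hadd, -⟩ := frob_facts (F := F) (q := q) p
    have hneg : ∀ u : E, (-u) ^ q = -(u ^ q) := fun u => by
      have h := hadd u (-u)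
      rw [add_neg_cancel, zero_pow (by have := hQ.two_le; omega)] at h
      linear_combination -h
    have hq1 : x ^ (q * 3) - t' * x ^ (q * 2) + t * x ^ q - 1 = 0 := by
      have := congrArg (fun u : E => u ^ q) hev
      simp only [sub_eq_add_neg, hadd, hneg, mul_pow, one_pow, zero_pow (by have := hQ.two_le; omega : q ≠ 0),
        ← ht2, ← ht1, ← pow_mul] at this
      rw [mul_comm q 3, mul_comm q 2]
      linear_combination this
    refine ⟨(x ^ q)⁻¹, ?_, mul_inv_cancel₀ (pow_ne_zero _ hx0)⟩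
    have hy : P.IsRoot (x ^ q)⁻¹ := by
      have hne := pow_ne_zero q hx0
      simp only [hP, IsRoot.def, eval_sub, eval_add, eval_mul, eval_pow, eval_X, eval_C, eval_one]
      rw [pow_mul, pow_mul] at hq1
      field_simp
      linear_combination -hq1
    rw [hprod] at hy
    simpa [sub_eq_zero, or_assoc] using hy

omit hQ hp hcp in
theorem dvd_d {q : ℕ} : Nat.gcd 3 (q + 1) ∣ q + 1 ∧ Nat.gcd 3 (q + 1) ∣ q ^ 2 - 1 ∧
    Nat.gcd 3 (q + 1) ∣ q ^ 2 - q + 1 ∧ Nat.gcd 3 (q + 1) ∣ 3 := by
  have h1 := Nat.gcd_dvd_right 3 (q + 1)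
  have h3 := Nat.gcd_dvd_left 3 (q + 1)
  refine ⟨h1, h1.trans ⟨q - 1, by simpa using Nat.sq_sub_sq q 1⟩, ?_, h3⟩
  rcases Nat.lt_or_ge q 2 with h | h
  · interval_cases q <;> decide
  · have e : q ^ 2 - q + 1 = (q + 1) * (q - 2) + 3 := by
      obtain ⟨k, rfl⟩ := Nat.exists_eq_add_of_le h
      rw [Nat.add_sub_cancel_left]
      have : (2 + k) ^ 2 = (2 + k + 1) * k + 2 + (2 + k) := by ring
      omega
    rw [e]
    exact dvd_add (h1.mul_right _) h3

omit hQ hp hcp in
theorem pow_mul_dvd {x : E} {m N k : ℕ} (hx : x ^ m = 1) (h : m ∣ k * N) : (x ^ N) ^ k = 1 := by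
  obtain ⟨c, hc⟩ := h
  rw [← pow_mul, mul_comm, hc, pow_mul, hx, one_pow]

/-- The four bounds on element orders. -/
theorem order_bound (hp2 : p ≠ 2) (g : G) :
    orderOf (π g) ∣ q + 1 ∨ orderOf (π g) ∣ p * (q + 1) / Nat.gcd 3 (q + 1) ∨
      orderOf (π g) ∣ (q ^ 2 - 1) / Nat.gcd 3 (q + 1) ∨
      orderOf (π g) ∣ (q ^ 2 - q + 1) / Nat.gcd 3 (q + 1) := by
  classical
  have hq := hQ.two_le
  set d := Nat.gcd 3 (q + 1) with hd
  obtain ⟨hd1, hd2, hd3, hd4⟩ := dvd_d (q := q)
  rw [← hd] at hd1 hd2 hd3 hd4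
  have hd0 : 0 < d := Nat.gcd_pos_of_pos_left _ (by norm_num)
  have h3 : 3 = d * (3 / d) := (Nat.mul_div_cancel' hd4).symm
  obtain ⟨a, b, c, habc, hann, hroot⟩ := facts p g
  obtain ⟨hadd, hinj⟩ := frob_facts (F := F) (q := q) p
  by_cases hdist : a ≠ b ∧ a ≠ c ∧ b ≠ c
  · -- distinct roots
    by_cases hall : a ^ (q + 1) = 1 ∧ b ^ (q + 1) = 1 ∧ c ^ (q + 1) = 1
    · left
      exact orderOf_dvd_of_pow_eq_one (pow_of_distinct g hdist.1 hdist.2.1 hdist.2.2 hann
        (by rw [hall.1, hall.2.1]) (by rw [hall.1, hall.2.2]))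
    obtain ⟨x, hx, hxne⟩ : ∃ x, (x = a ∨ x = b ∨ x = c) ∧ x ^ (q + 1) ≠ 1 := by
      by_contra hh
      push Not at hh
      exact hall ⟨hh a (Or.inl rfl), hh b (Or.inr (Or.inl rfl)), hh c (Or.inr (Or.inr rfl))⟩
    obtain ⟨y, hy, hxy⟩ := hroot x hx
    have hne : x ≠ y := fun e => hxne (by rw [pow_succ]; nth_rewrite 2 [e]; exact hxy)
    obtain ⟨z, hxz, hyz, heq, heq', hmem⟩ := third hne hdist.1 hdist.2.1 hdist.2.2 hx hy
    have hann' := heq.symm ▸ hann
    have habc' : x * y * z = 1 := heq'.trans habc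
    obtain ⟨w, hw, hyw⟩ := hroot y hy
    have hx0 : x ≠ 0 := fun h => by simp [h] at habc'
    have hy0 : y ≠ 0 := fun h => by simp [h] at habc'
    rcases hmem w hw with rfl | rfl | rfl
    · -- transposition
      right; right; left
      have hm : w ^ (q ^ 2 - 1) = 1 := by
        have h1 : (w ^ q) ^ q * y ^ q = 1 := by rw [← mul_pow, hxy, one_pow]
        have h2 : (w ^ q) ^ q = w := mul_right_cancel₀ (pow_ne_zero q hy0) (by rw [h1, mul_comm]; exact hyw.symm)
        refine mul_right_cancel₀ hx0 ?_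
        rw [← pow_succ, Nat.sub_add_cancel (Nat.one_le_pow _ _ (by omega)), pow_two, pow_mul, h2, one_mul]
      set N := (q ^ 2 - 1) / d with hN
      have hdN : d * N = q ^ 2 - 1 := Nat.mul_div_cancel' hd2
      have e1 : (w ^ N) ^ (q + 1) = 1 := pow_mul_dvd hm (by rw [← hdN]; exact mul_dvd_mul_right hd1 N)
      have e2 : (w ^ N) ^ 3 = 1 := pow_mul_dvd hm (by rw [← hdN]; exact mul_dvd_mul_right hd4 N)
      have hyN : y ^ N = w ^ N := by
        refine mul_left_cancel₀ (pow_ne_zero q (pow_ne_zero N hx0)) ?_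
        rw [← pow_succ, e1, ← pow_mul, mul_comm N q, pow_mul, ← mul_pow, hxy, one_pow]
      refine orderOf_dvd_of_pow_eq_one (pow_of_distinct g hne hxz hyz hann' hyN ?_)
      have h := congrArg (fun u : E => u ^ N) habc'
      simp only [mul_pow, one_pow, hyN] at h
      refine mul_left_cancel₀ (mul_ne_zero (pow_ne_zero N hx0) (pow_ne_zero N hx0)) ?_
      rw [h]; linear_combination -e2
    · exfalso
      apply hne
      refine hinj (mul_right_cancel₀ hy0 ?_)
      rw [hxy]; exact hyw.symm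
    · -- cycle of length three
      right; right; right
      have hxq : x ^ (q ^ 2) = w := by
        refine mul_left_cancel₀ (pow_ne_zero q hy0) ?_
        rw [pow_two, pow_mul, ← mul_pow, mul_comm y, hxy, one_pow]; exact hyw.symm
      have hM : x ^ (q ^ 2 - q + 1) = 1 := by
        refine mul_right_cancel₀ (pow_ne_zero q hx0) ?_
        rw [← pow_add, one_mul,
          show q ^ 2 - q + 1 + q = q ^ 2 + 1 by have : q ≤ q ^ 2 := Nat.le_self_pow two_ne_zero q; omega,
          pow_succ, hxq]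
        refine mul_right_cancel₀ hy0 ?_
        rw [hxy]; linear_combination habc'
      set N := (q ^ 2 - q + 1) / d with hN
      have hdN : d * N = q ^ 2 - q + 1 := Nat.mul_div_cancel' hd3
      have e1 : (x ^ N) ^ (q + 1) = 1 := pow_mul_dvd hM (by rw [← hdN]; exact mul_dvd_mul_right hd1 N)
      have e2 : (x ^ N) ^ 3 = 1 := pow_mul_dvd hM (by rw [← hdN]; exact mul_dvd_mul_right hd4 N)
      have hyN : y ^ N = x ^ N := by
        refine mul_left_cancel₀ (pow_ne_zero q (pow_ne_zero N hx0)) ?_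
        rw [← pow_succ, e1, ← pow_mul, mul_comm N q, pow_mul, ← mul_pow, hxy, one_pow]
      refine orderOf_dvd_of_pow_eq_one (pow_of_distinct g hne hxz hyz hann' hyN ?_)
      have h := congrArg (fun u : E => u ^ N) habc'
      simp only [mul_pow, one_pow, hyN] at h
      refine mul_left_cancel₀ (mul_ne_zero (pow_ne_zero N hx0) (pow_ne_zero N hx0)) ?_
      rw [h]; linear_combination -e2
  · -- a repeated root
    right; left
    obtain ⟨x, z, hann', habc', hroot'⟩ : ∃ x z : E,
        aeval ((mat g).map ι) ((X - C x) * (X - C x) * (X - C z)) = 0 ∧ x * x * z = 1 ∧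
        ∀ u, u = x ∨ u = z → ∃ y, (y = x ∨ y = z) ∧ u ^ q * y = 1 := by
      have hh : a = b ∨ a = c ∨ b = c := by tauto
      rcases hh with rfl | rfl | rfl
      · exact ⟨a, c, hann, habc, fun u hu => (hroot u (by tauto)).imp fun y hy => ⟨by tauto, hy.2⟩⟩
      · refine ⟨a, b, ?_, by linear_combination habc,
          fun u hu => (hroot u (by tauto)).imp fun y hy => ⟨by tauto, hy.2⟩⟩
        rw [mul_right_comm]; exact hann
      · refine ⟨b, a, ?_, by linear_combination habc,
          fun u hu => (hroot u (by tauto)).imp fun y hy => ⟨by tauto, hy.2⟩⟩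
        rw [mul_comm, ← mul_assoc]; exact hann
    have hx0 : x ≠ 0 := fun h => by simp [h] at habc'
    have hxq : x ^ (q + 1) = 1 := by
      obtain ⟨y, hy, hxy⟩ := hroot' x (Or.inl rfl)
      rcases hy with hy | hy
      · rw [hy] at hxy; rw [pow_succ, hxy]
      rw [hy] at hxy
      obtain ⟨w, hw, hzw⟩ := hroot' z (Or.inr rfl)
      have hz0 : z ≠ 0 := fun h => by simp [h] at habc'
      rcases hw with hw | hw <;> rw [hw] at hzw
      · have h1 : x ^ q * x ^ q * z ^ q = 1 := by rw [← mul_pow, ← mul_pow, habc', one_pow]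
        have e : x ^ q * x ^ q = x := by
          refine mul_right_cancel₀ (pow_ne_zero q hz0) ?_
          rw [h1, mul_comm]; exact hzw.symm
        have e' : (x ^ q * z) * (x ^ q * z) = 1 := by rw [hxy, one_mul]
        have e'' : x * z * z = 1 := by
          have e2 : x ^ q * x ^ q * (z * z) = 1 := by linear_combination e'
          rw [e] at e2; linear_combination e2
        have h3 : x = z := by
          refine mul_left_cancel₀ (mul_ne_zero hx0 hz0) ?_
          linear_combination habc' - e''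
        rw [← h3] at hxy
        rw [pow_succ, hxy]
      · have h : x = z := hinj (mul_right_cancel₀ hz0 (hxy.trans hzw.symm))
        rw [← h] at hxy
        rw [pow_succ, hxy]
    haveI : CharP E p := charP_of_injective_ringHom (ι).injective p
    haveI : CharP E[X] p := inferInstance
    have hp3 : 3 ≤ p := by have := hp.out.two_le; omega
    set A := (mat g).map ι with hA
    have hpk : ∀ u : E, (X - C u) ^ p = X ^ p - C (u ^ p) := fun u => by
      rw [sub_pow_char, map_pow]
    have hk : p * (q + 1) / d = p * ((q + 1) / d) := Nat.mul_div_assoc p hd1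
    set k := (q + 1) / d with hkdef
    have hdk : d * k = q + 1 := Nat.mul_div_cancel' hd1
    have hx3 : ((x ^ p) ^ k) ^ 3 = 1 := by
      refine pow_mul_dvd (m := q + 1) (by rw [← pow_mul, mul_comm, pow_mul, hxq, one_pow]) ?_
      rw [← hdk]; exact mul_dvd_mul_right hd4 k
    rw [hk]
    apply orderOf_dvd_of_pow_eq_one
    by_cases hxz : x = z
    · subst hxz
      refine proj_pow_eq_one g (s := (x ^ p) ^ k) (aeval_scalar hann' ?_)
      refine dvd_trans ?_ (show X ^ p - C (x ^ p) ∣ X ^ (p * k) - C ((x ^ p) ^ k) by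
        rw [pow_mul, map_pow C (x ^ p)]; exact sub_dvd_pow_sub_pow _ _ k)
      rw [← hpk, show (X - C x) * (X - C x) * (X - C x) = (X - C x) ^ 3 by ring]
      exact pow_dvd_pow _ hp3
    · refine proj_pow_eq_one g (s := (x ^ p) ^ k) (aeval_scalar hann' ?_)
      have hz : (z ^ p) ^ k = (x ^ p) ^ k := by
        have h := congrArg (fun u : E => (u ^ p) ^ k) habc'
        simp only [mul_pow, one_pow] at h
        refine mul_left_cancel₀ (mul_ne_zero (pow_ne_zero k (pow_ne_zero p hx0)) (pow_ne_zero k (pow_ne_zero p hx0))) ?_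
        rw [h]; linear_combination -hx3
      refine IsCoprime.mul_dvd (IsCoprime.mul_left (coprime_sub hxz) (coprime_sub hxz)) ?_ ?_
      · refine dvd_trans (dvd_trans (dvd_of_eq (pow_two (X - C x)).symm) (pow_dvd_pow _ (by omega : 2 ≤ p))) ?_
        rw [hpk, pow_mul, map_pow C (x ^ p)]
        exact sub_dvd_pow_sub_pow _ _ k
      · rw [dvd_iff_isRoot]; simp [pow_mul, hz]

/-- A primitive root of unity of order prime to the characteristic. -/
theorem exists_root {M : ℕ} (hM : ¬ p ∣ M) : ∃ x : E, IsPrimitiveRoot x M := by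
  haveI : CharP E p := charP_of_injective_ringHom (ι).injective p
  haveI : NeZero (M : E) := ⟨fun h => hM ((CharP.cast_eq_zero_iff E p M).1 h)⟩
  have hMp : 0 < M := Nat.pos_of_ne_zero (by rintro rfl; exact hM (dvd_zero p))
  obtain ⟨x, hx⟩ := IsAlgClosed.exists_root (cyclotomic M E)
    (by rw [degree_cyclotomic]; exact_mod_cast (Nat.totient_pos.2 hMp).ne')
  exact ⟨x, isRoot_cyclotomic_iff.1 hx⟩

theorem mem_range_of_fix {u : E} (h : u ^ (q ^ 2) = u) : ∃ a : F, ι a = u := by
  classical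
  by_contra hne
  push Not at hne
  have hc : Fintype.card F = q ^ 2 := by rw [← Nat.card_eq_fintype_card, hQ.card]
  have hq2 : 1 < q ^ 2 := Nat.one_lt_pow two_ne_zero hQ.two_le
  set P : E[X] := X ^ (q ^ 2) - X with hP
  have hP0 : P ≠ 0 := FiniteField.X_pow_card_sub_X_ne_zero E hq2
  have hsub : insert u (Finset.univ.image ι) ⊆ P.roots.toFinset := by
    intro x hx
    rw [Multiset.mem_toFinset, mem_roots hP0]
    rcases Finset.mem_insert.1 hx with rfl | hx
    · simp [hP, h]
    · obtain ⟨a, -, rfl⟩ := Finset.mem_image.1 hx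
      simp [hP, ← map_pow, ← hc, FiniteField.pow_card]
  have h1 := (Finset.card_le_card hsub).trans ((Multiset.toFinset_card_le _).trans (card_roots' P))
  rw [Finset.card_insert_of_notMem (by simpa using hne), Finset.card_image_of_injective _ (ι).injective,
    Finset.card_univ, hc, FiniteField.X_pow_card_sub_X_natDegree_eq E hq2] at h1
  omega

/-- An element with prescribed eigenvalues. -/
theorem exists_eigen {x y z : E} (hxyz : x * y * z = 1) (hx1 : x ≠ 1) (hy1 : y ≠ 1) (hz1 : z ≠ 1)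
    (hfix : (x + y + z) ^ (q ^ 2) = x + y + z) (hconj : (x + y + z) ^ q = x * y + y * z + z * x) :
    ∃ g : G, ∀ j : ℕ, π g ^ j = 1 → y ^ j = x ^ j ∧ z ^ j = x ^ j := by
  obtain ⟨T, hT⟩ := mem_range_of_fix p hfix
  have hσ : ι (σ T) = x * y + y * z + z * x := by rw [map_qb, hT, hconj]
  have hne : σ T ≠ T := by
    intro e
    rw [e, hT] at hσ
    have : (1 - x) * (1 - y) * (1 - z) = 0 := by linear_combination -hxyz - hσ
    rcases mul_eq_zero.1 this with h | h
    · rcases mul_eq_zero.1 h with h | h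
      · exact hx1 (sub_eq_zero.1 h).symm
      · exact hy1 (sub_eq_zero.1 h).symm
    · exact hz1 (sub_eq_zero.1 h).symm
  obtain ⟨g, hg⟩ := exists_trace_elem hne
  refine ⟨g, fun j hj => ?_⟩
  obtain ⟨s, hs⟩ := root_pow g hj
  rw [hg, hT, hσ] at hs
  have hxs := hs x (by linear_combination hxyz)
  exact ⟨(hs y (by linear_combination hxyz)).trans hxs.symm, (hs z (by linear_combination hxyz)).trans hxs.symm⟩

end Cfsg.Agent.U3Spectrum
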