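import Mathlib
import Cfsg.Prelude.Def_Classical

/-! Element orders of `PSp(4,3)`. -/

set_option autoImplicit false
set_option maxRecDepth 20000
set_option linter.unusedTactic false

namespace Cfsg.Agent.Recog.PSpFourThreeSpectrum

abbrev Z3 := ZMod 3
abbrev J4 := Fin 2 ⊕ Fin 2
abbrev M4 := Matrix J4 J4 Z3

/-- `X ^ n` modulo `X ^ 4 + c X ^ 3 + s X ^ 2 + c X + 1`. -/
def red (c s : Z3) : ℕ → Z3 × Z3 × Z3 × Z3
  | 0 => (0, 0, 0, 1)
  | n + 1 =>
    let r := red c s n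
    (r.2.1 - r.1 * c, r.2.2.1 - r.1 * s, r.2.2.2 - r.1 * c, -r.1)

theorem red_cases : ∀ c s : Z3, ∃ n ∈ ({5, 9, 12} : Finset ℕ),
    red c s n = (0, 0, 0, 1) ∨ red c s n = (0, 0, 0, -1) := by
  decide +kernel

theorem pow_eq_red {A : M4} {c s : Z3} (h : A ^ 4 = -(c • A ^ 3 + s • A ^ 2 + c • A + 1)) (n : ℕ) :
    A ^ n = (red c s n).1 • A ^ 3 + (red c s n).2.1 • A ^ 2 + (red c s n).2.2.1 • A +
      (red c s n).2.2.2 • (1 : M4) := by
  induction n with
  | zero => simp [red]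
  | succ n ih =>
    rw [pow_succ, ih, add_mul, add_mul, add_mul, smul_mul_assoc, smul_mul_assoc, smul_mul_assoc, smul_mul_assoc,
      ← pow_succ A 3, ← pow_succ A 2, ← pow_two A, one_mul, h]
    simp only [red]
    module

theorem pow_cases {A : M4} (hA : A ∈ Matrix.symplecticGroup (Fin 2) Z3) :
    ∃ n ∈ ({5, 9, 12} : Finset ℕ), A ^ n = 1 ∨ A ^ n = -1 := by
  have hd : A.charpoly.natDegree = 4 := by
    rw [Matrix.charpoly_natDegree_eq_dim]; rfl
  have h4 : A.charpoly.coeff 4 = 1 := by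
    have := A.charpoly_monic
    rw [Polynomial.Monic, Polynomial.leadingCoeff, hd] at this
    exact this
  have h0 : A.charpoly.coeff 0 = 1 := by
    have := A.det_eq_sign_charpoly_coeff
    rw [SymplecticGroup.det_eq_one hA] at this
    have h' : ((-1 : Z3)) ^ Fintype.card J4 = 1 := by decide +kernel
    rw [h', one_mul] at this
    exact this.symm
  set g : Matrix.symplecticGroup (Fin 2) Z3 := ⟨A, hA⟩
  let u : M4ˣ := ⟨A, ((g⁻¹ : Matrix.symplecticGroup (Fin 2) Z3) : M4), congrArg Subtype.val (mul_inv_cancel g),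
    congrArg Subtype.val (inv_mul_cancel g)⟩
  have hJ : (Matrix.J (Fin 2) Z3) * (Matrix.J (Fin 2) Z3) = -1 := Matrix.J_squared (Fin 2) Z3
  have hcp : ((u⁻¹ : M4ˣ) : M4).charpoly = A.charpoly := by
    show ((g⁻¹ : Matrix.symplecticGroup (Fin 2) Z3) : M4).charpoly = _
    rw [SymplecticGroup.coe_inv, ← Matrix.charpoly_transpose A]
    rw [Matrix.charpoly_mul_comm, ← mul_assoc, mul_neg, hJ, neg_neg, one_mul]
  have e1 := A.aeval_self_charpoly
  have e2 := ((u⁻¹ : M4ˣ) : M4).aeval_self_charpoly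
  rw [hcp] at e2
  rw [Polynomial.aeval_eq_sum_range, hd] at e1 e2
  simp only [Finset.sum_range_succ, Finset.sum_range_zero, zero_add, h0, h4, one_smul, pow_zero, pow_one] at e1 e2
  generalize A.charpoly.coeff 1 = c₁, A.charpoly.coeff 2 = c₂, A.charpoly.coeff 3 = c₃ at e1 e2
  have hu : A * ((u⁻¹ : M4ˣ) : M4) = 1 := u.mul_inv
  generalize ((u⁻¹ : M4ˣ) : M4) = B at e2 hu
  have e3 : A ^ 4 + c₁ • A ^ 3 + c₂ • A ^ 2 + c₃ • A + 1 = 0 := by
    have p2 : A ^ 2 * B ^ 2 = 1 := by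
      rw [pow_two, pow_two, mul_assoc, ← mul_assoc A B B, hu, one_mul, hu]
    have p3 : A ^ 3 * B ^ 3 = 1 := by
      rw [pow_succ A 2, pow_succ' B 2, mul_assoc, ← mul_assoc A B, hu, one_mul, p2]
    have p4 : A ^ 4 * B ^ 4 = 1 := by
      rw [pow_succ A 3, pow_succ' B 3, mul_assoc, ← mul_assoc A B, hu, one_mul, p3]
    have q1 : A ^ 4 * B = A ^ 3 := by rw [pow_succ A 3, mul_assoc, hu, mul_one]
    have q2 : A ^ 4 * B ^ 2 = A ^ 2 := by
      rw [show A ^ 4 = A ^ 2 * A ^ 2 by rw [← pow_add], mul_assoc, p2, mul_one]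
    have q3 : A ^ 4 * B ^ 3 = A := by rw [pow_succ' A 3, mul_assoc, p3, mul_one]
    have := congrArg (A ^ 4 * ·) e2
    simpa only [mul_add, mul_smul_comm, mul_one, q1, q2, q3, p4, mul_zero] using this
  by_cases hc : c₁ = c₃
  · subst hc
    have h := pow_eq_red (A := A) (c := c₁) (s := c₂) (by
      rw [eq_neg_iff_add_eq_zero, ← e1]; module)
    obtain ⟨n, hn, e | e⟩ := red_cases c₁ c₂
    · exact ⟨n, hn, Or.inl (by rw [h n, e]; simp)⟩
    · exact ⟨n, hn, Or.inr (by rw [h n, e]; simp)⟩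
  · refine ⟨12, by decide, Or.inl ?_⟩
    have hsub : (c₁ - c₃) • (A ^ 3 - A) = (0 : M4) := by
      rw [show (0 : M4) = (A ^ 4 + c₁ • A ^ 3 + c₂ • A ^ 2 + c₃ • A + 1) -
        (1 + c₁ • A + c₂ • A ^ 2 + c₃ • A ^ 3 + A ^ 4) by rw [e1, e3, sub_self]]
      module
    have h3 : A ^ 3 = A := sub_eq_zero.1 ((smul_eq_zero.1 hsub).resolve_left (sub_ne_zero.2 hc))
    have h2 : A ^ 2 = 1 := by
      calc A ^ 2 = A ^ 3 * B := by rw [pow_succ A 2, mul_assoc, hu, mul_one]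
        _ = 1 := by rw [h3, hu]
    rw [show 12 = 2 * 6 from rfl, pow_mul, h2, one_pow]

abbrev G4 := Matrix.symplecticGroup (Fin 2) Z3

theorem neg_central (g : G4) (h : (g : M4) = -1) : g ∈ Subgroup.center G4 :=
  Subgroup.mem_center_iff.2 fun x => Subtype.ext (by
    rw [Submonoid.coe_mul, Submonoid.coe_mul, h, neg_mul, one_mul, mul_neg, mul_one])

theorem orderOf_mem (q : Cfsg.PSp 2 Z3) : orderOf q ∈ ({1, 2, 3, 4, 5, 6, 9, 12} : Set ℕ) := by
  obtain ⟨g, rfl⟩ := QuotientGroup.mk'_surjective _ q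
  obtain ⟨n, hn, e⟩ := pow_cases g.2
  have h : (QuotientGroup.mk' (Subgroup.center G4) g) ^ n = 1 := by
    rw [← map_pow, QuotientGroup.mk'_apply, QuotientGroup.eq_one_iff]
    rcases e with e | e
    · rw [show g ^ n = 1 from Subtype.ext ((SubmonoidClass.coe_pow g n).trans e)]
      exact Subgroup.one_mem _
    · exact neg_central _ ((SubmonoidClass.coe_pow g n).trans e)
  have hd := orderOf_dvd_of_pow_eq_one h
  have h' := Nat.mem_divisors.2 ⟨hd, by intro h0; subst h0; simp at hn⟩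
  simp only [Finset.mem_insert, Finset.mem_singleton] at hn
  revert h'
  generalize orderOf (QuotientGroup.mk' (Subgroup.center G4) g) = k
  intro h'
  have hlt := Nat.divisor_le h'
  rcases hn with rfl | rfl | rfl <;> interval_cases k <;> first | (simp; done) | exact absurd h' (by decide)

/-- A matrix given on `Fin 4`, reindexed to `Fin 2 ⊕ Fin 2`. -/
def toJ (M : Matrix (Fin 4) (Fin 4) Z3) : M4 :=
  Matrix.of fun i j => M (finSumFinEquiv i) (finSumFinEquiv j)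

def w5 : G4 := ⟨toJ !![0, 0, 0, 1; 2, 0, 0, 0; 1, 2, 0, 1; 0, 0, 2, 2], by
  rw [SymplecticGroup.mem_iff]; decide +kernel⟩
def w9 : G4 := ⟨toJ !![1, 0, 0, 1; 1, 0, 0, 0; 0, 2, 0, 0; 0, 1, 1, 0], by
  rw [SymplecticGroup.mem_iff]; decide +kernel⟩
def w12 : G4 := ⟨toJ !![0, 0, 1, 0; 0, 1, 0, 1; 2, 0, 0, 0; 0, 0, 0, 1], by
  rw [SymplecticGroup.mem_iff]; decide +kernel⟩

theorem pow_val (g : G4) (n : ℕ) : ((g ^ n : G4) : M4) = (g : M4) ^ n := SubmonoidClass.coe_pow g n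

theorem facts :
    ((w5 : M4) ^ 5 = 1 ∨ (w5 : M4) ^ 5 = -1) ∧ ((w9 : M4) ^ 9 = 1 ∨ (w9 : M4) ^ 9 = -1) ∧
    ((w12 : M4) ^ 12 = 1 ∨ (w12 : M4) ^ 12 = -1) ∧
    (w5 : M4) ^ 1 * w9 ≠ (w9 : M4) * (w5 : M4) ^ 1 ∧ (w9 : M4) ^ 3 * w5 ≠ (w5 : M4) * (w9 : M4) ^ 3 ∧
    (w12 : M4) ^ 4 * w5 ≠ (w5 : M4) * (w12 : M4) ^ 4 ∧ (w12 : M4) ^ 6 * w5 ≠ (w5 : M4) * (w12 : M4) ^ 6 := by
  simp only [pow_succ, pow_zero, one_mul]
  decide +kernel

theorem mk_pow_eq_one {g : G4} {n : ℕ} (h : (g : M4) ^ n = 1 ∨ (g : M4) ^ n = -1) :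
    (QuotientGroup.mk' (Subgroup.center G4) g) ^ n = 1 := by
  rw [← map_pow, QuotientGroup.mk'_apply, QuotientGroup.eq_one_iff]
  rcases h with e | e
  · rw [show g ^ n = 1 from Subtype.ext ((pow_val g n).trans e)]; exact Subgroup.one_mem _
  · exact neg_central _ ((pow_val g n).trans e)

theorem mk_pow_ne_one {g x : G4} {n : ℕ} (h : (g : M4) ^ n * x ≠ (x : M4) * (g : M4) ^ n) :
    (QuotientGroup.mk' (Subgroup.center G4) g) ^ n ≠ 1 := by
  rw [← map_pow, QuotientGroup.mk'_apply, Ne, QuotientGroup.eq_one_iff]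
  intro hc
  have := congrArg Subtype.val (Subgroup.mem_center_iff.1 hc x)
  simp only [Submonoid.coe_mul, pow_val] at this
  exact h this.symm

theorem spectrum : Set.range (orderOf : Cfsg.PSp 2 Z3 → ℕ) = {1, 2, 3, 4, 5, 6, 9, 12} := by
  refine Set.Subset.antisymm (by rintro _ ⟨q, rfl⟩; exact orderOf_mem q) ?_
  obtain ⟨a5, a9, a12, b5, b9, b124, b126⟩ := facts
  have o5 : orderOf (QuotientGroup.mk' (Subgroup.center G4) w5) = 5 := by
    have : Fact (Nat.Prime 5) := ⟨by norm_num⟩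
    exact orderOf_eq_prime (mk_pow_eq_one a5) (by simpa using mk_pow_ne_one b5)
  have o9 : orderOf (QuotientGroup.mk' (Subgroup.center G4) w9) = 3 ^ (1 + 1) := by
    have : Fact (Nat.Prime 3) := ⟨by norm_num⟩
    exact orderOf_eq_prime_pow (mk_pow_ne_one (n := 3 ^ 1) b9) (mk_pow_eq_one a9)
  have o12 : orderOf (QuotientGroup.mk' (Subgroup.center G4) w12) = 12 := by
    have hd := orderOf_dvd_of_pow_eq_one (mk_pow_eq_one a12)
    have n4 := fun h => mk_pow_ne_one b124 (orderOf_dvd_iff_pow_eq_one.1 h)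
    have n6 := fun h => mk_pow_ne_one b126 (orderOf_dvd_iff_pow_eq_one.1 h)
    have hm := Nat.mem_divisors.2 ⟨hd, by norm_num⟩
    revert hm n4 n6
    generalize orderOf (QuotientGroup.mk' (Subgroup.center G4) w12) = k
    intro n4 n6 hm
    have := Nat.divisor_le hm
    interval_cases k <;> first
      | rfl
      | exact absurd hm (by decide)
      | (norm_num at n4; done)
      | (norm_num at n6; done)

  intro k hk
  simp only [Set.mem_insert_iff, Set.mem_singleton_iff] at hk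
  rcases hk with rfl | rfl | rfl | rfl | rfl | rfl | rfl | rfl
  · exact ⟨1, orderOf_one⟩
  · exact ⟨_ ^ 6, by rw [orderOf_pow, o12]; rfl⟩
  · exact ⟨_ ^ 4, by rw [orderOf_pow, o12]; rfl⟩
  · exact ⟨_ ^ 3, by rw [orderOf_pow, o12]; rfl⟩
  · exact ⟨_, o5⟩
  · exact ⟨_ ^ 2, by rw [orderOf_pow, o12]; rfl⟩
  · exact ⟨_, o9⟩
  · exact ⟨_, o12⟩

theorem map_center {G H : Type*} [Group G] [Group H] (e : G ≃* H) :
    (Subgroup.center G).map (e : G →* H) = Subgroup.center H := by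
  ext x
  rw [Subgroup.mem_map, Subgroup.mem_center_iff]
  constructor
  · rintro ⟨z, hz, rfl⟩ y
    simpa using congrArg e (Subgroup.mem_center_iff.1 hz (e.symm y))
  · intro h
    exact ⟨e.symm x, Subgroup.mem_center_iff.2 fun y => e.injective (by simpa using h (e y)), by simp⟩

theorem map_mem {R S : Type*} [CommRing R] [CommRing S] (f : R →+* S) {A : Matrix J4 J4 R}
    (hA : A ∈ Matrix.symplecticGroup (Fin 2) R) : A.map f ∈ Matrix.symplecticGroup (Fin 2) S := by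
  rw [SymplecticGroup.mem_iff] at hA ⊢
  have hJ : (Matrix.J (Fin 2) R).map f = Matrix.J (Fin 2) S := by
    ext (i | i) (j | j) <;> simp [Matrix.J, Matrix.map_apply, Matrix.fromBlocks, Matrix.one_apply, apply_ite f]
  rw [← hJ, ← Matrix.map_mul, ← Matrix.transpose_map, ← Matrix.map_mul, hA]

theorem psp_spectrum {F : Type*} [Field F] [Fintype F] (hF : Fintype.card F = 3) :
    Set.range (orderOf : Cfsg.PSp 2 F → ℕ) = {1, 2, 3, 4, 5, 6, 9, 12} := by
  have : Fact (Nat.Prime 3) := ⟨Nat.prime_three⟩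
  let e : Z3 ≃+* F := ZMod.ringEquivOfPrime F Nat.prime_three hF
  let E : G4 ≃* Matrix.symplecticGroup (Fin 2) F :=
    { toFun := fun g => ⟨(g : M4).map e, map_mem (e : Z3 →+* F) g.2⟩
      invFun := fun g => ⟨(g : Matrix J4 J4 F).map e.symm, map_mem (e.symm : F →+* Z3) g.2⟩
      left_inv := fun g => by ext i j; simp
      right_inv := fun g => by ext i j; simp
      map_mul' := fun g h => Subtype.ext (Matrix.map_mul (f := (e : Z3 →+* F))) }
  let P : Cfsg.PSp 2 Z3 ≃* Cfsg.PSp 2 F := QuotientGroup.congr _ _ E (map_center E)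
  rw [← spectrum]
  ext k
  exact ⟨fun ⟨q, h⟩ => ⟨P.symm q, (MulEquiv.orderOf_eq P.symm q).trans h⟩,
    fun ⟨q, h⟩ => ⟨P q, (MulEquiv.orderOf_eq P q).trans h⟩⟩

end Cfsg.Agent.Recog.PSpFourThreeSpectrum
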