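import Mathlib

/-! Which elements of prime order fix a partition into blocks of equal size. -/

set_option autoImplicit false

namespace Cfsg.Agent.Recog.PartitionFix

open Equiv Equiv.Perm Finset

variable {α : Type*} [Fintype α] [DecidableEq α]

/-- The number of fixed points. -/
def nfix (σ : Perm α) : ℕ := σ.supportᶜ.card

theorem nfix_eq (σ : Perm α) : nfix σ = (univ.filter fun x => σ x = x).card := by
  unfold nfix
  congr 1
  ext x
  simp

theorem cycleType_eq {r : ℕ} (hr : r.Prime) {σ : Perm α} (h : σ ^ r = 1) :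
    σ.cycleType = Multiset.replicate (Multiset.card σ.cycleType) r ∧
      Multiset.card σ.cycleType * r + nfix σ = Fintype.card α := by
  have h1 : σ.cycleType = Multiset.replicate (Multiset.card σ.cycleType) r := by
    refine Multiset.eq_replicate.mpr ⟨rfl, fun k hk => ?_⟩
    have hd : k ∣ r := (Dvd.dvd.trans (dvd_of_mem_cycleType hk) (orderOf_dvd_of_pow_eq_one h))
    rcases (Nat.dvd_prime hr).mp hd with rfl | rfl
    · exact absurd (two_le_of_mem_cycleType hk) (by omega)
    · rfl
  refine ⟨h1, ?_⟩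
  have h2 := sum_cycleType σ
  have h3 : σ.cycleType.sum = Multiset.card σ.cycleType * r := by
    conv_lhs => rw [h1]
    rw [Multiset.sum_replicate, smul_eq_mul]
  unfold nfix
  rw [← h3, h2, Finset.card_add_card_compl]

theorem exists_perm {r k : ℕ} (hr : r.Prime) (hk : k * r ≤ Fintype.card α) :
    ∃ σ : Perm α, σ ^ r = 1 ∧ nfix σ + k * r = Fintype.card α := by
  obtain ⟨σ, hσ⟩ := (exists_with_cycleType_iff α (m := Multiset.replicate k r)).2
    ⟨by rw [Multiset.sum_replicate, smul_eq_mul]; exact hk,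
      fun a ha => by rw [Multiset.eq_of_mem_replicate ha]; exact hr.two_le⟩
  have h : σ ^ r = 1 := by
    rw [← orderOf_dvd_iff_pow_eq_one, ← lcm_cycleType, hσ, Multiset.lcm_dvd]
    intro a ha
    rw [Multiset.eq_of_mem_replicate ha]
  refine ⟨σ, h, ?_⟩
  have h2 := sum_cycleType σ
  rw [hσ, Multiset.sum_replicate, smul_eq_mul] at h2
  rw [nfix, add_comm, h2, Finset.card_add_card_compl]

theorem isConj_of_nfix {r : ℕ} (hr : r.Prime) {σ τ : Perm α} (hs : σ ^ r = 1) (ht : τ ^ r = 1)
    (h : nfix σ = nfix τ) : IsConj σ τ := by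
  obtain ⟨a1, a2⟩ := cycleType_eq hr hs
  obtain ⟨b1, b2⟩ := cycleType_eq hr ht
  rw [isConj_iff_cycleType_eq, a1, b1]
  congr 1
  exact Nat.eq_of_mul_eq_mul_right hr.pos (by omega)

/-- From an invariant partition to the arithmetic of its fixed blocks. -/
theorem necessary {a b r : ℕ} (ha : 0 < a) (hr : r.Prime) (σ : Perm α) (hσ : σ ^ r = 1)
    (f : α → Fin b) (hf : ∀ j, (univ.filter fun x => f x = j).card = a)
    (π : Perm (Fin b)) (hπ : ∀ x, f (σ x) = π (f x)) :
    ∃ j, j ≤ b ∧ j ≡ b [MOD r] ∧ j * (a % r) ≤ nfix σ ∧ nfix σ ≤ j * a := by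
  haveI : Fact r.Prime := ⟨hr⟩
  have hne : ∀ j, ∃ x, f x = j := fun j => by
    obtain ⟨x, hx⟩ := Finset.card_pos.mp (show 0 < (univ.filter fun x => f x = j).card by rw [hf]; exact ha)
    exact ⟨x, (Finset.mem_filter.mp hx).2⟩
  have hpow : ∀ (n : ℕ) x, f ((σ ^ n) x) = (π ^ n) (f x) := by
    intro n
    induction n with
    | zero => intro x; rfl
    | succ n ih => intro x; rw [pow_succ', pow_succ', Perm.mul_apply, Perm.mul_apply, hπ, ih]
  have hπr : π ^ r = 1 := by
    ext j
    obtain ⟨x, rfl⟩ := hne j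
    rw [← hpow, hσ]
    rfl
  set F := univ.filter fun j => π j = j with hF
  have hsum : nfix σ = ∑ j ∈ F, ((univ.filter fun x => σ x = x).filter fun x => f x = j).card := by
    rw [nfix_eq]
    refine Finset.card_eq_sum_card_fiberwise fun x hx => ?_
    simp only [Finset.mem_coe, Finset.mem_filter, mem_univ, true_and] at hx
    simp [hF, ← hπ x, hx]
  have hlow : ∀ j ∈ F, a % r ≤ ((univ.filter fun x => σ x = x).filter fun x => f x = j).card := by
    intro j hj
    rw [hF, Finset.mem_filter] at hj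
    have hinv : ∀ x, f x = j ↔ f (σ x) = j := fun x => by
      rw [hπ]
      constructor
      · intro h; rw [h]; exact hj.2
      · intro h; exact π.injective (h.trans hj.2.symm)
    let ρ : Perm {x // f x = j} := σ.subtypePerm fun x => (hinv x).symm
    have h1 := card_compl_support_modEq (σ := ρ) (p := r) (n := 1)
      (by rw [pow_one]; simp only [ρ, subtypePerm_pow]; ext x; simp [hσ])
    rw [Fintype.card_subtype, hf j] at h1
    have h2 : ρ.supportᶜ.card =
        ((univ.filter fun x => σ x = x).filter fun x => f x = j).card := by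
      refine Finset.card_bij (fun x _ => x.1) ?_ (fun x _ y _ h => Subtype.ext h) ?_
      · intro x hx
        simp [Subtype.ext_iff] at hx
        have hx' : σ x.1 = x.1 := hx
        simp [hx', x.2]
      · intro x hx
        simp at hx
        exact ⟨⟨x, hx.2⟩, by simp [ρ, Subtype.ext_iff, hx.1], rfl⟩
    rw [← h2]
    calc a % r = ρ.supportᶜ.card % r := h1.symm
      _ ≤ _ := Nat.mod_le _ _
  refine ⟨F.card, ?_, ?_, ?_, ?_⟩
  · exact (Finset.card_le_univ F).trans_eq (Fintype.card_fin b)
  · have := card_compl_support_modEq (σ := π) (p := r) (n := 1) (by rw [pow_one]; exact hπr)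
    rw [Fintype.card_fin] at this
    have e : π.supportᶜ = F := by ext j; simp [hF]
    rwa [e] at this
  · rw [hsum]
    exact le_of_eq_of_le (by rw [smul_eq_mul]) (Finset.card_nsmul_le_sum F _ _ hlow)
  · rw [hsum]
    refine le_of_le_of_eq (Finset.sum_le_card_nsmul F _ a fun j _ => ?_) (by rw [smul_eq_mul])
    rw [← hf j]
    exact Finset.card_le_card (Finset.filter_subset_filter _ (Finset.filter_subset _ _))

theorem split_sum (t : ℕ) : ∀ j Y : ℕ, Y ≤ j * t →
    ∃ y : Fin j → ℕ, (∀ i, y i ≤ t) ∧ ∑ i, y i = Y := by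
  intro j
  induction j with
  | zero => intro Y hY; exact ⟨fun i => i.elim0, fun i => i.elim0, by simp; omega⟩
  | succ j ih =>
    intro Y hY
    obtain ⟨y, hy1, hy2⟩ := ih (Y - min t Y) (by rw [Nat.succ_mul] at hY; omega)
    refine ⟨Fin.cons (min t Y) y, Fin.cases (by simp) (fun i => by simpa using hy1 i), ?_⟩
    rw [Fin.sum_cons, hy2]
    omega

/-- A model permutation with a prescribed number of fixed points that fixes a partition. -/
theorem model {a b r j s : ℕ} (hr : r.Prime) (hjb : j ≤ b) (hj : j ≡ b [MOD r])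
    (hlo : j * (a % r) ≤ s) (hhi : s ≤ j * a) (hs : s ≡ a * b [MOD r]) :
    ∃ (σ : Perm (Fin b × Fin a)) (π : Perm (Fin b)), σ ^ r = 1 ∧ nfix σ = s ∧ ∀ x, (σ x).1 = π x.1 := by
  classical
  haveI : Fact r.Prime := ⟨hr⟩
  obtain ⟨c, hc⟩ := (Nat.modEq_iff_dvd' hjb).mp hj
  obtain ⟨π, hπ, hπc⟩ := exists_perm (α := Fin b) hr (k := c) (by rw [Fintype.card_fin, mul_comm]; omega)
  rw [Fintype.card_fin, mul_comm c r] at hπc
  have hπj : nfix π = j := by omega
  -- distribute the fixed points
  set al := a % r with hal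
  set t := a / r with ht
  have hat : al + r * t = a := Nat.mod_add_div a r
  have hmod : s ≡ j * al [MOD r] :=
    hs.trans ((Nat.ModEq.mul (Nat.mod_modEq a r).symm hj.symm).trans (by rw [mul_comm]))
  obtain ⟨Y, hY⟩ := (Nat.modEq_iff_dvd' hlo).mp hmod.symm
  have hYle : Y ≤ j * t := by
    by_contra hlt
    have h2 : r * (j * t + 1) ≤ r * Y := Nat.mul_le_mul_left r (by omega)
    have h4 : j * a = j * al + r * (j * t) := by rw [← hat]; ring
    rw [Nat.mul_add, mul_one] at h2
    have := hr.pos
    omega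
  obtain ⟨y, hy1, hy2⟩ := split_sum t j Y hYle
  let e : {i : Fin b // π i = i} ≃ Fin j := Fintype.equivFinOfCardEq (by
    rw [Fintype.card_subtype, ← nfix_eq, hπj])
  have hτ : ∀ i : {i : Fin b // π i = i}, ∃ τ : Perm (Fin a), τ ^ r = 1 ∧ nfix τ = al + r * y (e i) := by
    intro i
    have := hy1 (e i)
    obtain ⟨τ, h1, h2⟩ := exists_perm (α := Fin a) hr (k := t - y (e i)) (by
      rw [Fintype.card_fin]
      calc (t - y (e i)) * r ≤ t * r := Nat.mul_le_mul_right r (by omega)
        _ ≤ a := by rw [mul_comm]; omega)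
    refine ⟨τ, h1, ?_⟩
    rw [Fintype.card_fin, Nat.sub_mul, mul_comm t r, mul_comm (y (e i)) r] at h2
    have : r * y (e i) ≤ r * t := Nat.mul_le_mul_left r this
    omega
  choose τ0 hτ1 hτ2 using hτ
  let τ : Fin b → Perm (Fin a) := fun i => if h : π i = i then τ0 ⟨i, h⟩ else 1
  let σ : Perm (Fin b × Fin a) :=
    { toFun := fun p => (π p.1, τ p.1 p.2)
      invFun := fun p => (π⁻¹ p.1, (τ (π⁻¹ p.1))⁻¹ p.2)
      left_inv := fun p => by simp
      right_inv := fun p => by simp }
  have hσa : ∀ i x, σ (i, x) = (π i, τ i x) := fun i x => rfl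
  refine ⟨σ, π, ?_, ?_, fun x => rfl⟩
  · have hn : ∀ (n : ℕ) i x, (σ ^ n) (i, x) = ((π ^ n) i, (τ i ^ n) x) := by
      intro n
      induction n with
      | zero => intro i x; rfl
      | succ n ih =>
        intro i x
        rw [pow_succ', Perm.mul_apply, ih, hσa, pow_succ' π, pow_succ' (τ i), Perm.mul_apply, Perm.mul_apply]
        congr 1
        by_cases h : π i = i
        · rw [pow_apply_eq_self_of_apply_eq_self h]
        · have h' : π ((π ^ n) i) ≠ (π ^ n) i := by
            rw [← Perm.mul_apply, ← pow_succ', pow_succ, Perm.mul_apply]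
            exact fun e => h ((π ^ n).injective e)
          simp [τ, dif_neg h, dif_neg h']
    refine Equiv.ext ?_
    rintro ⟨i, x⟩
    rw [hn, hπ]
    by_cases h : π i = i
    · simp [τ, dif_pos h, hτ1]
    · simp [τ, dif_neg h]
  · rw [nfix_eq]
    have hbij : (univ.filter fun p => σ p = p).card =
        ∑ i : {i : Fin b // π i = i}, nfix (τ0 i) := by
      simp only [nfix_eq]
      rw [← Finset.card_sigma]
      refine Finset.card_bij (fun p hp => ⟨⟨p.1, (Prod.ext_iff.mp (Finset.mem_filter.mp hp).2).1⟩, p.2⟩) ?_ ?_ ?_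
      · intro p hp
        have h2 := Prod.ext_iff.mp (Finset.mem_filter.mp hp).2
        have h1 : π p.1 = p.1 := h2.1
        simp only [Finset.mem_sigma, Finset.mem_univ, true_and, Finset.mem_filter]
        have h3 : τ p.1 p.2 = p.2 := h2.2
        simpa [τ, dif_pos h1] using h3
      · intro p hp q hq h
        simp only [Sigma.mk.injEq, Subtype.mk.injEq] at h
        exact Prod.ext h.1 (eq_of_heq h.2)
      · rintro ⟨⟨i, hi⟩, x⟩ hx
        simp only [Finset.mem_sigma, Finset.mem_univ, true_and, Finset.mem_filter] at hx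
        refine ⟨(i, x), ?_, rfl⟩
        simp only [Finset.mem_filter, Finset.mem_univ, true_and, hσa]
        exact Prod.ext hi (by simp [τ, dif_pos hi, hx])
    rw [hbij]
    simp only [hτ2]
    rw [Finset.sum_add_distrib, Finset.sum_const, Finset.card_univ, Fintype.card_congr e, Fintype.card_fin,
      smul_eq_mul, ← Finset.mul_sum, Equiv.sum_comp e y, hy2]
    omega

theorem exists_partition {a b r j : ℕ} (hr : r.Prime) (σ : Perm (Fin (a * b))) (hσ : σ ^ r = 1)
    (hjb : j ≤ b) (hj : j ≡ b [MOD r]) (hlo : j * (a % r) ≤ nfix σ) (hhi : nfix σ ≤ j * a) :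
    ∃ f : Fin (a * b) → Fin b, (∀ i : Fin b, Nat.card {x : Fin (a * b) // f x = i} = a) ∧
      ∃ π : Perm (Fin b), ∀ x, f (σ x) = π (f x) := by
  haveI : Fact r.Prime := ⟨hr⟩
  have hs : nfix σ ≡ a * b [MOD r] := by
    have := card_compl_support_modEq (σ := σ) (p := r) (n := 1) (by rw [pow_one]; exact hσ)
    rwa [Fintype.card_fin] at this
  obtain ⟨σ', π, h1, h2, h3⟩ := model hr hjb hj hlo hhi hs
  let e : Fin b × Fin a ≃ Fin (a * b) := finProdFinEquiv.trans (finCongr (mul_comm b a))
  have h1' : (e.permCongrHom σ') ^ r = 1 := by rw [← map_pow, h1, map_one]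
  have h2' : nfix (e.permCongrHom σ') = nfix σ := by
    rw [← h2, nfix_eq, nfix_eq]
    refine Finset.card_equiv e.symm fun x => ?_
    simp only [Finset.mem_filter, Finset.mem_univ, true_and]
    show e (σ' (e.symm x)) = x ↔ _
    exact e.apply_eq_iff_eq_symm_apply
  obtain ⟨g, hg⟩ := isConj_iff.mp (isConj_of_nfix hr h1' hσ h2')
  refine ⟨fun x => (e.symm (g⁻¹ x)).1, fun i => ?_, π, fun x => ?_⟩
  · refine (Nat.card_congr ?_).trans (Nat.card_fin a)
    exact
      { toFun := fun x => (e.symm (g⁻¹ x.1)).2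
        invFun := fun z => ⟨g (e (i, z)), by simp⟩
        left_inv := fun x => by
          apply Subtype.ext
          have hx := x.2
          simp only at hx
          show g (e (i, (e.symm (g⁻¹ x.1)).2)) = x.1
          obtain ⟨x, hx0⟩ := x
          simp only at hx ⊢
          subst hx
          simp
        right_inv := fun z => by simp }
  · show (e.symm (g⁻¹ (σ x))).1 = π (e.symm (g⁻¹ x)).1
    rw [← hg, Perm.mul_apply, Perm.mul_apply]
    simp [Equiv.permCongr_apply, h3]

theorem cover {a b r s : ℕ} (hr : 0 < r) (hs : s ≡ a * b [MOD r]) (hle : s ≤ a * b)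
    (h0 : b % r * (a % r) < r) (hgap : b < r ∨ (b % r + r) * (a % r) ≤ b % r * a + r) :
    ∃ j, j ≤ b ∧ j ≡ b [MOD r] ∧ j * (a % r) ≤ s ∧ s ≤ j * a := by
  set al := a % r with hal
  set j0 := b % r with hj0
  have hala : al ≤ a := Nat.mod_le a r
  have hb : j0 + r * (b / r) = b := Nat.mod_add_div b r
  have hex : ∃ c, s ≤ (j0 + r * c) * a := ⟨b / r, by rw [hb, mul_comm]; exact hle⟩
  classical
  have hc1 : Nat.find hex ≤ b / r := Nat.find_min' hex (by rw [hb, mul_comm]; exact hle)
  have hc2 := Nat.find_spec hex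
  set c := Nat.find hex with hc
  have hJ : ∀ d, (j0 + r * d) ≡ b [MOD r] := fun d => by
    rw [Nat.ModEq, Nat.add_mul_mod_self_left, hj0, Nat.mod_mod]
  refine ⟨j0 + r * c, ?_, hJ c, ?_, hc2⟩
  · have : r * c ≤ r * (b / r) := Nat.mul_le_mul_left r hc1
    omega
  · rcases Nat.eq_zero_or_pos c with h | h
    · rw [h, mul_zero, add_zero]
      have hm : s % r = j0 * al := by
        rw [hs, mul_comm a b, Nat.mul_mod, ← hj0, ← hal, Nat.mod_eq_of_lt h0]
      have := Nat.mod_le s r
      omega
    · obtain ⟨d, hd⟩ : ∃ d, c = d + 1 := ⟨c - 1, by omega⟩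
      have hlt : ¬ s ≤ (j0 + r * d) * a := Nat.find_min hex (by omega)
      push Not at hlt
      have hgap' : (j0 + r) * al ≤ j0 * a + r := by
        rcases hgap with hb' | hb'
        · exfalso
          rw [Nat.div_eq_of_lt hb'] at hc1
          omega
        · exact hb'
      have hcongr : (j0 + r * d) * a ≡ s [MOD r] := ((Nat.ModEq.mul_right a (hJ d)).trans (by rw [mul_comm])).trans hs.symm
      have hbig : (j0 + r * d) * a + r ≤ s := by
        obtain ⟨k, hk⟩ := (Nat.modEq_iff_dvd' hlt.le).mp hcongr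
        have hk0 : k ≠ 0 := fun e => by rw [e, mul_zero] at hk; omega
        have : r ≤ r * k := Nat.le_mul_of_pos_right r (by omega)
        omega
      have h5 : (r * d) * al ≤ (r * d) * a := Nat.mul_le_mul_left _ hala
      rw [hd]
      calc (j0 + r * (d + 1)) * al = (j0 + r) * al + (r * d) * al := by ring
        _ ≤ (j0 * a + r) + (r * d) * a := Nat.add_le_add hgap' h5
        _ = (j0 + r * d) * a + r := by ring
        _ ≤ s := hbig

theorem bad {a b r : ℕ} (ha : 2 ≤ a) (hr : 2 ≤ r) (hrab : r ≤ a * b)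
    (h : ¬ (r ≤ a ∧ b % r * (a % r) < r ∧ (b < r ∨ (b % r + r) * (a % r) ≤ b % r * a + r))) :
    ∃ k, 1 ≤ k ∧ k * r ≤ a * b ∧
      ∀ j, j ≤ b → j ≡ b [MOD r] → j * (a % r) ≤ a * b - k * r → a * b - k * r ≤ j * a → False := by
  set al := a % r with hal
  set j0 := b % r with hj0
  have hj : ∀ j, j ≡ b [MOD r] → j = j0 + r * (j / r) := fun j hj => by
    have := Nat.mod_add_div j r
    rw [hj, ← hj0] at this
    omega
  have gapcase : r ≤ b → j0 * a + r < (j0 + r) * al → ∃ k, 1 ≤ k ∧ k * r ≤ a * b ∧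
      ∀ j, j ≤ b → j ≡ b [MOD r] → j * al ≤ a * b - k * r → a * b - k * r ≤ j * a → False := by
    intro hbr hgap
    have hb : j0 + r * (b / r) = b := Nat.mod_add_div b r
    have hq : 1 ≤ b / r := (Nat.one_le_div_iff (by omega)).mpr hbr
    have hal' : al ≤ a := Nat.mod_le a r
    -- the number of fixed points is `j0 * a + r`
    have hX : a * b = j0 * a + r * (b / r * a) := by
      calc a * b = a * (j0 + r * (b / r)) := by rw [hb]
        _ = _ := by ring
    have h2 : (j0 + r) * al ≤ (j0 + r) * a := Nat.mul_le_mul_left _ hal'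
    have h3 : (j0 + r) * a = j0 * a + r * a := by ring
    have h4 : r * a ≤ r * (b / r * a) := Nat.mul_le_mul_left r (Nat.le_mul_of_pos_left a hq)
    have hQ : 2 ≤ b / r * a := by
      calc 2 ≤ a := ha
        _ ≤ b / r * a := Nat.le_mul_of_pos_left a hq
    refine ⟨b / r * a - 1, by omega, ?_, fun j hjb hjm h5 h6 => ?_⟩
    · calc (b / r * a - 1) * r ≤ (b / r * a) * r := Nat.mul_le_mul_right r (Nat.sub_le _ _)
        _ = r * (b / r * a) := mul_comm _ _
        _ ≤ a * b := by omega
    · have hs : a * b - (b / r * a - 1) * r = j0 * a + r := by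
        rw [Nat.sub_mul, one_mul, mul_comm (b / r * a) r]
        have : r ≤ r * (b / r * a) := Nat.le_mul_of_pos_right r (by omega)
        omega
      rw [hs] at h5 h6
      rcases Nat.eq_zero_or_pos (j / r) with hz | hz
      · have := hj j hjm
        rw [hz, mul_zero, add_zero] at this
        subst this
        omega
      · have h7 : (j0 + r) * al ≤ j * al := Nat.mul_le_mul_right al (by
          have := hj j hjm
          have := Nat.le_mul_of_pos_right r hz
          omega)
        omega
  by_cases hra : r ≤ a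
  · by_cases h0 : j0 * al < r
    · have hnot : ¬ (b < r ∨ (j0 + r) * al ≤ j0 * a + r) := fun h' => h ⟨hra, h0, h'⟩
      push Not at hnot
      exact gapcase hnot.1 hnot.2
    · refine ⟨a * b / r, (Nat.one_le_div_iff (by omega)).mpr hrab, Nat.div_mul_le_self _ _, fun j _ hjm h5 _ => ?_⟩
      have h6 : a * b - a * b / r * r = a * b % r := by
        have := Nat.div_add_mod (a * b) r
        rw [mul_comm r] at this
        omega
      have h7 := Nat.mod_lt (a * b) (show r > 0 by omega)
      have h8 : j0 * al ≤ j * al := Nat.mul_le_mul_right al (by have := hj j hjm; omega)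
      omega
  · have hala : al = a := Nat.mod_eq_of_lt (by omega)
    rcases Nat.lt_or_ge b r with hbr | hbr
    · refine ⟨1, le_rfl, by omega, fun j hjb hjm h5 _ => ?_⟩
      have hjb' : j = b := by
        have := hj j hjm
        rw [hj0, Nat.mod_eq_of_lt hbr] at this
        omega
      subst hjb'
      rw [hala, mul_comm j a] at h5
      omega
    · refine gapcase hbr ?_
      rw [hala]
      calc j0 * a + r < j0 * a + r * a := by
            have : r * 2 ≤ r * a := Nat.mul_le_mul_left r ha
            omega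
        _ = (j0 + r) * a := by ring

end Cfsg.Agent.Recog.PartitionFix
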