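import Cfsg.Agent.Lib.Recog.Spectrum
import Cfsg.Agent.Lib.Recog.PGLTwoSpectrum

/-!
# A solvable group whose element orders are the proper divisors of a number

`V ⋊ A` with `A` cyclic of order `m` prime to `p` and `V` the functions on `A` of total zero over
the field with `p` elements.
-/

set_option autoImplicit false

namespace Cfsg.Agent.Recog.ProperDivisors

open Finset

variable (m p : ℕ) [NeZero m]

/-- The cyclic group. -/
abbrev A := Multiplicative (ZMod m)

/-- Functions of total zero, written multiplicatively. -/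
def sumZero : Subgroup (A m → Multiplicative (ZMod p)) where
  carrier := {f | ∏ a, f a = 1}
  one_mem' := by simp
  mul_mem' {f g} hf hg := by
    show ∏ a, f a * g a = 1
    rw [Finset.prod_mul_distrib, hf, hg, one_mul]
  inv_mem' {f} hf := by
    show ∏ a, (f a)⁻¹ = 1
    rw [Finset.prod_inv_distrib, hf, inv_one]

theorem sumZero_inv (b : A m) : ∀ f ∈ sumZero m p,
    PGLTwo.shiftAut (A m) (Multiplicative (ZMod p)) b f ∈ sumZero m p := by
  intro f hf
  show ∏ a, f (b⁻¹ * a) = 1
  exact (Equiv.prod_comp (Equiv.mulLeft b⁻¹) f).trans hf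

/-- The action. -/
def act : A m →* MulAut (sumZero m p) :=
  PGLTwo.restrictAut (PGLTwo.shiftAut (A m) (Multiplicative (ZMod p))) (sumZero m p) (sumZero_inv m p)

theorem act_apply (b : A m) (f : sumZero m p) (a : A m) :
    (act m p b f : A m → Multiplicative (ZMod p)) a =
      (f : A m → Multiplicative (ZMod p)) (b⁻¹ * a) := rfl

theorem exp_p (f : sumZero m p) : f ^ p = 1 := by
  apply Subtype.ext
  funext a
  show ((f : A m → Multiplicative (ZMod p)) a) ^ p = 1
  apply Multiplicative.toAdd.injective
  rw [toAdd_pow, toAdd_one, nsmul_eq_mul, ZMod.natCast_self, zero_mul]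

theorem nontrivial [Fact p.Prime] (hm : 1 < m) : Nontrivial (sumZero m p) := by
  classical
  have : Fact (1 < m) := ⟨hm⟩
  obtain ⟨b, hb⟩ := exists_ne (1 : A m)
  set u : Multiplicative (ZMod p) := Multiplicative.ofAdd 1
  let f : A m → Multiplicative (ZMod p) := Pi.mulSingle 1 u * Pi.mulSingle b u⁻¹
  have hf : f ∈ sumZero m p := by
    show ∏ a, f a = 1
    simp only [f, Pi.mul_apply, Finset.prod_mul_distrib, Fintype.prod_pi_mulSingle', mul_inv_cancel]
  refine ⟨⟨⟨f, hf⟩, 1, fun h => ?_⟩⟩
  have h1 := congrFun (congrArg Subtype.val h) 1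
  simp [f, Ne.symm hb, u] at h1

variable [Fact p.Prime]

/-- The element orders. -/
theorem range_orders (hpm : ¬ p ∣ m) :
    Set.range (orderOf : sumZero m p ⋊[act m p] A m → ℕ) =
      {d : ℕ | d ∣ p * m ∧ d ≠ p * m} := by
  classical
  have hp : p.Prime := Fact.out
  have : Finite (sumZero m p ⋊[act m p] A m) := Finite.of_equiv _ SemidirectProduct.equivProd.symm
  have hcard : Nat.card (A m) = m := by rw [Nat.card_congr Multiplicative.toAdd, Nat.card_zmod]
  have hker : ∀ y ∈ (SemidirectProduct.rightHom : sumZero m p ⋊[act m p] A m →* A m).ker,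
      y ^ p = 1 := by
    intro y hy
    rw [MonoidHom.mem_ker, SemidirectProduct.rightHom_eq_right] at hy
    have : y = SemidirectProduct.inl y.left := by ext <;> simp [hy]
    rw [this, ← map_pow, exp_p, map_one]
  apply Set.Subset.antisymm
  · rintro _ ⟨x, rfl⟩
    obtain ⟨h1, h2⟩ := orderOf_of_hom SemidirectProduct.rightHom hker x (isOfFinOrder_of_finite _)
    set a := SemidirectProduct.rightHom x with ha
    have hd : orderOf a ∣ m := (orderOf_dvd_natCard a).trans (dvd_of_eq hcard)
    have hlt : 1 < p := hp.one_lt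
    have hm0 : 0 < m := Nat.pos_of_ne_zero (NeZero.ne m)
    by_cases hx : x ^ orderOf a = 1
    · rw [h1 hx]
      refine ⟨dvd_mul_of_dvd_right hd p, fun h => ?_⟩
      have := Nat.le_of_dvd hm0 hd
      rw [h] at this
      nlinarith
    · rw [h2 hx]
      refine ⟨mul_dvd_mul_left p hd, fun h => hx ?_⟩
      have hfull : orderOf a = m := Nat.eq_of_mul_eq_mul_left hp.pos h
      set y := x ^ orderOf a with hy
      have hyr : y.right = 1 := by
        show SemidirectProduct.rightHom y = 1
        rw [hy, map_pow, ← ha, pow_orderOf_eq_one]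
      have hfix : act m p a y.left = y.left := by
        have := congrArg SemidirectProduct.left (Commute.self_pow x (orderOf a)).eq
        rw [SemidirectProduct.mul_left, SemidirectProduct.mul_left, ← hy, hyr, map_one,
          MulAut.one_apply, mul_comm y.left] at this
        exact mul_left_cancel this
      refine SemidirectProduct.ext (Subtype.ext (funext fun b => ?_)) hyr
      set f := (y.left : A m → Multiplicative (ZMod p)) with hf
      have hstep : ∀ c, f (a⁻¹ * c) = f c := fun c => by
        have := congrFun (congrArg Subtype.val hfix) c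
        rwa [act_apply] at this
      have hconst : ∀ c, f c = f b := by
        intro c
        have htop : b * c⁻¹ ∈ Submonoid.powers a⁻¹ := by
          rw [mem_powers_iff_mem_zpowers]
          have : Subgroup.zpowers a⁻¹ = ⊤ := Subgroup.eq_top_of_card_eq _ (by
            rw [Nat.card_zpowers, orderOf_inv, hfull, hcard])
          rw [this]; exact Subgroup.mem_top _
        obtain ⟨i, hi⟩ := htop
        have key : ∀ i : ℕ, f (a⁻¹ ^ i * c) = f c := by
          intro i
          induction i with
          | zero => rw [pow_zero, one_mul]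
          | succ i ih => rw [pow_succ', mul_assoc, hstep, ih]
        rw [← key i]
        simp only at hi
        rw [hi, inv_mul_cancel_right]
      have hsum : ∏ c, f c = 1 := y.left.2
      rw [Finset.prod_congr rfl (fun c _ => hconst c), Finset.prod_const, Finset.card_univ,
        ← Nat.card_eq_fintype_card, hcard] at hsum
      show f b = 1
      have hd1 : orderOf (f b) ∣ m := orderOf_dvd_of_pow_eq_one hsum
      have hd2 : orderOf (f b) ∣ p := orderOf_dvd_of_pow_eq_one (by
        apply Multiplicative.toAdd.injective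
        rw [toAdd_pow, toAdd_one, nsmul_eq_mul, ZMod.natCast_self, zero_mul])
      rcases (Nat.dvd_prime hp).1 hd2 with h | h
      · exact orderOf_eq_one_iff.1 h
      · exact absurd (h ▸ hd1) hpm
  · rintro d ⟨hd, hne⟩
    obtain ⟨g, hg⟩ := IsCyclic.exists_ofOrder_eq_natCard (α := A m)
    rw [hcard] at hg
    have hsub : ∀ e, e ∣ m → ∃ a : A m, orderOf a = e := fun e he =>
      ⟨g ^ (m / e), by
        have hm0 : 0 < m := Nat.pos_of_ne_zero (NeZero.ne m)
        rw [orderOf_pow_of_dvd (Nat.div_pos (Nat.le_of_dvd hm0 he)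
          (Nat.pos_of_dvd_of_pos he hm0)).ne' (by rw [hg]; exact Nat.div_dvd_of_dvd he), hg,
          Nat.div_div_self he hm0.ne']⟩
    by_cases hpd : p ∣ d
    · obtain ⟨e, rfl⟩ := hpd
      have he : e ∣ m := (Nat.mul_dvd_mul_iff_left hp.pos).1 hd
      have hem : e ≠ m := fun h => hne (by rw [h])
      obtain ⟨a, hae⟩ := hsub e he
      obtain ⟨b, hb⟩ : ∃ b, b ∉ Subgroup.zpowers a := by
        by_contra hall
        push Not at hall
        apply hem
        have : Subgroup.zpowers a = ⊤ := eq_top_iff.2 fun x _ => hall x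
        rw [← hcard, ← hae, ← Nat.card_zpowers, this, Subgroup.card_top]
      set u : Multiplicative (ZMod p) := Multiplicative.ofAdd 1
      let f : A m → Multiplicative (ZMod p) := fun c =>
        (if c ∈ Subgroup.zpowers a then u else 1) *
          (if b⁻¹ * c ∈ Subgroup.zpowers a then u⁻¹ else 1)
      have hf : f ∈ sumZero m p := by
        show ∏ c, f c = 1
        simp only [f, Finset.prod_mul_distrib]
        rw [show (∏ c, if b⁻¹ * c ∈ Subgroup.zpowers a then u⁻¹ else 1) =
            ∏ c, if c ∈ Subgroup.zpowers a then u⁻¹ else 1 from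
          Equiv.prod_comp (Equiv.mulLeft b⁻¹) (fun c => if c ∈ Subgroup.zpowers a then u⁻¹ else 1)]
        rw [← Finset.prod_mul_distrib]
        refine Finset.prod_eq_one fun c _ => ?_
        split <;> simp
      refine ⟨⟨⟨f, hf⟩, a⟩, ?_⟩
      obtain ⟨-, h2⟩ := orderOf_of_hom SemidirectProduct.rightHom hker
        (⟨⟨f, hf⟩, a⟩ : sumZero m p ⋊[act m p] A m) (isOfFinOrder_of_finite _)
      rw [show SemidirectProduct.rightHom (⟨⟨f, hf⟩, a⟩ : sumZero m p ⋊[act m p] A m) = a from rfl,
        hae] at h2
      refine h2 fun hc => hpm ((dvd_trans ?_ he))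
      have h1 := congrFun (congrArg Subtype.val (congrArg SemidirectProduct.left hc)) 1
      rw [(PGLTwo.semidirect_pow_left (act m p) _ e).1, SemidirectProduct.one_left,
        Subgroup.coe_one, Pi.one_apply, SubmonoidClass.coe_finsetProd, Finset.prod_apply,
        Finset.prod_eq_pow_card (b := u)] at h1
      · rw [Finset.card_range] at h1
        have h := congrArg Multiplicative.toAdd h1
        rw [toAdd_pow, toAdd_one, nsmul_eq_mul] at h
        simp only [u, toAdd_ofAdd, mul_one] at h
        exact (ZMod.natCast_eq_zero_iff e p).1 h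
      · intro i _
        have hm1 : (a ^ i)⁻¹ ∈ Subgroup.zpowers a :=
          inv_mem (pow_mem (Subgroup.mem_zpowers a) i)
        have hm2 : b⁻¹ * (a ^ i)⁻¹ ∉ Subgroup.zpowers a := fun h =>
          hb (inv_mem_iff.1 ((Subgroup.mul_mem_cancel_right _ hm1).1 h))
        rw [act_apply, mul_one]
        show (if (a ^ i)⁻¹ ∈ Subgroup.zpowers a then u else 1) *
          (if b⁻¹ * (a ^ i)⁻¹ ∈ Subgroup.zpowers a then u⁻¹ else 1) = u
        rw [if_pos hm1, if_neg hm2, mul_one]
    · have : d ∣ m := (Nat.Coprime.dvd_mul_left ((hp.coprime_iff_not_dvd.2 hpd).symm)).1 hd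
      obtain ⟨a, ha⟩ := hsub d this
      exact ⟨SemidirectProduct.inr a,
        (orderOf_injective _ SemidirectProduct.inr_injective a).trans ha⟩

end Cfsg.Agent.Recog.ProperDivisors
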