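import Cfsg.Agent.Lib.Recog.PointPair

/-! The second cores of two conjugate maximal subgroups are groups of prime power order. -/

set_option autoImplicit false

namespace Cfsg.Agent.Recog.PointPair

open Subgroup Cfsg.Agent.Components

variable {G : Type*} [Group G] [Finite G]

/-- An element of order prime to `p` in `X · c`, with `c` a `p`-element normalizing `X`, lies in `X`. -/
theorem mem_of_pMul {p : ℕ} {X : Subgroup G} {c t : G} (hc : c ∈ normalizer (X : Set G))
    (hcp : ∃ k, c ^ p ^ k = 1) (ht : t ∈ X) (ho : (orderOf (c * t)).Coprime p) : c * t ∈ X := by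
  haveI : (X.subgroupOf (normalizer (X : Set G))).Normal :=
    normal_subgroupOf_of_le_normalizer le_rfl
  set N : Subgroup G := normalizer (X : Set G) with hN
  have htN : t ∈ N := le_normalizer ht
  let c' : N := ⟨c, hc⟩
  let t' : N := ⟨t, htN⟩
  obtain ⟨k, hk⟩ := hcp
  have ht' : t' ∈ X.subgroupOf N := ht
  have h1 : orderOf (QuotientGroup.mk c' : N ⧸ X.subgroupOf N) ∣ p ^ k := by
    refine orderOf_dvd_of_pow_eq_one ?_
    rw [← QuotientGroup.mk_pow, show c' ^ p ^ k = 1 from Subtype.ext hk, QuotientGroup.mk_one]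
  have h2 : orderOf (QuotientGroup.mk c' : N ⧸ X.subgroupOf N) ∣ orderOf (c * t) := by
    have he : (QuotientGroup.mk c' : N ⧸ X.subgroupOf N) = QuotientGroup.mk (c' * t') := by
      rw [QuotientGroup.mk_mul, (QuotientGroup.eq_one_iff t').2 ht', mul_one]
    rw [he, show orderOf (c * t) = orderOf (c' * t') from (Subgroup.orderOf_coe (c' * t'))]
    exact orderOf_map_dvd (QuotientGroup.mk' (X.subgroupOf N)) _
  have h3 := Nat.eq_one_of_dvd_coprimes (ho.pow_right k) h2 h1
  have h4 : c' ∈ X.subgroupOf N := (QuotientGroup.eq_one_iff c').1 (orderOf_eq_one_iff.1 h3)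
  exact X.mul_mem h4 ht

/-- An element that conjugates a generating set into the subgroup normalizes it. -/
theorem mem_normalizer_closure {s : Set G} {x : G}
    (h : ∀ y ∈ s, x * y * x⁻¹ ∈ closure s) : x ∈ normalizer ((closure s : Subgroup G) : Set G) := by
  have hle : (closure s).map (MulAut.conj x).toMonoidHom ≤ closure s := by
    rw [MonoidHom.map_closure, closure_le]
    rintro _ ⟨y, hy, rfl⟩
    exact h y hy
  refine mem_normalizer_of_map_conj_eq (eq_of_le_of_card_ge hle (le_of_eq ?_))
  exact Nat.card_congr (equivMapOfInjective _ _ (MulAut.conj x).injective).toEquiv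

/-- The key step: the second core is a `p`-group. -/
theorem Pair.isPGroup_second {H K : Subgroup G} (h : Pair H K) {p : ℕ} (hp : p.Prime)
    (hH0 : core p H ≠ ⊥) {X C : Subgroup G} (hXC : X ≤ C) (hCH : C ≤ H) (hCK : C ≤ K)
    (hXn : H ≤ normalizer (X : Set G)) (hCn : K ≤ normalizer (C : Set G))
    (hCmax : ∀ x ∈ K, (∀ m ∈ K, m * x * m⁻¹ ∈ H) → x ∈ C) : IsPGroup p X := by
  haveI := Fact.mk hp
  set s : Set G := {g | g ∈ X ∧ (orderOf g).Coprime p} with hs
  set T : Subgroup G := closure s with hTdef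
  have hTX : T ≤ X := (closure_le _).2 fun g hg => hg.1
  have hTs : ∀ g ∈ X, (orderOf g).Coprime p → g ∈ T := fun g hg ho => subset_closure ⟨hg, ho⟩
  have hord : ∀ a y : G, orderOf (a * y * a⁻¹) = orderOf y := fun a y => by
    rw [show a * y * a⁻¹ = MulAut.conj a y from rfl, MulEquiv.orderOf_eq]
  have hTn : H ≤ normalizer (T : Set G) := by
    intro a ha
    refine mem_normalizer_closure fun y hy => hTs _ ((mem_normalizer_iff.1 (hXn ha) y).1 hy.1) ?_
    rw [hord]; exact hy.2
  by_contra hX
  have hT0 : T ≠ ⊥ := by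
    intro h0
    refine hX fun g => ?_
    obtain ⟨a, b, hab, ⟨k, hk⟩, hb, -, -⟩ :=
      LocalEvenA.exists_pPart (p := p) (isOfFinOrder_of_finite g)
    have : (b : G) ∈ T := hTs _ b.2 (by rwa [Subgroup.orderOf_coe])
    rw [h0, mem_bot, OneMemClass.coe_eq_one] at this
    refine ⟨k, ?_⟩
    rw [← hab, this, mul_one, hk]
  have hTH : T ≤ H := hTX.trans (hXC.trans hCH)
  have hNT : normalizer (T : Set G) = H := h.normalizer_eq hT0 hTH hTn
  have pel : ∀ (U : Subgroup G), ∀ y ∈ core p U, ∃ k, y ^ p ^ k = 1 := fun U y hy => by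
    obtain ⟨k, hk⟩ := core_isPGroup hp U ⟨y, hy⟩
    exact ⟨k, congrArg Subtype.val hk⟩
  -- `O_p(K)` normalizes `T`
  have hQT : core p K ≤ normalizer (T : Set G) := by
    intro x hx
    refine mem_normalizer_closure fun y hy => hTs _ ?_ (by rw [hord]; exact hy.2)
    have hyC : y ∈ C := hXC hy.1
    have hxK : x ∈ K := core_le p K hx
    have hc1 : x * y * x⁻¹ * y⁻¹ ∈ core p K := by
      have := (mem_normalizer_iff.1 (le_normalizer_core p K (hCK hyC)) x⁻¹).1 (inv_mem hx)
      simpa [mul_assoc] using mul_mem hx this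
    have hc2 : x * y * x⁻¹ * y⁻¹ ∈ C :=
      C.mul_mem ((mem_normalizer_iff.1 (hCn hxK) y).1 hyC) (C.inv_mem hyC)
    have he : x * y * x⁻¹ = (x * y * x⁻¹ * y⁻¹) * y := by group
    rw [he]
    refine mem_of_pMul (hXn (hCH hc2)) (pel K _ hc1) hy.1 ?_
    rw [← he, hord]; exact hy.2
  have hQH : core p K ≤ H := hNT ▸ hQT
  -- `O_p(H) ∩ K ≤ O_p(K)`
  have hRC : core p H ⊓ C ≤ core p K := by
    refine pgroup_subnormal_le_core hp ((core_isPGroup hp H).to_le inf_le_left)
      (inf_le_right.trans hCK) (subnormal_in inf_le_right hCK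
        (subgroupOf_isSubnormal_of_normalized hCn) ?_)
    exact (le_inf (hCH.trans (le_normalizer_core p H)) le_normalizer).trans
      inf_normalizer_le_normalizer_inf
  have hRK : core p H ⊓ K ≤ core p K := by
    rintro x ⟨hxR, hxK⟩
    refine hRC ⟨hxR, hCmax x hxK fun m hm => ?_⟩
    -- `x` normalizes the conjugate of `T` by `m⁻¹`
    set u : G := m⁻¹ with hu
    have huK : u ∈ K := K.inv_mem hm
    set e : G →* G := (MulAut.conj u).toMonoidHom with he'
    have hTu : T.map e = closure (e '' s) := MonoidHom.map_closure e s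
    have hxn : x ∈ normalizer ((T.map e : Subgroup G) : Set G) := by
      rw [hTu]
      refine mem_normalizer_closure ?_
      rintro _ ⟨t, ht, rfl⟩
      rw [← hTu]
      set t' : G := e t with ht'
      have ht'T : t' ∈ T.map e := mem_map_of_mem _ (subset_closure ht)
      have ht'C : t' ∈ C := (mem_normalizer_iff.1 (hCn huK) t).1 (hXC ht.1)
      have hc1 : x * t' * x⁻¹ * t'⁻¹ ∈ core p H := by
        have := (mem_normalizer_iff.1 (le_normalizer_core p H (hCH ht'C)) x⁻¹).1 (inv_mem hxR)
        simpa [mul_assoc] using mul_mem hxR this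
      have hc2 : x * t' * x⁻¹ * t'⁻¹ ∈ C :=
        C.mul_mem ((mem_normalizer_iff.1 (hCn hxK) t').1 ht'C) (C.inv_mem ht'C)
      have hc3 : x * t' * x⁻¹ * t'⁻¹ ∈ core p K := hRC ⟨hc1, hc2⟩
      have hn : x * t' * x⁻¹ * t'⁻¹ ∈ normalizer ((T.map e : Subgroup G) : Set G) := by
        refine le_normalizer_map (H := T) e ⟨u⁻¹ * (x * t' * x⁻¹ * t'⁻¹) * u, hQT ?_, ?_⟩
        · have := (mem_normalizer_iff.1 (le_normalizer_core p K (K.inv_mem huK)) _).1 hc3
          simpa using this
        · simp [he', mul_assoc]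
      have he2 : x * t' * x⁻¹ = (x * t' * x⁻¹ * t'⁻¹) * t' := by group
      rw [he2]
      refine mem_of_pMul hn (pel H _ hc1) ht'T ?_
      rw [← he2, hord, ht', show orderOf (e t) = orderOf t from MulEquiv.orderOf_eq (MulAut.conj u) t]
      exact ht.2
    have : m * x * m⁻¹ ∈ normalizer (T : Set G) := by
      rw [mem_normalizer_iff]
      intro y
      have := mem_normalizer_iff.1 hxn (e y)
      rw [mem_map_iff_mem (show Function.Injective e from (MulAut.conj u).injective)] at this
      rw [this, show x * e y * x⁻¹ = e (m * x * m⁻¹ * y * (m * x * m⁻¹)⁻¹) by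
        simp [he', hu, mul_assoc],
        mem_map_iff_mem (show Function.Injective e from (MulAut.conj u).injective)]
    exact hNT ▸ this
  exact hH0 (h.core_eq_bot hp hQH hRK)

end Cfsg.Agent.Recog.PointPair
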