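import Cfsg.Agent.Lib.FGB.LinearDerived
import Cfsg.Agent.Lib.FGB.SymSylowDerived

/-!
Derived length of the Sylow 2-subgroups of symplectic groups in odd characteristic.
-/

set_option autoImplicit false

namespace Cfsg.Agent.Recog.SpTwo

open Matrix hiding zpow_mul zpow_neg inv_zpow
open scoped commutatorElement

/-- Doubling a 2-subgroup. -/
theorem double {G H : Type*} [Group G] [Group H] (ι : G × G →* H) (hι : Function.Injective ι) (s : H)
    (hs : s * s = 1) (hsw : ∀ x y, s * ι (x, y) * s = ι (y, x)) (j : ℕ) (Q : Subgroup G) (hQ : IsPGroup 2 Q)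
    (hj : derivedSeries Q j ≠ ⊥) : ∃ W : Subgroup H, IsPGroup 2 W ∧ derivedSeries W (j + 1) ≠ ⊥ := by
  set B := (Q.prod Q).map ι with hB
  have hBp : IsPGroup 2 B := by
    refine IsPGroup.map (fun x => ?_) _
    obtain ⟨a, ha⟩ := hQ ⟨x.1.1, x.2.1⟩
    obtain ⟨b, hb⟩ := hQ ⟨x.1.2, x.2.2⟩
    refine ⟨a + b, Subtype.ext (Prod.ext ?_ ?_)⟩
    · have := congrArg Subtype.val ha
      simp only [SubmonoidClass.coe_pow, OneMemClass.coe_one] at this
      simp [pow_add, pow_mul, this]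
    · have := congrArg Subtype.val hb
      simp only [SubmonoidClass.coe_pow, OneMemClass.coe_one] at this
      simp [pow_add, mul_comm (2 ^ a), pow_mul, this]
  have hsinv : s⁻¹ = s := inv_eq_of_mul_eq_one_left hs
  have hnorm : Subgroup.zpowers s ≤ Subgroup.normalizer (B : Set H) := by
    rw [Subgroup.zpowers_le, Subgroup.mem_normalizer_iff]
    intro y
    constructor
    · rintro ⟨⟨u, v⟩, ⟨hu, hv⟩, rfl⟩
      exact ⟨(v, u), ⟨hv, hu⟩, by rw [hsinv, hsw]⟩
    · rintro ⟨⟨u, v⟩, ⟨hu, hv⟩, h⟩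
      refine ⟨(v, u), ⟨hv, hu⟩, ?_⟩
      rw [← hsw, h, hsinv]
      simp [← mul_assoc, hs]
      simp [mul_assoc, hs]
  have hWp : IsPGroup 2 (B ⊔ Subgroup.zpowers s : Subgroup H) := hBp.to_sup_of_normal_left' (fun g => ⟨1, by
    obtain ⟨i, hi⟩ := g.2
    refine Subtype.ext ?_
    rw [pow_one, SubmonoidClass.coe_pow, OneMemClass.coe_one, ← hi]
    show (s ^ i) ^ 2 = 1
    rw [← zpow_natCast, ← zpow_mul, mul_comm, zpow_mul, zpow_natCast, pow_two, hs, _root_.one_zpow]⟩) hnorm
  set W := B ⊔ Subgroup.zpowers s with hW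
  have hmemW : ∀ x y : Q, ι ((x : G), (y : G)) ∈ W := fun x y =>
    Subgroup.mem_sup_left (Subgroup.mem_map_of_mem ι ⟨x.2, y.2⟩)
  have key : ∀ i, ∀ x ∈ derivedSeries Q i, ∃ y : Q, (⟨_, hmemW x y⟩ : W) ∈ derivedSeries W (i + 1) := by
    intro i
    induction i with
    | zero =>
      intro x _
      refine ⟨x⁻¹, ?_⟩
      have hsW : s ∈ W := Subgroup.mem_sup_right (Subgroup.mem_zpowers s)
      have e : (⟨_, hmemW x x⁻¹⟩ : W) = ⁅(⟨_, hmemW x 1⟩ : W), (⟨s, hsW⟩ : W)⁆ := by
        refine Subtype.ext ?_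
        simp only [commutatorElement_def, Subgroup.coe_mul, InvMemClass.coe_inv, OneMemClass.coe_one]
        rw [← map_inv, hsinv, mul_assoc (ι ((x : G), 1) * s), mul_assoc (ι ((x : G), 1)), ← mul_assoc s, hsw, ← map_mul]
        simp
      rw [derivedSeries_one, e]
      exact Subgroup.commutator_mem_commutator (Subgroup.mem_top _) (Subgroup.mem_top _)
    | succ i ih =>
      intro x hx
      rw [derivedSeries_succ, Subgroup.commutator_def] at hx
      induction hx using Subgroup.closure_induction with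
      | mem z hz =>
        obtain ⟨a, ha, b, hb, rfl⟩ := hz
        obtain ⟨ya, hya⟩ := ih a ha
        obtain ⟨yb, hyb⟩ := ih b hb
        refine ⟨⁅ya, yb⁆, ?_⟩
        have e : (⟨_, hmemW ⁅a, b⁆ ⁅ya, yb⁆⟩ : W) = ⁅(⟨_, hmemW a ya⟩ : W), (⟨_, hmemW b yb⟩ : W)⁆ := by
          refine Subtype.ext ?_
          simp only [commutatorElement_def, Subgroup.coe_mul, InvMemClass.coe_inv, ← map_inv, ← map_mul,
            Prod.inv_mk, Prod.mk_mul_mk]
        rw [derivedSeries_succ, e]
        exact Subgroup.commutator_mem_commutator hya hyb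
      | one =>
        refine ⟨1, ?_⟩
        convert one_mem (derivedSeries W (i + 1 + 1))
        simp [← Prod.one_eq_mk]
      | mul a b _ _ h1 h2 =>
        obtain ⟨ya, hya⟩ := h1
        obtain ⟨yb, hyb⟩ := h2
        refine ⟨ya * yb, ?_⟩
        convert mul_mem hya hyb
        simp [← map_mul]
      | inv a _ h1 =>
        obtain ⟨ya, hya⟩ := h1
        refine ⟨ya⁻¹, ?_⟩
        convert inv_mem hya
        simp [← map_inv]
  refine ⟨W, hWp, fun h => hj ?_⟩
  rw [eq_bot_iff]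
  intro x hx
  obtain ⟨y, hy⟩ := key j x hx
  rw [h, Subgroup.mem_bot] at hy
  have h1 : ι ((x : G), (y : G)) = 1 := congrArg Subtype.val hy
  rw [← map_one ι] at h1
  exact Subgroup.mem_bot.2 (Subtype.ext (congrArg Prod.fst (hι h1)))

variable {F : Type*} [Field F]

section blocks

variable {a b : Type} [Fintype a] [DecidableEq a] [Fintype b] [DecidableEq b]

/-- Side by side. -/
def pairM (X : Matrix (a ⊕ a) (a ⊕ a) F) (Y : Matrix (b ⊕ b) (b ⊕ b) F) :
    Matrix ((a ⊕ b) ⊕ (a ⊕ b)) ((a ⊕ b) ⊕ (a ⊕ b)) F :=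
  fromBlocks (fromBlocks X.toBlocks₁₁ 0 0 Y.toBlocks₁₁) (fromBlocks X.toBlocks₁₂ 0 0 Y.toBlocks₁₂)
    (fromBlocks X.toBlocks₂₁ 0 0 Y.toBlocks₂₁) (fromBlocks X.toBlocks₂₂ 0 0 Y.toBlocks₂₂)

theorem pairM_mul (X X' : Matrix (a ⊕ a) (a ⊕ a) F) (Y Y' : Matrix (b ⊕ b) (b ⊕ b) F) :
    pairM X Y * pairM X' Y' = pairM (X * X') (Y * Y') := by
  rw [← fromBlocks_toBlocks X, ← fromBlocks_toBlocks X', ← fromBlocks_toBlocks Y, ← fromBlocks_toBlocks Y']
  simp [pairM, fromBlocks_multiply, fromBlocks_add]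

theorem pairM_one : pairM (1 : Matrix (a ⊕ a) (a ⊕ a) F) (1 : Matrix (b ⊕ b) (b ⊕ b) F) = 1 := by
  ext ((i | i) | (i | i)) ((j | j) | (j | j)) <;>
    simp [pairM, Matrix.one_apply, toBlocks₁₁, toBlocks₁₂, toBlocks₂₁, toBlocks₂₂]

theorem pairM_transpose (X : Matrix (a ⊕ a) (a ⊕ a) F) (Y : Matrix (b ⊕ b) (b ⊕ b) F) :
    (pairM X Y)ᵀ = pairM Xᵀ Yᵀ := by
  rw [← fromBlocks_toBlocks X, ← fromBlocks_toBlocks Y]
  simp [pairM, fromBlocks_transpose]

theorem pairM_J : pairM (Matrix.J a F) (Matrix.J b F) = Matrix.J (a ⊕ b) F := by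
  simp [pairM, Matrix.J, fromBlocks_one, ← fromBlocks_neg]
  simp [← fromBlocks_one, fromBlocks_neg]

/-- The product of two symplectic groups. -/
def pairHom : ↥(symplecticGroup a F) × ↥(symplecticGroup b F) →* ↥(symplecticGroup (a ⊕ b) F) where
  toFun p := ⟨pairM p.1.1 p.2.1, by
    rw [SymplecticGroup.mem_iff, ← pairM_J, pairM_transpose, pairM_mul, pairM_mul,
      SymplecticGroup.mem_iff.1 p.1.2, SymplecticGroup.mem_iff.1 p.2.2]⟩
  map_one' := Subtype.ext pairM_one
  map_mul' p q := Subtype.ext (pairM_mul p.1.1 q.1.1 p.2.1 q.2.1).symm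

theorem pairHom_injective : Function.Injective (pairHom (F := F) (a := a) (b := b)) := by
  rintro ⟨⟨X, hX⟩, ⟨Y, hY⟩⟩ ⟨⟨X', hX'⟩, ⟨Y', hY'⟩⟩ h
  have h' : pairM X Y = pairM X' Y' := congrArg Subtype.val h
  simp only [pairM, fromBlocks_inj] at h'
  obtain ⟨⟨h1, -, -, h1'⟩, ⟨h2, -, -, h2'⟩, ⟨h3, -, -, h3'⟩, ⟨h4, -, -, h4'⟩⟩ := h'
  refine Prod.ext (Subtype.ext ?_) (Subtype.ext ?_)
  · show X = X'
    rw [← fromBlocks_toBlocks X, h1, h2, h3, h4, fromBlocks_toBlocks]
  · show Y = Y'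
    rw [← fromBlocks_toBlocks Y, h1', h2', h3', h4', fromBlocks_toBlocks]

/-- Renaming the index set. -/
def relabel (e : a ≃ b) : ↥(symplecticGroup a F) →* ↥(symplecticGroup b F) where
  toFun p := ⟨p.1.submatrix (Equiv.sumCongr e.symm e.symm) (Equiv.sumCongr e.symm e.symm), by
    have hJ : (Matrix.J a F).submatrix (Equiv.sumCongr e.symm e.symm) (Equiv.sumCongr e.symm e.symm) = Matrix.J b F := by
      ext (i | i) (j | j) <;> simp [Matrix.J, Matrix.one_apply]
    rw [SymplecticGroup.mem_iff, ← hJ, transpose_submatrix, submatrix_mul_equiv, submatrix_mul_equiv,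
      SymplecticGroup.mem_iff.1 p.2]⟩
  map_one' := Subtype.ext (submatrix_one_equiv _)
  map_mul' p q := Subtype.ext (submatrix_mul_equiv p.1 q.1 _ _ _).symm

theorem relabel_injective (e : a ≃ b) : Function.Injective (relabel (F := F) e) := by
  intro p q h
  have h' := congrArg (fun M : Matrix (b ⊕ b) (b ⊕ b) F =>
    M.submatrix (Equiv.sumCongr e e) (Equiv.sumCongr e e)) (congrArg Subtype.val h)
  refine Subtype.ext ?_
  ext i j
  have := congrFun (congrFun h' i) j
  rcases i with i | i <;> rcases j with j | j <;> simpa [relabel] using this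

end blocks

variable [Fintype F]

theorem base (hF : Fintype.card F % 2 = 1) :
    ∃ Q : Subgroup ↥(symplecticGroup (Fin 1) F), IsPGroup 2 Q ∧ derivedSeries Q 1 ≠ ⊥ := by
  classical
  obtain ⟨x, y, hxy⟩ := FiniteField.exists_root_sum_quadratic (R := F) (f := Polynomial.X ^ 2)
    (g := Polynomial.X ^ 2 + Polynomial.C 1) (Polynomial.degree_X_pow _)
    (Polynomial.degree_X_pow_add_C (by norm_num) _) hF
  simp only [Polynomial.eval_pow, Polynomial.eval_X, Polynomial.eval_add, Polynomial.eval_C] at hxy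
  have h2 : (2 : F) ≠ 0 := Ring.two_ne_zero fun e => by
    have := (FiniteField.even_card_iff_char_two (F := F)).1 e
    omega
  let jm : Matrix (Fin 1 ⊕ Fin 1) (Fin 1 ⊕ Fin 1) F := fromBlocks (x • 1) (y • 1) (y • 1) (-x • 1)
  have hjj : jm * jm = -1 := by
    rw [← fromBlocks_one (l := Fin 1) (m := Fin 1), fromBlocks_neg]
    simp only [jm, fromBlocks_multiply, smul_mul_smul_comm, mul_one, ← add_smul]
    congr 1 <;> ext i k <;> fin_cases i <;> fin_cases k <;> simp <;> first | linear_combination hxy | linear_combination -hxy | ring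
  have hmem : jm ∈ symplecticGroup (Fin 1) F := by
    rw [SymplecticGroup.mem_iff, Matrix.J]
    simp only [jm, fromBlocks_transpose, fromBlocks_multiply, transpose_smul, transpose_one]
    congr 1 <;> ext i k <;> fin_cases i <;> fin_cases k <;> simp <;> first | linear_combination hxy | linear_combination -hxy | ring
  let I : ↥(symplecticGroup (Fin 1) F) := ⟨_, SymplecticGroup.J_mem (Fin 1) F⟩
  let J' : ↥(symplecticGroup (Fin 1) F) := ⟨jm, hmem⟩
  have hII : (I * I).1 = -1 := Matrix.J_squared (Fin 1) F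
  have hI4 : I ^ 4 = 1 := Subtype.ext (by
    rw [show (4 : ℕ) = 2 + 2 from rfl, pow_add, pow_two]
    show (I * I).1 * (I * I).1 = 1
    rw [hII, neg_mul_neg, one_mul])
  have hJ4 : J' ^ 4 = 1 := Subtype.ext (by
    rw [show (4 : ℕ) = 2 + 2 from rfl, pow_add, pow_two]
    show jm * jm * (jm * jm) = 1
    rw [hjj, neg_mul_neg, one_mul])
  have hanti : I * J' * I = J' := Subtype.ext (by
    show Matrix.J (Fin 1) F * jm * Matrix.J (Fin 1) F = jm
    simp only [jm, Matrix.J, fromBlocks_multiply]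
    congr 1 <;> ext i k <;> fin_cases i <;> fin_cases k <;> simp)
  have hconj : J' * I * J'⁻¹ = I⁻¹ := by
    rw [eq_inv_mul_iff_mul_eq.2 (show I * (J' * I) = J' by rw [← mul_assoc, hanti]), mul_inv_cancel_right]
  have hzp : ∀ g : ↥(symplecticGroup (Fin 1) F), g ^ 4 = 1 → IsPGroup 2 (Subgroup.zpowers g) := by
    intro g hg z
    obtain ⟨i, hi⟩ := z.2
    refine ⟨2, Subtype.ext ?_⟩
    rw [SubmonoidClass.coe_pow, OneMemClass.coe_one, ← hi]
    show (g ^ i) ^ 4 = 1
    rw [← zpow_natCast, ← zpow_mul, mul_comm, zpow_mul, zpow_natCast, hg, _root_.one_zpow]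
  refine ⟨Subgroup.zpowers I ⊔ Subgroup.zpowers J', (hzp I hI4).to_sup_of_normal_left' (hzp J' hJ4) ?_, ?_⟩
  · rw [Subgroup.zpowers_le, Subgroup.mem_normalizer_iff]
    intro g
    constructor
    · rintro ⟨i, rfl⟩
      exact ⟨-i, by show I ^ (-i) = J' * I ^ i * J'⁻¹; rw [← conj_zpow, hconj, inv_zpow, zpow_neg]⟩
    · rintro ⟨i, hi⟩
      refine ⟨-i, ?_⟩
      have hi' : I ^ i = J' * g * J'⁻¹ := hi
      have h : J' * I ^ (-i) * J'⁻¹ = I ^ i := by rw [← conj_zpow, hconj, inv_zpow, zpow_neg, inv_inv]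
      rw [hi'] at h
      exact mul_left_cancel (mul_right_cancel h)
  · intro h
    have hI : I ∈ Subgroup.zpowers I ⊔ Subgroup.zpowers J' := Subgroup.mem_sup_left (Subgroup.mem_zpowers I)
    have hJ : J' ∈ Subgroup.zpowers I ⊔ Subgroup.zpowers J' := Subgroup.mem_sup_right (Subgroup.mem_zpowers J')
    rw [derivedSeries_one, commutator_def, Subgroup.commutator_eq_bot_iff_le_centralizer] at h
    have hc := congrArg Subtype.val
      (Subgroup.mem_centralizer_iff.1 (h (Subgroup.mem_top (⟨I, hI⟩ : ↥(_ ⊔ _ : Subgroup _)))) ⟨J', hJ⟩ (Subgroup.mem_top _))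
    simp only [Subgroup.coe_mul] at hc
    have h1 : I * I = 1 := by
      calc I * I = I * (J' * I * J'⁻¹) := by rw [hc]; group
        _ = 1 := by rw [hconj, mul_inv_cancel]
    have h3 : (-1 : Matrix (Fin 1 ⊕ Fin 1) (Fin 1 ⊕ Fin 1) F) = 1 := hII.symm.trans (congrArg Subtype.val h1)
    have h4 := congrFun (congrFun h3 (Sum.inl 0)) (Sum.inl 0)
    simp only [Matrix.neg_apply, Matrix.one_apply_eq] at h4
    exact h2 (by linear_combination -h4)

theorem exists_two_subgroup (hF : Fintype.card F % 2 = 1) : ∀ a : ℕ,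
    ∃ Q : Subgroup ↥(symplecticGroup (Fin (2 ^ a)) F), IsPGroup 2 Q ∧ derivedSeries Q (a + 1) ≠ ⊥ := by
  intro a
  induction a with
  | zero => exact base hF
  | succ a ih =>
    obtain ⟨Q, hQ, hQa⟩ := ih
    let e : Fin (2 ^ a) ⊕ Fin (2 ^ a) ≃ Fin (2 ^ (a + 1)) :=
      finSumFinEquiv.trans (finCongr (by rw [pow_succ, mul_two]))
    refine double ((relabel (F := F) e).comp (pairHom (a := Fin (2 ^ a)) (b := Fin (2 ^ a))))
      ((relabel_injective e).comp pairHom_injective)
      (relabel e ⟨fromBlocks (fromBlocks 0 1 1 0) 0 0 (fromBlocks 0 1 1 0), ?_⟩) ?_ (fun x y => ?_) (a + 1) Q hQ hQa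
    · rw [SymplecticGroup.mem_iff]
      simp [Matrix.J, fromBlocks_transpose, fromBlocks_multiply, fromBlocks_one]
    · rw [← map_mul, ← map_one (relabel (F := F) e)]
      congr 1
      refine Subtype.ext ?_
      simp [Submonoid.coe_mul, fromBlocks_multiply, fromBlocks_one]
    · rw [MonoidHom.comp_apply, MonoidHom.comp_apply, ← map_mul, ← map_mul]
      congr 1
      refine Subtype.ext ?_
      simp [Submonoid.coe_mul, pairHom, pairM, fromBlocks_multiply]

theorem derived_length (hodd : Odd (Fintype.card F)) [DecidableEq F] {n : ℕ} (hn : 1 ≤ n)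
    (R : Sylow 2 ↥(symplecticGroup (Fin n) F)) :
    derivedSeries ↥(R : Subgroup ↥(symplecticGroup (Fin n) F)) (Nat.log 2 (2 * n) + 1) = ⊥ ∧
      derivedSeries ↥(R : Subgroup ↥(symplecticGroup (Fin n) F)) (Nat.log 2 (2 * n)) ≠ ⊥ := by
  have hF : Fintype.card F % 2 = 1 := Nat.odd_iff.1 hodd
  haveI : Fact (Nat.Prime 2) := ⟨Nat.prime_two⟩
  constructor
  · rw [eq_bot_iff]
    intro g hg
    let L := AlgebraicClosure F
    let ρ : Representation L ↥(R : Subgroup ↥(symplecticGroup (Fin n) F)) (Fin n ⊕ Fin n → L) :=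
      (Matrix.toLinAlgEquiv' (R := L) (n := Fin n ⊕ Fin n)).toMonoidHom.comp
        ((algebraMap F L).mapMatrix.toMonoidHom.comp
          ((symplecticGroup (Fin n) F).subtype.comp (R : Subgroup ↥(symplecticGroup (Fin n) F)).subtype))
    have h := Cfsg.Agent.FGB.derived_linear_pgroup R.2 ρ g (by
      rw [Module.finrank_pi, Fintype.card_sum, Fintype.card_fin, ← two_mul]; exact hg)
    refine Subgroup.mem_bot.2 (Subtype.ext (Subtype.ext ?_))
    refine Matrix.map_injective (FaithfulSMul.algebraMap_injective F L) ?_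
    refine (Matrix.toLinAlgEquiv' (R := L)).injective (h.trans ?_)
    rw [OneMemClass.coe_one, OneMemClass.coe_one]
    simp
  · set a := Nat.log 2 n with ha
    have hlog : Nat.log 2 (2 * n) = a + 1 := by
      rw [mul_comm, Nat.log_mul_base one_lt_two (by omega)]
    rw [hlog]
    obtain ⟨Q, hQ, hQa⟩ := exists_two_subgroup (F := F) hF a
    have hle : 2 ^ a ≤ n := Nat.pow_log_le_self 2 (by omega)
    let e : Fin (2 ^ a) ⊕ Fin (n - 2 ^ a) ≃ Fin n := finSumFinEquiv.trans (finCongr (by omega))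
    let f : ↥(symplecticGroup (Fin (2 ^ a)) F) →* ↥(symplecticGroup (Fin n) F) :=
      (relabel e).comp (pairHom.comp (MonoidHom.inl _ _))
    have hf : Function.Injective f :=
      (relabel_injective e).comp (pairHom_injective.comp fun x y h => congrArg Prod.fst h)
    obtain ⟨S, hS⟩ := (hQ.map f).exists_le_sylow
    let φ : Q →* ↥(S : Subgroup ↥(symplecticGroup (Fin n) F)) :=
      (f.comp Q.subtype).codRestrict _ fun x => hS (Subgroup.mem_map_of_mem f x.2)
    have hφ : Function.Injective φ := fun x y h => Subtype.ext (hf (congrArg Subtype.val h))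
    let ψ : Q →* ↥(R : Subgroup ↥(symplecticGroup (Fin n) F)) := (Sylow.equiv S R).toMonoidHom.comp φ
    have hψ : Function.Injective ψ := (Sylow.equiv S R).injective.comp hφ
    intro h
    apply hQa
    rw [← Subgroup.map_eq_bot_iff_of_injective _ hψ, eq_bot_iff, ← h]
    exact map_derivedSeries_le_derivedSeries ψ _

end Cfsg.Agent.Recog.SpTwo
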