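import Mathlib

/-! The Sylvester-Schur theorem: a binomial coefficient `m.choose k` with `2 k ≤ m` has a prime divisor above `k`. -/

set_option autoImplicit false

namespace Cfsg.Agent.Recog.SylvesterSchur

open Finset

theorem prime_dvd_choose_of_mod_lt {p m k : ℕ} (hp : p.Prime) (hkp : k < p) (hkm : k ≤ m) (h : m % p < k) :
    p ∣ m.choose k := by
  have h1 : p ∣ m.descFactorial k := by
    rw [Nat.descFactorial_eq_prod_range]
    exact (Nat.dvd_sub_mod m).trans (Finset.dvd_prod_of_mem _ (Finset.mem_range.2 h))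
  rw [Nat.descFactorial_eq_factorial_mul_choose] at h1
  rcases hp.dvd_mul.1 h1 with h2 | h2
  · exact absurd (hp.dvd_factorial.1 h2) (by omega)
  · exact h2

/-- The primes below 256. -/
def smallPrimes : List ℕ := [2, 3, 5, 7, 11, 13, 17, 19, 23, 29, 31, 37, 41, 43, 47, 53, 59, 61, 67, 71, 73, 79,
  83, 89, 97, 101, 103, 107, 109, 113, 127, 131, 137, 139, 149, 151, 157, 163, 167, 173, 179, 181, 191, 193, 197,
  199, 211, 223, 227, 229, 233, 239, 241, 251]

theorem smallPrimes_prime : ∀ p ∈ smallPrimes, p.Prime := by simp [smallPrimes]; norm_num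

theorem small_check :
    ((List.range 256).all fun m => (List.range (m / 2 + 1)).all fun k =>
      k == 0 || smallPrimes.any fun p => decide (k < p) && decide (m % p < k)) = true := by
  decide +kernel

theorem small {m k : ℕ} (hm : m < 256) (hk : 1 ≤ k) (hkm : 2 * k ≤ m) :
    ∃ p, p.Prime ∧ k < p ∧ p ∣ m.choose k := by
  have h := small_check
  rw [List.all_eq_true] at h
  have h1 := h m (List.mem_range.2 hm)
  rw [List.all_eq_true] at h1
  have h2 := h1 k (List.mem_range.2 (by omega))
  simp only [Bool.or_eq_true, beq_iff_eq, List.any_eq_true, Bool.and_eq_true, decide_eq_true_eq] at h2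
  rcases h2 with h2 | ⟨p, hp, h3, h4⟩
  · omega
  · exact ⟨p, smallPrimes_prime p hp, h3, prime_dvd_choose_of_mod_lt (smallPrimes_prime p hp) h3 (by omega) h4⟩

/-- A chain of primes with short gaps. -/
def chainPrimes : List ℕ := [251, 283, 317, 359, 409, 463, 523, 587, 653, 727, 797, 883, 971, 1069, 1171, 1283,
  1399, 1523, 1637, 1759, 1901, 2053, 2213, 2383, 2557, 2741, 2927, 3121, 3331, 3547, 3779, 4021, 4273, 4523, 4793,
  5077, 5351, 5657, 5953, 6277, 6607, 6959, 7321, 7699, 8089, 8467, 8867, 9293, 9733, 10181, 10651, 11131, 11621,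
  12119, 12647, 13187, 13729, 14303, 14891, 15497, 16111, 16747, 17401, 18061, 18749, 19447, 20161, 20899, 21649,
  22409, 23203, 24007, 24821, 25667, 26513, 27397, 28297, 29221, 30169, 31139, 32119]

theorem chainPrimes_prime : ∀ p ∈ chainPrimes, p.Prime := by simp [chainPrimes]; norm_num

theorem chain_step : ∀ (l : List ℕ) (a : ℕ), List.IsChain (fun a b => (b - a - 1) ^ 3 < a ^ 2) (a :: l) →
    ∀ m, a ≤ m → m < (a :: l).getLast (by simp) → ∃ q ∈ a :: l, q ≤ m ∧ (m - q) ^ 3 < q ^ 2
  | [], a, _, m, h1, h2 => by simp at h2; omega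
  | b :: l, a, h, m, h1, h2 => by
    rw [List.isChain_cons_cons] at h
    by_cases hb : b ≤ m
    · obtain ⟨q, hq, h3⟩ := chain_step l b h.2 m hb (by simpa using h2)
      exact ⟨q, List.mem_cons_of_mem _ hq, h3⟩
    · exact ⟨a, List.mem_cons_self, h1, lt_of_le_of_lt (Nat.pow_le_pow_left (by omega) 3) h.1⟩

theorem middle {m k : ℕ} (h256 : 256 ≤ m) (hm : m < 32119) (hkm : 2 * k ≤ m) (hmk : m ^ 2 ≤ k ^ 3) :
    ∃ p, p.Prime ∧ k < p ∧ p ∣ m.choose k := by
  obtain ⟨q, hq, hqm, hlt⟩ := chain_step chainPrimes.tail 251 (by decide +kernel) m (by omega) hm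
  have hp := chainPrimes_prime q hq
  have hgap : m - q < k := by
    by_contra hc
    have h1 := Nat.pow_le_pow_left (Nat.le_of_not_lt hc) 3
    have h2 := Nat.pow_le_pow_left hqm 2
    omega
  have hkq : k < q := by omega
  refine ⟨q, hp, hkq, prime_dvd_choose_of_mod_lt hp hkq (by omega) ?_⟩
  rw [Nat.mod_eq_sub_mod hqm]
  exact lt_of_le_of_lt (Nat.mod_le _ _) hgap

theorem three_mul_primeCounting {k : ℕ} (hk : 33 ≤ k) : 3 * Nat.primeCounting k ≤ k := by
  have key : ∀ k < 170, 33 ≤ k → 3 * Nat.primeCounting k ≤ k := by decide +kernel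
  by_cases h : k < 170
  · exact key k h hk
  · have h1 := Nat.primeCounting_add_le (a := 30) (k := 31) (by norm_num) (by norm_num) (k - 31)
    rw [show 31 + (k - 31) = k by omega, show Nat.primeCounting 31 = 11 by decide +kernel,
      show Nat.totient 30 = 8 by decide +kernel] at h1
    omega

variable {m k : ℕ}

/-- The binomial coefficient as a product over the primes. -/
theorem choose_eq (h : k ≤ m) : m.choose k =
    ∏ p ∈ (range (m + 1)).filter Nat.Prime, p ^ (m.choose k).factorization p := by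
  rw [Finset.prod_filter]
  conv_lhs => rw [← Nat.prod_pow_factorization_choose m k h]
  refine Finset.prod_congr rfl fun p _ => ?_
  split_ifs with hp
  · rfl
  · rw [Nat.factorization_eq_zero_of_not_prime _ hp, pow_zero]

theorem choose_le_pow_primeCounting (hk : k ≤ m) (hm : 0 < m)
    (hsmall : ∀ p : ℕ, p.Prime → p ∣ m.choose k → p ≤ k) : m.choose k ≤ m ^ Nat.primeCounting k := by
  have h1 : ∀ p ∈ (range (m + 1)).filter Nat.Prime,
      p ^ (m.choose k).factorization p ≤ if p ≤ k then m else 1 := fun p hp => by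
    split_ifs with h
    · exact Nat.pow_factorization_choose_le hm
    · rw [Nat.factorization_eq_zero_of_not_dvd fun hd => h (hsmall p (Finset.mem_filter.1 hp).2 hd), pow_zero]
  calc m.choose k = _ := choose_eq hk
    _ ≤ ∏ p ∈ (range (m + 1)).filter Nat.Prime, if p ≤ k then m else 1 := Finset.prod_le_prod' h1
    _ = m ^ (((range (m + 1)).filter Nat.Prime).filter (· ≤ k)).card := by
      rw [← Finset.prod_filter, Finset.prod_const]
    _ ≤ m ^ Nat.primeCounting k := by
      refine Nat.pow_le_pow_right hm ?_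
      rw [Nat.primeCounting, Nat.primeCounting', Nat.count_eq_card_filter_range]
      refine Finset.card_le_card fun p hp => ?_
      simp only [Finset.mem_filter, Finset.mem_range] at hp ⊢
      exact ⟨by omega, hp.1.2⟩

theorem choose_le_four_pow (hk : k ≤ m) (hk2 : 2 * k ≤ m) (hm : 9 ≤ m)
    (hsmall : ∀ p : ℕ, p.Prime → p ∣ m.choose k → p ≤ k) :
    m.choose k ≤ m ^ Nat.primeCounting (Nat.sqrt m) * 4 ^ min k (m / 3) := by
  have h1 : ∀ p ∈ (range (m + 1)).filter Nat.Prime,
      p ^ (m.choose k).factorization p ≤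
        (if p ≤ Nat.sqrt m then m else 1) * (if p ≤ min k (m / 3) then p else 1) := fun p hp => by
    have hpp := (Finset.mem_filter.1 hp).2
    have hB : 1 ≤ if p ≤ min k (m / 3) then p else 1 := by split_ifs <;> [exact hpp.one_le; rfl]
    by_cases hs : p ≤ Nat.sqrt m
    · rw [if_pos hs]
      exact (Nat.pow_factorization_choose_le (by omega)).trans (Nat.le_mul_of_pos_right m hB)
    rw [if_neg hs, one_mul]
    have hsq : m < p ^ 2 := by
      rw [sq]; exact Nat.sqrt_lt.1 (Nat.lt_of_not_le hs)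
    by_cases hd : p ∣ m.choose k
    · have hpk := hsmall p hpp hd
      have hp3 : p ≤ m / 3 := by
        by_contra hc
        have hp2 : p ≠ 2 := by omega
        have := Nat.factorization_choose_of_lt_three_mul hp2 hpk (by omega) (by omega : m < 3 * p)
        exact absurd hd fun hd => by
          have := hpp.factorization_pos_of_dvd (Nat.choose_pos hk).ne' hd
          omega
      rw [if_pos (le_min hpk hp3)]
      calc p ^ (m.choose k).factorization p ≤ p ^ 1 :=
            Nat.pow_le_pow_right hpp.pos (Nat.factorization_choose_le_one hsq)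
        _ = p := pow_one p
    · rw [Nat.factorization_eq_zero_of_not_dvd hd, pow_zero]
      exact hB
  calc m.choose k = _ := choose_eq hk
    _ ≤ _ := Finset.prod_le_prod' h1
    _ = m ^ (((range (m + 1)).filter Nat.Prime).filter (· ≤ Nat.sqrt m)).card *
        ∏ p ∈ ((range (m + 1)).filter Nat.Prime).filter (· ≤ min k (m / 3)), p := by
      rw [Finset.prod_mul_distrib, ← Finset.prod_filter, ← Finset.prod_filter, Finset.prod_const]
    _ ≤ m ^ Nat.primeCounting (Nat.sqrt m) * primorial (min k (m / 3)) := by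
      refine Nat.mul_le_mul (Nat.pow_le_pow_right (by omega) ?_) ?_
      · rw [Nat.primeCounting, Nat.primeCounting', Nat.count_eq_card_filter_range]
        refine Finset.card_le_card fun p hp => ?_
        simp only [Finset.mem_filter, Finset.mem_range] at hp ⊢
        exact ⟨by omega, hp.1.2⟩
      · refine Finset.prod_le_prod_of_subset_of_one_le' (fun p hp => ?_) fun p hp _ => ?_
        · simp only [Finset.mem_filter, Finset.mem_range] at hp ⊢
          exact ⟨by omega, hp.1.2⟩
        · exact (Finset.mem_filter.1 hp).2.one_le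
    _ ≤ _ := Nat.mul_le_mul_left _ (primorial_le_four_pow _)

/-- Lower bound from the central coefficient. -/
theorem central_le (hk : 4 ≤ k) (hkm : 2 * k ≤ m) :
    4 ^ k * m ^ k ≤ k * (2 * k) ^ k * m.choose k := by
  have hprod : ∀ j, j ≤ k → m ^ j * (2 * k).descFactorial j ≤ (2 * k) ^ j * m.descFactorial j := by
    intro j
    induction j with
    | zero => simp
    | succ j ih =>
      intro hj
      rw [Nat.descFactorial_succ, Nat.descFactorial_succ]
      have h1 := ih (by omega)
      have h2 : m * (2 * k - j) ≤ 2 * k * (m - j) := by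
        rw [Nat.mul_sub, Nat.mul_sub]
        have : 2 * k * j ≤ m * j := Nat.mul_le_mul_right j hkm
        have : 2 * k * j ≤ 2 * k * m := Nat.mul_le_mul_left _ (by omega)
        rw [Nat.mul_comm m (2 * k)] at *
        omega
      calc m ^ (j + 1) * ((2 * k - j) * (2 * k).descFactorial j)
          = (m * (2 * k - j)) * (m ^ j * (2 * k).descFactorial j) := by ring
        _ ≤ (2 * k * (m - j)) * ((2 * k) ^ j * m.descFactorial j) := Nat.mul_le_mul h2 h1
        _ = (2 * k) ^ (j + 1) * ((m - j) * m.descFactorial j) := by ring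
  have h := hprod k le_rfl
  rw [Nat.descFactorial_eq_factorial_mul_choose, Nat.descFactorial_eq_factorial_mul_choose] at h
  have h' : m ^ k * (2 * k).choose k ≤ (2 * k) ^ k * m.choose k :=
    Nat.le_of_mul_le_mul_left (by linarith : k.factorial * (m ^ k * (2 * k).choose k) ≤
      k.factorial * ((2 * k) ^ k * m.choose k)) (Nat.factorial_pos k)
  have hc := Nat.four_pow_lt_mul_centralBinom k hk
  rw [Nat.centralBinom_eq_two_mul_choose] at hc
  calc 4 ^ k * m ^ k ≤ k * (2 * k).choose k * m ^ k := Nat.mul_le_mul_right _ hc.le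
    _ = k * (m ^ k * (2 * k).choose k) := by ring
    _ ≤ k * ((2 * k) ^ k * m.choose k) := Nat.mul_le_mul_left _ h'
    _ = _ := by ring

theorem exp_dom : ∀ L, 10 ≤ L → (L ^ 4 ≤ 16 * max 1000 (2 ^ (L - 1))) ∧ (5 * (L + 3) ^ 2 ≤ max 1000 (2 ^ (L - 1))) := by
  intro L hL
  induction L, hL using Nat.le_induction with
  | base => norm_num
  | succ L hL ih =>
    rcases eq_or_lt_of_le hL with rfl | hL'
    · norm_num
    have hpow : 1024 ≤ 2 ^ (L - 1) :=
      le_trans (by norm_num) (Nat.pow_le_pow_right (by norm_num) (show 10 ≤ L - 1 by omega))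
    have e : 2 ^ (L + 1 - 1) = 2 * 2 ^ (L - 1) := by
      rw [← pow_succ']; congr 1; omega
    rw [max_eq_right (by omega)] at ih
    rw [max_eq_right (by omega), e]
    constructor
    · have h1 : (L + 1) ^ 4 * 10000 ≤ L ^ 4 * 14641 := by
        have := Nat.pow_le_pow_left (show 10 * (L + 1) ≤ 11 * L by omega) 4
        linarith
      linarith [ih.1]
    · nlinarith [ih.2]

set_option maxHeartbeats 1000000 in
/-- The analytic range. -/
theorem large (hk : 1000 ≤ k) (hkm : 2 * k ≤ m) (hmk : m ^ 2 ≤ k ^ 3)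
    (hsmall : ∀ p : ℕ, p.Prime → p ∣ m.choose k → p ≤ k) : False := by
  have hlow := central_le (m := m) (by omega : 4 ≤ k) hkm
  have hup := choose_le_four_pow (k := k) (by omega) hkm (by omega) hsmall
  obtain ⟨B, hB⟩ : ∃ B, B = min k (m / 3) := ⟨_, rfl⟩
  obtain ⟨s, hs⟩ : ∃ s, s = Nat.primeCounting (Nat.sqrt m) := ⟨_, rfl⟩
  obtain ⟨L, hL⟩ : ∃ L, L = Nat.log 2 k + 1 := ⟨_, rfl⟩
  rw [← hB, ← hs] at hup
  have hBk : B ≤ k := hB ▸ min_le_left _ _
  have hBm : 3 * B ≤ m := by have := min_le_right k (m / 3); omega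
  have hs9 : 9 * s ^ 2 ≤ m := by
    have h33 : 33 ≤ Nat.sqrt m := Nat.le_sqrt.2 (by omega)
    have h3 := three_mul_primeCounting h33
    rw [← hs] at h3
    have := Nat.pow_le_pow_left h3 2
    have := Nat.sqrt_le' m
    linarith
  have hkL : k < 2 ^ L := hL ▸ Nat.lt_pow_succ_log_self (by norm_num) k
  have hL10 : 10 ≤ L := by
    have : 9 ≤ Nat.log 2 k := Nat.le_log_of_pow_le (by norm_num) (by omega)
    omega
  have hLk : 2 ^ (L - 1) ≤ k := by
    rw [hL, Nat.add_sub_cancel]; exact Nat.pow_log_le_self 2 (by omega)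
  obtain ⟨hdom4, hdom2⟩ := exp_dom L hL10
  have hmax : max 1000 (2 ^ (L - 1)) ≤ k := max_le hk hLk
  have hL4 : L ^ 4 ≤ 16 * k := hdom4.trans (Nat.mul_le_mul_left _ hmax)
  have hL2 : 5 * (L + 3) ^ 2 ≤ k := hdom2.trans hmax
  -- everything to the fifth power
  have main : (4 * m) ^ (5 * k) ≤ k ^ 5 * (2 * k) ^ (5 * k) * (m ^ (5 * s) * 2 ^ (10 * B)) := by
    have h := Nat.pow_le_pow_left (hlow.trans (Nat.mul_le_mul_left _ hup)) 5
    calc (4 * m) ^ (5 * k) = (4 ^ k * m ^ k) ^ 5 := by rw [← mul_pow, ← pow_mul]; ring_nf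
      _ ≤ _ := h
      _ = _ := by
        rw [show (4 : ℕ) = 2 ^ 2 by norm_num, ← pow_mul]; ring
  have hk0 : 0 < (2 * k) ^ (5 * k) := by positivity
  have hk5 : k ^ 5 ≤ 2 ^ (5 * L) := by
    rw [mul_comm 5 L, pow_mul]; exact Nat.pow_le_pow_left hkL.le 5
  have band : ∀ (c d t : ℕ), 0 < d → 2 * k * c ≤ 4 * m * d → d ^ 5 * 2 ^ t ≤ c ^ 5 →
      m ^ (5 * s) * k ^ 5 * 2 ^ (10 * B) < 2 ^ (t * k) → False := by
    intro c d t hd h1 h2 h3
    have h4 := Nat.mul_le_mul_right (d ^ (5 * k)) main
    rw [← mul_pow] at h4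
    have h5 : (2 * k * c) ^ (5 * k) ≤
        k ^ 5 * (2 * k) ^ (5 * k) * (m ^ (5 * s) * 2 ^ (10 * B)) * d ^ (5 * k) :=
      (Nat.pow_le_pow_left h1 _).trans h4
    have h6 : (d ^ 5 * 2 ^ t) ^ k ≤ c ^ (5 * k) := by
      rw [pow_mul c]; exact Nat.pow_le_pow_left h2 k
    rw [mul_pow (2 * k) c] at h5
    have h7 : (2 * k) ^ (5 * k) * (d ^ (5 * k) * 2 ^ (t * k)) ≤
        (2 * k) ^ (5 * k) * (d ^ (5 * k) * (m ^ (5 * s) * k ^ 5 * 2 ^ (10 * B))) := by
      refine le_trans (Nat.mul_le_mul_left _ ?_) (h5.trans_eq (by ring))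
      rw [pow_mul d, pow_mul 2 t, ← mul_pow]; exact h6
    have := Nat.le_of_mul_le_mul_left (Nat.le_of_mul_le_mul_left h7 hk0) (by positivity)
    omega
  by_cases h6 : m < 6 * k
  · have hmL : m ≤ 2 ^ (L + 3) := by
      rw [pow_add]; omega
    have hexp : 5 * s * (L + 3) + 5 * L < 2 * k := by
      have h1 : 15 * (s * (L + 3)) ^ 2 ≤ 2 * k ^ 2 := by
        have := Nat.mul_le_mul (show 3 * s ^ 2 ≤ 2 * k by omega) hL2
        linarith
      have h2 : 10 * (s * (L + 3)) ≤ 4 * k := by
        by_contra hc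
        have := Nat.pow_lt_pow_left (Nat.lt_of_not_le hc) (n := 2) (by norm_num)
        nlinarith
      have h3 : 5 * L * 10 ≤ k := by nlinarith
      nlinarith
    have hf : m ^ (5 * s) * k ^ 5 < 2 ^ (2 * k) := by
      calc m ^ (5 * s) * k ^ 5 ≤ (2 ^ (L + 3)) ^ (5 * s) * 2 ^ (5 * L) :=
            Nat.mul_le_mul (Nat.pow_le_pow_left hmL _) hk5
        _ < _ := by
          rw [← pow_mul, ← pow_add]; exact Nat.pow_lt_pow_right (by norm_num) (by linarith)
    have fin : ∀ t e, 10 * B ≤ e * k → e + 2 ≤ t →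
        m ^ (5 * s) * k ^ 5 * 2 ^ (10 * B) < 2 ^ (t * k) := fun t e he het => by
      refine lt_of_lt_of_le (Nat.mul_lt_mul_of_pos_right hf (by positivity)) ?_
      rw [← pow_add]
      exact Nat.pow_le_pow_right (by norm_num) (by nlinarith)
    by_cases b1 : 5 * m ≤ 12 * k
    · exact band 4 1 10 one_pos (by omega) (by norm_num) (fin 10 8 (by omega) (by norm_num))
    by_cases b2 : 10 * m ≤ 27 * k
    · exact band 24 5 11 (by norm_num) (by omega) (by norm_num) (fin 11 9 (by omega) (by norm_num))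
    · exact band 27 5 12 (by norm_num) (by omega) (by norm_num) (fin 12 10 (by omega) (by norm_num))
  · have hmL : m ≤ 2 ^ (2 * L) := by
      by_contra hc
      have h1 := Nat.pow_lt_pow_left (Nat.lt_of_not_le hc) (n := 2) (by norm_num)
      have h2 := Nat.pow_le_pow_left hkL.le 3
      rw [← pow_mul] at h1 h2
      have h3 : (2 : ℕ) ^ (L * 3) ≤ 2 ^ (2 * L * 2) := Nat.pow_le_pow_right (by norm_num) (by omega)
      omega
    have hexp : 5 * s * (2 * L) + 5 * L < 7 * k := by
      have h1 : 81 * (s * L) ^ 4 ≤ 16 * k ^ 4 := by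
        have h2 := Nat.mul_le_mul ((Nat.pow_le_pow_left hs9 2).trans hmk) hL4
        linarith
      have h2 : 10 * (s * L) ≤ 68 * k / 10 := by
        rw [Nat.le_div_iff_mul_le (by norm_num)]
        by_contra hc
        have := Nat.pow_lt_pow_left (Nat.lt_of_not_le hc) (n := 4) (by norm_num)
        linarith [Nat.zero_le (k ^ 4)]
      have h3 : 5 * L * 10 ≤ k := by nlinarith
      rw [show 5 * s * (2 * L) = 10 * (s * L) by ring]
      omega
    refine band 12 1 17 one_pos (by omega) (by norm_num) ?_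
    calc m ^ (5 * s) * k ^ 5 * 2 ^ (10 * B) ≤ (2 ^ (2 * L)) ^ (5 * s) * 2 ^ (5 * L) * 2 ^ (10 * B) :=
          Nat.mul_le_mul_right _ (Nat.mul_le_mul (Nat.pow_le_pow_left hmL _) hk5)
      _ < _ := by
        rw [← pow_mul, ← pow_add, ← pow_add]; exact Nat.pow_lt_pow_right (by norm_num) (by linarith)

theorem medium_bound : ∀ k < 33, 2 ≤ k → k ^ k < 256 ^ (k - Nat.primeCounting k) := by decide +kernel

/-- The Sylvester-Schur theorem. -/
theorem sylvester_schur (hk : 1 ≤ k) (hkm : 2 * k ≤ m) : ∃ p, p.Prime ∧ k < p ∧ p ∣ m.choose k := by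
  by_cases h256 : m < 256
  · exact small h256 hk hkm
  by_contra hc
  push Not at hc
  have hsmall : ∀ p : ℕ, p.Prime → p ∣ m.choose k → p ≤ k := fun p hp hd => by
    by_contra h; exact hc p hp (Nat.lt_of_not_le h) hd
  rcases eq_or_lt_of_le hk with rfl | hk2
  · obtain ⟨p, hp, hd⟩ := Nat.exists_prime_and_dvd (n := m.choose 1) (by simp; omega)
    exact absurd (hsmall p hp hd) (by have := hp.two_le; omega)
  have hle := choose_le_pow_primeCounting (k := k) (by omega) (by omega) hsmall
  have hlow : m ^ k ≤ k ^ k * m.choose k := by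
    have hprod : ∀ j, j ≤ k → m ^ j * k.descFactorial j ≤ k ^ j * m.descFactorial j := by
      intro j
      induction j with
      | zero => simp
      | succ j ih =>
        intro hj
        rw [Nat.descFactorial_succ, Nat.descFactorial_succ]
        have h2 : m * (k - j) ≤ k * (m - j) := by
          rw [Nat.mul_sub, Nat.mul_sub]
          have : k * j ≤ m * j := Nat.mul_le_mul_right j (by omega)
          have : k * j ≤ k * m := Nat.mul_le_mul_left _ (by omega)
          rw [Nat.mul_comm m k] at *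
          omega
        calc m ^ (j + 1) * ((k - j) * k.descFactorial j)
            = (m * (k - j)) * (m ^ j * k.descFactorial j) := by ring
          _ ≤ (k * (m - j)) * (k ^ j * m.descFactorial j) := Nat.mul_le_mul h2 (ih (by omega))
          _ = k ^ (j + 1) * ((m - j) * m.descFactorial j) := by ring
    have h := hprod k le_rfl
    rw [Nat.descFactorial_self, Nat.descFactorial_eq_factorial_mul_choose] at h
    exact Nat.le_of_mul_le_mul_left (by linarith : k.factorial * m ^ k ≤ k.factorial * (k ^ k * m.choose k))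
      (Nat.factorial_pos k)
  have hπk : Nat.primeCounting k ≤ k := by
    have := Nat.monotone_primeCounting
    rw [Nat.primeCounting, Nat.primeCounting', Nat.count_eq_card_filter_range]
    refine (Finset.card_le_card (t := Finset.Icc 1 k) fun p hp => ?_).trans (by simp)
    simp only [Finset.mem_filter, Finset.mem_range] at hp
    exact Finset.mem_Icc.2 ⟨hp.2.one_le, by omega⟩
  have hpow : m ^ (k - Nat.primeCounting k) ≤ k ^ k := by
    refine Nat.le_of_mul_le_mul_right ?_ (Nat.pow_pos (n := Nat.primeCounting k) (show 0 < m by omega))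
    rw [← pow_add, Nat.sub_add_cancel hπk]
    exact hlow.trans (Nat.mul_le_mul_left _ hle)
  by_cases h33 : k < 33
  · have h1 := medium_bound k h33 hk2
    have h2 := Nat.pow_le_pow_left (show 256 ≤ m by omega) (k - Nat.primeCounting k)
    omega
  have hmk : m ^ 2 ≤ k ^ 3 := by
    have h3 := three_mul_primeCounting (show 33 ≤ k by omega)
    have h1 : (m ^ 2) ^ k ≤ (k ^ 3) ^ k := by
      rw [← pow_mul, ← pow_mul]
      calc m ^ (2 * k) ≤ m ^ (3 * (k - Nat.primeCounting k)) := Nat.pow_le_pow_right (by omega) (by omega)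
        _ = (m ^ (k - Nat.primeCounting k)) ^ 3 := by rw [← pow_mul, mul_comm]
        _ ≤ (k ^ k) ^ 3 := Nat.pow_le_pow_left hpow 3
        _ = _ := by rw [← pow_mul, mul_comm]
    exact (Nat.pow_le_pow_iff_left (by omega)).1 h1
  by_cases hbig : 1000 ≤ k
  · exact large hbig hkm hmk hsmall
  · have hm : m < 32119 := by
      by_contra h
      have h1 := Nat.pow_le_pow_left (Nat.le_of_not_lt h) 2
      have h2 := Nat.pow_le_pow_left (show k ≤ 999 by omega) 3
      omega
    obtain ⟨p, hp, hkp, hd⟩ := middle (by omega) hm hkm hmk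
    exact hc p hp hkp hd

end Cfsg.Agent.Recog.SylvesterSchur
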