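import Cfsg.Agent.Lib.Recog.Derangement

/-!
# Derangements in primitive groups that are neither affine nor almost simple
-/

namespace Cfsg.Agent.Recog

open MulAction

variable {G Ω : Type*} [Group G] [MulAction G Ω]

/-- Almost simple: a non-abelian simple normal subgroup with trivial centraliser. -/
def IsAlmostSimple' (G : Type*) [Group G] : Prop :=
  ∃ T : Subgroup G, T.Normal ∧ IsSimpleGroup T ∧ ¬ IsMulCommutative T ∧
    Subgroup.centralizer (T : Set G) = ⊥

theorem factor_map_conj_ne_or {N T : Subgroup G} (hmin : IsMinNormal N) (hT : IsFactor N T) :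
    (∃ g : G, T.map (MulAut.conj g).toMonoidHom ≠ T) ∨ T = N := by
  by_cases h : ∃ g : G, T.map (MulAut.conj g).toMonoidHom ≠ T
  · exact Or.inl h
  · push Not at h
    exact Or.inr (le_antisymm hT.le (hmin.le_of_conj_le hT fun g => (h g).le))

/-- Two semiregular commuting subgroups neither of prime power order give three derangements
of different orders, one of them of order divisible by two given primes. -/
theorem three_orders [Finite G] {T U : Subgroup G} {x c : G}
    (hT : ∀ a ∈ T, a ≠ 1 → IsDerangement Ω a) (hU : ∀ a ∈ U, a ≠ 1 → IsDerangement Ω a)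
    (hx : x ∈ T) (hc : c ∈ U) (hcom : Commute x c) (hxp : (orderOf x).Prime)
    (hcp : (orderOf c).Prime) (hne : orderOf x ≠ orderOf c) :
    IsDerangement Ω x ∧ IsDerangement Ω c ∧ IsDerangement Ω (x * c) ∧
      orderOf (x * c) = orderOf x * orderOf c := by
  have hx1 : x ≠ 1 := fun h => Nat.not_prime_one (orderOf_one (G := G) ▸ h ▸ hxp)
  have hc1 : c ≠ 1 := fun h => Nat.not_prime_one (orderOf_one (G := G) ▸ h ▸ hcp)
  have hco : (orderOf x).Coprime (orderOf c) := (Nat.coprime_primes hxp hcp).2 hne
  exact ⟨hT x hx hx1, hU c hc hc1, (hT x hx hx1).mul_of_coprime hcom hco.symm,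
    hcom.orderOf_mul_eq_mul_orderOf_of_coprime hco⟩

/-- The basic structural alternative behind all statements about derangements in this family. -/
theorem three_classes [Finite G] [Finite Ω] [FaithfulSMul G Ω] [IsQuasiPreprimitive G Ω]
    [Nonempty Ω] (hnas : ¬ IsAlmostSimple' G)
    {N : Subgroup G} (hmin : IsMinNormal N) (hc : ¬ IsMulCommutative N)
    (hcomp : ∀ M : Subgroup G, IsMinNormal M → ¬ IsMulCommutative M) :
    (∃ d : Fin 3 → G, (∀ i, IsDerangement Ω (d i)) ∧ ∀ i j, IsConj (d i) (d j) → i = j) ∧
      ∀ p : ℕ, p.Prime → ∃ g : G, IsDerangement Ω g ∧ ∃ q : ℕ, q.Prime ∧ q ≠ p ∧ q ∣ orderOf g := by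
  classical
  have := isPretransitive_of_normal (Ω := Ω) hmin.normal hmin.ne_bot
  have := hmin.normal
  obtain ⟨T, hT⟩ := exists_isFactor hmin.ne_bot
  have hTs := hmin.isSimpleGroup_factor hT
  have hTc := hmin.not_commutative_factor hT hc
  -- the semiregular case, given a second group commuting with `T`
  have semi : ∀ U : Subgroup G, (∀ a ∈ T, a ≠ 1 → IsDerangement Ω a) →
      (∀ a ∈ U, a ≠ 1 → IsDerangement Ω a) → IsSimpleGroup U → ¬ IsMulCommutative U →
      (∀ a ∈ T, ∀ b ∈ U, Commute a b) →
      (∃ d : Fin 3 → G, (∀ i, IsDerangement Ω (d i)) ∧ ∀ i j, IsConj (d i) (d j) → i = j) ∧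
        ∀ p : ℕ, p.Prime →
          ∃ g : G, IsDerangement Ω g ∧ ∃ q : ℕ, q.Prime ∧ q ≠ p ∧ q ∣ orderOf g := by
    intro U hTd hUd hUs hUc hcom
    obtain ⟨c, hcU, hcp, -⟩ := exists_prime_orderOf_ne hUs hUc 0
    obtain ⟨x, hxT, hxp, hxne⟩ := exists_prime_orderOf_ne hTs hTc (orderOf c)
    obtain ⟨d1, d2, d3, ho⟩ := three_orders hTd hUd hxT hcU (hcom x hxT c hcU) hxp hcp hxne
    have h12 : orderOf x * orderOf c ≠ orderOf x := fun h =>
      hcp.one_lt.ne' ((mul_eq_left₀ hxp.ne_zero).1 h)
    have h13 : orderOf x * orderOf c ≠ orderOf c := fun h =>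
      hxp.one_lt.ne' ((mul_eq_right₀ hcp.ne_zero).1 h)
    refine ⟨⟨![x, c, x * c], ?_, ?_⟩, ?_⟩
    · intro i; fin_cases i <;> assumption
    · intro i j hij
      have := orderOf_eq_of_isConj hij
      fin_cases i <;> fin_cases j <;> first
        | rfl
        | (exfalso
           simp only [Fin.zero_eta, Fin.isValue, Matrix.cons_val_zero, Fin.mk_one, Matrix.cons_val_one,
             Fin.reduceFinMk, Matrix.cons_val_two, Matrix.cons_val, Matrix.tail_cons,
             Matrix.head_cons] at this
           omega)
    · intro p hp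
      by_cases h : orderOf x = p
      · exact ⟨c, d2, orderOf c, hcp, by rw [← h]; exact hxne.symm, dvd_rfl⟩
      · exact ⟨x, d1, orderOf x, hxp, h, dvd_rfl⟩
  rcases factor_map_conj_ne_or hmin hT with ⟨g, hg⟩ | hTN
  · have hU : IsFactor N (T.map (MulAut.conj g).toMonoidHom) := hT.map_conj hmin.normal g
    set U := T.map (MulAut.conj g).toMonoidHom with hUdef
    have hUs := hmin.isSimpleGroup_factor hU
    have hUc := hmin.not_commutative_factor hU hc
    have hcom : ∀ a ∈ T, ∀ b ∈ U, Commute a b := fun a ha b hb => hT.commute hU (Ne.symm hg) ha hb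
    by_cases hsemi : ∀ a ∈ U, a ≠ 1 → IsDerangement Ω a
    · refine semi U ?_ hsemi hUs hUc hcom
      intro a ha ha1
      have h := hsemi (g * a * g⁻¹) ⟨a, ha, by simp⟩
        (fun h => ha1 (conj_eq_one_iff.1 h))
      simpa [mul_assoc] using h.conj g⁻¹
    · rcases semiregular_or_exists_derangement (Ω := Ω) hmin hT with hTd | ⟨x, hxT, hxc⟩
      · exfalso
        refine hsemi fun a ha ha1 => ?_
        obtain ⟨b, hb, rfl⟩ := ha
        have hb1 : b ≠ 1 := by
          rintro rfl
          exact ha1 (by simp)
        simpa using (hTd b hb hb1).conj g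
      have hx : IsDerangement Ω x := by simpa using hxc 1 (one_mem N) (one_mem _)
      simp only [IsDerangement, not_forall, not_not] at hsemi
      obtain ⟨r, hrU, hr1, ω, hrω⟩ := hsemi
      let x' := g * x * g⁻¹
      have hx'U : x' ∈ U := ⟨x, hxT, by simp [x']⟩
      have hx' : IsDerangement Ω x' := hx.conj g
      -- uniqueness of decompositions over two factors
      have key : ∀ (A B : Subgroup G) (u v a b : G), IsFactor N A → IsFactor N B → a ∈ A → b ∈ B →
          a ≠ 1 → b ≠ 1 → u ∈ T → v ∈ U → u ≠ 1 → v ≠ 1 → A ≠ B → u * v = a * b →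
          (a = u ∧ b = v) ∨ (a = v ∧ b = u) := by
        intro A B u v a b hA hB ha hb ha1 hb1 hu hv hu1 hv1 hAB he
        have hin : ∀ (S : Subgroup G) (s : G), IsFactor N S → s ∈ S → s ≠ 1 →
            (∀ z ∈ S, Commute z (u * v)) → S ≠ T ∧ S ≠ U := by
          intro S s hS hs hs1 hall
          constructor
          · rintro rfl
            apply hu1
            have hz : ∀ z ∈ S, Commute z u := by
              intro z hz
              have := (hall z hz).mul_right ((hcom z hz v hv).inv_right)
              simpa [mul_assoc] using this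
            have : (⟨u, hu⟩ : S) ∈ Subgroup.center S :=
              Subgroup.mem_center_iff.2 fun z => Subtype.ext (hz z z.2).eq
            rcases hTs.eq_bot_or_eq_top_of_normal (Subgroup.center S) inferInstance with hb' | ht
            · rw [hb', Subgroup.mem_bot] at this
              exact congrArg Subtype.val this
            · exact absurd ⟨⟨fun p q => (Subgroup.mem_center_iff.1
                (ht ▸ Subgroup.mem_top q : q ∈ Subgroup.center S) p)⟩⟩ hTc
          · rintro rfl
            apply hv1
            have hz : ∀ z ∈ U, Commute z v := by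
              intro z hz
              have := ((hcom u hu z hz).symm.inv_right).mul_right (hall z hz)
              simpa [← mul_assoc] using this
            have : (⟨v, hv⟩ : U) ∈ Subgroup.center U :=
              Subgroup.mem_center_iff.2 fun z => Subtype.ext (hz z z.2).eq
            rcases hUs.eq_bot_or_eq_top_of_normal (Subgroup.center U) inferInstance with hb' | ht
            · rw [hb', Subgroup.mem_bot] at this
              exact congrArg Subtype.val this
            · exact absurd ⟨⟨fun p q => (Subgroup.mem_center_iff.1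
                (ht ▸ Subgroup.mem_top q : q ∈ Subgroup.center U) p)⟩⟩ hUc
        -- every factor distinct from `A` and `B` commutes with the product
        have hout : ∀ S : Subgroup G, IsFactor N S → S ≠ A → S ≠ B → ∀ z ∈ S, Commute z (u * v) := by
          intro S hS hSA hSB z hz
          rw [he]
          exact (hS.commute hA hSA hz ha).mul_right (hS.commute hB hSB hz hb)
        have hTin : T = A ∨ T = B := by
          by_contra h
          push Not at h
          exact (hin T u hT hu hu1 (hout T hT h.1 h.2)).1 rfl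
        have hUin : U = A ∨ U = B := by
          by_contra h
          push Not at h
          exact (hin U v hU hv hv1 (hout U hU h.1 h.2)).2 rfl
        have uniq : ∀ s ∈ T, ∀ t ∈ U, u * v = s * t → s = u ∧ t = v := by
          intro s hs t ht hst
          have h1 : s⁻¹ * u = t * v⁻¹ := by
            rw [eq_mul_inv_iff_mul_eq, mul_assoc, hst]; simp
          have h2 : s⁻¹ * u ∈ T ⊓ U :=
            Subgroup.mem_inf.2 ⟨mul_mem (inv_mem hs) hu, h1 ▸ mul_mem ht (inv_mem hv)⟩
          rw [hT.inf_eq_bot hU (Ne.symm hg), Subgroup.mem_bot] at h2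
          have hsu : s = u := inv_mul_eq_one.1 h2
          exact ⟨hsu, by rw [hsu] at hst; exact (mul_left_cancel hst).symm⟩
        rcases hTin with rfl | rfl
        · rcases hUin with h | rfl
          · exact absurd h hg
          · exact Or.inl (uniq a ha b hb he)
        · rcases hUin with rfl | h
          · right
            have hab : a * b = b * a := (hcom b hb a ha).eq.symm
            obtain ⟨h1, h2⟩ := uniq b hb a ha (by rw [he, hab])
            exact ⟨h2, h1⟩
          · exact absurd h hg
      let P : G → Prop := fun n => ∃ A : Subgroup G, IsFactor N A ∧ n ∈ A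
      let Q : G → Prop := fun n => ∃ A B : Subgroup G, IsFactor N A ∧ IsFactor N B ∧ A ≠ B ∧
        ∃ a ∈ A, ∃ b ∈ B, IsDerangement Ω a ∧ IsDerangement Ω b ∧ n = a * b
      have hPinv : ∀ m n : G, IsConj m n → P m → P n := by
        rintro m n hmn ⟨A, hA, hm⟩
        obtain ⟨c, rfl⟩ := isConj_iff.1 hmn
        exact ⟨_, hA.map_conj hmin.normal c, m, hm, by simp⟩
      have hQinv : ∀ m n : G, IsConj m n → Q m → Q n := by
        rintro m n hmn ⟨A, B, hA, hB, hAB, a, ha, b, hb, hda, hdb, rfl⟩
        obtain ⟨c, rfl⟩ := isConj_iff.1 hmn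
        refine ⟨_, _, hA.map_conj hmin.normal c, hB.map_conj hmin.normal c,
          fun h => hAB (Subgroup.map_injective (MulAut.conj c).injective h),
          c * a * c⁻¹, ⟨a, ha, by simp⟩, c * b * c⁻¹, ⟨b, hb, by simp⟩, hda.conj c, hdb.conj c, ?_⟩
        group
      have hx1 := hx.ne_one
      have hx'1 := hx'.ne_one
      have notP : ∀ v ∈ U, v ≠ 1 → ¬ P (x * v) := by
        rintro v hv hv1 ⟨A, hA, hA'⟩
        by_cases hAT : A = T
        · subst hAT
          have : v ∈ A ⊓ U := Subgroup.mem_inf.2 ⟨by simpa using mul_mem (inv_mem hxT) hA', hv⟩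
          rw [hT.inf_eq_bot hU (Ne.symm hg), Subgroup.mem_bot] at this
          exact hv1 this
        · have hall : ∀ z ∈ T, Commute z x := by
            intro z hz
            have := (hT.commute hA (Ne.symm hAT) hz hA').mul_right ((hcom z hz v hv).inv_right)
            simpa [mul_assoc] using this
          have : (⟨x, hxT⟩ : T) ∈ Subgroup.center T :=
            Subgroup.mem_center_iff.2 fun z => Subtype.ext (hall z z.2).eq
          rcases hTs.eq_bot_or_eq_top_of_normal (Subgroup.center T) inferInstance with hb' | ht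
          · rw [hb', Subgroup.mem_bot] at this
            exact hx1 (congrArg Subtype.val this)
          · exact hTc ⟨⟨fun p q => (Subgroup.mem_center_iff.1
              (ht ▸ Subgroup.mem_top q : q ∈ Subgroup.center T) p)⟩⟩
      have hP0 : P x := ⟨T, hT, hxT⟩
      have hQ1 : Q (x * x') := ⟨T, U, hT, hU, Ne.symm hg, x, hxT, x', hx'U, hx, hx', rfl⟩
      have hQ2 : ¬ Q (x * r) := by
        rintro ⟨A, B, hA, hB, hAB, a, ha, b, hb, hda, hdb, he⟩
        rcases key A B x r a b hA hB ha hb hda.ne_one hdb.ne_one hxT hrU hx1 hr1 hAB he with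
          ⟨-, rfl⟩ | ⟨rfl, -⟩
        · exact hdb ω hrω
        · exact hda ω hrω
      -- a derangement in `T` times anything in `U` is a derangement
      have dmul : ∀ v ∈ U, IsDerangement Ω (x * v) := fun v hv =>
        hxc v (hU.le hv) (Subgroup.mem_centralizer_iff.2 fun t ht => (hcom t ht v hv).eq)
      have dvd : ∀ v ∈ U, orderOf v ∣ orderOf (x * v) := by
        intro v hv
        refine orderOf_dvd_of_pow_eq_one ?_
        have h1 := pow_orderOf_eq_one (x * v)
        rw [(hcom x hxT v hv).mul_pow] at h1
        have h2 : v ^ orderOf (x * v) ∈ T ⊓ U := by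
          refine Subgroup.mem_inf.2 ⟨?_, pow_mem hv _⟩
          rw [← inv_eq_of_mul_eq_one_right h1]
          exact inv_mem (pow_mem hxT _)
        rwa [hT.inf_eq_bot hU (Ne.symm hg), Subgroup.mem_bot] at h2
      refine ⟨⟨![x, x * x', x * r], ?_, ?_⟩, ?_⟩
      · intro i; fin_cases i
        · exact hx
        · exact dmul x' hx'U
        · exact dmul r hrU
      · intro i j hij
        fin_cases i <;> fin_cases j <;> first | rfl | exfalso
        · exact notP x' hx'U hx'1 (hPinv _ _ hij hP0)
        · exact notP r hrU hr1 (hPinv _ _ hij hP0)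
        · exact notP x' hx'U hx'1 (hPinv _ _ hij.symm hP0)
        · exact hQ2 (hQinv _ _ hij hQ1)
        · exact notP r hrU hr1 (hPinv _ _ hij.symm hP0)
        · exact hQ2 (hQinv _ _ hij.symm hQ1)
      · intro p hp
        obtain ⟨y, hyU, hyp, hyne⟩ := exists_prime_orderOf_ne hUs hUc p
        exact ⟨x * y, dmul y hyU, orderOf y, hyp, hyne, dvd y hyU⟩
  · subst hTN
    have hC : Subgroup.centralizer (T : Set G) ≠ ⊥ := fun h => hnas ⟨T, hmin.normal, hTs, hTc, h⟩
    have hCn : (Subgroup.centralizer (T : Set G)).Normal := inferInstance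
    obtain ⟨M, hM, hMC⟩ := exists_isMinNormal_le hCn hC
    have := isPretransitive_of_normal (Ω := Ω) hM.normal hM.ne_bot
    have hMc := hcomp M hM
    obtain ⟨U, hU⟩ := exists_isFactor hM.ne_bot
    refine semi U ?_ ?_ (hM.isSimpleGroup_factor hU) (hM.not_commutative_factor hU hMc) ?_
    · exact fun a ha ha1 => isDerangement_of_centralizes (C := M) ha1
        fun m hm => (Subgroup.mem_centralizer_iff.1 (hMC hm) a ha).symm
    · exact fun a ha ha1 => isDerangement_of_centralizes (C := T) ha1
        fun t ht => Subgroup.mem_centralizer_iff.1 (hMC (hU.le ha)) t ht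
    · exact fun a ha b hb => Subgroup.mem_centralizer_iff.1 (hMC (hU.le hb)) a ha

end Cfsg.Agent.Recog
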