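import Cfsg.Agent.Lib.Recog.PGLTwoOrders
import Cfsg.Agent.Lib.Recog.Spectrum

/-!
The twisted tensor module `2 ⊗ 2^σ` of `PSL(2, 3^α)` extended by `-1`, and the element orders of the
semidirect product.
-/

set_option autoImplicit false

namespace Cfsg.Agent.Recog.TwistThree

open Matrix

variable {K : Type} [Field K] [CharP K 3]

local notation "M2" => Matrix (Fin 2) (Fin 2) K
local notation "SL2" => Matrix.SpecialLinearGroup (Fin 2) K
local notation "PSL2" => Matrix.ProjectiveSpecialLinearGroup (Fin 2) K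

/-- The twisted copy of a matrix. -/
def tw : SL2 →* SL2 := Matrix.SpecialLinearGroup.map (haveI : ExpChar K 3 := ExpChar.prime Nat.prime_three; frobenius K 3)

theorem coe_tw (M : SL2) (i j : Fin 2) : (tw M : M2) i j = (M : M2) i j ^ 3 := rfl

theorem trace_tw (M : SL2) : (tw M : M2).trace = (M : M2).trace ^ 3 := by
  haveI : Fact (Nat.Prime 3) := ⟨Nat.prime_three⟩
  rw [Matrix.trace_fin_two, Matrix.trace_fin_two, coe_tw, coe_tw, add_pow_char]

/-- `X ↦ M X (M^σ)ᵀ`. -/
def act (M : SL2) (X : M2) : M2 := (M : M2) * X * (tw M : M2)ᵀ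

theorem act_one (X : M2) : act 1 X = X := by
  rw [act, map_one, Matrix.SpecialLinearGroup.coe_one, transpose_one, one_mul, mul_one]

theorem act_mul (M N : SL2) (X : M2) : act (M * N) X = act M (act N X) := by
  simp only [act, map_mul, Matrix.SpecialLinearGroup.coe_mul, transpose_mul, mul_assoc]

theorem act_add (M : SL2) (X Y : M2) : act M (X + Y) = act M X + act M Y := by
  simp only [act, mul_add, add_mul]

/-- The action of `SL₂`. -/
def slAct : SL2 →* MulAut (Multiplicative M2) where
  toFun M := AddEquiv.toMultiplicative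
    { toFun := act M
      invFun := act M⁻¹
      left_inv := fun X => by rw [← act_mul, inv_mul_cancel, act_one]
      right_inv := fun X => by rw [← act_mul, mul_inv_cancel, act_one]
      map_add' := act_add M }
  map_one' := MulEquiv.ext fun X => congrArg Multiplicative.ofAdd (act_one X.toAdd)
  map_mul' M N := MulEquiv.ext fun X => congrArg Multiplicative.ofAdd (act_mul M N X.toAdd)

theorem center_le : Subgroup.center SL2 ≤ (slAct (K := K)).ker := by
  intro M hM
  obtain ⟨c, hc, hcM⟩ := Matrix.SpecialLinearGroup.mem_center_iff.1 hM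
  refine MulEquiv.ext fun X => congrArg Multiplicative.ofAdd ?_
  show act M X.toAdd = X.toAdd
  have h1 : (M : M2) = c • (1 : M2) := by rw [← hcM]; simp [Matrix.smul_one_eq_diagonal]
  have h2 : (tw M : M2) = c ^ 3 • (1 : M2) := by
    ext i j
    rw [coe_tw, h1]
    by_cases h : i = j <;> simp [h]
  have hc2 : c ^ 2 = 1 := by simpa using hc
  rw [act, h1, h2, transpose_smul, transpose_one, smul_one_mul, mul_smul_comm, mul_one, smul_smul,
    ← pow_succ, show c ^ 4 = (c ^ 2) ^ 2 by ring, hc2, one_pow, one_smul]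

/-- The action of `PSL₂`. -/
def pslAct : PSL2 →* MulAut (Multiplicative M2) := QuotientGroup.lift _ slAct center_le

omit [CharP K 3] in
/-- The scalar action of `±1`. -/
def signAct : ℤˣ →* MulAut (Multiplicative M2) where
  toFun e := AddEquiv.toMultiplicative
    { toFun := fun X => (e : ℤ) • X
      invFun := fun X => (e : ℤ) • X
      left_inv := fun X => by show (e : ℤ) • ((e : ℤ) • X) = X; rw [smul_smul, ← Units.val_mul, Int.units_mul_self, Units.val_one, one_smul]
      right_inv := fun X => by show (e : ℤ) • ((e : ℤ) • X) = X; rw [smul_smul, ← Units.val_mul, Int.units_mul_self, Units.val_one, one_smul]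
      map_add' := fun X Y => smul_add _ _ _ }
  map_one' := MulEquiv.ext fun X => congrArg Multiplicative.ofAdd (one_smul ℤ X.toAdd)
  map_mul' e f := MulEquiv.ext fun X => congrArg Multiplicative.ofAdd (mul_smul (e : ℤ) (f : ℤ) X.toAdd)

/-- The action of `2 × PSL₂`. -/
def phi : ℤˣ × PSL2 →* MulAut (Multiplicative M2) :=
  MonoidHom.noncommCoprod signAct pslAct fun e g => by
    obtain ⟨M, rfl⟩ := QuotientGroup.mk_surjective g
    refine MulEquiv.ext fun X => congrArg Multiplicative.ofAdd ?_
    show (e : ℤ) • act M X.toAdd = act M ((e : ℤ) • X.toAdd)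
    simp only [act, mul_smul_comm, smul_mul_assoc]

theorem phi_apply (e : ℤˣ) (M : SL2) (X : M2) :
    phi (e, QuotientGroup.mk M) (Multiplicative.ofAdd X) = Multiplicative.ofAdd ((e : ℤ) • act M X) := rfl

/-- A fixed point forces the trace into `{0, ±1}`. -/
theorem trace_of_fixed (M : SL2) (X : M2) (hX : X ≠ 0) {ε : K} (hε : ε * ε = 1) (h : ε • act M X = X) :
    (M : M2).trace ^ 3 = ε * (M : M2).trace := by
  classical
  set t := (M : M2).trace with ht
  set Y : M2 := (tw M : M2)ᵀ with hY
  have hYdet : Y.det = 1 := by rw [hY, det_transpose]; exact (tw M).2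
  have hYt : Y.trace = t ^ 3 := by rw [hY, trace_transpose, trace_tw]
  have heq : ε • ((M : M2) * X * Y) = X := h
  by_cases hd : X.det = 0
  · obtain ⟨z, hz0, hz⟩ := Matrix.exists_mulVec_eq_zero_iff.2 hd
    obtain ⟨z₂, hz₂⟩ : ∃ v, X *ᵥ v ≠ 0 := by
      by_contra h'; push Not at h'
      exact hX (Matrix.ext_of_mulVec_single fun i => by rw [h', Matrix.zero_mulVec])
    set u := X *ᵥ z₂ with hu
    have hli : LinearIndependent K ![z, z₂] := by
      rw [LinearIndependent.pair_iff]
      intro a b hab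
      have h1 := congrArg (X *ᵥ ·) hab
      simp only [mulVec_add, mulVec_smul, hz, smul_zero, zero_add, mulVec_zero] at h1
      have hb := (smul_eq_zero.1 h1).resolve_right hz₂
      rw [hb, zero_smul, add_zero] at hab
      exact ⟨(smul_eq_zero.1 hab).resolve_right hz0, hb⟩
    let B := basisOfLinearIndependentOfCardEqFinrank hli (by simp)
    have hdec : ∀ v : Fin 2 → K, ∃ b : K, X *ᵥ v = b • u := by
      intro v
      refine ⟨B.repr v 1, ?_⟩
      conv_lhs => rw [← B.sum_repr v]
      simp [B, Fin.sum_univ_two, mulVec_add, mulVec_smul, hz, hu]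
    obtain ⟨b, hb⟩ := hdec (Y *ᵥ z₂)
    have hMu : ∀ v, ε • ((M : M2) *ᵥ (X *ᵥ (Y *ᵥ v))) = X *ᵥ v := fun v => by
      rw [mulVec_mulVec, mulVec_mulVec, ← smul_mulVec, heq]
    have h2 : (ε * b) • ((M : M2) *ᵥ u) = u := by
      have := hMu z₂
      rw [hb, mulVec_smul, smul_smul] at this
      exact this
    have hb0 : b ≠ 0 := fun h0 => hz₂ (by rw [← h2, h0, mul_zero, zero_smul])
    -- `b` is a root of the polynomial of `Y`, and `ε b` of that of `M`
    have hXY : X *ᵥ (Y *ᵥ z) = 0 := by
      obtain ⟨c, hc⟩ := hdec (Y *ᵥ z)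
      have := hMu z
      rw [hz, hc, mulVec_smul, smul_smul, smul_eq_zero] at this
      rcases this with h0 | h0
      · have hε0 : ε ≠ 0 := fun h0' => by rw [h0', zero_mul] at hε; exact zero_ne_one hε
        rw [hc, (mul_eq_zero.1 h0).resolve_left hε0, zero_smul]
      · exact absurd (by rw [← h2, h0, smul_zero]) hz₂
    have hY2 : X *ᵥ (Y *ᵥ (Y *ᵥ z₂)) = (b * b) • u := by
      have h0 := B.sum_repr (Y *ᵥ z₂)
      simp only [Fin.sum_univ_two, B, coe_basisOfLinearIndependentOfCardEqFinrank, Matrix.cons_val_zero,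
        Matrix.cons_val_one] at h0
      have hbb : B.repr (Y *ᵥ z₂) 1 = b := by
        have h1 := congrArg (X *ᵥ ·) h0
        simp only [mulVec_add, mulVec_smul, hz, smul_zero, zero_add, hb, ← hu] at h1
        exact smul_left_injective K hz₂ h1
      conv_lhs => rw [← h0]
      simp only [mulVec_add, mulVec_smul, hXY, smul_zero, zero_add]
      rw [hb, hbb, smul_smul]
    have e1 : b * b - t ^ 3 * b + 1 = 0 := by
      rw [show Y *ᵥ (Y *ᵥ z₂) = (Y * Y) *ᵥ z₂ from mulVec_mulVec _ _ _, PGLTwo.cayley, hYdet, hYt, one_smul, sub_mulVec, smul_mulVec, one_mulVec,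
        mulVec_sub, mulVec_smul, hb, ← hu, smul_smul] at hY2
      refine (smul_eq_zero.1 ?_).resolve_right hz₂
      rw [add_smul, sub_smul, one_smul, ← hY2]
      abel
    have e2 : (ε * b) * (ε * b) - t * (ε * b) + 1 = 0 := by
      have h3 := congrArg ((M : M2) *ᵥ ·) h2
      simp only [mulVec_smul, mulVec_mulVec] at h3
      rw [PGLTwo.cayley, show (M : M2).det = 1 from M.2, ← ht, one_smul, sub_mulVec, smul_mulVec, one_mulVec] at h3
      have hMv : (M : M2) *ᵥ u = (ε * b)⁻¹ • u := by
        rw [eq_inv_smul_iff₀ (mul_ne_zero (fun h0 => by rw [h0, zero_mul] at hε; exact zero_ne_one hε) hb0)]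
        exact h2
      rw [hMv, smul_smul, ← sub_eq_zero] at h3
      have hne : ε * b ≠ 0 := mul_ne_zero (fun h0 => by rw [h0, zero_mul] at hε; exact zero_ne_one hε) hb0
      have h4 : ((ε * b) * (t * (ε * b)⁻¹) - ε * b - (ε * b)⁻¹) • u = 0 := by
        rw [sub_smul, sub_smul, ← h3, smul_sub, smul_smul]
      have h5 := (smul_eq_zero.1 h4).resolve_right hz₂
      linear_combination -(ε * b) * h5 + (ε * b * t - 1) * mul_inv_cancel₀ hne
    refine mul_left_cancel₀ hb0 ?_
    linear_combination e2 - e1 - (b * b) * hε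
  · have hu : IsUnit X.det := isUnit_iff_ne_zero.2 hd
    have h1 : (M : M2) = ε • (X * adjugate Y * X⁻¹) := by
      have h2 : (M : M2) * X = ε • (X * adjugate Y) := by
        have := congrArg (fun Z => ε • (Z * adjugate Y)) heq
        simpa [mul_assoc, mul_adjugate, hYdet, smul_mul_assoc, smul_smul, hε] using this
      rw [← mul_inv_cancel_right_of_invertible' (M : M2) hu, h2, smul_mul_assoc]
    have h3 := congrArg Matrix.trace h1
    rw [← ht, trace_smul, Matrix.trace_mul_comm, ← mul_assoc, Matrix.nonsing_inv_mul _ hu, one_mul,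
      show (adjugate Y).trace = Y.trace by rw [adjugate_fin_two, trace_fin_two, trace_fin_two]; simp [add_comm],
      hYt, smul_eq_mul] at h3
    linear_combination (-(ε)) * h3 - t ^ 3 * hε
where
  mul_inv_cancel_right_of_invertible' (A : M2) {X : M2} (hu : IsUnit X.det) : A * X * X⁻¹ = A :=
    Matrix.mul_nonsing_inv_cancel_right X A hu

/-- Elements with fixed points. -/
theorem fixed_cases [Fintype K] (hmod : Fintype.card K % 4 = 3) (e : ℤˣ) (g : PSL2) {v : Multiplicative M2}
    (hv : v ≠ 1) (h : phi (e, g) v = v) : (e, g) ^ 2 = 1 ∨ (e, g) ^ 3 = 1 := by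
  classical
  haveI : Fact (Nat.Prime 3) := ⟨Nat.prime_three⟩
  obtain ⟨M, rfl⟩ := QuotientGroup.mk_surjective g
  set X := v.toAdd with hX
  have hX0 : X ≠ 0 := fun h0 => hv (toAdd_eq_zero.1 h0)
  have h1 : ((e : ℤ) : K) • act M X = X := by
    have := congrArg Multiplicative.toAdd h
    rw [← ofAdd_toAdd v, phi_apply, toAdd_ofAdd, ← hX] at this
    rw [Int.cast_smul_eq_zsmul]
    exact this
  have hε : ((e : ℤ) : K) * ((e : ℤ) : K) = 1 := by
    rw [← Int.cast_mul, ← Units.val_mul, Int.units_mul_self, Units.val_one, Int.cast_one]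
  have ht := trace_of_fixed M X hX0 hε h1
  set t := (M : M2).trace with ht'
  have he2 : e ^ 2 = 1 := Int.units_sq e
  by_cases ht0 : t = 0
  · left
    refine Prod.ext he2 ?_
    show (QuotientGroup.mk M : PSL2) ^ 2 = 1
    rw [PGLTwo.sl_mk_pow_eq_one_iff]
    refine ⟨-1, ?_⟩
    rw [pow_two, PGLTwo.cayley, ← ht', ht0, show (M : M2).det = 1 from M.2]
    simp
  · have ht2 : t * t = ((e : ℤ) : K) := mul_left_cancel₀ ht0 (by linear_combination ht)
    rcases Int.units_eq_one_or e with he | he
    · right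
      subst he
      refine Prod.ext (one_pow 3) ?_
      show (QuotientGroup.mk M : PSL2) ^ 3 = 1
      rw [PGLTwo.sl_mk_pow_eq_one_iff]
      have h3 : (3 : K) = 0 := by exact_mod_cast CharP.cast_eq_zero K 3
      refine ⟨_, PGLTwo.pow_char_of_double (p := 3) (a := -t) ?_ ?_⟩
      · rw [← ht']; linear_combination t * h3
      · rw [show (M : M2).det = 1 from M.2]
        simp at ht2
        linear_combination -ht2
    · subst he
      exfalso
      refine FiniteField.isSquare_neg_one_iff.1 ⟨t, ?_⟩ hmod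
      simpa using ht2.symm

/-- The orders of elements of `2^4α ⋊ (2 × L₂(q))`. -/
theorem orders [Fintype K] (hmod : Fintype.card K % 4 = 3) (h : Multiplicative M2 ⋊[phi] (ℤˣ × PSL2)) :
    orderOf h ∣ 6 ∨ orderOf h ∣ 9 ∨ orderOf h ∣ Fintype.card K - 1 ∨ orderOf h ∣ (Fintype.card K + 1) / 2 := by
  classical
  haveI : Fact (Nat.Prime 3) := ⟨Nat.prime_three⟩
  set π : Multiplicative M2 ⋊[phi] (ℤˣ × PSL2) →* ℤˣ × PSL2 := SemidirectProduct.rightHom
  have hker : ∀ x ∈ π.ker, x ^ 3 = 1 := by
    intro x hx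
    have hx' : x = SemidirectProduct.inl x.left := SemidirectProduct.ext rfl (MonoidHom.mem_ker.1 hx)
    rw [hx', ← map_pow, ← map_one SemidirectProduct.inl]
    congr 1
    refine toAdd_eq_zero.1 ?_
    rw [toAdd_pow]
    ext i j
    simp only [Matrix.smul_apply, Matrix.zero_apply, nsmul_eq_mul, CharP.cast_eq_zero, zero_mul, toAdd_one]
  set n := orderOf (π h) with hn
  obtain ⟨o1, o2⟩ := orderOf_of_hom π hker h (isOfFinOrder_of_finite _)
  have hpair : ∀ (e : ℤˣ) (g : PSL2), orderOf (e, g) ∣ Nat.lcm 2 (orderOf g) := fun e g => by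
    rw [Prod.orderOf]
    exact _root_.lcm_dvd_lcm (orderOf_dvd_of_pow_eq_one (Int.units_sq e)) dvd_rfl
  have hbase : n ∣ 6 ∨ n ∣ Fintype.card K - 1 ∨ n ∣ (Fintype.card K + 1) / 2 := by
    rw [hn]
    obtain ⟨e, g⟩ := π h
    have hq1 := Fintype.one_lt_card (α := K)
    rcases PGLTwo.psl_orders (p := 3) (Nat.odd_iff.2 (by omega)) g with ⟨ho, -⟩ | ho | ho
    · left; have := hpair e g; rw [ho] at this; exact this
    · right; left
      refine (hpair e g).trans ((_root_.lcm_dvd_lcm dvd_rfl ho).trans (Nat.lcm_dvd ⟨(Fintype.card K - 1) / 2, ?_⟩ ⟨2, ?_⟩)) <;> omega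
    · right; right
      refine (hpair e g).trans ((_root_.lcm_dvd_lcm dvd_rfl ho).trans (Nat.lcm_dvd ⟨(Fintype.card K + 1) / 4, ?_⟩ dvd_rfl))
      omega
  by_cases hN : h ^ n = 1
  · rw [o1 hN]
    rcases hbase with h' | h' | h'
    · exact Or.inl h'
    · exact Or.inr (Or.inr (Or.inl h'))
    · exact Or.inr (Or.inr (Or.inr h'))
  · rw [o2 hN]
    have hr : (h ^ n).right = 1 := by
      show π (h ^ n) = 1
      rw [map_pow, hn, pow_orderOf_eq_one]
    have hx' : h ^ n = SemidirectProduct.inl (h ^ n).left := SemidirectProduct.ext rfl hr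
    have hv : (h ^ n).left ≠ 1 := fun h0 => hN (by rw [hx', h0, map_one])
    have hfix : phi (h.right.1, h.right.2) (h ^ n).left = (h ^ n).left := by
      have h1 := congrArg SemidirectProduct.left (Commute.self_pow h n).eq
      rw [SemidirectProduct.mul_left, SemidirectProduct.mul_left, hr, map_one, MulAut.one_apply, mul_comm h.left] at h1
      exact mul_right_cancel h1
    rcases fixed_cases hmod _ _ hv hfix with h2 | h3
    · exact Or.inl (mul_dvd_mul_left 3 (orderOf_dvd_of_pow_eq_one h2))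
    · exact Or.inr (Or.inl (mul_dvd_mul_left 3 (orderOf_dvd_of_pow_eq_one h3)))

theorem exists_nine [Fintype K] : ∃ h : Multiplicative M2 ⋊[phi] (ℤˣ × PSL2), orderOf h = 9 := by
  classical
  haveI : Fact (Nat.Prime 3) := ⟨Nat.prime_three⟩
  have h3 : (3 : K) = 0 := by exact_mod_cast CharP.cast_eq_zero K 3
  let U : SL2 := ⟨!![1, 1; 0, 1], by simp [Matrix.det_fin_two]⟩
  let X : M2 := !![0, 0; 0, 1]
  let h : Multiplicative M2 ⋊[phi] (ℤˣ × PSL2) := ⟨Multiplicative.ofAdd X, (1, QuotientGroup.mk U)⟩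
  have hU : (tw U : M2) = !![1, 1; 0, 1] := by
    ext i j; fin_cases i <;> fin_cases j <;> (rw [coe_tw]; simp [U])
  have hUt : (tw U : M2)ᵀ = !![1, 0; 1, 1] := by
    rw [hU]; ext i j; fin_cases i <;> fin_cases j <;> rfl
  have hact : act U X = !![1, 1; 1, 1] ∧ act U (!![1, 1; 1, 1] : M2) = !![1, 2; 2, 1] := by
    constructor <;>
    · ext i j
      simp only [act, hUt, Matrix.mul_apply, Fin.sum_univ_two]
      fin_cases i <;> fin_cases j <;> simp [U, X] <;> grind
  have hne : h ^ 3 ≠ 1 := by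
    intro h0
    have h1 := congrArg (fun x => x.left.toAdd) h0
    rw [pow_three] at h1
    simp only [SemidirectProduct.mul_left, SemidirectProduct.mul_right, h, phi_apply, map_mul, toAdd_mul,
      toAdd_ofAdd, SemidirectProduct.one_left, toAdd_one, Units.val_one, one_smul, hact.1, hact.2] at h1
    have h2 := congrFun (congrFun h1 0) 0
    simp [X] at h2
    exact one_ne_zero (α := K) (by linear_combination h3 - h2)
  have h9 : h ^ 3 ^ (1 + 1) = 1 := by
    have hr : (h ^ 3).right = 1 := by
      show SemidirectProduct.rightHom (h ^ 3) = 1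
      rw [map_pow]
      refine Prod.ext (one_pow 3) ?_
      show (QuotientGroup.mk U : PSL2) ^ 3 = 1
      exact (PGLTwo.sl_mk_pow_eq_one_iff _ _).2
        ⟨_, PGLTwo.pow_char_of_double (p := 3) (a := 1) (by simp [U, Matrix.trace_fin_two]) (by simp [U, Matrix.det_fin_two])⟩
    have hx' : h ^ 3 = SemidirectProduct.inl (h ^ 3).left := SemidirectProduct.ext rfl hr
    rw [show 3 ^ (1 + 1) = 3 * 3 by norm_num, pow_mul, hx', ← map_pow, ← map_one SemidirectProduct.inl]
    congr 1
    refine toAdd_eq_zero.1 ?_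
    rw [toAdd_pow]
    ext i j
    simp only [Matrix.smul_apply, Matrix.zero_apply, nsmul_eq_mul, CharP.cast_eq_zero, zero_mul, toAdd_one]
  exact ⟨h, orderOf_eq_prime_pow (by rw [pow_one]; exact hne) h9⟩

end Cfsg.Agent.Recog.TwistThree
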