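import Cfsg.Agent.Lib.Recog.Affine

/-!
# Doubly transitive groups of degree 2 mod 4 (Burnside, via Witt's lemma)
-/

namespace Cfsg.Agent.Recog

open MulAction

/-- A finite group of order 2 mod 4 has a subgroup of index 2 that contains all elements of odd order
and has odd order. -/
theorem exists_index_two_of_card_mod_four (A : Type*) [Group A] [Finite A]
    (h : Nat.card A % 4 = 2) :
    ∃ L : Subgroup A, L.index = 2 ∧ Odd (Nat.card L) ∧ ∀ a : A, Odd (orderOf a) → a ∈ L := by
  classical
  have := Fintype.ofFinite A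
  let f : A →* ℤˣ := (Equiv.Perm.sign).comp (MulAction.toPermHom A A)
  have : Fact (Nat.Prime 2) := ⟨Nat.prime_two⟩
  obtain ⟨t, ht⟩ := exists_prime_orderOf_dvd_card' (G := A) 2 (by omega)
  have hft : f t = -1 := by
    have h2 : (MulAction.toPermHom A A t) ^ 2 = 1 := by
      rw [← map_pow, ← ht, pow_orderOf_eq_one, map_one]
    show Equiv.Perm.sign (MulAction.toPermHom A A t) = -1
    rw [Equiv.Perm.sign_of_pow_two_eq_one h2]
    have hne : t ≠ 1 := fun e => by rw [e, orderOf_one] at ht; omega
    have h0 : Fintype.card (Function.fixedPoints (MulAction.toPermHom A A t)) = 0 := by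
      rw [Fintype.card_eq_zero_iff]
      refine ⟨fun z => hne ?_⟩
      have hz : t * (z : A) = z := z.2
      exact mul_eq_right.1 hz
    rw [h0, Nat.sub_zero, ← Nat.card_eq_fintype_card]
    exact Odd.neg_one_pow (Nat.odd_iff.2 (by omega))
  have hrange : Nat.card f.range = 2 := by
    have htop : f.range = ⊤ := by
      rw [MonoidHom.range_eq_top]
      intro u
      rcases Int.units_eq_one_or u with rfl | rfl
      · exact ⟨1, map_one f⟩
      · exact ⟨t, hft⟩
    rw [htop, Subgroup.card_top, Nat.card_eq_fintype_card]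
    rfl
  have hidx : f.ker.index = 2 := by rw [Subgroup.index_ker, hrange]
  refine ⟨f.ker, hidx, ?_, fun a ha => ?_⟩
  · have := f.ker.index_mul_card
    rw [hidx] at this
    exact Nat.odd_iff.2 (by omega)
  · rw [MonoidHom.mem_ker]
    rcases Int.units_eq_one_or (f a) with h1 | h1
    · exact h1
    · exfalso
      have h2 := congrArg f (pow_orderOf_eq_one a)
      rw [map_pow, h1, ha.neg_one_pow, map_one] at h2
      exact absurd h2 (by decide)

/-- A minimal normal subgroup is not of order 2 mod 4, unless it has order 2. -/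
theorem IsMinNormal.card_mod_four {G : Type*} [Group G] [Finite G] {N : Subgroup G}
    (hN : IsMinNormal N) (h : Nat.card N % 4 = 2) : Nat.card N = 2 := by
  classical
  obtain ⟨L, hidx, hodd, hmem⟩ := exists_index_two_of_card_mod_four N h
  have hK : (Subgroup.closure {g : G | g ∈ N ∧ Odd (orderOf g)}).Normal := by
    refine ⟨fun x hx g => ?_⟩
    have hmap : (Subgroup.closure {g : G | g ∈ N ∧ Odd (orderOf g)}).map
        (MulAut.conj g).toMonoidHom ≤ Subgroup.closure {g : G | g ∈ N ∧ Odd (orderOf g)} := by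
      rw [MonoidHom.map_closure, Subgroup.closure_le]
      rintro _ ⟨y, ⟨hy, hyo⟩, rfl⟩
      refine Subgroup.subset_closure ⟨hN.normal.conj_mem y hy g, ?_⟩
      rw [← MulEquiv.orderOf_eq (MulAut.conj g) y] at hyo
      exact hyo
    exact hmap ⟨x, hx, by simp⟩
  have hKL : Subgroup.closure {g : G | g ∈ N ∧ Odd (orderOf g)} ≤ L.map N.subtype := by
    rw [Subgroup.closure_le]
    rintro y ⟨hy, hyo⟩
    exact ⟨⟨y, hy⟩, hmem _ (by rwa [← Subgroup.orderOf_coe]), rfl⟩
  rcases hN.minimal _ hK (hKL.trans (Subgroup.map_subtype_le L)) with hb | hN'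
  · have hL : L = ⊥ := by
      rw [Subgroup.eq_bot_iff_forall]
      intro x hx
      have hxo : Odd (orderOf x) := by
        have := orderOf_dvd_natCard (⟨x, hx⟩ : L)
        rw [← Subgroup.orderOf_coe] at this
        exact Odd.of_dvd_nat hodd this
      have : (x : G) ∈ Subgroup.closure {g : G | g ∈ N ∧ Odd (orderOf g)} :=
        Subgroup.subset_closure ⟨x.2, by rwa [Subgroup.orderOf_coe]⟩
      rw [hb, Subgroup.mem_bot] at this
      exact Subtype.ext this
    have := L.index_mul_card
    rw [hidx, hL, Subgroup.card_bot] at this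
    omega
  · exfalso
    have hle : N ≤ L.map N.subtype := le_of_eq_of_le hN'.symm hKL
    have htop : L = ⊤ := by
      rw [eq_top_iff]
      rintro x -
      obtain ⟨y, hy, hyx⟩ := hle x.2
      rwa [← show y = x from Subtype.ext hyx]
    rw [htop, Subgroup.index_top] at hidx
    omega

variable {G Ω : Type*} [Group G] [MulAction G Ω]

/-- The core of the argument: a minimal normal subgroup of a doubly transitive group of degree
2 mod 4 is non-abelian, has trivial centralizer and is doubly transitive. -/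
theorem minNormal_of_two_mod_four [Finite G] [Finite Ω] [FaithfulSMul G Ω]
    (h2 : IsMultiplyPretransitive G Ω 2) (hn : Nat.card Ω % 4 = 2) (hn2 : 2 < Nat.card Ω)
    {N : Subgroup G} (hN : IsMinNormal N) :
    ¬ IsMulCommutative N ∧ Subgroup.centralizer (N : Set G) = ⊥ ∧
      IsMultiplyPretransitive N Ω 2 := by
  classical
  have : Fact (Nat.Prime 2) := ⟨Nat.prime_two⟩
  have hne : Nonempty Ω := (Nat.card_pos_iff.1 (by omega)).1
  have hprim : IsPreprimitive G Ω := isPreprimitive_of_is_two_pretransitive h2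
  have hNn := hN.normal
  have hNt : IsPretransitive N Ω := isPretransitive_of_normal hN.normal hN.ne_bot
  obtain ⟨α⟩ := hne
  -- a semiregular minimal normal subgroup is impossible
  have hnotsemi : ¬ ∀ x ∈ N, x ≠ 1 → IsDerangement Ω x := by
    intro hsr
    have hbij : Function.Bijective (fun x : N => x • α) := by
      refine ⟨fun x y hxy => ?_, fun z => exists_smul_eq N α z⟩
      by_contra hxy'
      refine hsr (((y⁻¹ * x : N)) : G) (y⁻¹ * x).2 ?_ α ?_
      · intro e
        exact hxy' (inv_mul_eq_one.1 (Subtype.ext e : y⁻¹ * x = 1)).symm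
      · show (y⁻¹ * x) • α = α
        rw [mul_smul, inv_smul_eq_iff]
        exact hxy
    have hcard := Nat.card_eq_of_bijective _ hbij
    have := hN.card_mod_four (by rw [hcard]; exact hn)
    omega
  have hnc : ¬ IsMulCommutative N := fun hc =>
    hnotsemi fun x hx hx1 ω hω => hx1 (eq_one_of_abelian hc hx hω)
  have hC : Subgroup.centralizer (N : Set G) = ⊥ := by
    by_contra hC
    have := isPretransitive_of_normal (Ω := Ω) (N := Subgroup.centralizer (N : Set G)) inferInstance hC
    exact hnotsemi fun x hx hx1 => isDerangement_of_centralizes hx1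
      fun c hc => (Subgroup.mem_centralizer_iff.1 hc x hx).symm
  refine ⟨hnc, hC, ?_⟩
  -- point stabilizers in `N`, as subgroups of `G`
  let H : Ω → Subgroup G := fun a => N ⊓ stabilizer G a
  have hHconj : ∀ (g : G) (a : Ω) (x : G), x ∈ H a → g * x * g⁻¹ ∈ H (g • a) := by
    intro g a x hx
    refine Subgroup.mem_inf.2 ⟨hNn.conj_mem x (Subgroup.mem_inf.1 hx).1 g, ?_⟩
    rw [mem_stabilizer_iff, mul_smul, mul_smul, inv_smul_smul,
      (mem_stabilizer_iff.1 (Subgroup.mem_inf.1 hx).2)]
  have hHmap : ∀ (g : G) (a : Ω), (H a).map (MulAut.conj g).toMonoidHom = H (g • a) := by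
    intro g a
    refine le_antisymm ?_ fun x hx => ?_
    · rintro _ ⟨x, hx, rfl⟩
      simpa using hHconj g a x hx
    · refine ⟨g⁻¹ * x * g, ?_, by simp [mul_assoc]⟩
      have := hHconj g⁻¹ (g • a) x hx
      simpa using this
  -- orbits of a point stabilizer on the other points have odd length
  have hodd : ∀ a b : Ω, b ≠ a → Odd (((stabilizer G b).relIndex (H a))) := by
    intro a b hab
    have hsub : ((H a).subgroupOf (stabilizer G a)).Normal := by
      refine ⟨fun x hx g => ?_⟩
      rw [Subgroup.mem_subgroupOf] at hx ⊢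
      have := hHconj g a x hx
      rwa [mem_stabilizer_iff.1 g.2] at this
    set A := stabilizer G a with hA
    have h1 : (((stabilizer G b).subgroupOf A).relIndex ((H a).subgroupOf A)) =
        (stabilizer G b).relIndex (H a) := Subgroup.relIndex_subgroupOf inf_le_right
    have h2' : ((stabilizer G b).subgroupOf A).index = Nat.card {c : Ω // c ≠ a} := by
      have hst : (stabilizer G b).subgroupOf A = stabilizer A b := by
        ext x; simp [Subgroup.mem_subgroupOf, mem_stabilizer_iff, Subgroup.smul_def]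
      rw [hst, index_stabilizer]
      have horb : orbit A b = {c : Ω | c ≠ a} := by
        ext c
        constructor
        · rintro ⟨g, rfl⟩ hca
          apply hab
          have hga : (g : G) • a = a := g.2
          have hgb : (g : G) • b = a := hca
          exact MulAction.injective (g : G) (hgb.trans hga.symm)
        · intro hca
          obtain ⟨g, hg1, hg2⟩ := is_two_pretransitive_iff.1 h2 (Ne.symm hab) (Ne.symm hca)
          exact ⟨⟨g, hg1⟩, hg2⟩
      rw [horb, ← Nat.card_coe_set_eq]
      rfl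
    have hdvd : (stabilizer G b).relIndex (H a) ∣ Nat.card {c : Ω // c ≠ a} := by
      rw [← h1, ← h2']
      set X' := (stabilizer G b).subgroupOf A
      set K' := (H a).subgroupOf A
      have hK'n : K'.Normal := hsub
      have e1 := Subgroup.relIndex_mul_relIndex (X' ⊓ K') X' (X' ⊔ K') inf_le_left le_sup_left
      have e2 := Subgroup.relIndex_mul_relIndex (X' ⊓ K') K' (X' ⊔ K') inf_le_right le_sup_right
      rw [Subgroup.inf_relIndex_left] at e1
      rw [Subgroup.inf_relIndex_right, Subgroup.relIndex_sup_right] at e2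
      have hne : K'.relIndex X' ≠ 0 := Subgroup.index_ne_zero_of_finite
      have he : X'.relIndex K' = X'.relIndex (X' ⊔ K') :=
        Nat.eq_of_mul_eq_mul_left (Nat.pos_of_ne_zero hne) (by rw [mul_comm, e2, ← e1])
      rw [he]
      exact Subgroup.relIndex_dvd_index_of_le le_sup_left
    refine Odd.of_dvd_nat ?_ hdvd
    have : Nat.card {c : Ω // c ≠ a} = Nat.card Ω - 1 := by
      have := Fintype.ofFinite Ω
      simp [Nat.card_eq_fintype_card, Fintype.card_subtype_compl]
    rw [this, Nat.odd_iff]
    omega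
  -- every 2-subgroup of `H a` fixes a point in each orbit of `H a`
  have hfixorb : ∀ (a b : Ω) (S : Subgroup G), b ≠ a → S ≤ H a → IsPGroup 2 S →
      ∃ m ∈ H a, ∀ x ∈ S, x • (m • b) = m • b := by
    intro a b S hab hS hS2
    have hdisj : ¬ 2 ∣ Nat.card (orbit (H a) b) := by
      rw [Nat.card_coe_set_eq, ← index_stabilizer]
      have hst : stabilizer (H a) b = (stabilizer G b).subgroupOf (H a) := by
        ext x; simp [Subgroup.mem_subgroupOf, mem_stabilizer_iff, Subgroup.smul_def]
      rw [hst]
      exact fun hd => Nat.not_even_iff_odd.2 (hodd a b hab) (even_iff_two_dvd.2 hd)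
    let S' : Subgroup (H a) := S.subgroupOf (H a)
    have hS' : IsPGroup 2 S' := hS2.of_equiv (Subgroup.subgroupOfEquivOfLe hS).symm
    obtain ⟨z, hz⟩ := hS'.nonempty_fixed_point_of_prime_not_dvd_card (orbit (H a) b) hdisj
    obtain ⟨m, hm⟩ := z.2
    refine ⟨m, m.2, fun x hx => ?_⟩
    have := congrArg Subtype.val (hz ⟨⟨x, hS hx⟩, hx⟩)
    rw [show (m : G) • b = (z : Ω) from hm]
    exact this
  -- a Sylow 2-subgroup `S` of `H α`
  obtain ⟨β, hβ⟩ : ∃ β : Ω, β ≠ α := by
    by_contra h
    push Not at h
    have : Subsingleton Ω := ⟨fun x y => (h x).trans (h y).symm⟩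
    have := Finite.card_le_one_iff_subsingleton.2 this
    omega
  obtain ⟨P⟩ := (inferInstance : Nonempty (Sylow 2 (H α)))
  let S : Subgroup G := (P : Subgroup (H α)).map (H α).subtype
  have hSle : S ≤ H α := Subgroup.map_subtype_le _
  have hS2 : IsPGroup 2 S := P.2.map _
  have hScard : Nat.card S = Nat.card P := Nat.card_congr
    ((P : Subgroup (H α)).equivMapOfInjective _ (H α).subtype_injective).toEquiv.symm
  -- all `2`-subgroups of the stabilizers `H a` of this order are conjugate in the stabilizer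
  have hconjH : ∀ (a : Ω) (U V : Subgroup G), U ≤ H a → V ≤ H a → IsPGroup 2 U → IsPGroup 2 V →
      Nat.card U = Nat.card S → Nat.card V = Nat.card S →
      ∀ X : Subgroup G, U ≤ X → V ≤ X → X ≤ H a →
        ∃ m ∈ X, ∀ x ∈ U, m * x * m⁻¹ ∈ V := by
    intro a U V hUa hVa hU hV hUc hVc X hUX hVX hXa
    have hcardH : Nat.card (H a) = Nat.card (H α) := by
      obtain ⟨g, hg⟩ := exists_smul_eq G α a
      rw [← hg, ← hHmap g α]
      exact (Nat.card_congr ((H α).equivMapOfInjective _ (MulAut.conj g).injective).toEquiv).symm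
    have hsyl : ∀ W : Subgroup G, W ≤ X → IsPGroup 2 W → Nat.card W = Nat.card S →
        ∃ Q : Sylow 2 X, (Q : Subgroup X) = W.subgroupOf X := by
      intro W hWX hW hWc
      obtain ⟨Q, hQ⟩ := (hW.of_equiv (Subgroup.subgroupOfEquivOfLe hWX).symm).exists_le_sylow
      refine ⟨Q, (Subgroup.eq_of_le_of_card_ge hQ ?_).symm⟩
      rw [Nat.card_congr (Subgroup.subgroupOfEquivOfLe hWX).toEquiv, hWc, hScard]
      have h1 := Q.card_eq_multiplicity
      have h2 := P.card_eq_multiplicity
      rw [h1, h2]
      apply Nat.pow_le_pow_right (by norm_num)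
      rw [← hcardH]
      exact (Nat.factorization_le_iff_dvd Nat.card_pos.ne' Nat.card_pos.ne').2
        (Subgroup.card_dvd_of_le hXa) 2
    obtain ⟨QU, hQU⟩ := hsyl U hUX hU hUc
    obtain ⟨QV, hQV⟩ := hsyl V hVX hV hVc
    obtain ⟨m, hm⟩ := exists_smul_eq X QU QV
    refine ⟨m, m.2, fun x hx => ?_⟩
    have hxm : (MulAut.conj m ⟨x, hUX hx⟩ : X) ∈ (QV : Subgroup X) := by
      rw [← hm, Sylow.coe_subgroup_smul]
      exact Subgroup.smul_mem_pointwise_smul _ _ _ (by rw [hQU]; exact hx)
    rw [hQV, Subgroup.mem_subgroupOf] at hxm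
    simpa using hxm
  -- the fixed point set of `S`
  let F : Set Ω := {c | ∀ x ∈ S, x • c = c}
  have hαF : α ∈ F := fun x hx => mem_stabilizer_iff.1 (Subgroup.mem_inf.1 (hSle hx)).2
  let X : Subgroup G := Subgroup.normalizer (S : Set G)
  have hXF : ∀ g ∈ X, ∀ c ∈ F, g • c ∈ F := by
    intro g hg c hc x hx
    have : g⁻¹ * x * g ∈ S := by
      have := (Subgroup.mem_normalizer_iff.1 (inv_mem hg) x).1 hx
      simpa using this
    have h1 := hc _ this
    rw [mul_smul, mul_smul, inv_smul_eq_iff] at h1
    exact h1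
  have hnorm : ∀ g : G, (∀ x ∈ S, g * x * g⁻¹ ∈ S) → g ∈ X := by
    intro g hg
    have hle : S.map (MulAut.conj g).toMonoidHom ≤ S := by
      rintro _ ⟨x, hx, rfl⟩
      simpa using hg x hx
    have heq := Subgroup.eq_of_le_of_card_ge hle
      (le_of_eq (Nat.card_congr (S.equivMapOfInjective _ (MulAut.conj g).injective).toEquiv))
    rw [Subgroup.mem_normalizer_iff]
    intro x
    refine ⟨fun hx => hg x hx, fun hx => ?_⟩
    rw [← heq] at hx
    obtain ⟨y, hy, hyx⟩ := hx
    have : y = x := (MulAut.conj g).injective (by simpa using hyx)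
    exact this ▸ hy
  -- Witt: `N ⊓ X` is transitive on `F` and `X` is doubly transitive on `F`
  have hYtrans : ∀ c ∈ F, ∃ g ∈ N ⊓ X, g • c = α := by
    intro c hc
    obtain ⟨m, hm⟩ := exists_smul_eq N c α
    let S' : Subgroup G := S.map (MulAut.conj (m : G)).toMonoidHom
    have hS' : S' ≤ H α := by
      rintro _ ⟨x, hx, rfl⟩
      have hxc : x ∈ H c :=
        Subgroup.mem_inf.2 ⟨(Subgroup.mem_inf.1 (hSle hx)).1, mem_stabilizer_iff.2 (hc x hx)⟩
      have := hHconj (m : G) c x hxc
      rw [← Subgroup.smul_def, hm] at this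
      simpa using this
    have hS'c : Nat.card S' = Nat.card S :=
      (Nat.card_congr (S.equivMapOfInjective _ (MulAut.conj (m : G)).injective).toEquiv).symm
    obtain ⟨k, hk, hkm⟩ := hconjH α S' S hS' hSle (hS2.map _) hS2 hS'c rfl (H α) hS' hSle le_rfl
    refine ⟨k * m, Subgroup.mem_inf.2 ⟨mul_mem (Subgroup.mem_inf.1 hk).1 m.2, hnorm _ ?_⟩, ?_⟩
    · intro x hx
      have := hkm _ ⟨x, hx, rfl⟩
      simpa [mul_assoc] using this
    · rw [mul_smul, ← Subgroup.smul_def, hm]
      exact mem_stabilizer_iff.1 (Subgroup.mem_inf.1 hk).2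
  have hX2 : ∀ a ∈ F, ∀ b ∈ F, ∀ c ∈ F, ∀ d ∈ F, a ≠ b → c ≠ d →
      ∃ g ∈ X, g • a = c ∧ g • b = d := by
    intro a ha b hb c hc d hd hab hcd
    obtain ⟨g, hg1, hg2⟩ := is_two_pretransitive_iff.1 h2 hab hcd
    let S' : Subgroup G := S.map (MulAut.conj g).toMonoidHom
    let Hcd : Subgroup G := H c ⊓ stabilizer G d
    have hS' : S' ≤ Hcd := by
      rintro _ ⟨x, hx, rfl⟩
      have hxN := (Subgroup.mem_inf.1 (hSle hx)).1
      refine Subgroup.mem_inf.2 ⟨?_, ?_⟩
      · rw [← hg1]
        simpa using hHconj g a x (Subgroup.mem_inf.2 ⟨hxN, mem_stabilizer_iff.2 (ha x hx)⟩)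
      · rw [← hg2]
        exact (Subgroup.mem_inf.1 (show g * x * g⁻¹ ∈ H (g • b) from
          hHconj g b x (Subgroup.mem_inf.2 ⟨hxN, mem_stabilizer_iff.2 (hb x hx)⟩))).2
    have hScd : S ≤ Hcd := fun x hx => Subgroup.mem_inf.2 ⟨Subgroup.mem_inf.2
      ⟨(Subgroup.mem_inf.1 (hSle hx)).1, mem_stabilizer_iff.2 (hc x hx)⟩,
        mem_stabilizer_iff.2 (hd x hx)⟩
    have hS'c : Nat.card S' = Nat.card S :=
      (Nat.card_congr (S.equivMapOfInjective _ (MulAut.conj g).injective).toEquiv).symm
    obtain ⟨k, hk, hkm⟩ := hconjH c S' S (hS'.trans inf_le_left) (hScd.trans inf_le_left) (hS2.map _)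
      hS2 hS'c rfl Hcd hS' hScd inf_le_left
    refine ⟨k * g, hnorm _ fun x hx => ?_, ?_, ?_⟩
    · have := hkm _ ⟨x, hx, rfl⟩
      simpa [mul_assoc] using this
    · rw [mul_smul, hg1]
      exact mem_stabilizer_iff.1 (Subgroup.mem_inf.1 (Subgroup.mem_inf.1 hk).1).2
    · rw [mul_smul, hg2]
      exact mem_stabilizer_iff.1 (Subgroup.mem_inf.1 hk).2
  -- `F` has exactly two points
  have hF2 : Nat.card F = 2 := by
    let SF : SubMulAction X Ω :=
      { carrier := F
        smul_mem' := fun g c hc => hXF g g.2 c hc }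
    let π : X →* Equiv.Perm SF := MulAction.toPermHom X SF
    let Y : Subgroup X := N.subgroupOf X
    have hYn : Y.Normal := inferInstance
    let Yb : Subgroup π.range := Y.map π.rangeRestrict
    have hYbn : Yb.Normal := hYn.map _ π.rangeRestrict_surjective
    have h2F : IsMultiplyPretransitive π.range SF 2 := by
      rw [is_two_pretransitive_iff]
      intro a b c d hab hcd
      obtain ⟨g, hg, h1, h2⟩ := hX2 a a.2 b b.2 c c.2 d d.2
        (fun e => hab (Subtype.ext e)) (fun e => hcd (Subtype.ext e))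
      exact ⟨π.rangeRestrict ⟨g, hg⟩, Subtype.ext h1, Subtype.ext h2⟩
    have hprimF : IsPreprimitive π.range SF := isPreprimitive_of_is_two_pretransitive h2F
    have hYt : IsPretransitive Yb SF := by
      refine isPretransitive_iff_base (⟨α, hαF⟩ : SF) |>.2 fun c => ?_
      obtain ⟨g, hg, hgc⟩ := hYtrans c c.2
      let y : Yb := ⟨π.rangeRestrict ⟨g, (Subgroup.mem_inf.1 hg).2⟩,
        ⟨⟨g, (Subgroup.mem_inf.1 hg).2⟩, (Subgroup.mem_inf.1 hg).1, rfl⟩⟩
      refine ⟨y⁻¹, inv_smul_eq_iff.2 (Subtype.ext ?_)⟩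
      exact hgc.symm
    -- parity of the number of fixed points
    have hFeven : 2 ∣ Nat.card F := by
      have h := hS2.card_modEq_card_fixedPoints Ω
      have hfp : fixedPoints S Ω = F := by
        ext c
        exact ⟨fun h x hx => h ⟨x, hx⟩, fun h x => h x x.2⟩
      rw [hfp] at h
      have h' : Nat.card Ω % 2 = Nat.card F % 2 := h
      omega
    -- the 2-part of the image of `Y` is at most 2
    have h4 : ¬ 4 ∣ Nat.card Yb := by
      intro h4
      have hker : Nat.card Yb * Nat.card S ∣ Nat.card Y := by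
        let ψ : Y →* π.range := π.rangeRestrict.comp Y.subtype
        have hr : ψ.range = Yb := by
          rw [MonoidHom.range_comp, Subgroup.range_subtype]
        have hSY : (S.subgroupOf X).subgroupOf Y ≤ ψ.ker := by
          intro x hx
          rw [MonoidHom.mem_ker]
          apply Subtype.ext
          apply Equiv.ext
          intro c
          apply Subtype.ext
          exact (show ∀ y ∈ S, y • (c : Ω) = c from c.2) _ hx
        have hcS : Nat.card ((S.subgroupOf X).subgroupOf Y) = Nat.card S := by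
          rw [Nat.card_congr (Subgroup.subgroupOfEquivOfLe (fun x hx =>
            (Subgroup.mem_inf.1 (hSle hx)).1 : S.subgroupOf X ≤ Y)).toEquiv]
          exact Nat.card_congr (Subgroup.subgroupOfEquivOfLe (Subgroup.le_normalizer)).toEquiv
        rw [← ψ.ker.index_mul_card, Subgroup.index_ker, hr, ← hcS]
        exact Nat.mul_dvd_mul_left _ (Subgroup.card_dvd_of_le hSY)
      have hYN : Nat.card Y ∣ Nat.card N := by
        rw [show Y = (N ⊓ X).subgroupOf X from (Subgroup.inf_subgroupOf_right N X).symm,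
          Nat.card_congr (Subgroup.subgroupOfEquivOfLe (inf_le_right : N ⊓ X ≤ X)).toEquiv]
        exact Subgroup.card_dvd_of_le inf_le_left
      have hNH : Nat.card N = Nat.card Ω * Nat.card (H α) := by
        have h := (stabilizer N α).index_mul_card
        rw [index_stabilizer_of_transitive] at h
        rw [← h]
        congr 1
        refine Nat.card_congr ?_
        exact
          { toFun := fun x => ⟨(x.1 : G), Subgroup.mem_inf.2 ⟨x.1.2, x.2⟩⟩
            invFun := fun x => ⟨⟨x.1, (Subgroup.mem_inf.1 x.2).1⟩, (Subgroup.mem_inf.1 x.2).2⟩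
            left_inv := fun x => rfl
            right_inv := fun x => rfl }
      have hSH : Nat.card S = 2 ^ (Nat.card (H α)).factorization 2 := by
        rw [hScard, P.card_eq_multiplicity]
      have h8 : 2 ^ 2 * 2 ^ (Nat.card (H α)).factorization 2 ∣ Nat.card Ω * Nat.card (H α) := by
        rw [← hSH, ← hNH]
        exact ((Nat.mul_dvd_mul_right h4 _).trans hker).trans hYN
      rw [← pow_add] at h8
      have hfac := (Nat.prime_two.pow_dvd_iff_le_factorization
        (mul_ne_zero (by omega) Nat.card_pos.ne')).1 h8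
      rw [Nat.factorization_mul (by omega) Nat.card_pos.ne', Finsupp.add_apply] at hfac
      have h2Ω : 2 ≤ (Nat.card Ω).factorization 2 := by omega
      have := (Nat.prime_two.pow_dvd_iff_le_factorization (by omega)).2 h2Ω
      omega
    have hcardSF : Nat.card SF = Nat.card F := rfl
    have hdiv : Nat.card SF ∣ Nat.card Yb := by
      rw [← index_stabilizer_of_transitive Yb (⟨α, hαF⟩ : SF)]
      exact Subgroup.index_dvd_card _
    have hmod : Nat.card Yb % 4 = 2 := by
      rw [hcardSF] at hdiv
      have := hFeven.trans hdiv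
      omega
    obtain ⟨L, hidx, hodd', hmem⟩ := exists_index_two_of_card_mod_four Yb hmod
    -- the elements of odd order of `Yb` form a normal subgroup of the doubly transitive group
    have hLn : (L.map Yb.subtype).Normal := by
      refine ⟨?_⟩
      rintro _ ⟨x, hx, rfl⟩ g
      refine ⟨⟨g * x * g⁻¹, hYbn.conj_mem x x.2 g⟩, hmem _ ?_, rfl⟩
      rw [← Subgroup.orderOf_coe]
      show Odd (orderOf (g * (x : π.range) * g⁻¹))
      rw [← MulAut.conj_apply, MulEquiv.orderOf_eq, Subgroup.orderOf_coe]
      have := orderOf_dvd_natCard (⟨x, hx⟩ : L)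
      rw [← Subgroup.orderOf_coe] at this
      exact Odd.of_dvd_nat hodd' this
    have hLcard : Nat.card (L.map Yb.subtype) = Nat.card L :=
      (Nat.card_congr (L.equivMapOfInjective _ Yb.subtype_injective).toEquiv).symm
    by_cases hLb : L.map Yb.subtype = ⊥
    · rw [hLb, Subgroup.card_bot] at hLcard
      have h := L.index_mul_card
      rw [hidx, ← hLcard] at h
      rw [hcardSF] at hdiv
      have := Nat.le_of_dvd (by omega) hdiv
      have hpos : 0 < Nat.card F := Nat.card_pos_iff.2 ⟨⟨α, hαF⟩, inferInstance⟩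
      omega
    · exfalso
      have : FaithfulSMul π.range SF := inferInstance
      have := isPretransitive_of_normal (Ω := SF) hLn hLb
      have hd : Nat.card SF ∣ Nat.card (L.map Yb.subtype) := by
        rw [← index_stabilizer_of_transitive (L.map Yb.subtype) (⟨α, hαF⟩ : SF)]
        exact Subgroup.index_dvd_card _
      rw [hLcard, hcardSF] at hd
      exact Nat.not_even_iff_odd.2 hodd' (even_iff_two_dvd.2 (hFeven.trans hd))
  -- so `H α` has a single orbit on the other points
  have horb1 : ∀ b c : Ω, b ≠ α → c ≠ α → ∃ m ∈ H α, m • b = c := by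
    intro b c hb hc
    obtain ⟨mb, hmb, hfb⟩ := hfixorb α b S hb hSle hS2
    obtain ⟨mc, hmc, hfc⟩ := hfixorb α c S hc hSle hS2
    have hne' : ∀ (m : G) (x : Ω), m ∈ H α → x ≠ α → m • x ≠ α := by
      intro m x hm hx e
      exact hx (MulAction.injective m (e.trans (mem_stabilizer_iff.1 (Subgroup.mem_inf.1 hm).2).symm))
    have heq : mb • b = mc • c := by
      by_contra hbc
      have hinj : Function.Injective (![⟨α, hαF⟩, ⟨mb • b, hfb⟩, ⟨mc • c, hfc⟩] : Fin 3 → F) := by
        intro i j hij
        have := congrArg Subtype.val hij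
        fin_cases i <;> fin_cases j <;> first
          | rfl
          | exact absurd this.symm (hne' _ _ hmb hb)
          | exact absurd this (hne' _ _ hmb hb)
          | exact absurd this.symm (hne' _ _ hmc hc)
          | exact absurd this (hne' _ _ hmc hc)
          | exact absurd this hbc
          | exact absurd this.symm hbc
      have := Nat.card_le_card_of_injective _ hinj
      simp [hF2] at this
    exact ⟨mc⁻¹ * mb, mul_mem (inv_mem hmc) hmb, by rw [mul_smul, heq, inv_smul_smul]⟩
  rw [is_two_pretransitive_iff]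
  intro a b c d hab hcd
  obtain ⟨m1, hm1⟩ := exists_smul_eq N a α
  obtain ⟨m2, hm2⟩ := exists_smul_eq N c α
  have hb' : m1 • b ≠ α := fun e => hab (MulAction.injective m1 (hm1.trans e.symm))
  have hd' : m2 • d ≠ α := fun e => hcd (MulAction.injective m2 (hm2.trans e.symm))
  obtain ⟨m, hm, hmbd⟩ := horb1 _ _ hb' hd'
  refine ⟨m2⁻¹ * ⟨m, (Subgroup.mem_inf.1 hm).1⟩ * m1, ?_, ?_⟩
  · rw [mul_smul, mul_smul, hm1, inv_smul_eq_iff, hm2]
    exact mem_stabilizer_iff.1 (Subgroup.mem_inf.1 hm).2
  · rw [mul_smul, mul_smul, inv_smul_eq_iff]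
    exact hmbd

end Cfsg.Agent.Recog
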