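import Mathlib

/-! Geometric sums of unipotent endomorphisms of elementary abelian groups. -/

set_option autoImplicit false

namespace Cfsg.Agent.Recog.UnipotentGeomSum

theorem aux {K V : Type*} [Field K] [AddCommGroup V] [Module K V] [Module.Finite K V] (p : ℕ) [hp : Fact p.Prime]
    [CharP K p] (φ : Module.End K V) (s a : ℕ) (h : φ ^ p ^ s = 1) (ha : Module.finrank K V < p ^ a) :
    ∑ i ∈ Finset.range (p ^ a), φ ^ i = 0 := by
  have haev : ∀ b : ℕ, Polynomial.aeval φ ((Polynomial.X - 1 : Polynomial K) ^ b) = (φ - 1) ^ b :=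
    fun b => by simp
  have hnil : IsNilpotent (φ - 1) := ⟨p ^ s, by
    rw [← haev, sub_pow_char_pow, one_pow, map_sub, map_pow, Polynomial.aeval_X, map_one, h, sub_self]⟩
  have hm : (φ - 1) ^ Module.finrank K V = 0 := by
    have h2 := LinearMap.aeval_self_charpoly (φ - 1)
    rw [IsNilpotent.charpoly_eq_X_pow_finrank (φ := φ - 1) hnil, map_pow, Polynomial.aeval_X] at h2
    exact h2
  have hX : (Polynomial.X - 1 : Polynomial K) ≠ 0 := by
    rw [← Polynomial.C_1]; exact Polynomial.X_sub_C_ne_zero 1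
  have hpoly : (Polynomial.X - 1 : Polynomial K) ^ (p ^ a - 1) = ∑ i ∈ Finset.range (p ^ a), Polynomial.X ^ i := by
    refine mul_right_cancel₀ hX ?_
    rw [geom_sum_mul, ← pow_succ, Nat.sub_add_cancel (pow_pos hp.out.pos _), sub_pow_char_pow, one_pow]
  have := haev (p ^ a - 1)
  rw [hpoly, map_sum, pow_eq_zero_of_le (by omega) hm] at this
  simpa using this

theorem aux2 {p m : ℕ} [hp : Fact p.Prime] {A : Type*} [AddCommGroup A] [Module (ZMod p) A] [Finite A]
    (hcard : Nat.card A = p ^ m) (f : AddMonoid.End A) (s a : ℕ)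
    (hf : f ^ p ^ s = 1) (ha : m < p ^ a) (x : A) : ∑ i ∈ Finset.range (p ^ a), (f ^ i) x = 0 := by
  let φ : Module.End (ZMod p) A := AddMonoidHom.toZModLinearMap p f
  have hpow : ∀ (i : ℕ) (y : A), (φ ^ i) y = (f ^ i) y := by
    intro i
    induction i with
    | zero => intro y; rfl
    | succ i ih => intro y; rw [pow_succ, Module.End.mul_apply, ih, pow_succ]; rfl
  have hφ : φ ^ p ^ s = 1 := LinearMap.ext fun y => by rw [hpow, hf]; rfl
  haveI : Module.Finite (ZMod p) A := Module.Finite.of_finite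
  have hfr : Module.finrank (ZMod p) A = m := by
    have h1 : Nat.card A = Nat.card (ZMod p) ^ Module.finrank (ZMod p) A := Module.natCard_eq_pow_finrank
    rw [hcard, Nat.card_zmod] at h1
    exact (Nat.pow_right_injective hp.out.two_le h1).symm
  have h := LinearMap.congr_fun (aux p φ s a hφ (hfr ▸ ha)) x
  rw [LinearMap.sum_apply] at h
  simp only [hpow, LinearMap.zero_apply] at h
  exact h

theorem geom_sum_eq_zero {p m : ℕ} [hp : Fact p.Prime] {A : Type*} [AddCommGroup A] [Finite A]
    (hkill : ∀ x : A, p • x = 0) (hcard : Nat.card A = p ^ m) (f : AddMonoid.End A) (s a : ℕ)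
    (hf : f ^ p ^ s = 1) (ha : m < p ^ a) (x : A) : ∑ i ∈ Finset.range (p ^ a), (f ^ i) x = 0 :=
  @aux2 p m hp A _ (AddCommGroup.zmodModule hkill) _ hcard f s a hf ha x

end Cfsg.Agent.Recog.UnipotentGeomSum
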