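import Mathlib
import Cfsg.Agent.Lib.Recog.ArcStabilizer
import Cfsg.Agent.Lib.LocalEvenA.FrakH2
import Cfsg.Agent.Lib.FGS.Subnormal
import Cfsg.Agent.Lib.Basics.CoprimeAction

/-! The deep stabiliser of a suborbit is a `p`-group whenever `O_p` of the point stabiliser is not trivial. -/

set_option autoImplicit false

namespace Cfsg.Agent.Recog.WielandtDeep

open Subgroup Cfsg.Agent.Recog.PointPair Cfsg.Agent.Recog.ArcStabilizer MulAction
open Cfsg.Agent.FGS.Subn

variable {G : Type*} [Group G] [Finite G] {p : ℕ} [Fact p.Prime]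

/-- `O^p(X)` as a subgroup of `G`. -/
def res (p : ℕ) (X : Subgroup G) : Subgroup G := (Cfsg.pResidual p ↥X).map X.subtype

omit [Finite G] [Fact p.Prime] in
theorem res_le (X : Subgroup G) : res p X ≤ X := map_subtype_le _

omit [Finite G] [Fact p.Prime] in
theorem mem_res {X : Subgroup G} {x : G} (hx : x ∈ X) (hp : (orderOf x).Coprime p) : x ∈ res p X := by
  refine ⟨⟨x, hx⟩, Subgroup.subset_closure ?_, rfl⟩
  show (orderOf _).Coprime p
  rwa [← orderOf_injective X.subtype X.subtype_injective]

omit [Finite G] [Fact p.Prime] in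
theorem res_le_of {X N : Subgroup G} (h : ∀ x ∈ X, (orderOf x).Coprime p → x ∈ N) : res p X ≤ N := by
  rw [res, map_le_iff_le_comap, Cfsg.pResidual, Subgroup.closure_le]
  intro x hx
  exact h x x.2 (by rw [Subgroup.orderOf_coe]; exact hx)

theorem isPGroup_of_res_eq_bot {X : Subgroup G} (h : res p X = ⊥) : IsPGroup p X := by
  have h0 : Cfsg.pResidual p ↥X = ⊥ := (map_eq_bot_iff_of_injective _ X.subtype_injective).mp h
  have key : ∀ x : X, (orderOf x).Coprime p → x = 1 := fun x hx => by
    have : x ∈ Cfsg.pResidual p ↥X := Subgroup.subset_closure hx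
    rw [h0, mem_bot] at this
    exact this
  intro x
  obtain ⟨a, b, hab, ⟨k, hk⟩, hb, -, -⟩ := LocalEvenA.exists_pPart (p := p) (isOfFinOrder_of_finite x)
  exact ⟨k, by rw [← hab, key b hb, mul_one]; exact hk⟩

/-- A normal `p`-subgroup normalises `O^p` of every subnormal subgroup. -/
theorem le_normalizer_res : ∀ B : Subgroup G, ∀ X Q : Subgroup G, SN X B → Q ≤ B →
    B ≤ normalizer (Q : Set G) → IsPGroup p Q → Q ≤ normalizer (res p X : Set G) := by
  intro B
  induction B using WellFoundedLT.induction with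
  | ind B ih =>
    intro X Q hXB hQB hBQ hQ
    by_cases he : X = B
    · subst he
      exact hQB.trans (le_normalizer.trans (LocalEvenA.map_pResidual_le_normalizer X))
    obtain ⟨M, hXM, hMB, hBM⟩ := exists_normal_between hXB he
    set Q₁ := Q ⊓ M with hQ1
    have hQ1n : Q₁ ≤ normalizer (res p X : Set G) :=
      ih M hMB X Q₁ (sn_restrict hXB hXM hMB.le) inf_le_right
        ((le_inf (hMB.le.trans hBQ) le_normalizer).trans inf_normalizer_le_normalizer_inf)
        (hQ.to_le inf_le_left)
    have key : ∀ x ∈ X, (orderOf x).Coprime p → ∀ q ∈ Q, q * x * q⁻¹ ∈ res p X := by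
      intro x hx hxp q hq
      set A := zpowers x with hA
      have hAX : A ≤ X := zpowers_le.mpr hx
      have hAS : A ≤ res p X := zpowers_le.mpr (mem_res hx hxp)
      have hAQ : A ≤ normalizer (Q : Set G) := hAX.trans (hXB.1.trans hBQ)
      have hcop : (Nat.card A).Coprime (Nat.card Q) := by
        obtain ⟨k, hk⟩ := IsPGroup.iff_card.mp hQ
        rw [Nat.card_zpowers, hk]
        exact hxp.pow_right k
      have hsol : Group.IsSolvable A ∨ Group.IsSolvable Q := by
        haveI := hQ.isNilpotent
        exact Or.inr inferInstance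
      have h1 : ⁅Q, A⁆ ≤ Q₁ := le_inf (le_normalizer_iff_commutator_le_left.mp hAQ) (by
        refine (commutator_mono le_rfl (hAX.trans hXM)).trans ?_
        exact le_normalizer_iff_commutator_le_right.mp (hQB.trans hBM))
      have h2 : ⁅Q, A⁆ ≤ res p X := by
        rw [← Basics.commutator_commutator_eq A Q hAQ hcop hsol]
        refine (commutator_mono h1 hAS).trans ?_
        exact le_normalizer_iff_commutator_le_right.mp hQ1n
      have h3 := mul_mem (h2 (commutator_mem_commutator hq (mem_zpowers x))) (mem_res hx hxp)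
      simpa [commutatorElement_def, mul_assoc] using h3
    refine LocalEvenA.le_normalizer_of_cj_le fun q hq => ?_
    rw [LocalEvenA.cj, map_le_iff_le_comap]
    exact res_le_of fun x hx hxp => key x hx hxp q hq

variable {Ω : Type*} [MulAction G Ω] [FaithfulSMul G Ω] [Finite Ω]

/-- The deep stabiliser is a `p`-group. -/
theorem deep_isPGroup (hprim : IsPreprimitive G Ω) (a b : Ω) (hab : stabilizer G a ≠ stabilizer G b)
    (hR : core p (stabilizer G a) ≠ ⊥) : IsPGroup p (deep (G := G) (Arc G a b) a) := by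
  haveI := hprim
  by_contra hnp
  have sm : ∀ (g : G) x y, Arc G a b x y → Arc G a b (g • x) (g • y) := by
    rintro g x y ⟨k, rfl, rfl⟩
    exact ⟨g * k, mul_smul _ _ _, mul_smul _ _ _⟩
  have hnp' : ∀ x : Ω, ¬ IsPGroup p (deep (G := G) (Arc G a b) x) := by
    intro x hx
    obtain ⟨g, rfl⟩ := exists_smul_eq G a x
    refine hnp fun h => ?_
    have hmem : g * (h : G) * g⁻¹ ∈ deep (G := G) (Arc G a b) (g • a) := by
      refine ⟨by rw [mul_smul, mul_smul, inv_smul_smul, show (h : G) • a = a from h.2.1], fun y hy => ?_⟩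
      have hy' : Arc G a b a (g⁻¹ • y) := by simpa using sm g⁻¹ _ _ hy
      refine ⟨by rw [mul_smul, mul_smul, (h.2.2 _ hy').1, smul_inv_smul], fun w hw => ?_⟩
      rw [mul_smul, mul_smul, (h.2.2 _ hy').2 _ (sm g⁻¹ w y hw), smul_inv_smul]
    obtain ⟨k, hk⟩ := hx ⟨_, hmem⟩
    refine ⟨k, Subtype.ext ?_⟩
    have := congrArg Subtype.val hk
    simpa [conj_pow] using this
  -- a normal `p`-subgroup of an intermediate group fixes every tail of the arc
  have key : ∀ x y : Ω, Arc G a b x y → ∀ B Q : Subgroup G, deep (G := G) (Arc G a b) x ≤ B →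
      B ≤ stabilizer G y → Q ≤ B → B ≤ normalizer (Q : Set G) → IsPGroup p Q → Q ≤ stabilizer G x := by
    intro x y hxy B Q hDB hBy hQB hBQ hQ
    obtain ⟨h1, h2⟩ := deep_subnormal sm x y hxy
    have hne : stabilizer G x ≠ stabilizer G y := by
      obtain ⟨g, rfl, rfl⟩ := hxy
      intro he
      rw [stabilizer_smul_eq_stabilizer_map_conj, stabilizer_smul_eq_stabilizer_map_conj] at he
      exact hab (Subgroup.map_injective (MulAut.conj g).injective he)
    set E := res p (deep (G := G) (Arc G a b) x)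
    have hE : E ≠ ⊥ := fun e => hnp' x (isPGroup_of_res_eq_bot e)
    have hEn : normalizer (E : Set G) = stabilizer G x :=
      (pair_of_ne hprim hne).normalizer_eq hE ((res_le _).trans (deep_le x))
        ((deep_normalized sm x).trans (LocalEvenA.map_pResidual_le_normalizer _))
    exact hEn ▸ le_normalizer_res B _ Q (sn_restrict ⟨h1, h2⟩ hDB hBy) hQB hBQ hQ
  set H := stabilizer G a
  set K := stabilizer G b
  have harc : Arc G a b a b := ⟨1, one_smul _ _, one_smul _ _⟩
  have hp := Fact.out (p := p.Prime)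
  have hQH : core p K ≤ H := key a b harc K _ (deep_subnormal sm a b harc).1 le_rfl (core_le p K)
    (le_normalizer_core p K) (core_isPGroup hp K)
  refine hR ((pair_of_ne hprim hab).core_eq_bot hp hQH ?_)
  have hCK : inKer (G := G) (Arc G a b) b ≤ K := fun h hh => hh.1
  have hCH : inKer (G := G) (Arc G a b) b ≤ H := fun h hh => hh.2 a harc
  have hXC : core p H ⊓ K ≤ inKer (G := G) (Arc G a b) b := by
    intro r hr
    refine ⟨hr.2, fun x hx => ?_⟩
    refine key x b hx (H ⊓ K) (core p H ⊓ K) (fun h hh => ⟨?_, ?_⟩) inf_le_right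
      (inf_le_inf_right _ (core_le p H)) core_inf_le_normalizer ((core_isPGroup hp H).to_le inf_le_left) hr
    · exact (hh.2 b hx).2 a harc
    · exact (hh.2 b hx).1
  refine pgroup_subnormal_le_core hp ((core_isPGroup hp H).to_le inf_le_left) inf_le_right
    (subnormal_in hXC hCK (subgroupOf_isSubnormal_of_normalized ?_) ?_)
  · intro g hg
    rw [mem_normalizer_iff]
    have key2 : ∀ g : G, g • b = b → ∀ h ∈ inKer (G := G) (Arc G a b) b,
        g * h * g⁻¹ ∈ inKer (G := G) (Arc G a b) b := by
      intro g hg h hh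
      have hgb : g⁻¹ • b = b := by rw [inv_smul_eq_iff, hg]
      refine ⟨by rw [mul_smul, mul_smul, hgb, hh.1, hg], fun w hw => ?_⟩
      have hw' : Arc G a b (g⁻¹ • w) b := by
        have := sm g⁻¹ w b hw
        rwa [hgb] at this
      rw [mul_smul, mul_smul, hh.2 _ hw', smul_inv_smul]
    intro h
    refine ⟨key2 g hg h, fun hh => ?_⟩
    have := key2 g⁻¹ (inv_smul_eq_iff.mpr (mem_stabilizer_iff.mp hg).symm) _ hh
    simpa [mul_assoc] using this
  · exact (le_inf hCH hCK).trans core_inf_le_normalizer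

end Cfsg.Agent.Recog.WielandtDeep
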